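import Mathlib
import Cfsg.Agent.S1396
import Cfsg.Agent.S1410

/-!
# K-S1416-K3: CASE II basics for BG Lemma 12.4
-/

set_option autoImplicit false

namespace Cfsg.Agent.Lib.Helper80.BG124

open Cfsg

variable {G : Type*} [Group G] [Finite G]

variable {M A : Subgroup G} {p : ℕ} [Fact p.Prime]

/-- K3a. CASE II: `r_p(C_G(A)) ≤ 2` ⇒ the elements of order dividing `p` of `C_G(A)` are those
of `A`. -/
theorem mem_iff_of_rank2 (hAe : IsElementaryAbelian p A) (hA2 : Nat.card A = p ^ 2)
    (h2 : PRankLE p 2 ↥(Subgroup.centralizer (A : Set G))) :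
    ∀ x ∈ Subgroup.centralizer (A : Set G), x ^ p = 1 ↔ x ∈ A := by
  intro x hxC
  refine ⟨fun hx => ?_, fun hx => hAe.2 x hx⟩
  have hNcomm : ∀ a ∈ A, ∀ b ∈ A, a * b = b * a := by
    intro a ha b hb
    have := hAe.1.is_comm.comm (⟨a, ha⟩ : A) ⟨b, hb⟩
    simpa using congrArg Subtype.val this
  have hxc : ∀ a ∈ A, a * x = x * a := fun a ha => Subgroup.mem_centralizer_iff.mp hxC a ha
  have hcomm : ∀ a ∈ ((A : Set G) ∪ {x}), ∀ b ∈ ((A : Set G) ∪ {x}), a * b = b * a := by
    rintro a (ha | ha) b (hb | hb)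
    · exact hNcomm a ha b hb
    · rw [Set.mem_singleton_iff] at hb; subst hb; exact hxc a ha
    · rw [Set.mem_singleton_iff] at ha; subst ha; exact (hxc b hb).symm
    · rw [Set.mem_singleton_iff] at ha hb; subst ha; subst hb; rfl
  set D := Subgroup.closure ((A : Set G) ∪ {x}) with hD
  have hDc : IsMulCommutative D := Subgroup.isMulCommutative_closure hcomm
  have hDcomm : ∀ y ∈ D, ∀ z ∈ D, y * z = z * y := by
    intro y hy z hz
    have := hDc.is_comm.comm (⟨y, hy⟩ : D) ⟨z, hz⟩
    simpa using congrArg Subtype.val this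
  have hexp : ∀ a ∈ D, a ^ p = 1 := by
    intro a ha
    induction ha using Subgroup.closure_induction with
    | mem y hy =>
      rcases hy with hy | hy
      · exact hAe.2 y hy
      · rw [Set.mem_singleton_iff] at hy; subst hy; exact hx
    | one => exact one_pow _
    | mul y z hy hz ihy ihz =>
      have hc' : Commute y z := hDcomm y hy z hz
      rw [hc'.mul_pow, ihy, ihz, one_mul]
    | inv y hy ihy => rw [inv_pow, ihy, inv_one]
  have hle : A ≤ D := fun a ha => Subgroup.subset_closure (Or.inl ha)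
  have hxD : x ∈ D := Subgroup.subset_closure (Or.inr rfl)
  -- `D ≤ C_G(A)`
  have hDC : D ≤ Subgroup.centralizer (A : Set G) := by
    intro d hd
    rw [Subgroup.mem_centralizer_iff]
    intro a ha
    exact hDcomm a (hle ha) d hd
  -- apply the rank bound inside `C_G(A)`
  set D' : Subgroup ↥(Subgroup.centralizer (A : Set G)) :=
    D.subgroupOf (Subgroup.centralizer (A : Set G)) with hD'
  have hD'c : IsMulCommutative D' := by
    refine ⟨⟨fun a b => ?_⟩⟩
    apply Subtype.ext
    apply Subtype.ext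
    exact hDcomm _ (Subgroup.mem_subgroupOf.mp a.2) _ (Subgroup.mem_subgroupOf.mp b.2)
  have hD'exp : ∀ a ∈ D', a ^ p = 1 := by
    intro a ha
    apply Subtype.ext
    have := hexp _ (Subgroup.mem_subgroupOf.mp ha)
    simpa using this
  have hcard := h2 D' hD'c hD'exp
  have hcardD : Nat.card D' = Nat.card D :=
    Nat.card_congr (Subgroup.subgroupOfEquivOfLe hDC).toEquiv
  have hEq : A = D := Subgroup.eq_of_le_of_card_ge hle (by rw [hA2, ← hcardD]; exact hcard)
  rw [hEq]
  exact hxD

/-- K3b (S1396 first alternative + S1410). -/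
theorem transHyp_of_rank2 (hG : IsMinSimpleOddOrder G) (hAe : IsElementaryAbelian p A)
    (hA2 : Nat.card A = p ^ 2)
    (h2 : PRankLE p 2 ↥(Subgroup.centralizer (A : Set G))) : TransitivityHypothesis A := by
  have hp : p ∣ Nat.card G := by
    have h1 : p ∣ Nat.card A := by
      rw [hA2]
      exact dvd_pow_self p two_ne_zero
    exact h1.trans (Subgroup.card_subgroup_dvd_card A)
  exact Cfsg.Agent.S1396.result hG p hp A (IsPGroup.of_card hA2) hAe.1
    (Or.inl ⟨mem_iff_of_rank2 hAe hA2 h2, fun H hH => Cfsg.Agent.S1410.result hG p H hH⟩)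

end Cfsg.Agent.Lib.Helper80.BG124
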