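/-
K-S1353-C (keystone 135311, architect helper58, pack S1352/S1353/S1354 = BG 14.2 for a cyclic Hall
kappa-subgroup): the centralizer in `E` of a non-identity element of `K = E₁` is `K`.
-/
import Cfsg.Agent.S1350
import Cfsg.Agent.S1415
import Cfsg.Agent.S1418
import Cfsg.Agent.S1428
import Cfsg.Agent.Lib.Helper15.BG139Defs
import Cfsg.Agent.Lib.Helper31.BG12a
import Cfsg.Agent.Lib.Helper13.BG12A
import Cfsg.Agent.Lib.Helper13.BG12B
import Cfsg.Agent.Lib.Helper16.BG134Asm
import Cfsg.Agent.Lib.Helper54.BG134A3a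
import Cfsg.Agent.Lib.Helper58.BG139K2c
import Cfsg.Agent.Lib.Helper71.BG11a
import Cfsg.Agent.Lib.Helper64.BG14K

set_option autoImplicit false
set_option linter.unusedVariables false
set_option linter.style.haveILetI false

namespace Cfsg.Agent.Lib.Helper80.BG14

open Cfsg Cfsg.Agent.Lib.Helper55 Cfsg.Agent.Lib.Helper31.BG134 Cfsg.Agent.Lib.Helper15.BG139

variable {G : Type*} [Group G] [Finite G]

theorem cent_compl_eq (hG : IsMinSimpleOddOrder G) {M E K : Subgroup G} (hM : IsCoatom M)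
    (hE : IsComplIn E (sigmaCore M) M) (hK : IsPiHallOf (tau1 M) K E)
    (hκ : ∀ p : ℕ, p ∈ kappa M → p ∈ tau1 M) (hκ1 : ∀ u : ℕ, u ∈ tau1 M → u ∈ kappa M)
    (hT7 : ∀ (P A : Subgroup G) (p q : ℕ), p ∈ tau1 M → P ≤ E → Nat.card P = p → q ∈ tau2 M →
      A ≤ E → IsElementaryAbelian q A → Nat.card A = q ^ 2 →
      A ⊓ Subgroup.centralizer (P : Set G) ≠ ⊥ →
      sigmaCore M ⊓ Subgroup.centralizer (P : Set G) = ⊥) :
    ∀ k ∈ K, k ≠ 1 → E ⊓ Subgroup.centralizer ({k} : Set G) = K := by
  intro k hk hk1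
  have hKE : K ≤ E := hK.1
  have hEM : E ≤ M := hE.1
  have hHall := (Cfsg.Agent.S1350.result hG M hM).1
  have hKcyc : IsCyclic K := (Cfsg.Agent.S1415.result hG M hM E hE).2.1 K hK
  apply le_antisymm
  swap
  · intro x hx
    refine ⟨hKE hx, ?_⟩
    show x ∈ Subgroup.centralizer ({k} : Set G)
    rw [Subgroup.mem_centralizer_iff]
    intro y hy
    rw [Set.mem_singleton_iff] at hy
    subst hy
    letI := IsCyclic.commGroup (α := K)
    have := mul_comm (⟨y, hk⟩ : K) ⟨x, hx⟩
    exact congrArg Subtype.val this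
  · by_contra hcon
    set C : Subgroup G := E ⊓ Subgroup.centralizer ({k} : Set G) with hCdef
    have hKC : K ≤ C := by
      intro x hx
      refine ⟨hKE hx, ?_⟩
      show x ∈ Subgroup.centralizer ({k} : Set G)
      rw [Subgroup.mem_centralizer_iff]
      intro y hy
      rw [Set.mem_singleton_iff] at hy
      subst hy
      letI := IsCyclic.commGroup (α := K)
      have := mul_comm (⟨y, hk⟩ : K) ⟨x, hx⟩
      exact congrArg Subtype.val this
    have hCE : C ≤ E := inf_le_left
    have hrel1 : K.relIndex C ≠ 1 := by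
      intro h
      exact hcon (Subgroup.relIndex_eq_one.mp h)
    obtain ⟨r, hr, hrd⟩ := Nat.exists_prime_and_dvd hrel1
    have hrelE : K.relIndex C * C.relIndex E = K.relIndex E :=
      Subgroup.relIndex_mul_relIndex K C E hKC hCE
    have hrE : r ∣ K.relIndex E := by rw [← hrelE]; exact Dvd.dvd.mul_right hrd _
    have hrτ1 : r ∉ tau1 M := fun h => hK.2.2 r hr h hrE
    have hcardC : Nat.card K * K.relIndex C = Nat.card C := by
      have := Subgroup.relIndex_mul_relIndex ⊥ K C bot_le hKC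
      rwa [Subgroup.relIndex_bot_left, Subgroup.relIndex_bot_left] at this
    have hrC : r ∣ Nat.card C := by rw [← hcardC]; exact Dvd.dvd.mul_left hrd _
    obtain ⟨x, hxC, hxo⟩ := Cfsg.Agent.Lib.Helper58.BG139.exists_mem_orderOf_eq_of_dvd_card hr hrC
    set R : Subgroup G := Subgroup.zpowers x with hRdef
    have hRc : Nat.card R = r := by rw [hRdef, Nat.card_zpowers, hxo]
    -- the subgroup of prime order of ⟨k⟩
    have hok : orderOf k ≠ 1 := by
      intro h
      exact hk1 (orderOf_eq_one_iff.mp h)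
    obtain ⟨p, hp, hpd⟩ := Nat.exists_prime_and_dvd hok
    have hok0 : orderOf k ≠ 0 := (orderOf_pos k).ne'
    set y : G := k ^ (orderOf k / p) with hydef
    have hyo : orderOf y = p := orderOf_pow_orderOf_div hok0 hpd
    set P : Subgroup G := Subgroup.zpowers y with hPdef
    have hPc : Nat.card P = p := by rw [hPdef, Nat.card_zpowers, hyo]
    have hyK : y ∈ K := K.pow_mem hk _
    have hPK : P ≤ K := by rw [hPdef, Subgroup.zpowers_le]; exact hyK
    have hPE : P ≤ E := hPK.trans hKE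
    have hpτ1 : p ∈ tau1 M := by
      apply hK.2.1 p hp
      rw [← hPc]
      exact Subgroup.card_dvd_of_le hPK
    have hxk : Commute x k := by
      have : x ∈ Subgroup.centralizer ({k} : Set G) := hxC.2
      rw [Subgroup.mem_centralizer_iff] at this
      exact (this k rfl).symm
    have hRle : R ≤ E ⊓ Subgroup.centralizer (P : Set G) := by
      rw [hRdef, Subgroup.zpowers_le]
      refine ⟨hCE hxC, ?_⟩
      show x ∈ Subgroup.centralizer (P : Set G)
      rw [Subgroup.mem_centralizer_iff]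
      intro b hb
      obtain ⟨n, rfl⟩ := Subgroup.mem_zpowers_iff.mp hb
      exact ((hxk.pow_right _).zpow_right n).symm.eq
    have h1428 := Cfsg.Agent.S1428.result hG M hM E hE p hpτ1 P hPE hPc R hRle (by rw [hRc]; exact hr)
    have hCP : sigmaCore M ⊓ Subgroup.centralizer (P : Set G) ≠ ⊥ :=
      Cfsg.Agent.Lib.Helper64.BG14.cent_ne_bot_of_mem_kappa hG hM (hκ1 p hpτ1) (hPE.trans hEM) hPc
    have hCR : sigmaCore M ⊓ Subgroup.centralizer (R : Set G) ≠ ⊥ := by
      intro h
      apply hCP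
      rw [eq_bot_iff, ← h]
      exact h1428
    have hRE : R ≤ E := hRle.trans inf_le_left
    have hrEc : r ∣ Nat.card E := by
      rw [← hRc]; exact Subgroup.card_dvd_of_le hRE
    have hrM : r ∣ Nat.card M := hrEc.trans (Subgroup.card_dvd_of_le hEM)
    have hrσ : r ∉ sigma M :=
      Cfsg.Agent.Lib.Helper13.BG12.complIn_prime_not_mem_sigma hHall hE r hr hrEc
    rcases Cfsg.Agent.Lib.Helper16.BG134.mem_tau_cases hG hM hr hrM hrσ with h | h | h
    · exact hrτ1 h
    · -- r ∈ τ₂(M)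
      haveI : Fact r.Prime := ⟨hr⟩
      obtain ⟨A, hAE, hA, hAc⟩ :=
        Cfsg.Agent.Lib.Helper13.BG12.exists_elemAb_sq_le_compl hG hM hHall h hE
      have hRA : R ≤ A :=
        (Cfsg.Agent.S1418.result hG M hM E hE r h A ⟨hAE, hA, hAc⟩).1.2 R hRE hRc
      have hne : A ⊓ Subgroup.centralizer (P : Set G) ≠ ⊥ := by
        intro hbot
        have hx1 : x ∈ A ⊓ Subgroup.centralizer (P : Set G) :=
          ⟨hRA (Subgroup.mem_zpowers x), (hRle (Subgroup.mem_zpowers x)).2⟩
        rw [hbot, Subgroup.mem_bot] at hx1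
        rw [hx1, orderOf_one] at hxo
        exact hr.one_lt.ne hxo
      exact hCP (hT7 P A p r hpτ1 hPE hPc h hAE hA hAc hne)
    · -- r ∈ τ₃(M)
      have hrκ : r ∈ kappa M :=
        Cfsg.Agent.Lib.Helper64.BG14.mem_kappa_of_cent_ne_bot hG hM hr hrM hrσ h.2.2.2 (hRE.trans hEM) hRc hCR
      exact hrτ1 (hκ r hrκ)

end Cfsg.Agent.Lib.Helper80.BG14
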