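import Mathlib
import Cfsg.Agent.Lib.Helper71.BG1366Defs
import Cfsg.Agent.Lib.Helper15.BG142Defs
import Cfsg.Agent.Lib.Helper55.Basic
import Cfsg.Agent.Lib.Helper55.Uniq2
import Cfsg.Agent.Lib.Helper77.BG147N
import Cfsg.Agent.Lib.Helper28.BG147H
import Cfsg.Agent.Lib.Helper64.BG14K
import Cfsg.Agent.S1350

/-!
# K-1366-G (keystone 136608, architect helper71, pack S1366 + S1368 + S1351): `Mem.card_bound`

`|G| (3 c − 1) ≤ 3 |Z| |T|` for a member `(J, KJ)` of type `P₁` of a `P`-family with common torus `Z`, `c = |KJ*|`,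
`T` the tilde set of `J`.
-/

set_option autoImplicit false
set_option linter.unusedSectionVars false

namespace Cfsg.Agent.Lib.Helper80.BG1366

open Cfsg Subgroup Cfsg.Agent.Lib.Helper55 Cfsg.Agent.Lib.Helper11.BG14D Cfsg.Agent.Lib.Helper11.BG144
  Cfsg.Agent.Lib.Helper31.BG147 Cfsg.Agent.Lib.Helper71.BG1366

variable {G : Type*} [Group G] [Finite G]

/-- pure arithmetic: `m (3c - 1) ≤ 3c (m - 1)` as soon as `3c ≤ m`, `1 ≤ c` -/
theorem arith_key (m c : ℕ) (hc : 1 ≤ c) (hmc : 3 * c ≤ m) : m * (3 * c - 1) ≤ 3 * c * (m - 1) := by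
  obtain ⟨c', rfl⟩ : ∃ c', c = c' + 1 := ⟨c - 1, by omega⟩
  obtain ⟨s, rfl⟩ : ∃ s, m = 3 * (c' + 1) + s := ⟨m - 3 * (c' + 1), by omega⟩
  have h1 : 3 * (c' + 1) - 1 = 3 * c' + 2 := by omega
  have h2 : 3 * (c' + 1) + s - 1 = 3 * c' + 2 + s := by omega
  rw [h1, h2]
  nlinarith

theorem relIndex_mul_card' {H K : Subgroup G} (h : H ≤ K) : H.relIndex K * Nat.card H = Nat.card K := by
  rw [← Nat.card_congr (Subgroup.subgroupOfEquivOfLe h).toEquiv]
  exact Subgroup.index_mul_card (H.subgroupOf K)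

/-- the order of a `P₁`-member: `|J| = |J_σ| |KJ|` -/
theorem card_of_isP1 (hG : IsMinSimpleOddOrder G) {J KJ : Subgroup G} (hJ : IsCoatom J)
    (hK : IsPiHallOf (kappa J) KJ J) (p1 : IsP1 J) :
    Nat.card J = Nat.card (sigmaCore J) * Nat.card KJ := by
  have hσ : IsPiHallOf (sigma J) (sigmaCore J) J := (Cfsg.Agent.S1350.result hG J hJ).1
  set m := Nat.card (sigmaCore J) with hm
  set k := Nat.card KJ with hk
  set r := (sigmaCore J).relIndex J with hr
  set r' := KJ.relIndex J with hr'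
  have e1 : r * m = Nat.card J := relIndex_mul_card' hσ.1
  have e2 : r' * k = Nat.card J := relIndex_mul_card' hK.1
  have hJpos : 0 < Nat.card J := Nat.card_pos
  -- primes of `r` are in `κ(J)`, primes of `r'` are not
  have hrκ : ∀ q : ℕ, q.Prime → q ∣ r → q ∈ kappa J := by
    intro q hq hqr
    have hqJ : q ∣ Nat.card J := by rw [← e1]; exact Dvd.dvd.mul_right hqr m
    rcases p1 q hq hqJ with h | h
    · exact absurd hqr (hσ.2.2 q hq h)
    · exact h
  have hcop1 : Nat.Coprime r r' := by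
    apply Nat.coprime_of_dvd
    intro q hq hqr hqr'
    exact hK.2.2 q hq (hrκ q hq hqr) hqr'
  have hcop2 : Nat.Coprime k m := by
    apply Nat.coprime_of_dvd
    intro q hq hqk hqm
    have h1 : q ∈ kappa J := hK.2.1 q hq hqk
    have h2 : q ∈ sigma J := hσ.2.1 q hq hqm
    exact h1.2.2.1 h2
  have hrk : r ∣ k := by
    have : r ∣ r' * k := by rw [e2, ← e1]; exact Dvd.intro m rfl
    exact (Nat.Coprime.dvd_mul_left hcop1).mp this
  have hkr : k ∣ r := by
    have : k ∣ r * m := by rw [e1, ← e2]; exact Dvd.intro_left r' rfl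
    exact (Nat.Coprime.dvd_mul_right hcop2).mp this
  have : r = k := Nat.dvd_antisymm hrk hkr
  rw [← e1, this, mul_comm]

/-- KEYSTONE 136608  K-1366-G  `Mem.card_bound`. -/
theorem Mem.card_bound (hG : IsMinSimpleOddOrder G) (h30 : H1430 G) (h31 : H1431 G) (h77 : H1377 G)
    {Z J KJ : Subgroup G} (hm : Mem Z J KJ) :
    Nat.card G * (3 * Nat.card (Ks J KJ) - 1) ≤
      3 * Nat.card Z * Set.ncard (tildeOf J ((sigmaCore J : Set G) \ {1})) := by
  have hJ := hm.pj.coatom
  have hK := hm.pj.hall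
  have hK1 := hm.pj.ne
  obtain ⟨h30a, -, -⟩ := h30 J hJ KJ hK hK1
  obtain ⟨-, -, h31c, -⟩ := h31 J hJ KJ hK hK1
  set c := Nat.card (Ks J KJ) with hc
  set m := Nat.card (sigmaCore J) with hmm
  set k := Nat.card KJ with hk
  -- `|Z| = k c`
  have hcop : k.Coprime c := Cfsg.Agent.Lib.Helper77.BG147.coprime_card_Ks hG hJ hK
  have hinf : KJ ⊓ Ks J KJ = ⊥ := (Subgroup.disjoint_of_coprime_natCard hcop).eq_bot
  have hZ : Nat.card Z = k * c := by
    rw [← hm.zeq]
    exact Cfsg.Agent.Lib.Helper28.BG147.card_sup_of_commute (inf_le_right) hinf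
  -- `|J| = m k`
  have hJc : Nat.card J = m * k := card_of_isP1 hG hJ hK hm.p1
  -- `KJ* ≠ ⊥`
  have hKs1 : Ks J KJ ≠ ⊥ := by
    have hk1 : k ≠ 1 := by
      intro h
      exact hK1 ((Subgroup.card_eq_one).mp h)
    obtain ⟨p, hp, hpk⟩ := Nat.exists_prime_and_dvd hk1
    have : Fact p.Prime := ⟨hp⟩
    obtain ⟨x, hx⟩ := exists_prime_orderOf_dvd_card' p hpk
    have hx1 : (x : G) ≠ 1 := by
      intro h
      have : x = 1 := Subtype.ext h
      rw [this, orderOf_one] at hx
      exact hp.one_lt.ne hx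
    have hPc : Nat.card (zpowers (x : G)) = p := by
      rw [Nat.card_zpowers, Subgroup.orderOf_coe, hx]
    have hPJ : zpowers (x : G) ≤ J := by
      rw [Subgroup.zpowers_le]
      exact hK.1 x.2
    have hne := Cfsg.Agent.Lib.Helper64.BG14.cent_ne_bot_of_mem_kappa hG hJ (hK.2.1 p hp hpk) hPJ hPc
    intro hbot
    apply hne
    rw [eq_bot_iff, ← hbot]
    refine le_trans ?_ (h30a (x : G) x.2 hx1).le
    refine inf_le_inf_left _ (Subgroup.centralizer_le ?_)
    intro y hy
    rw [Set.mem_singleton_iff] at hy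
    rw [hy]
    exact Subgroup.mem_zpowers _
  have hc1 : c ≠ 1 := fun h => hKs1 ((Subgroup.card_eq_one).mp h)
  have hcpos : 1 ≤ c := Nat.card_pos
  -- `3 c ≤ m`
  have hcm : c ∣ m := Subgroup.card_dvd_of_le inf_le_left
  have hne : c ≠ m := by
    intro h
    have heq : Ks J KJ = sigmaCore J :=
      Subgroup.eq_of_le_of_card_ge inf_le_left (by rw [← hmm, ← hc, h])
    obtain ⟨p, hp, hpc⟩ := Nat.exists_prime_and_dvd hc1
    have : Fact p.Prime := ⟨hp⟩
    obtain ⟨-, -, hS⟩ := h31c p hp hpc (default : Sylow p ↥(sigmaCore J))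
    apply hS
    have h5 : Subgroup.map (sigmaCore J).subtype
        ((default : Sylow p ↥(sigmaCore J)) : Subgroup ↥(sigmaCore J)) ≤ Ks J KJ := by
      rw [heq]
      exact Subgroup.map_subtype_le _
    exact h5
  have hmodd : Odd m := ms_odd hG (sigmaCore J)
  have h3cm : 3 * c ≤ m := by
    obtain ⟨e, he⟩ := hcm
    have he1 : e ≠ 1 := by
      intro h
      rw [h, mul_one] at he
      exact hne he.symm
    have he0 : e ≠ 0 := by
      intro h
      rw [h, mul_zero] at he
      have : 0 < m := Nat.card_pos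
      omega
    have heodd : Odd e := by
      rw [he] at hmodd
      exact (Nat.odd_mul.mp hmodd).2
    have he3 : 3 ≤ e := by
      obtain ⟨j, hj⟩ := heodd
      omega
    calc 3 * c ≤ e * c := Nat.mul_le_mul_right c he3
      _ = m := by rw [he, mul_comm]
  -- the count
  have hT : Set.ncard (tildeOf J ((sigmaCore J : Set G) \ {1})) = (m - 1) * J.index := h77 J hJ
  have hG' : Nat.card G = J.index * (m * k) := by rw [← hJc, Subgroup.index_mul_card]
  rw [hT, hG', hZ]
  have key := arith_key m c hcpos h3cm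
  calc J.index * (m * k) * (3 * c - 1) = (J.index * k) * (m * (3 * c - 1)) := by ring
    _ ≤ (J.index * k) * (3 * c * (m - 1)) := Nat.mul_le_mul_left _ key
    _ = 3 * (k * c) * ((m - 1) * J.index) := by ring

end Cfsg.Agent.Lib.Helper80.BG1366
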