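import Mathlib
import Cfsg.Prelude.Def_Characters
import Cfsg.Agent.Lib.Helper05.CharValues
import Cfsg.Agent.Lib.Helper05.CharDecomp

/-!
# Galois conjugation of characters (helper80)

* `exists_ringEquiv_pow n hn k hk` : a ring automorphism of `ℂ` raising every `n`-th root of
  unity to its `k`-th power (`k` coprime to `n`).
* `twistRep τ ρ`, `twistRep_character` : entrywise twist of a matrix representation by a ring
  endomorphism of `ℂ`; its character is `τ ∘ χ`.
* `isCharacter_pow_coprime`, `isIrrCharacter_pow_coprime` : `g ↦ χ (g ^ k)` is again an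
  (irreducible) character when `k` is coprime to `|G|`.
-/

set_option autoImplicit false

namespace Cfsg.Agent.Lib.Helper80

open Polynomial
open scoped ComplexConjugate

theorem exists_ringEquiv_pow_aux (n : ℕ) (hn : 0 < n) (k : ℕ) (hk : k.Coprime n)
    (L : Type) [Field L] [Algebra ℚ L] [IsCyclotomicExtension {n} ℚ L] :
    ∃ τ : ℂ ≃+* ℂ, ∀ ζ : ℂ, ζ ^ n = 1 → τ ζ = ζ ^ k := by
  haveI : NeZero n := ⟨hn.ne'⟩
  have hirr : Irreducible (cyclotomic n ℚ) := cyclotomic.irreducible_rat hn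
  have hζK : IsPrimitiveRoot (IsCyclotomicExtension.zeta n ℚ L) n :=
    IsCyclotomicExtension.zeta_spec n ℚ L
  have hμ : IsPrimitiveRoot ((IsCyclotomicExtension.zeta n ℚ L) ^ k) n :=
    hζK.pow_of_coprime k hk
  have hσ := IsCyclotomicExtension.fromZetaAut_spec hμ hirr
  generalize IsCyclotomicExtension.fromZetaAut hμ hirr = σ at hσ
  generalize IsCyclotomicExtension.zeta n ℚ L = ζK at hζK hμ hσ
  -- an embedding of L into ℂ
  haveI : FiniteDimensional ℚ L := IsCyclotomicExtension.finiteDimensional {n} ℚ L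
  let φ : L →+* ℂ := (IsAlgClosed.lift (R := ℚ) (S := L) (M := ℂ)).toRingHom
  letI : Algebra L ℂ := φ.toAlgebra
  obtain ⟨s, hs⟩ := exists_isTranscendenceBasis L ℂ
  haveI := IsAlgClosed.isAlgClosure_of_transcendence_basis (fun x : s => (x : ℂ)) hs
  let e : Algebra.adjoin L (Set.range (fun x : s => (x : ℂ))) ≃+*
      Algebra.adjoin L (Set.range (fun x : s => (x : ℂ))) :=
    hs.1.aevalEquiv.symm.toRingEquiv.trans
      ((MvPolynomial.mapEquiv s σ.toRingEquiv).trans hs.1.aevalEquiv.toRingEquiv)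
  let τ : ℂ ≃+* ℂ := IsAlgClosure.equivOfEquiv ℂ ℂ e
  have hτ : ∀ x : L, τ (φ x) = φ (σ x) := by
    intro x
    have h1 : φ x = algebraMap (Algebra.adjoin L (Set.range (fun x : s => (x : ℂ)))) ℂ
      (algebraMap L _ x) := rfl
    rw [h1, IsAlgClosure.equivOfEquiv_algebraMap]
    have h2 : e (algebraMap L _ x) = algebraMap L _ (σ x) := by
      simp only [e, RingEquiv.trans_apply]
      have h3 : (hs.1.aevalEquiv.symm.toRingEquiv) (algebraMap L _ x) = MvPolynomial.C x := by
        change hs.1.aevalEquiv.symm (algebraMap L _ x) = MvPolynomial.C x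
        rw [AlgEquiv.commutes]; rfl
      rw [h3]
      have h4 : (MvPolynomial.mapEquiv s σ.toRingEquiv) (MvPolynomial.C x) = MvPolynomial.C (σ x) := by
        simp
      rw [h4]
      change hs.1.aevalEquiv (MvPolynomial.C (σ x)) = _
      rw [← MvPolynomial.algebraMap_eq, AlgEquiv.commutes]
    rw [h2]
    rfl
  refine ⟨τ, fun ζ hζ => ?_⟩
  have hφζ : IsPrimitiveRoot (φ ζK) n := hζK.map_of_injective φ.injective
  obtain ⟨i, -, hi⟩ := hφζ.eq_pow_of_pow_eq_one hζ
  rw [← hi, ← map_pow, hτ, map_pow, hσ]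
  simp only [map_pow]
  ring

/-- There is a ring automorphism of `ℂ` raising all `n`-th roots of unity to the `k`-th power,
when `k` is coprime to `n`. -/
theorem exists_ringEquiv_pow (n : ℕ) (hn : 0 < n) (k : ℕ) (hk : k.Coprime n) :
    ∃ τ : ℂ ≃+* ℂ, ∀ ζ : ℂ, ζ ^ n = 1 → τ ζ = ζ ^ k :=
  haveI : NeZero n := ⟨hn.ne'⟩
  @exists_ringEquiv_pow_aux n hn k hk (CyclotomicField n ℚ) _ (CyclotomicField.algebra n ℚ) _

/-- Apply a ring endomorphism of `ℂ` entrywise to a matrix representation. -/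
noncomputable def twistRep {G : Type*} [Group G] {d : ℕ} (τ : ℂ →+* ℂ)
    (ρ : Representation ℂ G (Fin d → ℂ)) : Representation ℂ G (Fin d → ℂ) where
  toFun g := Matrix.toLin' (τ.mapMatrix (LinearMap.toMatrix' (ρ g)))
  map_one' := by simp; rfl
  map_mul' g h := by
    rw [map_mul, Module.End.mul_eq_comp, LinearMap.toMatrix'_comp, map_mul, Matrix.toLin'_mul]
    rfl

theorem twistRep_character {G : Type*} [Group G] {d : ℕ} (τ : ℂ →+* ℂ)
    (ρ : Representation ℂ G (Fin d → ℂ)) (g : G) :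
    (twistRep τ ρ).character g = τ (ρ.character g) := by
  unfold Representation.character twistRep
  simp only [MonoidHom.coe_mk, OneHom.coe_mk]
  rw [Matrix.trace_toLin'_eq, RingHom.mapMatrix_apply, ← AddMonoidHom.map_trace,
    ← Matrix.trace_toLin'_eq (LinearMap.toMatrix' (ρ g)), Matrix.toLin'_toMatrix']

/-- Galois conjugates of characters: `g ↦ χ (g ^ k)` is a character when `k` is coprime to `|G|`. -/
theorem isCharacter_pow_coprime {G : Type*} [Group G] [Finite G] {χ : G → ℂ}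
    (hχ : Cfsg.IsCharacter G χ) (k : ℕ) (hk : k.Coprime (Nat.card G)) :
    Cfsg.IsCharacter G (fun g => χ (g ^ k)) := by
  obtain ⟨d, ρ, rfl⟩ := hχ
  obtain ⟨τ, hτ⟩ := exists_ringEquiv_pow (Nat.card G) Nat.card_pos k hk
  refine ⟨d, twistRep τ.toRingHom ρ, ?_⟩
  funext g
  rw [twistRep_character]
  obtain ⟨b, μ, hμ, -, hk', -⟩ :=
    Cfsg.Agent.Lib.Helper05.exists_eigenvalues ρ g (isOfFinOrder_of_finite g)
  have h1 := hk' 1
  rw [pow_one] at h1
  rw [h1, hk' k, map_sum]
  apply Finset.sum_congr rfl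
  intro i _
  rw [pow_one]
  apply hτ
  obtain ⟨m, hm⟩ := orderOf_dvd_natCard g
  rw [hm, pow_mul, hμ, one_pow]

/-- Galois conjugates of irreducible characters are irreducible. -/
theorem isIrrCharacter_pow_coprime {G : Type*} [Group G] [Fintype G] {χ : G → ℂ}
    (hχ : Cfsg.IsIrrCharacter G χ) (k : ℕ) (hk : k.Coprime (Nat.card G)) :
    Cfsg.IsIrrCharacter G (fun g => χ (g ^ k)) := by
  apply Cfsg.Agent.Lib.Helper05.isIrrCharacter_of_classInner_self_eq_one
    (isCharacter_pow_coprime (Cfsg.Agent.Lib.Helper05.IsIrrCharacter.isCharacter hχ) k hk)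
  have h1 := Cfsg.Agent.Lib.Helper05.classInner_irr_self hχ
  unfold Cfsg.classInner at h1 ⊢
  rw [← h1]
  congr 1
  exact Equiv.sum_comp (powCoprime hk.symm) (fun g => χ g * conj (χ g))

end Cfsg.Agent.Lib.Helper80
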