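import Mathlib
import Cfsg.Prelude.Def_CharExt
import Cfsg.Agent.Lib.Helper05.CharEquiv
import Cfsg.Agent.Lib.Helper20.LinExt

/-!
# The determinantal character (helper80)

`Cfsg.detChar χ` computed from any finite-dimensional representation affording `χ`, and its
basic calculus: multiplicativity, compatibility with group homomorphisms (restriction,
conjugation), twisting by linear characters, sums.
-/

set_option autoImplicit false

namespace Cfsg.Agent.Lib.Helper80

open Cfsg

universe u v w

section Basic

variable {G : Type u} [Group G]

/-- Equivalent representations have the same determinants. -/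
theorem det_eq_of_equiv {V : Type v} {W : Type w} [AddCommGroup V] [Module ℂ V]
    [AddCommGroup W] [Module ℂ W] {ρ : Representation ℂ G V} {σ : Representation ℂ G W}
    (φ : ρ.Equiv σ) (g : G) : LinearMap.det (σ g) = LinearMap.det (ρ g) := by
  rw [← Representation.Equiv.conj_apply_self g φ]
  exact LinearMap.det_conj (ρ g) φ.toLinearEquiv

/-- `detChar` of the character of a finite-dimensional representation is computed by that
representation. -/
theorem detChar_character [Finite G] {V : Type v} [AddCommGroup V] [Module ℂ V]
    [FiniteDimensional ℂ V] (ρ : Representation ℂ G V) :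
    detChar ρ.character = fun g => LinearMap.det (ρ g) := by
  have h : IsCharacter G ρ.character := Cfsg.Agent.Lib.Helper05.isCharacter_of_rep ρ
  unfold detChar
  rw [dif_pos h]
  funext g
  have hspec := Classical.choose_spec (Classical.choose_spec h)
  obtain ⟨φ⟩ := Cfsg.Agent.Lib.Helper05.nonempty_equiv_of_char_eq _
    (Classical.choose (Classical.choose_spec h)) V ρ hspec
  exact (det_eq_of_equiv φ g).symm

theorem detChar_of_not_isCharacter {χ : G → ℂ} (h : ¬ IsCharacter G χ) :
    detChar χ = fun _ => 1 := by
  unfold detChar
  rw [dif_neg h]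

/-- `detChar` is multiplicative in the group variable. -/
theorem detChar_mul_apply [Finite G] (χ : G → ℂ) (g h : G) :
    detChar χ (g * h) = detChar χ g * detChar χ h := by
  by_cases hχ : IsCharacter G χ
  · obtain ⟨n, ρ, rfl⟩ := hχ
    rw [detChar_character]
    simp only [map_mul]
  · rw [detChar_of_not_isCharacter hχ]; simp

theorem detChar_one_apply [Finite G] (χ : G → ℂ) : detChar χ 1 = 1 := by
  by_cases hχ : IsCharacter G χ
  · obtain ⟨n, ρ, rfl⟩ := hχ
    rw [detChar_character]
    simp only [map_one]
  · rw [detChar_of_not_isCharacter hχ]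

theorem detChar_ne_zero [Finite G] (χ : G → ℂ) (g : G) : detChar χ g ≠ 0 := by
  intro h
  have := detChar_mul_apply χ g g⁻¹
  rw [mul_inv_cancel, detChar_one_apply, h, zero_mul] at this
  exact one_ne_zero this

/-- The determinantal character as a homomorphism to the units of `ℂ`. -/
noncomputable def detHom [Finite G] (χ : G → ℂ) : G →* ℂˣ where
  toFun g := Units.mk0 (detChar χ g) (detChar_ne_zero χ g)
  map_one' := by
    apply Units.ext
    simp [detChar_one_apply]
  map_mul' g h := by
    apply Units.ext
    simp [detChar_mul_apply]

@[simp] theorem detHom_apply [Finite G] (χ : G → ℂ) (g : G) :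
    ((detHom χ g : ℂˣ) : ℂ) = detChar χ g := rfl

/-- The determinantal character is a character (of degree one). -/
theorem isCharacter_detChar [Finite G] (χ : G → ℂ) : IsCharacter G (detChar χ) := by
  have := Cfsg.Agent.Lib.Helper05.isIrrCharacter_of_hom (detHom χ)
  exact Cfsg.Agent.Lib.Helper05.IsIrrCharacter.isCharacter this

end Basic

section Calculus

variable {G : Type u} [Group G] [Finite G]

theorem homFun_detHom (χ : G → ℂ) :
    Cfsg.Agent.Lib.Helper20.homFun (detHom χ) = detChar χ := rfl

theorem detOrder_eq (χ : G → ℂ) : detOrder χ = orderOf (detHom χ) := by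
  unfold detOrder
  rw [← homFun_detHom, Cfsg.Agent.Lib.Helper20.orderOf_homFun]

/-- Compatibility of `detChar` with pulling back along a group homomorphism. -/
theorem detChar_comp_hom {H : Type v} [Group H] [Finite H] (f : H →* G) {χ : G → ℂ}
    (hχ : IsCharacter G χ) :
    detChar (fun h => χ (f h)) = fun h => detChar χ (f h) := by
  obtain ⟨n, ρ, rfl⟩ := hχ
  have h1 : (fun h => ρ.character (f h)) =
      Representation.character (V := Fin n → ℂ) (MonoidHom.comp ρ f) := rfl
  rw [h1, detChar_character, detChar_character]
  rfl

/-- Restriction to a subgroup. -/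
theorem detChar_restrict (H : Subgroup G) {χ : G → ℂ} (hχ : IsCharacter G χ) :
    detChar (fun h : H => χ (h : G)) = fun h : H => detChar χ (h : G) :=
  detChar_comp_hom H.subtype hχ

/-- Twisting by a character of degree one. -/
theorem detChar_linear_mul {β χ : G → ℂ} (hβ : IsCharacter G β) (hβ1 : β 1 = 1)
    (hχ : IsCharacter G χ) (d : ℕ) (hd : χ 1 = d) :
    detChar (fun g => β g * χ g) = fun g => β g ^ d * detChar χ g := by
  obtain ⟨b, hb⟩ := Cfsg.Agent.Lib.Helper20.exists_hom_of_linear hβ hβ1
  obtain ⟨n, ρ, rfl⟩ := hχ
  have hn : n = d := by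
    have := Representation.char_one ρ
    rw [hd] at this
    simp only [Module.finrank_fintype_fun_eq_card, Fintype.card_fin] at this
    exact_mod_cast this.symm
  subst hn
  let σ : Representation ℂ G (Fin n → ℂ) :=
    { toFun := fun g => ((b g : ℂˣ) : ℂ) • ρ g
      map_one' := by simp
      map_mul' := by
        intro g h
        simp only [map_mul, Units.val_mul]
        rw [smul_mul_smul_comm] }
  have hσ : σ.character = fun g => β g * ρ.character g := by
    funext g
    have : β g = ((b g : ℂˣ) : ℂ) := by rw [← hb]; rfl
    simp only [Representation.character, this]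
    show LinearMap.trace ℂ _ (((b g : ℂˣ) : ℂ) • ρ g) = _
    rw [map_smul, smul_eq_mul]
  rw [← hσ, detChar_character, detChar_character]
  funext g
  have : β g = ((b g : ℂˣ) : ℂ) := by rw [← hb]; rfl
  show LinearMap.det (((b g : ℂˣ) : ℂ) • ρ g) = _
  rw [LinearMap.det_smul, this]
  simp

/-- A character of degree one is its own determinantal character. -/
theorem detChar_of_linear {β : G → ℂ} (hβ : IsCharacter G β) (hβ1 : β 1 = 1) :
    detChar β = β := by
  have h := detChar_linear_mul hβ hβ1 (Cfsg.Agent.Lib.Helper83.isCharacter_one (G := G)) 1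
    (by simp)
  have h1 : detChar (fun _ : G => (1 : ℂ)) = fun _ => 1 := by
    have h0 : (fun _ : G => (1 : ℂ)) =
        (1 : Representation ℂ G (Fin 1 → ℂ)).character := by
      funext g
      simp [Representation.character]
    conv_lhs => rw [h0, detChar_character]
    funext g
    simp
  simp only [mul_one, pow_one] at h
  rw [h]
  funext g
  rw [h1, mul_one]

end Calculus

end Cfsg.Agent.Lib.Helper80
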