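import Mathlib

set_option autoImplicit false

namespace Cfsg.Agent.Lib.Helper80

open Polynomial

/-- A multiset of `p^j`-th roots of unity in `ℂ` with sum zero has cardinality divisible by `p`. -/
theorem dvd_card_of_sum_eq_zero {p : ℕ} [hp : Fact p.Prime] (j : ℕ) (s : Multiset ℂ)
    (hs : ∀ z ∈ s, z ^ (p ^ j) = 1) (hsum : s.sum = 0) : p ∣ Multiset.card s := by
  rcases Nat.eq_zero_or_pos j with hj | hj
  · subst hj
    have h1 : ∀ z ∈ s, z = 1 := fun z hz => by simpa using hs z hz
    have h2 : s = Multiset.replicate (Multiset.card s) 1 := Multiset.eq_replicate.2 ⟨rfl, h1⟩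
    rw [h2, Multiset.sum_replicate] at hsum
    have h3 : (Multiset.card s : ℂ) = 0 := by simpa using hsum
    have h4 : Multiset.card s = 0 := by exact_mod_cast h3
    rw [h4]; exact dvd_zero p
  · obtain ⟨j', rfl⟩ : ∃ j', j = j' + 1 := ⟨j - 1, by omega⟩
    set q := p ^ (j' + 1) with hq
    have hq0 : q ≠ 0 := pow_ne_zero _ hp.out.ne_zero
    haveI : NeZero q := ⟨hq0⟩
    set ζ : ℂ := Complex.exp (2 * Real.pi * Complex.I / q) with hζ
    have hprim : IsPrimitiveRoot ζ q := Complex.isPrimitiveRoot_exp q hq0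
    -- exponent function
    have hex : ∀ z : ℂ, ∃ i : ℕ, z ^ q = 1 → ζ ^ i = z := by
      intro z
      by_cases hz : z ^ q = 1
      · obtain ⟨i, _, hi⟩ := hprim.eq_pow_of_pow_eq_one hz
        exact ⟨i, fun _ => hi⟩
      · exact ⟨0, fun h => absurd h hz⟩
    choose a ha using hex
    set f : ℤ[X] := (s.map (fun z => (X : ℤ[X]) ^ (a z))).sum with hf
    have hfζ : aeval ζ f = 0 := by
      rw [hf, map_multiset_sum, Multiset.map_map]
      have : Multiset.map ((aeval ζ : ℤ[X] → ℂ) ∘ fun z => (X : ℤ[X]) ^ (a z)) s = Multiset.map id s := by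
        apply Multiset.map_congr rfl
        intro z hz
        simp only [Function.comp_apply, map_pow, aeval_X, id]
        exact ha z (hs z hz)
      rw [this, Multiset.map_id, hsum]
    have hf1 : f.eval 1 = Multiset.card s := by
      rw [hf, ← coe_evalRingHom, map_multiset_sum, Multiset.map_map]
      have : Multiset.map ((evalRingHom (1 : ℤ)) ∘ fun z => (X : ℤ[X]) ^ (a z)) s =
          Multiset.map (fun _ => (1 : ℤ)) s := by
        apply Multiset.map_congr rfl
        intro z _
        simp
      rw [this, Multiset.map_const', Multiset.sum_replicate]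
      simp
    have hdvd : cyclotomic q ℤ ∣ f := by
      rw [cyclotomic_eq_minpoly hprim (Nat.pos_of_ne_zero hq0)]
      exact minpoly.isIntegrallyClosed_dvd (hprim.isIntegral (Nat.pos_of_ne_zero hq0)) hfζ
    obtain ⟨h, hh⟩ := hdvd
    have h1 := congrArg (eval 1) hh
    rw [eval_mul, hf1, hq, eval_one_cyclotomic_prime_pow] at h1
    have h2 : (p : ℤ) ∣ (Multiset.card s : ℤ) := ⟨_, h1⟩
    exact_mod_cast h2


/-- eigenvalue multiset of `ρ g` for an element with `g ^ q = 1` -/
theorem exists_eigen_multiset {G : Type*} [Group G] {V : Type*} [AddCommGroup V] [Module ℂ V]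
    [FiniteDimensional ℂ V] (ρ : Representation ℂ G V) (g : G) (q : ℕ) (hg : g ^ q = 1) :
    ∃ s : Multiset ℂ, Multiset.card s = Module.finrank ℂ V ∧ (∀ z ∈ s, z ^ q = 1) ∧
      ρ.character g = s.sum := by
  set f : Module.End ℂ V := ρ g with hf
  have hsplit : f.charpoly.Splits := IsAlgClosed.splits _
  refine ⟨f.charpoly.roots, ?_, ?_, ?_⟩
  · rw [splits_iff_card_roots.1 hsplit, LinearMap.charpoly_natDegree]
  · intro z hz
    have hroot : f.charpoly.IsRoot z := (mem_roots (f.charpoly_monic.ne_zero)).1 hz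
    rw [← Module.End.hasEigenvalue_iff_isRoot_charpoly] at hroot
    obtain ⟨v, hv⟩ := hroot.exists_hasEigenvector
    have h1 := hv.pow_apply q
    have h2 : f ^ q = 1 := by
      rw [hf, ← map_pow, hg, map_one]
    rw [h2, Module.End.one_apply] at h1
    have h3 : (1 - z ^ q) • v = 0 := by
      rw [sub_smul, one_smul, ← h1, sub_self]
    rcases smul_eq_zero.1 h3 with h4 | h4
    · exact (sub_eq_zero.1 h4).symm
    · exact absurd h4 hv.2
  · exact Module.End.trace_eq_sum_roots_charpoly_of_splits hsplit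


end Cfsg.Agent.Lib.Helper80
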