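import Mathlib
import Cfsg.Agent.Lib.Helper80.DetChar
import Cfsg.Agent.Lib.Helper85.Gallagher
import Cfsg.Agent.Lib.Helper84.LinearTwist

/-!
# Extensions of characters with prescribed determinant (helper80)
-/

set_option autoImplicit false
set_option linter.style.haveILetI false

namespace Cfsg.Agent.Lib.Helper80

open Cfsg

universe u

section

variable {G : Type u} [Group G] [Finite G] (N : Subgroup G) [hN : N.Normal]

/-- Two irreducible extensions of `ϑ ∈ Irr(N)` with the same determinant coincide, when the degree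
of `ϑ` is coprime to the index of `N`. -/
theorem ext_unique_of_det {ϑ : N → ℂ} (hϑ : IsIrrCharacter N ϑ) (d : ℕ) (hd : ϑ 1 = d)
    (hcop : Nat.Coprime N.index d) {χ χ' : G → ℂ} (hχ : IsIrrCharacter G χ)
    (hχ' : IsIrrCharacter G χ') (hres : ∀ n : N, χ n = ϑ n) (hres' : ∀ n : N, χ' n = ϑ n)
    (hdet : detChar χ' = detChar χ) : χ' = χ := by
  classical
  haveI := Fintype.ofFinite G
  haveI : Fintype N := Fintype.ofFinite N
  have hχN : IsIrrCharacter N (fun n : N => χ n) := by
    have : (fun n : N => χ n) = ϑ := funext hres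
    rw [this]; exact hϑ
  have hinner : classInner (fun n : N => χ' n) (fun n : N => χ n) ≠ 0 := by
    have h1 : (fun n : N => χ n) = ϑ := funext hres
    have h2 : (fun n : N => χ' n) = ϑ := funext hres'
    rw [h1, h2, Cfsg.Agent.Lib.Helper83.irr_inner_self ⟨ϑ, hϑ⟩]
    exact one_ne_zero
  obtain ⟨β, hβ⟩ := (Cfsg.Agent.Lib.Helper85.gallagher N hχ hχN).2 χ' hχ' hinner
  set β' : G → ℂ := fun g => (β : G ⧸ N → ℂ) (QuotientGroup.mk g) with hβ'
  have hβ'c : IsCharacter G β' :=
    Cfsg.Agent.Lib.Helper83.isCharacter_inflate N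
      (Cfsg.Agent.Lib.Helper83.IrrCharacter_isCharacter β)
  have hd0 : (d : ℂ) ≠ 0 := by
    rw [← hd]
    exact Cfsg.Agent.Lib.Helper83.irr_degree_ne_zero ⟨ϑ, hϑ⟩
  have hχ1 : χ 1 = d := by
    have := hres 1
    rw [← hd, ← this]; rfl
  have hχ'1 : χ' 1 = d := by
    have := hres' 1
    rw [← hd, ← this]; rfl
  have hβ1 : β' 1 = 1 := by
    have := congrFun hβ 1
    rw [hχ'1, hχ1] at this
    have h2 : (β : G ⧸ N → ℂ) (QuotientGroup.mk (1 : G)) = β' 1 := rfl
    rw [h2] at this
    have : (d : ℂ) * 1 = d * β' 1 := by rw [mul_one, mul_comm]; exact this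
    exact (mul_left_cancel₀ hd0 this).symm
  have hβN : ∀ n : G, n ∈ N → β' n = 1 := by
    intro n hn
    have : (QuotientGroup.mk n : G ⧸ N) = 1 := (QuotientGroup.eq_one_iff n).mpr hn
    simp only [hβ', this]
    exact hβ1
  have hdetβ : ∀ g : G, β' g ^ d = 1 := by
    intro g
    have h1 := Cfsg.Agent.Lib.Helper80.detChar_linear_mul hβ'c hβ1
      (Cfsg.Agent.Lib.Helper83.isCharacter_of_irr hχ) d hχ1
    have h2 : (fun g => β' g * χ g) = χ' := hβ.symm
    rw [h2, hdet] at h1
    have h3 := congrFun h1 g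
    have h4 := detChar_ne_zero χ g
    have : (1 : ℂ) * detChar χ g = β' g ^ d * detChar χ g := by rw [one_mul]; exact h3
    exact (mul_right_cancel₀ h4 this).symm
  have hidx : ∀ g : G, β' g ^ N.index = 1 := by
    intro g
    have hmul : ∀ k : ℕ, β' g ^ k = β' (g ^ k) := by
      intro k
      induction k with
      | zero => simp [hβ1]
      | succ k ih =>
        rw [pow_succ, pow_succ, ih, Cfsg.Agent.Lib.Helper83.char_deg_one_mul hβ'c hβ1]
    rw [hmul]
    exact hβN _ (N.pow_index_mem g)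
  have hβall : ∀ g : G, β' g = 1 := by
    intro g
    have h1 := hidx g
    have h2 := hdetβ g
    have h3 : β' g ^ Nat.gcd N.index d = 1 := by
      have h0 : β' g ≠ 0 := by
        intro h0
        rw [h0, zero_pow] at h2
        · exact zero_ne_one h2
        · intro hd'
          rw [hd'] at hd0
          exact hd0 (by simp)
      have h1' : orderOf (β' g) ∣ N.index := orderOf_dvd_of_pow_eq_one h1
      have h2' : orderOf (β' g) ∣ d := orderOf_dvd_of_pow_eq_one h2
      exact orderOf_dvd_iff_pow_eq_one.mp (Nat.dvd_gcd h1' h2')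
    rw [hcop.gcd_eq_one, pow_one] at h3
    exact h3
  rw [hβ]
  funext g
  show β' g * χ g = χ g
  rw [hβall, one_mul]

/-- If `ϑ ∈ Irr(N)` has an irreducible extension to `G` and degree coprime to the index, then it has
an irreducible extension with any prescribed determinant extending `det ϑ`. -/
theorem exists_ext_with_det {ϑ : N → ℂ} (_hϑ : IsIrrCharacter N ϑ) (d : ℕ) (hd : ϑ 1 = d)
    (hcop : Nat.Coprime N.index d) {η : G → ℂ} (hη : IsIrrCharacter G η)
    (hηres : ∀ n : N, η n = ϑ n) {μ : G → ℂ} (hμ : IsCharacter G μ) (hμ1 : μ 1 = 1)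
    (hμN : ∀ n : N, μ n = detChar ϑ n) :
    ∃ χ : G → ℂ, IsIrrCharacter G χ ∧ (∀ n : N, χ n = ϑ n) ∧ detChar χ = μ := by
  classical
  haveI := Fintype.ofFinite G
  have hηc := Cfsg.Agent.Lib.Helper83.isCharacter_of_irr hη
  obtain ⟨μ', hμ'⟩ := Cfsg.Agent.Lib.Helper20.exists_hom_of_linear hμ hμ1
  set ν : G →* ℂˣ := μ' / detHom η with hν
  have hηN : (fun n : N => η n) = ϑ := funext hηres
  have hνN : ∀ n ∈ N, ν n = 1 := by
    intro n hn
    have h1 : μ n = detChar η n := by
      rw [hμN ⟨n, hn⟩, ← hηN, detChar_restrict N hηc]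
    have h2 : μ' n = detHom η n := by
      apply Units.ext
      rw [detHom_apply, ← h1, ← hμ']
      rfl
    rw [hν, MonoidHom.div_apply, h2, div_self']
  have hνidx : ν ^ N.index = 1 := Cfsg.Agent.Lib.Helper20.pow_index_eq_one_of_trivial N ν hνN
  obtain ⟨a, b, hab⟩ : ∃ a b : ℤ, (N.index : ℤ) * a + (d : ℤ) * b = 1 := by
    refine ⟨Int.gcdA N.index d, Int.gcdB N.index d, ?_⟩
    rw [← Int.gcd_eq_gcd_ab]
    have : Int.gcd (N.index : ℤ) (d : ℤ) = 1 := by
      rw [Int.gcd_natCast_natCast]; exact hcop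
    rw [this]; rfl
  set lam : G →* ℂˣ := ν ^ b with hlam
  have hlamd : ∀ g : G, lam g ^ d = ν g := by
    intro g
    have h1 : ν g ^ N.index = 1 := by
      have := congrArg (fun f : G →* ℂˣ => f g) hνidx
      simpa [MonoidHom.pow_apply] using this
    have h2 : lam g = ν g ^ b := by rw [hlam]; rfl
    rw [h2, ← zpow_natCast, ← zpow_mul]
    have : b * (d : ℤ) = 1 - (N.index : ℤ) * a := by linarith
    rw [this, zpow_sub, zpow_one, zpow_mul, zpow_natCast, h1, one_zpow]
    simp
  have hlamN : ∀ n ∈ N, lam n = 1 := by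
    intro n hn
    have h2 : lam n = ν n ^ b := by rw [hlam]; rfl
    rw [h2, hνN n hn, one_zpow]
  have hlamc := Cfsg.Agent.Lib.Helper20.isCharacter_homFun lam
  refine ⟨fun g => Cfsg.Agent.Lib.Helper20.homFun lam g * η g, ?_, ?_, ?_⟩
  · have := Cfsg.Agent.Lib.Helper84.isIrrCharacter_mul_linear hlamc.1 hlamc.2 hη
    have h2 : η * Cfsg.Agent.Lib.Helper20.homFun lam =
        fun g => Cfsg.Agent.Lib.Helper20.homFun lam g * η g := by
      funext g; simp [mul_comm]
    rw [← h2]; exact this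
  · intro n
    simp only
    rw [Cfsg.Agent.Lib.Helper20.homFun_apply, hlamN n n.2, hηres]
    simp
  · have hη1 : η 1 = d := by
      have := hηres 1
      rw [← hd, ← this]; rfl
    rw [detChar_linear_mul hlamc.1 hlamc.2 hηc d hη1]
    funext g
    rw [← hμ']
    simp only [Cfsg.Agent.Lib.Helper20.homFun_apply]
    have h1 : ((lam g : ℂˣ) : ℂ) ^ d = ((ν g : ℂˣ) : ℂ) := by
      rw [← hlamd, Units.val_pow_eq_pow_val]
    rw [h1, hν, MonoidHom.div_apply, ← detHom_apply, ← Units.val_mul, div_mul_cancel]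

end

end Cfsg.Agent.Lib.Helper80
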