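import Mathlib
import Cfsg.Agent.Lib.Helper80.DetExt
import Cfsg.Agent.Lib.Helper84.NormalAction
import Cfsg.Agent.Lib.Helper12.Schmidt
import Cfsg.Agent.S0886

/-!
# Gallagher's determinant criterion for extendibility, solvable quotient (helper80)
-/

set_option autoImplicit false
set_option linter.style.haveILetI false

namespace Cfsg.Agent.Lib.Helper80

open Cfsg

universe u

/-- The quotient `M ⧸ N.subgroupOf M` embeds in `G ⧸ N`, hence is solvable when the latter is. -/
theorem isSolvable_quotient_subgroupOf {G : Type u} [Group G] (N M : Subgroup G) [N.Normal]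
    (hsolv : Group.IsSolvable (G ⧸ N)) : Group.IsSolvable (M ⧸ N.subgroupOf M) := by
  let f : M ⧸ N.subgroupOf M →* G ⧸ N :=
    QuotientGroup.map (N.subgroupOf M) N M.subtype (by
      intro x hx
      exact hx)
  have hf : Function.Injective f := by
    rw [injective_iff_map_eq_one]
    intro q
    induction q using QuotientGroup.induction_on with
    | H m =>
      intro h
      have h1 : f (QuotientGroup.mk m) = QuotientGroup.mk (m : G) := rfl
      rw [h1, QuotientGroup.eq_one_iff] at h
      exact (QuotientGroup.eq_one_iff m).mpr h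
  exact Group.isSolvable_of_isSolvable_injective hf

/-- The solvable case of Gallagher's determinant criterion, as an induction over groups. -/
theorem solv_ext_aux : ∀ (k : ℕ) (G : Type u) [Group G] [Finite G] (N : Subgroup G)
    [hN : N.Normal], N.index = k → Group.IsSolvable (G ⧸ N) → ∀ (ϑ : N → ℂ),
    IsIrrCharacter N ϑ →
    (∀ (g : G) (n : N), ϑ ⟨g * n * g⁻¹, hN.conj_mem (n : G) n.2 g⟩ = ϑ n) →
    ∀ d : ℕ, ϑ 1 = d → Nat.Coprime N.index d →
    ∀ μ : G → ℂ, IsCharacter G μ → μ 1 = 1 → (∀ n : N, μ n = detChar ϑ n) →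
    ∃ χ : G → ℂ, IsIrrCharacter G χ ∧ ∀ n : N, χ n = ϑ n := by
  intro k
  induction k using Nat.strong_induction_on with
  | _ k ih =>
    intro G _ _ N hN hk hsolv ϑ hϑ hinv d hd hcop μ hμ hμ1 hμN
    by_cases hnt : Nontrivial (G ⧸ N)
    swap
    · rw [not_nontrivial_iff_subsingleton] at hnt
      exact Cfsg.Agent.S0886.result N inferInstance ϑ hϑ hinv
    obtain ⟨M', hM'n, hM'p⟩ := Cfsg.Agent.Lib.Helper12.exists_normal_prime_index (G := G ⧸ N)
    set M : Subgroup G := M'.comap (QuotientGroup.mk' N) with hM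
    have hMn : M.Normal := hM'n.comap _
    have hNM : N ≤ M := by
      intro n hn
      rw [hM, Subgroup.mem_comap]
      have : (QuotientGroup.mk' N) n = 1 := (QuotientGroup.eq_one_iff n).mpr hn
      rw [this]; exact M'.one_mem
    have hMidx : M.index = M'.index :=
      Subgroup.index_comap_of_surjective M' (QuotientGroup.mk'_surjective N)
    have hMp : M.index.Prime := by rw [hMidx]; exact hM'p
    -- the data on M
    set N' : Subgroup M := N.subgroupOf M with hN'
    have hN'n : N'.Normal := inferInstance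
    let e : N' ≃* N := Subgroup.subgroupOfEquivOfLe hNM
    set ϑ' : N' → ℂ := fun x => ϑ (e x) with hϑ'
    have hϑ'irr : IsIrrCharacter N' ϑ' :=
      Cfsg.Agent.Lib.Helper84.isIrrCharacter_comp_mulEquiv e hϑ
    have he : ∀ x : N', ((e x : N) : G) = ((x : M) : G) := fun x => rfl
    have hϑ'val : ∀ (x : N') (hx : ((x : M) : G) ∈ N), ϑ' x = ϑ ⟨((x : M) : G), hx⟩ := by
      intro x hx
      rfl
    have hinv' : ∀ (m : M) (x : N'),
        ϑ' ⟨m * x * m⁻¹, hN'n.conj_mem (x : M) x.2 m⟩ = ϑ' x := by
      intro m x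
      have hx : ((x : M) : G) ∈ N := x.2
      have := hinv (m : G) ⟨((x : M) : G), hx⟩
      rw [hϑ'val x hx, ← this]
      rfl
    have hidx' : N'.index * M.index = N.index := by
      exact Subgroup.relIndex_mul_index hNM
    have hNidx0 : N.index ≠ 0 := Subgroup.index_ne_zero_of_finite
    have hlt : N'.index < k := by
      rw [← hk, ← hidx']
      have h0 : N'.index ≠ 0 := Subgroup.index_ne_zero_of_finite
      have h2 := hMp.two_le
      nlinarith [Nat.pos_of_ne_zero h0]
    have hcop' : Nat.Coprime N'.index d :=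
      Nat.Coprime.coprime_dvd_left ⟨M.index, hidx'.symm⟩ hcop
    have hsolv' : Group.IsSolvable (M ⧸ N') := isSolvable_quotient_subgroupOf N M hsolv
    have hϑ'1 : ϑ' 1 = d := by
      rw [← hd]
      show ϑ (e 1) = ϑ 1
      rw [map_one]
    set μ' : M → ℂ := fun m => μ (m : G) with hμ'
    have hμ'c : IsCharacter M μ' := Cfsg.Agent.Lib.Helper83.isCharacter_restrict M hμ
    have hμ'1 : μ' 1 = 1 := hμ1
    have hϑc : IsCharacter N ϑ := Cfsg.Agent.Lib.Helper83.isCharacter_of_irr hϑ
    have hμ'N : ∀ x : N', μ' x = detChar ϑ' x := by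
      intro x
      have h1 : detChar ϑ' = fun x => detChar ϑ (e x) :=
        detChar_comp_hom e.toMonoidHom hϑc
      rw [h1]
      exact hμN (e x)
    obtain ⟨η₀, hη₀, hη₀res⟩ := ih N'.index hlt M N' rfl hsolv' ϑ' hϑ'irr hinv' d hϑ'1 hcop'
      μ' hμ'c hμ'1 hμ'N
    obtain ⟨η, hη, hηres, hηdet⟩ := exists_ext_with_det N' hϑ'irr d hϑ'1 hcop' hη₀ hη₀res
      hμ'c hμ'1 hμ'N
    -- η is G-invariant
    have hηinv : ∀ (g : G) (m : M), η ⟨g * m * g⁻¹, hMn.conj_mem (m : G) m.2 g⟩ = η m := by
      intro g m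
      let c : M ≃* M := MulAut.conjNormal g
      have hc : ∀ m : M, ((c m : M) : G) = g * m * g⁻¹ := fun m => rfl
      have hηg : IsIrrCharacter M (fun m => η (c m)) :=
        Cfsg.Agent.Lib.Helper84.isIrrCharacter_comp_mulEquiv c hη
      have hresg : ∀ x : N', (fun m => η (c m)) x = ϑ' x := by
        intro x
        have hx : ((x : M) : G) ∈ N := x.2
        have hcx : c (x : M) ∈ N' := by
          show ((c (x : M) : M) : G) ∈ N
          rw [hc]
          exact hN.conj_mem _ hx g
        have h1 := hηres ⟨c (x : M), hcx⟩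
        simp only at h1 ⊢
        rw [h1, hϑ'val x hx, ← hinv g ⟨((x : M) : G), hx⟩]
        rfl
      have hdetg : detChar (fun m => η (c m)) = detChar η := by
        have h0 : detChar (fun m => η (c m)) = fun m => detChar η (c m) :=
          detChar_comp_hom c.toMonoidHom (Cfsg.Agent.Lib.Helper83.isCharacter_of_irr hη)
        rw [h0, hηdet]
        funext m
        show μ ((c m : M) : G) = μ (m : G)
        rw [hc]
        exact Cfsg.Agent.Lib.Helper83.char_conj_eq hμ _ _
      have := ext_unique_of_det N' hϑ'irr d hϑ'1 hcop' hη hηg hηres hresg hdetg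
      exact congrFun this m
    have hcyc : IsCyclic (G ⧸ M) := by
      haveI : Fact M.index.Prime := ⟨hMp⟩
      exact isCyclic_of_prime_card (p := M.index) (Subgroup.index_eq_card M).symm
    obtain ⟨χ, hχ, hχres⟩ := Cfsg.Agent.S0886.result M hcyc η hη hηinv
    refine ⟨χ, hχ, ?_⟩
    intro n
    have h1 := hχres ⟨(n : G), hNM n.2⟩
    have hn' : (⟨(n : G), hNM n.2⟩ : M) ∈ N' := n.2
    have h2 := hηres ⟨⟨(n : G), hNM n.2⟩, hn'⟩
    simp only at h1 h2
    rw [h1, h2]
    rfl

end Cfsg.Agent.Lib.Helper80
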