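import Mathlib
import Cfsg.Agent.Lib.Helper80.DetExtSolv
import Cfsg.Agent.S0888

/-!
# Gallagher's determinant criterion for extendibility, general case (helper80)
-/

set_option autoImplicit false
set_option linter.style.haveILetI false

namespace Cfsg.Agent.Lib.Helper80

open Cfsg

universe u

section

variable {G : Type u} [Group G] [Finite G] (N : Subgroup G) [hN : N.Normal]

/-- Solvable determinant criterion relative to an intermediate subgroup `N ≤ M`. -/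
theorem solv_ext_subgroup (M : Subgroup G) (hNM : N ≤ M)
    (hsolv : Group.IsSolvable (M ⧸ N.subgroupOf M)) (ϑ : N → ℂ) (hϑ : IsIrrCharacter N ϑ)
    (hinv : ∀ (g : G) (n : N), ϑ ⟨g * n * g⁻¹, hN.conj_mem (n : G) n.2 g⟩ = ϑ n)
    (d : ℕ) (hd : ϑ 1 = d) (hcop : Nat.Coprime (N.relIndex M) d)
    (μ : G → ℂ) (hμ : IsCharacter G μ) (hμ1 : μ 1 = 1) (hμN : ∀ n : N, μ n = detChar ϑ n) :
    ∃ η : M → ℂ, IsIrrCharacter M η ∧ ∀ n : N, η ⟨(n : G), hNM n.2⟩ = ϑ n := by
  set N' : Subgroup M := N.subgroupOf M with hN'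
  have hN'n : N'.Normal := inferInstance
  let e : N' ≃* N := Subgroup.subgroupOfEquivOfLe hNM
  set ϑ' : N' → ℂ := fun x => ϑ (e x) with hϑ'
  have hϑ'irr : IsIrrCharacter N' ϑ' :=
    Cfsg.Agent.Lib.Helper84.isIrrCharacter_comp_mulEquiv e hϑ
  have hϑ'val : ∀ (x : N') (hx : ((x : M) : G) ∈ N), ϑ' x = ϑ ⟨((x : M) : G), hx⟩ := by
    intro x hx
    rfl
  have hinv' : ∀ (m : M) (x : N'),
      ϑ' ⟨m * x * m⁻¹, hN'n.conj_mem (x : M) x.2 m⟩ = ϑ' x := by
    intro m x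
    have hx : ((x : M) : G) ∈ N := x.2
    have := hinv (m : G) ⟨((x : M) : G), hx⟩
    rw [hϑ'val x hx, ← this]
    rfl
  have hϑ'1 : ϑ' 1 = d := by
    rw [← hd]
    show ϑ (e 1) = ϑ 1
    rw [map_one]
  set μ' : M → ℂ := fun m => μ (m : G) with hμ'
  have hμ'c : IsCharacter M μ' := Cfsg.Agent.Lib.Helper83.isCharacter_restrict M hμ
  have hμ'1 : μ' 1 = 1 := hμ1
  have hϑc : IsCharacter N ϑ := Cfsg.Agent.Lib.Helper83.isCharacter_of_irr hϑ
  have hμ'N : ∀ x : N', μ' x = detChar ϑ' x := by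
    intro x
    have h1 : detChar ϑ' = fun x => detChar ϑ (e x) :=
      detChar_comp_hom e.toMonoidHom hϑc
    rw [h1]
    exact hμN (e x)
  obtain ⟨η, hη, hηres⟩ := solv_ext_aux N'.index M N' rfl hsolv ϑ' hϑ'irr hinv' d hϑ'1 hcop
    μ' hμ'c hμ'1 hμ'N
  refine ⟨η, hη, ?_⟩
  intro n
  have hn' : (⟨(n : G), hNM n.2⟩ : M) ∈ N' := n.2
  have h2 := hηres ⟨⟨(n : G), hNM n.2⟩, hn'⟩
  simp only at h2
  rw [h2]
  rfl

/-- **Gallagher's extension theorem**: an invariant irreducible character of a normal subgroup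
of degree coprime to the index extends as soon as its determinant does. -/
theorem gallagher_ext (ϑ : N → ℂ) (hϑ : IsIrrCharacter N ϑ)
    (hinv : ∀ (g : G) (n : N), ϑ ⟨g * n * g⁻¹, hN.conj_mem (n : G) n.2 g⟩ = ϑ n)
    (d : ℕ) (hd : ϑ 1 = d) (hcop : Nat.Coprime N.index d)
    (μ : G → ℂ) (hμ : IsCharacter G μ) (hμ1 : μ 1 = 1) (hμN : ∀ n : N, μ n = detChar ϑ n) :
    ∃ χ : G → ℂ, IsIrrCharacter G χ ∧ ∀ n : N, χ n = ϑ n := by
  apply Cfsg.Agent.S0888.result N ϑ hϑ hinv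
  intro p hp
  haveI := Fact.mk hp
  obtain ⟨Q⟩ : Nonempty (Sylow p (G ⧸ N)) := inferInstance
  set P : Subgroup G := (Q : Subgroup (G ⧸ N)).comap (QuotientGroup.mk' N) with hP
  have hNP : N ≤ P := by
    intro n hn
    rw [hP, Subgroup.mem_comap]
    have : (QuotientGroup.mk' N) n = 1 := (QuotientGroup.eq_one_iff n).mpr hn
    rw [this]; exact (Q : Subgroup (G ⧸ N)).one_mem
  have hPidx : P.index = (Q : Subgroup (G ⧸ N)).index :=
    Subgroup.index_comap_of_surjective _ (QuotientGroup.mk'_surjective N)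
  have hPcop : Nat.Coprime P.index p := by
    rw [hPidx]
    exact ((Nat.Prime.coprime_iff_not_dvd hp).mpr Q.not_dvd_index).symm
  have hrel : N.relIndex P = Nat.card Q := by
    have h1 : N.relIndex P * P.index = N.index := Subgroup.relIndex_mul_index hNP
    have h2 : Nat.card Q * (Q : Subgroup (G ⧸ N)).index = Nat.card (G ⧸ N) :=
      Subgroup.card_mul_index (Q : Subgroup (G ⧸ N))
    rw [← Subgroup.index_eq_card, ← hPidx] at h2
    have h0 : P.index ≠ 0 := Subgroup.index_ne_zero_of_finite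
    exact Nat.eq_of_mul_eq_mul_right (Nat.pos_of_ne_zero h0) (h1.trans h2.symm)
  obtain ⟨k, hk⟩ := Q.2.exists_card_eq
  have hrelk : N.relIndex P = p ^ k := by rw [hrel]; exact hk
  have hsolv : Group.IsSolvable (P ⧸ N.subgroupOf P) := by
    have hcard : Nat.card (P ⧸ N.subgroupOf P) = p ^ k := by
      rw [← Subgroup.index_eq_card]; exact hrelk
    have hpg : IsPGroup p (P ⧸ N.subgroupOf P) := IsPGroup.of_card hcard
    haveI := hpg.isNilpotent
    infer_instance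
  have hcop' : Nat.Coprime (N.relIndex P) d :=
    Nat.Coprime.coprime_dvd_left ⟨P.index, (Subgroup.relIndex_mul_index hNP).symm⟩ hcop
  obtain ⟨η, hη, hηres⟩ := solv_ext_subgroup N P hNP hsolv ϑ hϑ hinv d hd hcop' μ hμ hμ1 hμN
  exact ⟨P, hNP, η, hPcop, ⟨k, hrelk⟩, hη, hηres⟩

end

end Cfsg.Agent.Lib.Helper80
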