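import Mathlib
import Cfsg.Agent.Lib.Helper80.DetExtGen

/-!
# The canonical extension of an invariant character in the coprime situation (helper80)
-/

set_option autoImplicit false
set_option linter.style.haveILetI false

namespace Cfsg.Agent.Lib.Helper80

open Cfsg

universe u

section

variable {G : Type u} [Group G] [Finite G] (N : Subgroup G) [hN : N.Normal]

/-- The determinant of an invariant character is invariant. -/
theorem detHom_invariant (ϑ : N → ℂ) (hϑ : IsCharacter N ϑ)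
    (hinv : ∀ (g : G) (n : N), ϑ ⟨g * n * g⁻¹, hN.conj_mem (n : G) n.2 g⟩ = ϑ n)
    (g : G) (x y : N) (hxy : (y : G) = g⁻¹ * x * g) : detHom ϑ y = detHom ϑ x := by
  let c : N ≃* N := MulAut.conjNormal g⁻¹
  have hy : y = c x := by
    apply Subtype.ext
    rw [hxy]
    show g⁻¹ * x * g = g⁻¹ * x * g⁻¹⁻¹
    rw [inv_inv]
  have h1 : (fun n => ϑ (c n)) = ϑ := by
    funext n
    exact hinv g⁻¹ n
  have h2 : detChar (fun n => ϑ (c n)) = fun n => detChar ϑ (c n) :=
    detChar_comp_hom c.toMonoidHom hϑ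
  rw [h1] at h2
  apply Units.ext
  rw [detHom_apply, detHom_apply, hy]
  exact (congrFun h2 x).symm

/-- **Canonical extension** (Isaacs 8.16 / Gallagher): an invariant `ϑ ∈ Irr(N)` with
`o(ϑ)ϑ(1)` coprime to `[G:N]` has a unique extension with determinantal order coprime to `[G:N]`,
and that order is `o(ϑ)`. -/
theorem exists_canonical_ext (ϑ : N → ℂ) (hϑ : IsIrrCharacter N ϑ)
    (hinv : ∀ (g : G) (n : N), ϑ ⟨g * n * g⁻¹, hN.conj_mem (n : G) n.2 g⟩ = ϑ n)
    (d : ℕ) (hd : ϑ 1 = d) (hcop : Nat.Coprime N.index (detOrder ϑ * d)) :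
    ∃ χ : G → ℂ, (IsIrrCharacter G χ ∧ (∀ n : N, χ n = ϑ n) ∧ detOrder χ = detOrder ϑ) ∧
      ∀ χ' : G → ℂ, IsIrrCharacter G χ' → (∀ n : N, χ' n = ϑ n) →
        Nat.Coprime N.index (detOrder χ') → χ' = χ := by
  have hϑc := Cfsg.Agent.Lib.Helper83.isCharacter_of_irr hϑ
  have hcop1 : Nat.Coprime N.index (detOrder ϑ) := Nat.Coprime.coprime_mul_right_right hcop
  have hcop2 : Nat.Coprime N.index d := Nat.Coprime.coprime_mul_left_right hcop
  have hcop1' : Nat.Coprime N.index (orderOf (detHom ϑ)) := by rw [← detOrder_eq]; exact hcop1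
  obtain ⟨μ, hμres, hμord⟩ := Cfsg.Agent.Lib.Helper20.exists_extension_of_coprime N (detHom ϑ)
    (detHom_invariant N ϑ hϑc hinv) hcop1'
  have hμc := Cfsg.Agent.Lib.Helper20.isCharacter_homFun μ
  have hμN : ∀ n : N, Cfsg.Agent.Lib.Helper20.homFun μ n = detChar ϑ n := by
    intro n
    rw [Cfsg.Agent.Lib.Helper20.homFun_apply, hμres n, detHom_apply]
  obtain ⟨η, hη, hηres⟩ := gallagher_ext N ϑ hϑ hinv d hd hcop2 _ hμc.1 hμc.2 hμN
  obtain ⟨χ, hχ, hχres, hχdet⟩ := exists_ext_with_det N hϑ d hd hcop2 hη hηres hμc.1 hμc.2 hμN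
  have hdetHom : detHom χ = μ := by
    apply Cfsg.Agent.Lib.Helper20.homFun_injective
    rw [homFun_detHom, hχdet]
  refine ⟨χ, ⟨hχ, hχres, ?_⟩, ?_⟩
  · rw [detOrder_eq, detOrder_eq, hdetHom, hμord]
  · intro χ' hχ' hχ'res hχ'cop
    have hχ'c := Cfsg.Agent.Lib.Helper83.isCharacter_of_irr hχ'
    have hres' : ∀ n : N, detHom χ' n = μ n := by
      intro n
      apply Units.ext
      rw [detHom_apply, hμres n, detHom_apply]
      have h1 : (fun n : N => χ' n) = ϑ := funext hχ'res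
      rw [← h1, detChar_restrict N hχ'c]
    have h1 : Nat.Coprime N.index (orderOf μ) := by rw [hμord]; exact hcop1'
    have h2 : Nat.Coprime N.index (orderOf (detHom χ')) := by rw [← detOrder_eq]; exact hχ'cop
    have heq := Cfsg.Agent.Lib.Helper20.extension_unique_of_coprime N μ (detHom χ') hres' h1 h2
    have hdet : detChar χ' = detChar χ := by
      rw [← homFun_detHom, ← homFun_detHom, heq, hdetHom]
    exact ext_unique_of_det N hϑ d hd hcop2 hχ hχ' hχres hχ'res hdet

end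

end Cfsg.Agent.Lib.Helper80
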