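import Mathlib
import Cfsg.Agent.Lib.Helper80.DetCanon

/-!
# Coprime extension of invariant characters (helper80)
-/

set_option autoImplicit false
set_option linter.style.haveILetI false

namespace Cfsg.Agent.Lib.Helper80

open Cfsg

universe u

section

variable {G : Type u} [Group G] [Finite G]

/-- The determinantal order divides the group order. -/
theorem detOrder_dvd_card (χ : G → ℂ) : detOrder χ ∣ Nat.card G := by
  rw [detOrder_eq]
  apply orderOf_dvd_of_pow_eq_one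
  apply MonoidHom.ext
  intro g
  rw [MonoidHom.pow_apply, ← map_pow, pow_card_eq_one', map_one]
  rfl

/-- **Coprime extension**: an invariant irreducible character of a normal subgroup `N` whose
order is coprime to the index extends to `G`. -/
theorem exists_ext_of_coprime (N : Subgroup G) [hN : N.Normal] (ϑ : N → ℂ)
    (hϑ : IsIrrCharacter N ϑ)
    (hinv : ∀ (g : G) (n : N), ϑ ⟨g * n * g⁻¹, hN.conj_mem (n : G) n.2 g⟩ = ϑ n)
    (hcop : Nat.Coprime (Nat.card N) N.index) :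
    ∃ χ : G → ℂ, IsIrrCharacter G χ ∧ ∀ n : N, χ n = ϑ n := by
  have hd := (Cfsg.Agent.Lib.Helper83.charDegree_cast
    (Cfsg.Agent.Lib.Helper83.isCharacter_of_irr hϑ)).symm
  have h1 : detOrder ϑ ∣ Nat.card N := detOrder_dvd_card ϑ
  have h2 : charDegree ϑ ∣ Nat.card N := Cfsg.Agent.Lib.Helper83.irr_charDegree_dvd_card ⟨ϑ, hϑ⟩
  have hc : Nat.Coprime N.index (detOrder ϑ * charDegree ϑ) := by
    apply Nat.Coprime.mul_right
    · exact (Nat.Coprime.coprime_dvd_left h1 hcop).symm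
    · exact (Nat.Coprime.coprime_dvd_left h2 hcop).symm
  obtain ⟨χ, ⟨hχ, hres, -⟩, -⟩ := exists_canonical_ext N ϑ hϑ hinv (charDegree ϑ) hd hc
  exact ⟨χ, hχ, hres⟩

/-- Coprime extension to an intermediate subgroup `N ≤ M` stabilizing the character. -/
theorem exists_ext_subgroup_of_coprime (N M : Subgroup G) [hN : N.Normal] (hNM : N ≤ M)
    (ϑ : N → ℂ) (hϑ : IsIrrCharacter N ϑ)
    (hinv : ∀ (g : G), g ∈ M → ∀ n : N, ϑ ⟨g * n * g⁻¹, hN.conj_mem (n : G) n.2 g⟩ = ϑ n)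
    (hcop : Nat.Coprime (Nat.card N) (N.relIndex M)) :
    ∃ η : M → ℂ, IsIrrCharacter M η ∧ ∀ n : N, η ⟨(n : G), hNM n.2⟩ = ϑ n := by
  set N' : Subgroup M := N.subgroupOf M with hN'
  have hN'n : N'.Normal := inferInstance
  let e : N' ≃* N := Subgroup.subgroupOfEquivOfLe hNM
  set ϑ' : N' → ℂ := fun x => ϑ (e x) with hϑ'
  have hϑ'irr : IsIrrCharacter N' ϑ' :=
    Cfsg.Agent.Lib.Helper84.isIrrCharacter_comp_mulEquiv e hϑ
  have hϑ'val : ∀ (x : N') (hx : ((x : M) : G) ∈ N), ϑ' x = ϑ ⟨((x : M) : G), hx⟩ := by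
    intro x hx
    rfl
  have hinv' : ∀ (m : M) (x : N'),
      ϑ' ⟨m * x * m⁻¹, hN'n.conj_mem (x : M) x.2 m⟩ = ϑ' x := by
    intro m x
    have hx : ((x : M) : G) ∈ N := x.2
    have := hinv (m : G) m.2 ⟨((x : M) : G), hx⟩
    rw [hϑ'val x hx, ← this]
    rfl
  have hcard : Nat.card N' = Nat.card N := Nat.card_congr e.toEquiv
  have hcop' : Nat.Coprime (Nat.card N') N'.index := by
    rw [hcard]; exact hcop
  obtain ⟨η, hη, hηres⟩ := exists_ext_of_coprime N' ϑ' hϑ'irr hinv' hcop'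
  refine ⟨η, hη, ?_⟩
  intro n
  have hn' : (⟨(n : G), hNM n.2⟩ : M) ∈ N' := n.2
  have h2 := hηres ⟨⟨(n : G), hNM n.2⟩, hn'⟩
  simp only at h2
  rw [h2]
  rfl

end

end Cfsg.Agent.Lib.Helper80
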