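import Mathlib
import Cfsg.Prelude.Def_Characters
import Cfsg.Agent.Lib.Helper04.IndFun
import Cfsg.Agent.Lib.Helper83.Linear
import Cfsg.Agent.Lib.Helper83.Quotient

/-!
# Monomial characters (helper80)

`IsMonomialChar G χ`: `χ` is induced from a linear character of a subgroup.
Closure under inflation (`isMonomialChar_inflate`), induction (`isMonomialChar_induce`), and the
linear case (`isMonomialChar_of_linear`); `indFun_comap_mk` (induction commutes with inflation),
`indFun_indFun_subtype` (transitivity for a subgroup of a subgroup), `indFun_of_forall_mem`.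
-/

set_option autoImplicit false

namespace Cfsg.Agent.Lib.Helper80

open Cfsg
open scoped ComplexConjugate

/-- `χ` is induced from a linear character of a subgroup. -/
def IsMonomialChar (G : Type*) [Group G] [Fintype G] (χ : G → ℂ) : Prop :=
  ∃ (H : Subgroup G) (lam : H →* ℂˣ), χ = Cfsg.indFun H (fun h => (lam h : ℂ))

theorem indFun_congr_subgroup {G : Type*} [Group G] [Fintype G] {H₁ H₂ : Subgroup G}
    (h : H₁ = H₂) (θ₁ : H₁ → ℂ) (θ₂ : H₂ → ℂ)
    (hθ : ∀ (x : G) (h₁ : x ∈ H₁) (h₂ : x ∈ H₂), θ₁ ⟨x, h₁⟩ = θ₂ ⟨x, h₂⟩) :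
    Cfsg.indFun H₁ θ₁ = Cfsg.indFun H₂ θ₂ := by
  subst h
  congr 1
  funext x
  exact hθ x.1 x.2 x.2

/-- Induction from the whole group is the identity on class functions. -/
theorem indFun_of_forall_mem {G : Type*} [Group G] [Fintype G] (T : Subgroup G)
    (hT : ∀ g : G, g ∈ T) (ψ : T → ℂ) (hψ : IsClassFunction T ψ) (g : G) :
    Cfsg.indFun T ψ g = ψ ⟨g, hT g⟩ := by
  rw [Cfsg.Agent.Lib.Helper04.indFun_apply]
  have h1 : ∀ x : G, Cfsg.extendByZero T ψ (x⁻¹ * g * x) = ψ ⟨g, hT g⟩ := by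
    intro x
    rw [Cfsg.Agent.Lib.Helper04.extendByZero_apply_of_mem T ψ _ (hT _)]
    have := hψ ⟨g, hT g⟩ (⟨x, hT x⟩⁻¹ : T)
    rw [← this]
    congr 1
    apply Subtype.ext
    simp
  rw [Finset.sum_congr rfl fun x _ => h1 x, Finset.sum_const, Finset.card_univ, nsmul_eq_mul]
  have hTtop : T = ⊤ := (Subgroup.eq_top_iff' T).2 hT
  have hcard : Nat.card T = Fintype.card G := by
    rw [hTtop, Subgroup.card_top, Nat.card_eq_fintype_card]
  rw [hcard, ← mul_assoc, inv_mul_cancel₀, one_mul]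
  have : 0 < Fintype.card G := Fintype.card_pos
  exact_mod_cast this.ne'

/-- The unit-valued homomorphism attached to a character of degree one. -/
noncomputable def linUnitHom {G : Type*} [Group G] {χ : G → ℂ} (hχ : IsCharacter G χ)
    (h1 : χ 1 = 1) : G →* ℂˣ where
  toFun g := Units.mk0 (χ g) (Cfsg.Agent.Lib.Helper83.char_deg_one_ne_zero hχ h1 g)
  map_one' := Units.ext h1
  map_mul' g h := Units.ext (Cfsg.Agent.Lib.Helper83.char_deg_one_mul hχ h1 g h)

theorem linUnitHom_apply {G : Type*} [Group G] {χ : G → ℂ} (hχ : IsCharacter G χ)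
    (h1 : χ 1 = 1) (g : G) : ((linUnitHom hχ h1 g : ℂˣ) : ℂ) = χ g := rfl

theorem isMonomialChar_of_linear {G : Type*} [Group G] [Fintype G] {χ : G → ℂ}
    (hχ : IsCharacter G χ) (h1 : χ 1 = 1) : IsMonomialChar G χ := by
  refine ⟨⊤, (linUnitHom hχ h1).comp (⊤ : Subgroup G).subtype, ?_⟩
  funext g
  rw [indFun_of_forall_mem ⊤ (fun g => Subgroup.mem_top g)]
  · rfl
  · intro x y
    simp only [MonoidHom.coe_comp, Function.comp_apply, linUnitHom_apply, Subgroup.subtype_apply,
      Subgroup.coe_mul, Subgroup.coe_inv]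
    exact Cfsg.Agent.Lib.Helper83.char_conj_eq hχ _ _

theorem mem_of_mem_map_subtype {G : Type*} [Group G] (T : Subgroup G) (H' : Subgroup T)
    (h : H'.map T.subtype) : (⟨h.1, Subgroup.map_subtype_le H' h.2⟩ : T) ∈ H' := by
  obtain ⟨y, hy, hyx⟩ := h.2
  have : y = ⟨h.1, Subgroup.map_subtype_le H' h.2⟩ := Subtype.ext hyx
  rw [← this]; exact hy

/-- The inverse of the inclusion-induced isomorphism `H' ≃ H'.map T.subtype`, as a hom. -/
def mapSubtypeHom {G : Type*} [Group G] (T : Subgroup G) (H' : Subgroup T) :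
    H'.map T.subtype →* H' where
  toFun h := ⟨⟨h.1, Subgroup.map_subtype_le H' h.2⟩, mem_of_mem_map_subtype T H' h⟩
  map_one' := rfl
  map_mul' _ _ := rfl

/-- Transitivity of induction, for a subgroup of a subgroup. -/
theorem indFun_indFun_subtype {G : Type*} [Group G] [Fintype G] (T : Subgroup G) [Fintype T]
    (H' : Subgroup T) (θ' : H' → ℂ) :
    Cfsg.indFun T (Cfsg.indFun H' θ') =
      Cfsg.indFun (H'.map T.subtype) (fun h => θ' (mapSubtypeHom T H' h)) := by
  set H : Subgroup G := H'.map T.subtype with hH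
  have hHT : H ≤ T := Subgroup.map_subtype_le H'
  have key := Cfsg.Agent.Lib.Helper04.indFun_trans H T hHT
    (fun h => θ' (mapSubtypeHom T H' h))
  rw [← key]
  congr 1
  have hsub : H.subgroupOf T = H' := by
    ext x
    rw [Subgroup.mem_subgroupOf, hH, Subgroup.mem_map]
    constructor
    · rintro ⟨y, hy, hyx⟩
      have : y = x := Subtype.ext hyx
      rwa [← this]
    · intro hx
      exact ⟨x, hx, rfl⟩
  symm
  apply indFun_congr_subgroup hsub
  intro x h₁ h₂
  rfl

theorem isMonomialChar_induce {G : Type*} [Group G] [Fintype G] (T : Subgroup G) [Fintype T]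
    {ψ : T → ℂ} (hψ : IsMonomialChar T ψ) : IsMonomialChar G (Cfsg.indFun T ψ) := by
  obtain ⟨H', lam, rfl⟩ := hψ
  refine ⟨H'.map T.subtype, lam.comp (mapSubtypeHom T H'), ?_⟩
  rw [indFun_indFun_subtype]
  rfl

/-- Induction commutes with inflation from a quotient. -/
theorem indFun_comap_mk {G : Type*} [Group G] [Fintype G] (N : Subgroup G) [N.Normal]
    [Fintype (G ⧸ N)] (Hbar : Subgroup (G ⧸ N)) (θ : Hbar → ℂ) (g : G) :
    Cfsg.indFun (Hbar.comap (QuotientGroup.mk' N))
      (fun h => θ ⟨QuotientGroup.mk' N h.1, h.2⟩) g =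
    Cfsg.indFun Hbar θ (QuotientGroup.mk g) := by
  classical
  rw [Cfsg.Agent.Lib.Helper04.indFun_apply, Cfsg.Agent.Lib.Helper04.indFun_apply]
  have hext : ∀ y : G, Cfsg.extendByZero (Hbar.comap (QuotientGroup.mk' N))
      (fun h => θ ⟨QuotientGroup.mk' N h.1, h.2⟩) y =
      Cfsg.extendByZero Hbar θ (QuotientGroup.mk y) := by
    intro y
    by_cases hy : y ∈ Hbar.comap (QuotientGroup.mk' N)
    · rw [Cfsg.Agent.Lib.Helper04.extendByZero_apply_of_mem _ _ y hy,
        Cfsg.Agent.Lib.Helper04.extendByZero_apply_of_mem Hbar θ (QuotientGroup.mk y) hy]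
      rfl
    · rw [Cfsg.Agent.Lib.Helper04.extendByZero_apply_not_mem _ _ y hy,
        Cfsg.Agent.Lib.Helper04.extendByZero_apply_not_mem Hbar θ (QuotientGroup.mk y) hy]
  have hsum : ∑ x : G, Cfsg.extendByZero (Hbar.comap (QuotientGroup.mk' N))
      (fun h => θ ⟨QuotientGroup.mk' N h.1, h.2⟩) (x⁻¹ * g * x) =
      (Nat.card N : ℂ) * ∑ q : G ⧸ N,
        Cfsg.extendByZero Hbar θ (q⁻¹ * (QuotientGroup.mk g) * q) := by
    rw [← Cfsg.Agent.Lib.Helper83.sum_comp_quotient_mk N
      (fun q => Cfsg.extendByZero Hbar θ (q⁻¹ * (QuotientGroup.mk g) * q))]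
    apply Finset.sum_congr rfl
    intro x _
    rw [hext]
    rfl
  rw [hsum]
  have hcard : Nat.card (Hbar.comap (QuotientGroup.mk' N)) = Nat.card N * Nat.card Hbar := by
    have h1 : (Hbar.comap (QuotientGroup.mk' N)).index = Hbar.index :=
      Subgroup.index_comap_of_surjective Hbar (QuotientGroup.mk'_surjective N)
    have h2 := Subgroup.card_mul_index (Hbar.comap (QuotientGroup.mk' N))
    have h3 := Subgroup.card_mul_index Hbar
    have h4 := Subgroup.card_mul_index N
    have h5 : Nat.card (G ⧸ N) = N.index := rfl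
    have hpos : 0 < Hbar.index := Nat.pos_of_ne_zero Subgroup.index_ne_zero_of_finite
    rw [h1] at h2
    have : Nat.card (Hbar.comap (QuotientGroup.mk' N)) * Hbar.index =
        (Nat.card N * Nat.card Hbar) * Hbar.index := by
      rw [h2, mul_assoc, h3, h5, h4]
    exact Nat.eq_of_mul_eq_mul_right hpos this
  rw [hcard]
  have hN0 : (Nat.card N : ℂ) ≠ 0 := by
    have : 0 < Nat.card N := Nat.card_pos
    exact_mod_cast this.ne'
  have hH0 : (Nat.card Hbar : ℂ) ≠ 0 := by
    have : 0 < Nat.card Hbar := Nat.card_pos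
    exact_mod_cast this.ne'
  push_cast
  field_simp

theorem isMonomialChar_inflate {G : Type*} [Group G] [Fintype G] (N : Subgroup G) [N.Normal]
    [Fintype (G ⧸ N)] {ψ : G ⧸ N → ℂ} (hψ : IsMonomialChar (G ⧸ N) ψ) :
    IsMonomialChar G (fun g => ψ (QuotientGroup.mk g)) := by
  obtain ⟨Hbar, lam, rfl⟩ := hψ
  refine ⟨Hbar.comap (QuotientGroup.mk' N),
    lam.comp ((QuotientGroup.mk' N).subgroupComap Hbar), ?_⟩
  funext g
  rw [← indFun_comap_mk]
  rfl

end Cfsg.Agent.Lib.Helper80
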