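import Mathlib
import Cfsg.Agent.Lib.Helper83.Decompose
import Cfsg.Agent.Lib.Helper83.Linear
import Cfsg.Agent.Lib.Helper85.CliffordAbelian
import Cfsg.Agent.S0887

/-!
# Miscellaneous character lemmas (helper80)
-/

set_option autoImplicit false
set_option linter.style.haveILetI false

namespace Cfsg.Agent.Lib.Helper80

open Cfsg

universe u

section

variable {G : Type u} [Group G]

/-- A character of degree zero vanishes. -/
theorem char_eq_zero_of_degree_zero {φ : G → ℂ} (hφ : IsCharacter G φ) (h : φ 1 = 0) :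
    φ = 0 := by
  obtain ⟨n, ρ, rfl⟩ := hφ
  rw [Cfsg.Agent.Lib.Helper83.rep_char_one] at h
  have hn : n = 0 := by exact_mod_cast h
  subst hn
  funext g
  have : ρ g = 0 := Subsingleton.elim _ _
  simp [Representation.character, this]

/-- A character containing an irreducible character of the same degree equals it. -/
theorem char_eq_of_constituent_degree [Fintype G] {φ ψ : G → ℂ} (hφ : IsCharacter G φ)
    (hψ : IsIrrCharacter G ψ) (hin : classInner φ ψ ≠ 0) (hdeg : φ 1 = ψ 1) : φ = ψ := by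
  classical
  have hψc := Cfsg.Agent.Lib.Helper83.isCharacter_of_irr hψ
  have hcf : IsClassFunction G (φ - ψ) :=
    Cfsg.Agent.Lib.Helper83.isClassFunction_sub
      (Cfsg.Agent.Lib.Helper83.char_isClassFunction hφ)
      (Cfsg.Agent.Lib.Helper83.char_isClassFunction hψc)
  have hchar : IsCharacter G (φ - ψ) := by
    apply Cfsg.Agent.Lib.Helper83.isCharacter_of_classInner_nat hcf
    intro τ
    rw [Cfsg.Agent.Lib.Helper83.classInner_sub_left]
    obtain ⟨m, hm⟩ := Cfsg.Agent.Lib.Helper83.classInner_char_nat hφ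
      (Cfsg.Agent.Lib.Helper83.IrrCharacter_isCharacter τ)
    have h2 := Cfsg.Agent.Lib.Helper83.irr_orthonormal ⟨ψ, hψ⟩ τ
    simp only at h2
    rw [hm, h2]
    by_cases hτ : (⟨ψ, hψ⟩ : IrrCharacter G) = τ
    · rw [if_pos hτ]
      have hm0 : m ≠ 0 := by
        intro h0
        apply hin
        have : (τ : G → ℂ) = ψ := by rw [← hτ]
        rw [this] at hm
        rw [hm, h0]; simp
      refine ⟨m - 1, ?_⟩
      have : 1 ≤ m := Nat.one_le_iff_ne_zero.mpr hm0
      push_cast [this]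
      ring
    · rw [if_neg hτ]
      exact ⟨m, by simp⟩
  have h0 := char_eq_zero_of_degree_zero hchar (by simp [hdeg])
  exact sub_eq_zero.mp h0

/-- If `N ⊴ G` has `p`-power index and `χ ∈ Irr(G)` has degree prime to `p`, then `χ` restricts
irreducibly to `N`. -/
theorem restrict_irr_of_ppow_index [Fintype G] (N : Subgroup G) [N.Normal] (p a : ℕ)
    (hp : p.Prime) (hidx : N.index = p ^ a) {χ : G → ℂ} (hχ : IsIrrCharacter G χ) (c : ℕ)
    (hc : χ 1 = c) (hpc : ¬ p ∣ c) : IsIrrCharacter N (fun n : N => χ n) := by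
  classical
  haveI : Fintype N := Fintype.ofFinite N
  have hχc := Cfsg.Agent.Lib.Helper83.isCharacter_of_irr hχ
  have hres : IsCharacter N (fun n : N => χ n) :=
    Cfsg.Agent.Lib.Helper83.isCharacter_restrict N hχc
  have hc0 : (c : ℂ) ≠ 0 := by
    rw [← hc]; exact Cfsg.Agent.Lib.Helper83.irr_degree_ne_zero ⟨χ, hχ⟩
  have h1 : (fun n : N => χ n) 1 ≠ 0 := by
    show χ ((1 : N) : G) ≠ 0
    rw [OneMemClass.coe_one, hc]; exact hc0
  obtain ⟨ϑ, hϑ, hcon⟩ := Cfsg.Agent.Lib.Helper85.exists_irr_constituent hres h1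
  obtain ⟨d, hd⟩ := Cfsg.Agent.Lib.Helper83.char_one_eq_nat
    (Cfsg.Agent.Lib.Helper83.isCharacter_of_irr hϑ)
  obtain ⟨hdc, hquot⟩ := Cfsg.Agent.S0887.result N χ hχ ϑ hϑ hcon c d hc hd
  have hd0 : d ≠ 0 := by
    intro h0
    have := Cfsg.Agent.Lib.Helper83.irr_degree_ne_zero ⟨ϑ, hϑ⟩
    apply this
    show ϑ 1 = 0
    rw [hd, h0]; simp
  have hq1 : c / d = 1 := by
    rw [hidx] at hquot
    obtain ⟨j, _, hj⟩ := (Nat.dvd_prime_pow hp).mp hquot
    by_contra hne
    have hj0 : j ≠ 0 := by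
      intro h0; rw [h0, pow_zero] at hj; exact hne hj
    apply hpc
    have h2 : p ∣ c / d := by rw [hj]; exact dvd_pow_self p hj0
    exact h2.trans (Nat.div_dvd_of_dvd hdc)
  have hcd : c = d := by
    have := Nat.div_mul_cancel hdc
    rw [hq1, one_mul] at this
    exact this.symm
  have heq : (fun n : N => χ n) = ϑ := by
    apply char_eq_of_constituent_degree hres hϑ hcon
    show χ ((1 : N) : G) = ϑ 1
    rw [OneMemClass.coe_one, hc, hd, hcd]
  rw [heq]; exact hϑ

end

end Cfsg.Agent.Lib.Helper80
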