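import Mathlib
import Cfsg.Prelude.Def_Characters
import Cfsg.Agent.Lib.Helper80.GaloisChar

/-!
# Galois action on character values (helper80)

* `exists_rat_of_pow_invariant` : a sum of `n`-th roots of unity invariant under all coprime
  power maps is rational.
* `char_pow_eq_apply` : `χ (g ^ k) = τ (χ g)` for `τ` raising `|G|`-th roots of unity to the
  `k`-th power.
* `char_pow_eq_of_rat`, `char_rat_of_conj_pow`.
-/

set_option autoImplicit false

namespace Cfsg.Agent.Lib.Helper80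

open Polynomial

theorem exists_rat_of_pow_invariant_aux (n : ℕ) (hn : 0 < n) {ι : Type*} [Fintype ι]
    (μ : ι → ℂ) (hμ : ∀ i, μ i ^ n = 1)
    (hinv : ∀ m : ℕ, m.Coprime n → ∑ i, μ i ^ m = ∑ i, μ i)
    (L : Type) [Field L] [Algebra ℚ L] [IsCyclotomicExtension {n} ℚ L] :
    ∃ q : ℚ, ∑ i, μ i = (q : ℂ) := by
  haveI : NeZero n := ⟨hn.ne'⟩
  have hζ : IsPrimitiveRoot (IsCyclotomicExtension.zeta n ℚ L) n :=
    IsCyclotomicExtension.zeta_spec n ℚ L
  generalize IsCyclotomicExtension.zeta n ℚ L = ζ at hζ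
  haveI : FiniteDimensional ℚ L := IsCyclotomicExtension.finiteDimensional {n} ℚ L
  haveI : IsGalois ℚ L := IsCyclotomicExtension.isGalois {n} ℚ L
  let φ : L →+* ℂ := (IsAlgClosed.lift (R := ℚ) (S := L) (M := ℂ)).toRingHom
  have hφζ : IsPrimitiveRoot (φ ζ) n := hζ.map_of_injective φ.injective
  have hex : ∀ i, ∃ a : ℕ, φ ζ ^ a = μ i := by
    intro i
    obtain ⟨a, -, ha⟩ := hφζ.eq_pow_of_pow_eq_one (hμ i)
    exact ⟨a, ha⟩
  choose a ha using hex
  let x : L := ∑ i, ζ ^ a i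
  have hφx : φ x = ∑ i, μ i := by
    simp only [x, map_sum, map_pow, ha]
  have hfix : ∀ σ : L ≃ₐ[ℚ] L, σ x = x := by
    intro σ
    have hσζ : IsPrimitiveRoot (σ ζ) n := hζ.map_of_injective σ.injective
    obtain ⟨m, -, hm⟩ := hζ.eq_pow_of_pow_eq_one hσζ.pow_eq_one
    have hcop : m.Coprime n := by
      rw [← hm] at hσζ
      exact (hζ.pow_iff_coprime hn m).1 hσζ
    apply φ.injective
    rw [hφx, ← hinv m hcop]
    simp only [x, map_sum, map_pow, ← hm, ← ha]
    apply Finset.sum_congr rfl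
    intro i _
    rw [← pow_mul, ← pow_mul, mul_comm]
  obtain ⟨q, hq⟩ := (IsGalois.mem_range_algebraMap_iff_fixed x).2 hfix
  refine ⟨q, ?_⟩
  rw [← hφx, ← hq, eq_ratCast (algebraMap ℚ L) q, map_ratCast]

/-- A sum of `n`-th roots of unity that is invariant under all coprime power maps is rational. -/
theorem exists_rat_of_pow_invariant (n : ℕ) (hn : 0 < n) {ι : Type*} [Fintype ι]
    (μ : ι → ℂ) (hμ : ∀ i, μ i ^ n = 1)
    (hinv : ∀ m : ℕ, m.Coprime n → ∑ i, μ i ^ m = ∑ i, μ i) :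
    ∃ q : ℚ, ∑ i, μ i = (q : ℂ) :=
  haveI : NeZero n := ⟨hn.ne'⟩
  @exists_rat_of_pow_invariant_aux n hn ι _ μ hμ hinv (CyclotomicField n ℚ) _
    (CyclotomicField.algebra n ℚ) _

/-- The value of a character at `g ^ k` is the image of its value at `g` under any ring
endomorphism of `ℂ` raising `|G|`-th roots of unity to the `k`-th power. -/
theorem char_pow_eq_apply {G : Type*} [Group G] [Finite G] {χ : G → ℂ}
    (hχ : Cfsg.IsCharacter G χ) (k : ℕ) (τ : ℂ →+* ℂ)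
    (hτ : ∀ ζ : ℂ, ζ ^ Nat.card G = 1 → τ ζ = ζ ^ k) (g : G) :
    χ (g ^ k) = τ (χ g) := by
  obtain ⟨d, ρ, rfl⟩ := hχ
  obtain ⟨b, μ, hμ, -, hk', -⟩ :=
    Cfsg.Agent.Lib.Helper05.exists_eigenvalues ρ g (isOfFinOrder_of_finite g)
  have h1 := hk' 1
  rw [pow_one] at h1
  rw [h1, hk' k, map_sum]
  apply Finset.sum_congr rfl
  intro i _
  rw [pow_one]
  symm
  apply hτ
  obtain ⟨m, hm⟩ := orderOf_dvd_natCard g
  rw [hm, pow_mul, hμ, one_pow]

/-- A rational character value is unchanged by coprime power maps. -/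
theorem char_pow_eq_of_rat {G : Type*} [Group G] [Finite G] {χ : G → ℂ}
    (hχ : Cfsg.IsCharacter G χ) (k : ℕ) (hk : k.Coprime (Nat.card G)) (g : G) (q : ℚ)
    (hq : χ g = (q : ℂ)) : χ (g ^ k) = χ g := by
  obtain ⟨τ, hτ⟩ := exists_ringEquiv_pow (Nat.card G) Nat.card_pos k hk
  rw [char_pow_eq_apply hχ k τ.toRingHom hτ g, hq]
  exact map_ratCast τ.toRingHom q

/-- If `g` is conjugate to all its coprime powers then every character is rational at `g`. -/
theorem char_rat_of_conj_pow {G : Type*} [Group G] [Finite G] {χ : G → ℂ}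
    (hχ : Cfsg.IsCharacter G χ) (g : G)
    (hg : ∀ m : ℕ, m.Coprime (Nat.card G) → IsConj g (g ^ m)) :
    ∃ q : ℚ, χ g = (q : ℂ) := by
  obtain ⟨d, ρ, rfl⟩ := hχ
  obtain ⟨b, μ, hμ, -, hk', -⟩ :=
    Cfsg.Agent.Lib.Helper05.exists_eigenvalues ρ g (isOfFinOrder_of_finite g)
  have h1 := hk' 1
  simp only [pow_one] at h1
  have hμn : ∀ i, μ i ^ Nat.card G = 1 := by
    intro i
    obtain ⟨m, hm⟩ := orderOf_dvd_natCard g
    rw [hm, pow_mul, hμ, one_pow]
  obtain ⟨q, hq⟩ := exists_rat_of_pow_invariant (Nat.card G) Nat.card_pos μ hμn (by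
    intro m hm
    rw [← hk' m, ← h1]
    obtain ⟨c, hc⟩ := isConj_iff.1 (hg m hm)
    rw [← hc, Representation.char_conj])
  exact ⟨q, by rw [h1, hq]⟩

end Cfsg.Agent.Lib.Helper80
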