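import Mathlib
import Cfsg.Prelude.Def_Blocks
import Cfsg.Agent.Lib.Helper70.IPDefs
import Cfsg.Agent.Lib.Helper22.BlockRegular
import Cfsg.Agent.Lib.Helper83.Abelian
import Cfsg.Agent.Lib.Helper83.Linear

/-!
# K-IP case A leaves 446321 IPA-EXT `ext_of_degree_eq` and 446325 IPA-VANLT `lt_of_vanish` (helper80)
-/

set_option autoImplicit false

namespace Cfsg.Agent.Lib.Helper80.IPA

open Cfsg Cfsg.Agent.Lib.Helper70.IP
open scoped ComplexConjugate

universe u

/-- If `χ ∈ Irr(G)` lies over `ψ ∈ Irr(H)` and `χ(1) ≤ ψ(1)`, then `χ_H = ψ`. -/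
theorem restrict_eq_of_degree_le {G : Type u} [Group G] [Fintype G] (H : Subgroup G) [Fintype H]
    (χ : IrrCharacter G) (ψ : IrrCharacter H)
    (hne : classInner (fun h : H => (χ : G → ℂ) h) (ψ : H → ℂ) ≠ 0)
    (hdeg : charDegree (χ : G → ℂ) ≤ charDegree (ψ : H → ℂ)) :
    (fun h : H => (χ : G → ℂ) h) = (ψ : H → ℂ) := by
  classical
  haveI : Fintype (IrrCharacter H) := Fintype.ofFinite _
  set φ : H → ℂ := fun h : H => (χ : G → ℂ) h with hφ
  have hχc := Helper83.IrrCharacter_isCharacter χ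
  have hφc : IsCharacter H φ := Helper83.isCharacter_restrict H hχc
  have hdec := Helper83.char_eq_sum_irrMult hφc
  have h1 : (charDegree (χ : G → ℂ) : ℂ) =
      ∑ θ : IrrCharacter H, ((Helper83.irrMult φ θ * charDegree (θ : H → ℂ) : ℕ) : ℂ) := by
    rw [Helper83.charDegree_cast hχc]
    have h2 := congrFun hdec 1
    rw [Finset.sum_apply] at h2
    have h3 : φ 1 = (χ : G → ℂ) 1 := rfl
    rw [← h3, h2]
    apply Finset.sum_congr rfl
    intro θ _
    rw [Pi.smul_apply, smul_eq_mul, Nat.cast_mul,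
      Helper83.charDegree_cast (Helper83.IrrCharacter_isCharacter θ)]
  have h1n : charDegree (χ : G → ℂ) =
      ∑ θ : IrrCharacter H, Helper83.irrMult φ θ * charDegree (θ : H → ℂ) := by
    rw [← Nat.cast_sum] at h1
    exact_mod_cast h1
  have hmψ : Helper83.irrMult φ ψ ≠ 0 := by
    intro h0
    apply hne
    rw [← Helper83.irrMult_cast hφc ψ, h0, Nat.cast_zero]
  have hdψ : 0 < charDegree (ψ : H → ℂ) := Helper83.irr_charDegree_pos ψ
  have hm1 : Helper83.irrMult φ ψ = 1 := by
    have hle : Helper83.irrMult φ ψ * charDegree (ψ : H → ℂ) ≤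
        ∑ θ : IrrCharacter H, Helper83.irrMult φ θ * charDegree (θ : H → ℂ) :=
      Finset.single_le_sum (f := fun θ : IrrCharacter H =>
        Helper83.irrMult φ θ * charDegree (θ : H → ℂ)) (fun _ _ => Nat.zero_le _)
        (Finset.mem_univ ψ)
    rw [← h1n] at hle
    have : Helper83.irrMult φ ψ * charDegree (ψ : H → ℂ) ≤ 1 * charDegree (ψ : H → ℂ) := by
      rw [one_mul]; exact hle.trans hdeg
    have := Nat.le_of_mul_le_mul_right this hdψ
    omega
  have hm0 : ∀ θ : IrrCharacter H, θ ≠ ψ → Helper83.irrMult φ θ = 0 := by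
    intro θ hθ
    by_contra h0
    have hdθ : 0 < charDegree (θ : H → ℂ) := Helper83.irr_charDegree_pos θ
    have hsub : ({ψ, θ} : Finset (IrrCharacter H)) ⊆ Finset.univ := Finset.subset_univ _
    have hle := Finset.sum_le_sum_of_subset (f := fun θ : IrrCharacter H =>
        Helper83.irrMult φ θ * charDegree (θ : H → ℂ)) hsub
    rw [Finset.sum_pair (Ne.symm hθ), ← h1n, hm1, one_mul] at hle
    have : 0 < Helper83.irrMult φ θ * charDegree (θ : H → ℂ) :=
      Nat.mul_pos (Nat.pos_of_ne_zero h0) hdθ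
    omega
  rw [hdec]
  rw [Finset.sum_eq_single ψ]
  · rw [hm1, Nat.cast_one, one_smul]
  · intro θ _ hθ
    rw [hm0 θ hθ, Nat.cast_zero, zero_smul]
  · intro h; exact absurd (Finset.mem_univ ψ) h

/-- 446321 IPA-EXT: a character of a subgroup whose degree reaches the bound extends. -/
theorem ext_of_degree_eq {G : Type u} [Group G] [Finite G] (b : ℕ) (hb : DegLE G b) (H : Subgroup G)
    {σ : H → ℂ} (hσ : IsIrrCharacter H σ) (hdeg : b ≤ charDegree σ) :
    ∃ χ : G → ℂ, IsIrrCharacter G χ ∧ charDegree χ = b ∧ ∀ h : H, χ h = σ h := by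
  classical
  haveI : Fintype G := Fintype.ofFinite G
  haveI : Fintype H := Fintype.ofFinite H
  obtain ⟨χ, hχ⟩ := Helper22.exists_irr_over H (⟨σ, hσ⟩ : IrrCharacter H)
  have hres := restrict_eq_of_degree_le H χ ⟨σ, hσ⟩ hχ ((hb χ).trans hdeg)
  have hσc : IsCharacter H σ := Helper83.IrrCharacter_isCharacter (⟨σ, hσ⟩ : IrrCharacter H)
  have hχc := Helper83.IrrCharacter_isCharacter χ
  refine ⟨(χ : G → ℂ), χ.2, ?_, fun h => congrFun hres h⟩
  have h1 : (χ : G → ℂ) 1 = σ 1 := congrFun hres 1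
  have h2 : (charDegree (χ : G → ℂ) : ℂ) = (charDegree σ : ℂ) := by
    rw [Helper83.charDegree_cast hχc, Helper83.charDegree_cast hσc, h1]
  have h3 : charDegree (χ : G → ℂ) = charDegree σ := by exact_mod_cast h2
  have := hb χ
  omega

/-- 446325 IPA-VANLT: in a group `N` whose characters of the top degree `b` vanish off `K`, every
proper subgroup `H ≥ K` has all degrees `< b`. -/
theorem lt_of_vanish {N : Type u} [Group N] [Finite N] (b : ℕ) (hb : DegLE N b) (K H : Subgroup N)
    (hKH : K ≤ H) (hH : H ≠ ⊤)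
    (hvan : ∀ ψ : N → ℂ, IsIrrCharacter N ψ → charDegree ψ = b → ∀ x : N, x ∉ K → ψ x = 0) :
    ∀ σ : IrrCharacter H, charDegree (σ : H → ℂ) < b := by
  classical
  haveI : Fintype N := Fintype.ofFinite N
  haveI : Fintype H := Fintype.ofFinite H
  intro σ
  by_contra hcon
  push Not at hcon
  obtain ⟨ψ, hψ, hψb, hψσ⟩ := ext_of_degree_eq b hb H σ.2 hcon
  have hv := hvan ψ hψ hψb
  have hsN := Helper83.irr_sum_normSq (⟨ψ, hψ⟩ : IrrCharacter N)
  have hsH := Helper83.irr_sum_normSq σ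
  have heq : ∑ x : N, Complex.normSq (ψ x) = ∑ h : H, Complex.normSq ((σ : H → ℂ) h) := by
    have h1 : ∑ x : N, Complex.normSq (ψ x) =
        ∑ x ∈ Finset.univ.filter (fun x : N => x ∈ H), Complex.normSq (ψ x) := by
      rw [Finset.sum_filter]
      apply Finset.sum_congr rfl
      intro x _
      split_ifs with hx
      · rfl
      · rw [hv x (fun hxK => hx (hKH hxK))]; simp
    rw [h1, Finset.sum_subtype (p := (· ∈ H)) _ (by simp)]
    apply Finset.sum_congr rfl
    intro h _
    rw [hψσ h]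
  have hcard : Nat.card H = Nat.card N := by
    have : (Nat.card N : ℝ) = (Nat.card H : ℝ) := by
      rw [← hsN, ← hsH]; exact heq
    exact_mod_cast this.symm
  exact hH (Subgroup.eq_top_of_card_eq H hcard)

end Cfsg.Agent.Lib.Helper80.IPA
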