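import Mathlib
import Cfsg.Prelude.Def_Local
import Cfsg.Agent.Lib.Helper12.LBDefs
import Cfsg.Agent.Lib.Helper29.LBalance
import Cfsg.Agent.Lib.Helper28.Quasisimple

/-!
# K-S1301-LB-SUB: descent of a component-like subgroup to a subgroup
-/

set_option autoImplicit false
set_option linter.style.haveILetI false
universe u

namespace Cfsg.Agent.Lib.Helper80.LB

open Cfsg Cfsg.Agent.Lib.Helper12.LB

variable {G : Type u} [Group G] [Finite G]

omit [Finite G] in
/-- a quasisimple group is nontrivial -/
theorem nontrivial_of_quasisimple {X : Type*} [Group X] (h : IsQuasisimple X) : Nontrivial X := by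
  by_contra hne
  rw [not_nontrivial_iff_subsingleton] at hne
  haveI := h.2
  obtain ⟨a, b, hab⟩ := (inferInstance : Nontrivial (X ⧸ Subgroup.center X))
  apply hab
  obtain ⟨a', rfl⟩ := QuotientGroup.mk_surjective a
  obtain ⟨b', rfl⟩ := QuotientGroup.mk_surjective b
  rw [Subsingleton.elim a' b']

omit [Finite G] in
/-- a homomorphic image `≠ 1` of a quasisimple group is quasisimple -/
theorem quasisimple_of_surjective {X Y : Type*} [Group X] [Group Y] (hX : IsQuasisimple X)
    (θ : X →* Y) (hθ : Function.Surjective θ) (hne : θ.ker ≠ ⊤) : IsQuasisimple Y := by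
  rcases Cfsg.Agent.Lib.Helper28.quasisimple_subnormal hX θ.ker
    (Subgroup.Normal.isSubnormal inferInstance) with h | h
  · exact absurd h hne
  · have h1 := Cfsg.Agent.Lib.Helper29.qs_quotient_central hX θ.ker h
    exact Cfsg.Agent.Lib.Helper28.quasisimple_of_mulEquiv
      (QuotientGroup.quotientKerEquivOfSurjective θ hθ) h1

theorem compLike_descent (N U Q Q₃ : Subgroup G) (hUN : U ≤ N) (hQ : QC N Q) (h3U : Q₃ ≤ U)
    (h1 : Q₃ ≤ Q ⊔ OG N) (h2 : Q ≤ Q₃ ⊔ OG N) : CompLike U Q₃ := by
  classical
  haveI : Fact (Nat.Prime 2) := ⟨Nat.prime_two⟩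
  have hQN : Q ≤ N := hQ.comp.1
  have hcomp : IsComponent (img N Q) := hQ.comp.2
  have h3N : Q₃ ≤ N := h3U.trans hUN
  set ON' : Subgroup ↥N := pPrimeCore 2 ↥N with hON'
  set OU' : Subgroup ↥U := pPrimeCore 2 ↥U with hOU'
  set fN : ↥N →* ↥N ⧸ ON' := QuotientGroup.mk' ON' with hfN
  set fU : ↥U →* ↥U ⧸ OU' := QuotientGroup.mk' OU' with hfU
  have hfNker : fN.ker = ON' := QuotientGroup.ker_mk' ON'
  have hfUker : fU.ker = OU' := QuotientGroup.ker_mk' OU'
  have hfNs : Function.Surjective fN := QuotientGroup.mk'_surjective ON'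
  have hfUs : Function.Surjective fU := QuotientGroup.mk'_surjective OU'
  have hOGsub : (OG N).subgroupOf N = ON' := by
    unfold OG
    exact Subgroup.comap_map_eq_self_of_injective N.subtype_injective _
  have himgN : ∀ X : Subgroup G, img N X = (X.subgroupOf N).map fN := fun _ => rfl
  have himgU : ∀ X : Subgroup G, img U X = (X.subgroupOf U).map fU := fun _ => rfl
  -- monotonicity of images modulo `O(N)`
  have himg_le : ∀ X Y : Subgroup G, X ≤ N → Y ≤ N → X ≤ Y ⊔ OG N → img N X ≤ img N Y := by
    intro X Y hX hY hXY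
    rw [himgN, himgN]
    have h3 : X.subgroupOf N ≤ Y.subgroupOf N ⊔ ON' := by
      rw [← hOGsub, ← Subgroup.subgroupOf_sup hY (OG_le N)]
      exact Subgroup.subgroupOf_mono N hXY
    refine (Subgroup.map_mono h3).trans ?_
    rw [Subgroup.map_sup]
    have h4 : ON'.map fN = ⊥ := by
      rw [Subgroup.map_eq_bot_iff, hfNker]
    rw [h4, sup_bot_eq]
  have himg_eq : img N Q₃ = img N Q :=
    le_antisymm (himg_le _ _ h3N hQN h1) (himg_le _ _ hQN h3N h2)
  have hcomp3 : IsComponent (img N Q₃) := by rw [himg_eq]; exact hcomp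
  -- the inclusion
  set ι : ↥U →* ↥N := Subgroup.inclusion hUN with hι
  have hιinj : Function.Injective ι := Subgroup.inclusion_injective hUN
  have hιval : ∀ u : ↥U, ((ι u : ↥N) : G) = (u : G) := fun _ => rfl
  -- `D`, the part of `O(N)` inside `U`
  set D : Subgroup ↥U := ON'.comap ι with hD
  haveI hDn : D.Normal := Subgroup.Normal.comap inferInstance ι
  have hDle : D ≤ OU' := by
    apply Cfsg.Agent.Lib.Helper29.normal_le_pPrimeCore 2 D
    have hdvd : Nat.card D ∣ Nat.card ON' := by
      apply Subgroup.card_dvd_of_injective (ι.subgroupComap ON')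
      intro a b hab
      apply Subtype.ext
      apply hιinj
      have := congrArg Subtype.val hab
      exact this
    exact Nat.Coprime.coprime_dvd_left hdvd (Cfsg.Agent.Lib.Helper29.pPrimeCore_coprime 2)
  refine ⟨h3U, ?_, ?_⟩
  · -- subnormality
    have hW : ((img N Q₃).comap fN).IsSubnormal := hcomp3.1.comap fN
    have hWU : (((img N Q₃).comap fN).comap ι).IsSubnormal := hW.comap ι
    have hmap := hWU.map (f := fU) hfUs
    have hident : (((img N Q₃).comap fN).comap ι).map fU = img U Q₃ := by
      have e1 : (img N Q₃).comap fN = Q₃.subgroupOf N ⊔ ON' := by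
        rw [himgN, Subgroup.comap_map_eq, hfNker]
      have e2 : (Q₃.subgroupOf N ⊔ ON').comap ι = Q₃.subgroupOf U ⊔ D := by
        apply le_antisymm
        · intro u hu
          rw [Subgroup.mem_comap, Subgroup.mem_sup_of_normal_right] at hu
          obtain ⟨a, ha, b, hb, hab⟩ := hu
          have haQ : (a : G) ∈ Q₃ := Subgroup.mem_subgroupOf.mp ha
          let a' : ↥U := ⟨(a : G), h3U haQ⟩
          have ha' : ι a' = a := Subtype.ext rfl
          have ha'Q : a' ∈ Q₃.subgroupOf U := Subgroup.mem_subgroupOf.mpr haQ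
          have hbD : a'⁻¹ * u ∈ D := by
            rw [hD, Subgroup.mem_comap, map_mul, map_inv, ha', ← hab]
            simpa using hb
          have : u = a' * (a'⁻¹ * u) := by group
          rw [this]
          exact Subgroup.mul_mem_sup ha'Q hbD
        · apply sup_le
          · intro u hu
            rw [Subgroup.mem_comap]
            apply Subgroup.mem_sup_left
            exact Subgroup.mem_subgroupOf.mpr (Subgroup.mem_subgroupOf.mp hu)
          · intro u hu
            rw [Subgroup.mem_comap]
            exact Subgroup.mem_sup_right hu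
      rw [e1, e2, Subgroup.map_sup, himgU]
      have h4 : D.map fU = ⊥ := by
        rw [Subgroup.map_eq_bot_iff, hfUker]
        exact hDle
      rw [h4, sup_bot_eq]
    rw [hident] at hmap
    exact hmap
  · -- quasisimplicity
    have hqs : IsQuasisimple ↥(img N Q₃) := hcomp3.2
    -- the two surjections from `Q₃ ∩ U`
    let gU : ↥(Q₃.subgroupOf U) →* ↥(img U Q₃) := fU.subgroupMap (Q₃.subgroupOf U)
    have hgUs : Function.Surjective gU := fU.subgroupMap_surjective (Q₃.subgroupOf U)
    let j : ↥(Q₃.subgroupOf U) →* ↥(Q₃.subgroupOf N) :=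
      { toFun := fun a => ⟨ι a.1, Subgroup.mem_subgroupOf.mpr (Subgroup.mem_subgroupOf.mp a.2)⟩
        map_one' := by
          apply Subtype.ext
          simp
        map_mul' := fun a b => by
          apply Subtype.ext
          simp }
    have hjs : Function.Surjective j := by
      intro b
      have hbQ : ((b : ↥N) : G) ∈ Q₃ := Subgroup.mem_subgroupOf.mp b.2
      refine ⟨⟨⟨((b : ↥N) : G), h3U hbQ⟩, Subgroup.mem_subgroupOf.mpr hbQ⟩, ?_⟩
      apply Subtype.ext
      apply Subtype.ext
      rfl
    let gN : ↥(Q₃.subgroupOf U) →* ↥(img N Q₃) := (fN.subgroupMap (Q₃.subgroupOf N)).comp j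
    have hgNs : Function.Surjective gN :=
      (fN.subgroupMap_surjective (Q₃.subgroupOf N)).comp hjs
    have hgNval : ∀ a, ((gN a : ↥(img N Q₃)) : ↥N ⧸ ON') = fN (ι a.1) := fun _ => rfl
    have hgUval : ∀ a, ((gU a : ↥(img U Q₃)) : ↥U ⧸ OU') = fU a.1 := fun _ => rfl
    have hker : gN.ker ≤ gU.ker := by
      intro a ha
      rw [MonoidHom.mem_ker] at ha ⊢
      have h3 : fN (ι a.1) = 1 := by
        rw [← hgNval, ha]
        rfl
      have h4 : a.1 ∈ D := by
        rw [hD, Subgroup.mem_comap, ← hfNker, MonoidHom.mem_ker]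
        exact h3
      have h5 : fU a.1 = 1 := by
        rw [← MonoidHom.mem_ker, hfUker]
        exact hDle h4
      apply Subtype.ext
      rw [hgUval, h5]
      rfl
    let θ : ↥(img N Q₃) →* ↥(img U Q₃) := gN.liftOfSurjective hgNs ⟨gU, hker⟩
    have hθ : ∀ a, θ (gN a) = gU a := by
      intro a
      have := gN.liftOfRightInverse_comp_apply (Function.surjInv hgNs)
        (Function.rightInverse_surjInv hgNs) ⟨gU, hker⟩ a
      exact this
    have hθs : Function.Surjective θ := by
      intro t
      obtain ⟨a, rfl⟩ := hgUs t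
      exact ⟨gN a, hθ a⟩
    refine quasisimple_of_surjective hqs θ hθs ?_
    intro htop
    -- every element of `img N Q₃` has odd order
    have hodd : (Nat.card ↥(img N Q₃)).Coprime 2 := by
      apply Cfsg.Agent.Lib.Helper29.card_coprime_of_forall_orderOf
      intro x
      obtain ⟨a, rfl⟩ := hgNs x
      have h3 : gN a ∈ θ.ker := by rw [htop]; trivial
      rw [MonoidHom.mem_ker, hθ] at h3
      have h4 : fU a.1 = 1 := by
        rw [← hgUval, h3]
        rfl
      have h5 : a.1 ∈ OU' := by
        rw [← hfUker, MonoidHom.mem_ker]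
        exact h4
      have h6 : (orderOf (⟨a.1, h5⟩ : ↥OU')).Coprime 2 :=
        Nat.Coprime.coprime_dvd_left (orderOf_dvd_natCard _)
          (Cfsg.Agent.Lib.Helper29.pPrimeCore_coprime 2)
      have h7 : orderOf (⟨a.1, h5⟩ : ↥OU') = orderOf a := by
        rw [← Subgroup.orderOf_coe, ← Subgroup.orderOf_coe a]
      rw [h7] at h6
      exact Nat.Coprime.coprime_dvd_left (orderOf_map_dvd gN a) h6
    rw [himg_eq] at hodd
    -- the surjection `Q → img N Q`
    let hN : ↥Q →* ↥(img N Q) :=
      (fN.subgroupMap (Q.subgroupOf N)).comp (Subgroup.subgroupOfEquivOfLe hQN).symm.toMonoidHom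
    have hNs : Function.Surjective hN :=
      (fN.subgroupMap_surjective (Q.subgroupOf N)).comp (Subgroup.subgroupOfEquivOfLe hQN).symm.surjective
    have hidx : hN.ker.index = Nat.card ↥(img N Q) := by
      rw [Subgroup.index_ker, MonoidHom.range_eq_top.mpr hNs, Subgroup.card_top]
    have hktop : hN.ker = ⊤ := hQ.nci hN.ker inferInstance (by rw [hidx]; exact hodd)
    have hsub : Subsingleton ↥(img N Q) := by
      refine ⟨fun x y => ?_⟩
      obtain ⟨a, rfl⟩ := hNs x
      obtain ⟨b, rfl⟩ := hNs y
      have ha : a ∈ hN.ker := by rw [hktop]; trivial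
      have hb : b ∈ hN.ker := by rw [hktop]; trivial
      rw [MonoidHom.mem_ker.mp ha, MonoidHom.mem_ker.mp hb]
    have hnt := nontrivial_of_quasisimple hcomp.2
    exact not_subsingleton _ hsub

end Cfsg.Agent.Lib.Helper80.LB
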