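import Mathlib
import Cfsg.Prelude.Def_GeometricClasses
import Cfsg.Agent.Lib.Helper99.HermONB
import Cfsg.Agent.Lib.Helper46.UnitaryField2

/-!
# K-S5663-ONB: every non-degenerate Hermitian form on `F^k` (`|F| = q²`, any `q`) has an
orthonormal basis
-/

set_option autoImplicit false

namespace Cfsg.Agent.Lib.Helper80.AschU

open Cfsg Cfsg.Geo
open Cfsg.Agent.Lib.Helper99.HermONB
open Cfsg.Agent.Lib.Helper19 (frobQ frobQ_apply pow_q_pow_q add_pow_q sum_pow_q q_pos one_lt_q)
open scoped Matrix

universe u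

section onb

variable {F : Type*} [Field F] [Fintype F] {q : ℕ}

/-- orthonormal families of full size exist (any characteristic) -/
theorem exists_orthonormal' (hF : Fintype.card F = q ^ 2) :
    ∀ (n : ℕ) (V : Type u) [AddCommGroup V] [Module F V] [FiniteDimensional F V]
      (h : V → V → F), HForm q h → Module.finrank F V = n →
      ∃ e : Fin n → V, ∀ i j, h (e i) (e j) = if i = j then 1 else 0 := by
  intro n
  induction n with
  | zero =>
    intro V _ _ _ h _ _
    exact ⟨Fin.elim0, fun i => i.elim0⟩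
  | succ n ih =>
    intro V _ _ _ h hh hn
    have hq0 : q ≠ 0 := (q_pos hF).ne'
    have hq1 : 1 < q := one_lt_q hF
    -- a non-isotropic vector
    have hex : ∃ v, h v v ≠ 0 := by
      by_contra hall
      push Not at hall
      have hpos : 0 < Module.finrank F V := by omega
      obtain ⟨x, hx⟩ := Module.finrank_pos_iff_exists_ne_zero.mp hpos
      have hy' : ∃ y, h x y ≠ 0 := by
        by_contra hno
        push Not at hno
        exact hx (hh.nondeg x hno)
      obtain ⟨y, hy⟩ := hy'
      obtain ⟨r, hr⟩ : ∃ r, r = h x y := ⟨_, rfl⟩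
      rw [← hr] at hy
      obtain ⟨c, hc⟩ : ∃ c : F, c ^ q = r⁻¹ := ⟨(r⁻¹) ^ q, pow_q_pow_q hF _⟩
      have h1 : h x (c • y) = 1 := by rw [hh.smul_right, hc, ← hr, inv_mul_cancel₀ hy]
      have h1' : h (c • y) x = 1 := by rw [hh.conj x (c • y), h1, one_pow]
      obtain ⟨z, hz⟩ := Cfsg.Agent.Lib.Helper46.exists_trace_ne_zero hF
      rw [Cfsg.Agent.Lib.Helper46.frobRing_apply] at hz
      obtain ⟨y', hy'⟩ : ∃ y' : V, y' = c • y := ⟨_, rfl⟩
      rw [← hy'] at h1 h1'
      have h3 := hall (x + z • y')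
      rw [hh.add_left, hh.add_right hF, hh.add_right hF, hall x, hall (z • y'),
        hh.smul_right z x y', h1, hh.smul_left z y' x, h1'] at h3
      apply hz
      rw [← h3]
      ring
    obtain ⟨v, hv⟩ := hex
    -- normalise
    obtain ⟨r, hr⟩ : ∃ r, r = h v v := ⟨_, rfl⟩
    rw [← hr] at hv
    have hrq : r ^ q = r := by rw [hr]; exact (hh.conj v v).symm
    have hrq1 : r ^ (q - 1) = 1 := by
      have h1 : r ^ (q - 1) * r = 1 * r := by
        rw [← pow_succ, Nat.sub_add_cancel (by omega), hrq, one_mul]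
      exact mul_right_cancel₀ hv h1
    have hy : (Units.mk0 r⁻¹ (inv_ne_zero hv)) ^ (q - 1) = 1 := by
      apply Units.ext
      rw [Units.val_pow_eq_pow_val, Units.val_mk0, Units.val_one, inv_pow, hrq1, inv_one]
    obtain ⟨x, hx⟩ := Cfsg.Agent.Lib.Helper46.exists_pow_eq_of_pow_eq_one (C := Fˣ) (q + 1) (q - 1)
      (Cfsg.Agent.Lib.Helper46.card_units_eq hF) _ hy
    have hc : (x : F) ^ (q + 1) = r⁻¹ := by
      have := congrArg Units.val hx
      rwa [Units.val_pow_eq_pow_val, Units.val_mk0] at this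
    obtain ⟨e₀, he₀def⟩ : ∃ e₀ : V, e₀ = (x : F) • v := ⟨_, rfl⟩
    have he₀ : h e₀ e₀ = 1 := by
      rw [he₀def, hh.smul_left, hh.smul_right, ← hr, ← mul_assoc, ← pow_succ', hc,
        inv_mul_cancel₀ hv]
    let φ : V →ₗ[F] F :=
      { toFun := fun w => h w e₀
        map_add' := fun a b => hh.add_left a b e₀
        map_smul' := fun a b => by
          simp only [RingHom.id_apply, smul_eq_mul]
          exact hh.smul_left a b e₀ }
    have hφ : ∀ w, φ w = h w e₀ := fun _ => rfl
    have hsurj : Function.Surjective φ := fun a =>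
      ⟨a • e₀, by rw [hφ, hh.smul_left, he₀, mul_one]⟩
    have hWn : Module.finrank F (LinearMap.ker φ) = n := by
      have := LinearMap.finrank_range_add_finrank_ker φ
      rw [LinearMap.range_eq_top.mpr hsurj, finrank_top, Module.finrank_self, hn] at this
      omega
    have hmemW : ∀ w : LinearMap.ker φ, h (w : V) e₀ = 0 := fun w => LinearMap.mem_ker.mp w.2
    have hW : HForm q (fun w w' : LinearMap.ker φ => h (w : V) (w' : V)) := by
      refine ⟨fun a b c => hh.add_left _ _ _, fun c a b => hh.smul_left _ _ _,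
        fun a b => hh.conj _ _, ?_⟩
      intro w hw
      apply Subtype.ext
      apply hh.nondeg
      intro y
      have hyW : y - (h y e₀) • e₀ ∈ LinearMap.ker φ := by
        rw [LinearMap.mem_ker, map_sub, hφ, hφ, hh.smul_left, he₀, mul_one, sub_self]
      have h1 := hw ⟨_, hyW⟩
      simp only at h1
      have h3 : y = (y - (h y e₀) • e₀) + (h y e₀) • e₀ := by abel
      rw [h3, hh.add_right hF, h1, hh.smul_right, hmemW w, mul_zero, add_zero]
    obtain ⟨e', he'⟩ := ih (LinearMap.ker φ) (fun w w' => h (w : V) (w' : V)) hW hWn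
    refine ⟨Fin.cons e₀ (fun i => ((e' i : LinearMap.ker φ) : V)), ?_⟩
    intro i j
    refine Fin.cases ?_ (fun i' => ?_) i <;> refine Fin.cases ?_ (fun j' => ?_) j
    · simp [he₀]
    · rw [Fin.cons_zero, Fin.cons_succ, hh.conj, hmemW, zero_pow hq0,
        if_neg (Fin.succ_ne_zero j').symm]
    · rw [Fin.cons_zero, Fin.cons_succ, hmemW, if_neg (Fin.succ_ne_zero i')]
    · rw [Fin.cons_succ, Fin.cons_succ, he' i' j']
      simp only [Fin.succ_inj]

/-- **K-S5663-ONB.** -/
theorem exists_orthonormal_matrix (hF : Fintype.card F = q ^ 2) {k : ℕ}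
    (f₁ : (Fin k → F) → (Fin k → F) → F) (h₁ : IsUnitaryFormPow q f₁) :
    ∃ B : GL (Fin k) F, ∀ x y : Fin k → F,
      f₁ ((B : Matrix (Fin k) (Fin k) F) *ᵥ x) ((B : Matrix (Fin k) (Fin k) F) *ᵥ y) =
        hermForm k F q x y := by
  classical
  have hh : HForm q f₁ := by
    refine ⟨h₁.add_left, h₁.smul_left, fun x y => h₁.herm y x, ?_⟩
    intro x hx
    by_contra hx0
    obtain ⟨y, hy⟩ := (h₁.nondegenerate x hx0).2
    exact hy (hx y)
  obtain ⟨e, he⟩ := exists_orthonormal' hF k (Fin k → F) f₁ hh (Module.finrank_fin_fun F)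
  -- the matrix with columns `e j`
  let B : Matrix (Fin k) (Fin k) F := Matrix.of (fun i j => e j i)
  have hBv : ∀ x : Fin k → F, B *ᵥ x = ∑ j, x j • e j := by
    intro x
    ext i
    simp only [Matrix.mulVec, dotProduct, B, Matrix.of_apply, Finset.sum_apply, Pi.smul_apply,
      smul_eq_mul]
    exact Finset.sum_congr rfl (fun j _ => mul_comm _ _)
  have hleft : ∀ (x : Fin k → F) (i : Fin k), f₁ (B *ᵥ x) (e i) = x i := by
    intro x i
    rw [hBv, hh.sum_left]
    simp only [he, mul_ite, mul_one, mul_zero]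
    rw [Finset.sum_ite_eq' Finset.univ i]
    simp
  have hform : ∀ x y : Fin k → F, f₁ (B *ᵥ x) (B *ᵥ y) = hermForm k F q x y := by
    intro x y
    rw [hh.conj (B *ᵥ y) (B *ᵥ x)]
    conv_lhs => rw [hBv y, hh.sum_left]
    rw [sum_pow_q hF]
    unfold Cfsg.hermForm
    refine Finset.sum_congr rfl (fun i _ => ?_)
    rw [mul_pow, ← hh.conj, hleft x i, mul_comm]
  have hinj : Function.Injective B.mulVec := by
    intro x y hxy
    have hxy' : B *ᵥ x = B *ᵥ y := hxy
    ext i
    rw [← hleft x i, ← hleft y i, hxy']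
  have hunit : IsUnit B := Matrix.mulVec_injective_iff_isUnit.mp hinj
  refine ⟨hunit.unit, fun x y => ?_⟩
  have : ((hunit.unit : GL (Fin k) F) : Matrix (Fin k) (Fin k) F) = B := IsUnit.unit_spec hunit
  rw [this]
  exact hform x y

end onb

end Cfsg.Agent.Lib.Helper80.AschU
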