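import Mathlib
import Cfsg.Prelude.Def_Characters
import Cfsg.Agent.Lib.Helper01.Coprime
import Cfsg.Agent.Lib.Helper01.SZRel
import Cfsg.Agent.Lib.Helper01.Glauberman
import Cfsg.Agent.Lib.Helper84.NormalAction

set_option autoImplicit false

namespace Cfsg.Agent.Lib.Helper80

open Cfsg
open scoped Pointwise

/-- **Glauberman's lemma**, action form. `A` normalises `K` inside a finite group `X` acting on
`Ω`, with coprime orders and one of them solvable. If the `K`-orbit of `ω` is `A`-stable, some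
point of that orbit is fixed by `A`. -/
theorem exists_fixed_of_orbit_stable {X : Type*} [Group X] [Finite X] {Ω : Type*} [MulAction X Ω]
    {A K : Subgroup X} (hAK : A ≤ Subgroup.normalizer (K : Set X))
    (hcop : (Nat.card A).Coprime (Nat.card K))
    (hsolv : Group.IsSolvable A ∨ Group.IsSolvable K) (ω : Ω)
    (horbit : ∀ a ∈ A, ∃ k ∈ K, k • ω = a • ω) :
    ∃ k ∈ K, ∀ a ∈ A, a • (k • ω) = k • ω := by
  set Γ : Subgroup X := A ⊔ K with hΓ
  have hΓK : Γ ≤ Subgroup.normalizer (K : Set X) := sup_le hAK Subgroup.le_normalizer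
  set M : Subgroup X := MulAction.stabilizer X ω ⊓ Γ with hM
  have hMΓ : M ≤ Γ := inf_le_right
  have hMK : M ≤ Subgroup.normalizer (K : Set X) := hMΓ.trans hΓK
  have hsup : M ⊔ K = A ⊔ K := by
    apply le_antisymm (sup_le hMΓ le_sup_right)
    apply sup_le _ le_sup_right
    intro a ha
    obtain ⟨k, hk, hka⟩ := horbit a ha
    have h1 : k⁻¹ * a ∈ M := by
      refine Subgroup.mem_inf.mpr ⟨?_, ?_⟩
      · rw [MulAction.mem_stabilizer_iff, mul_smul, ← hka, inv_smul_smul]
      · exact Γ.mul_mem (Γ.inv_mem (le_sup_right (a := A) hk)) (le_sup_left (b := K) ha)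
    have : a = k * (k⁻¹ * a) := by group
    rw [this, sup_comm]
    exact Subgroup.mul_mem_sup hk h1
  have hMcard := Cfsg.Agent.Lib.Helper01.card_eq_of_sup_eq hAK hcop hMK hsup
  have hKMdvd : Nat.card (K ⊓ M : Subgroup X) ∣ Nat.card K := Subgroup.card_dvd_of_le inf_le_left
  have hcop' : (Nat.card (K ⊓ M : Subgroup X)).Coprime (Nat.card A) :=
    (Nat.Coprime.coprime_dvd_right hKMdvd hcop).symm
  obtain ⟨B, hBM, hBcard⟩ := Cfsg.Agent.Lib.Helper01.sz_exists_in M (K ⊓ M) inf_le_right
    ((le_inf hMK Subgroup.le_normalizer).trans Subgroup.inf_normalizer_le_normalizer_inf)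
    (Nat.card A) hMcard hcop'
  have hsolv' : Group.IsSolvable K ∨ Group.IsSolvable A := hsolv.symm
  obtain ⟨k, hk, hkB⟩ := Cfsg.Agent.Lib.Helper01.conj_by_normal_of_card_eq hAK hcop.symm hsolv'
    (hBM.trans hMΓ) hBcard
  refine ⟨k, hk, ?_⟩
  intro a ha
  -- `a ∈ A = k B k⁻¹`, so `k⁻¹ a k ∈ B` fixes `ω`
  have ha' : a ∈ MulAut.conj k • B := by rw [hkB]; exact ha
  rw [Subgroup.mem_pointwise_smul_iff_inv_smul_mem] at ha'
  have h1 : (MulAut.conj k)⁻¹ • a = k⁻¹ * a * k := by simp [MulAut.smul_def]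
  rw [h1] at ha'
  have h2 : k⁻¹ * a * k ∈ MulAction.stabilizer X ω := (hBM ha').1
  rw [MulAction.mem_stabilizer_iff] at h2
  have h3 : a • (k • ω) = k • ((k⁻¹ * a * k) • ω) := by
    simp only [← mul_smul]
    congr 1
    group
  rw [h3, h2]

section AutPerm

variable (K : Type*) [Group K] [Finite K]

/-- The group of automorphisms of a finite group acts on its irreducible characters:
`α • θ = θ ∘ α⁻¹`. -/
noncomputable def autPerm : MulAut K →* Equiv.Perm (IrrCharacter K) where
  toFun α :=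
    { toFun := fun θ => ⟨fun k => (θ : K → ℂ) (α⁻¹ k),
        Cfsg.Agent.Lib.Helper84.isIrrCharacter_comp_mulEquiv (α⁻¹ : MulAut K) θ.2⟩
      invFun := fun θ => ⟨fun k => (θ : K → ℂ) (α k),
        Cfsg.Agent.Lib.Helper84.isIrrCharacter_comp_mulEquiv (α : MulAut K) θ.2⟩
      left_inv := by
        intro θ
        apply Subtype.ext
        funext k
        simp
      right_inv := by
        intro θ
        apply Subtype.ext
        funext k
        simp }
  map_one' := by
    ext θ
    simp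
  map_mul' := by
    intro α β
    ext θ
    simp [mul_inv_rev, MulAut.mul_apply]

variable {K}

@[simp]
theorem autPerm_apply (α : MulAut K) (θ : IrrCharacter K) (k : K) :
    (autPerm K α θ : K → ℂ) k = (θ : K → ℂ) (α⁻¹ k) := rfl

end AutPerm

/-- A finite group all of whose elements are killed by `m` has order coprime to every number
coprime to `m`. -/
theorem coprime_card_of_forall_pow_eq_one {X : Type*} [Group X] [Finite X] (m n : ℕ)
    (hmn : m.Coprime n) (h : ∀ x : X, x ^ m = 1) : (Nat.card X).Coprime n := by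
  apply Nat.Coprime.symm
  rw [Nat.coprime_comm]
  apply Nat.coprime_of_dvd
  intro p hp hpX hpn
  have : Fact p.Prime := ⟨hp⟩
  obtain ⟨x, hx⟩ := exists_prime_orderOf_dvd_card' p hpX
  have h1 : orderOf x ∣ m := orderOf_dvd_of_pow_eq_one (h x)
  rw [hx] at h1
  have : p ∣ Nat.gcd m n := Nat.dvd_gcd h1 hpn
  rw [hmn] at this
  exact hp.one_lt.ne' (Nat.dvd_one.mp this)

end Cfsg.Agent.Lib.Helper80
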