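import Mathlib
import Cfsg.Prelude.Def_Characters
import Cfsg.Agent.Lib.Helper80.GlaubermanAction

set_option autoImplicit false

namespace Cfsg.Agent.Lib.Helper80

open Cfsg
open scoped ComplexConjugate

section NormAct

variable {Γ : Type*} [Group Γ]

theorem mem_normalizer_of_conj_mem {N : Subgroup Γ} {x : Γ} (h : ∀ n ∈ N, x * n * x⁻¹ ∈ N)
    (h' : ∀ n ∈ N, x⁻¹ * n * x ∈ N) : x ∈ Subgroup.normalizer (N : Set Γ) := by
  rw [Subgroup.mem_normalizer_iff]
  intro n
  refine ⟨h n, fun hn => ?_⟩
  have := h' _ hn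
  have e : x⁻¹ * (x * n * x⁻¹) * x = n := by group
  rwa [e] at this

theorem le_normalizer_of_conj_mem {A K : Subgroup Γ} (h : ∀ a ∈ A, ∀ k ∈ K, a * k * a⁻¹ ∈ K) :
    A ≤ Subgroup.normalizer (K : Set Γ) := by
  intro a ha
  apply mem_normalizer_of_conj_mem (h a ha)
  intro k hk
  have := h a⁻¹ (A.inv_mem ha) k hk
  rwa [inv_inv] at this

/-- The conjugation action of the normaliser of `N` on `N`. -/
def normConj (N : Subgroup Γ) : ↥(Subgroup.normalizer (N : Set Γ)) →* MulAut N where
  toFun x :=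
    { toFun := fun n => ⟨x * n * x⁻¹, (Subgroup.mem_normalizer_iff.mp x.2 n).mp n.2⟩
      invFun := fun n => ⟨x⁻¹ * n * x, (Subgroup.mem_normalizer_iff''.mp x.2 n).mp n.2⟩
      left_inv := by
        intro n
        apply Subtype.ext
        simp only [InvMemClass.coe_inv]
        group
      right_inv := by
        intro n
        apply Subtype.ext
        simp only [InvMemClass.coe_inv]
        group
      map_mul' := by
        intro n m
        apply Subtype.ext
        simp only [Subgroup.coe_mul, InvMemClass.coe_inv]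
        group }
  map_one' := by
    ext n
    simp
  map_mul' := by
    intro x y
    ext n
    simp only [MulEquiv.coe_mk, Equiv.coe_fn_mk, MulAut.mul_apply, Subgroup.coe_mul,
      InvMemClass.coe_inv, mul_inv_rev]
    group

@[simp]
theorem normConj_apply (N : Subgroup Γ) (x : ↥(Subgroup.normalizer (N : Set Γ))) (n : N) :
    ((normConj N x n : N) : Γ) = (x : Γ) * n * (x : Γ)⁻¹ := rfl

@[simp]
theorem normConj_inv_apply (N : Subgroup Γ) (x : ↥(Subgroup.normalizer (N : Set Γ))) (n : N) :
    (((normConj N x)⁻¹ n : N) : Γ) = (x : Γ)⁻¹ * n * x := rfl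

/-- The action of the normaliser of `N` on the irreducible characters of `N`. -/
noncomputable def normIrr (N : Subgroup Γ) [Finite N] :
    ↥(Subgroup.normalizer (N : Set Γ)) →* Equiv.Perm (IrrCharacter N) :=
  (autPerm N).comp (normConj N)

theorem normIrr_apply (N : Subgroup Γ) [Finite N] (x : ↥(Subgroup.normalizer (N : Set Γ)))
    (θ : IrrCharacter N) (n m : N) (h : (m : Γ) = (x : Γ)⁻¹ * n * x) :
    (normIrr N x θ : N → ℂ) n = (θ : N → ℂ) m := by
  rw [normIrr, MonoidHom.comp_apply, autPerm_apply]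
  have : (normConj N x)⁻¹ n = m := by
    apply Subtype.ext
    rw [normConj_inv_apply, h]
  rw [this]

theorem normIrr_apply' (N : Subgroup Γ) [Finite N] (x : ↥(Subgroup.normalizer (N : Set Γ)))
    (θ : IrrCharacter N) (n m : N) (h : (n : Γ) = (x : Γ) * m * (x : Γ)⁻¹) :
    (normIrr N x θ : N → ℂ) n = (θ : N → ℂ) m := by
  apply normIrr_apply
  rw [h]
  group

theorem classInner_comp_mulAut {K : Type*} [Group K] [Fintype K] (α : MulAut K) (f g : K → ℂ) :
    classInner (fun k => f (α k)) (fun k => g (α k)) = classInner f g := by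
  rw [classInner, classInner]
  congr 1
  exact Equiv.sum_comp α.toEquiv (fun k => f k * conj (g k))

/-- Elements of `N` act trivially on the irreducible characters of `N`. -/
theorem normIrr_of_mem (N : Subgroup Γ) [Finite N] (x : ↥(Subgroup.normalizer (N : Set Γ)))
    (hx : (x : Γ) ∈ N) : normIrr N x = 1 := by
  ext θ n
  have hcl : IsClassFunction N (θ : N → ℂ) := by
    obtain ⟨k, ρ, -, hρ⟩ := θ.2
    intro g h
    rw [← hρ]
    simp only [Representation.character, map_mul]
    rw [LinearMap.trace_mul_comm, ← mul_assoc]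
    have : ρ h⁻¹ * ρ h = 1 := by rw [← map_mul, inv_mul_cancel, map_one]
    rw [this, one_mul]
  rw [Equiv.Perm.one_apply]
  have hinv : (⟨(x : Γ)⁻¹, N.inv_mem hx⟩ : N) = (⟨(x : Γ), hx⟩ : N)⁻¹ := rfl
  rw [normIrr_apply N x θ n ((⟨(x : Γ), hx⟩ : N)⁻¹ * n * (⟨(x : Γ), hx⟩ : N)⁻¹⁻¹) (by simp)]
  exact hcl n _

end NormAct

end Cfsg.Agent.Lib.Helper80
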