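import Mathlib
import Cfsg.Agent.Lib.Helper80.CharMisc
import Cfsg.Agent.Lib.Helper04.IndFun
import Cfsg.Agent.Lib.Helper04.CharValues
import Cfsg.Agent.Lib.Helper05.CharOrtho
import Cfsg.Agent.Lib.Helper33.Constituent
import Cfsg.Agent.Lib.Helper34.GenChar
import Cfsg.Agent.Lib.Helper84.Clifford

/-!
# Degrees of constituents of induced characters (helper80)

* `char_norm_le_re` : `‖χ g‖ ≤ Re χ(1)` for a character.
* `constituent_ker` : the kernel of a character lies in the kernel of each constituent.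
* `exists_larger_constituent` (Isaacs 12.17 in the form used for 12.19): if `χ ∈ Irr(G)` restricts
  irreducibly to `H` and `χ` does not vanish at some `h ∈ H` outside the core of `H`, then
  `(χ_H)^G` has an irreducible constituent of degree larger than `χ(1)`.
-/

set_option autoImplicit false
set_option linter.style.haveILetI false

namespace Cfsg.Agent.Lib.Helper80

open Cfsg
open scoped ComplexConjugate

universe u

section

variable {G : Type u} [Group G]

/-- `‖χ g‖ ≤ Re χ(1)` for a character of a finite group. -/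
theorem char_norm_le_re [Finite G] {χ : G → ℂ} (hχ : IsCharacter G χ) (g : G) :
    ‖χ g‖ ≤ (χ 1).re := by
  obtain ⟨n, ρ, rfl⟩ := hχ
  have h := Cfsg.Agent.Lib.Helper04.norm_char_le ρ g
  rw [Cfsg.Agent.Lib.Helper83.rep_char_one]
  simpa using h

/-- A complex number of norm at most `r` and real part at least `r` equals `r`. -/
theorem eq_of_norm_le_of_le_re {z : ℂ} {r : ℝ} (h1 : ‖z‖ ≤ r) (h2 : r ≤ z.re) : z = r := by
  have hre : z.re ≤ ‖z‖ := Complex.re_le_norm z
  have hr : z.re = r := le_antisymm (hre.trans h1) h2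
  have hn : ‖z‖ = r := le_antisymm h1 (hr ▸ hre)
  have hsq : ‖z‖ ^ 2 = z.re ^ 2 + z.im ^ 2 := by
    rw [Complex.sq_norm, Complex.normSq_apply]; ring
  have him : z.im = 0 := by
    rw [hn, hr] at hsq
    nlinarith [sq_nonneg z.im]
  apply Complex.ext
  · simpa using hr
  · simpa using him

/-- The kernel of a character lies in the kernel of each of its irreducible constituents. -/
theorem constituent_ker [Fintype G] {φ θ : G → ℂ} (hφ : IsCharacter G φ)
    (hθ : IsIrrCharacter G θ) (hin : classInner φ θ ≠ 0) {l : G} (hl : φ l = φ 1) :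
    θ l = θ 1 := by
  classical
  have hθc := Cfsg.Agent.Lib.Helper83.isCharacter_of_irr hθ
  obtain ⟨A', hA', hA⟩ := Cfsg.Agent.Lib.Helper84.exists_char_sub hφ ⟨θ, hθ⟩
  set m := Cfsg.Agent.Lib.Helper83.irrMult φ ⟨θ, hθ⟩ with hm
  have hm0 : m ≠ 0 := by
    intro h0
    apply hin
    have := Cfsg.Agent.Lib.Helper83.irrMult_cast hφ ⟨θ, hθ⟩
    rw [← hm, h0] at this
    simpa using this.symm
  have e1 : φ l = (m : ℂ) * θ l + A' l := by
    have := congrFun hA l
    simpa [Pi.add_apply, Pi.smul_apply, smul_eq_mul] using this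
  have e2 : φ 1 = (m : ℂ) * θ 1 + A' 1 := by
    have := congrFun hA 1
    simpa [Pi.add_apply, Pi.smul_apply, smul_eq_mul] using this
  obtain ⟨a, ha⟩ := Cfsg.Agent.Lib.Helper83.char_one_eq_nat hθc
  obtain ⟨b, hb⟩ := Cfsg.Agent.Lib.Helper83.char_one_eq_nat hA'
  have n1 := char_norm_le_re hθc l
  have n2 := char_norm_le_re hA' l
  rw [ha] at n1
  rw [hb] at n2
  simp only [Complex.natCast_re] at n1 n2
  have hre : (m : ℝ) * (θ l).re + (A' l).re = (m : ℝ) * a + b := by
    have h3 : (m : ℂ) * θ l + A' l = (m : ℂ) * θ 1 + A' 1 := by rw [← e1, ← e2, hl]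
    rw [ha, hb] at h3
    have := congrArg Complex.re h3
    simpa using this
  have r1 : (θ l).re ≤ a := (Complex.re_le_norm _).trans n1
  have r2 : (A' l).re ≤ b := (Complex.re_le_norm _).trans n2
  have hmpos : (0 : ℝ) < m := by exact_mod_cast Nat.pos_of_ne_zero hm0
  have r3 : (a : ℝ) ≤ (θ l).re := by nlinarith
  rw [ha]
  have := eq_of_norm_le_of_le_re n1 r3
  simpa using this


/-- **Isaacs 12.17** (in the form used for 12.19).  If `χ ∈ Irr(G)` restricts irreducibly to `H`
and does not vanish at some `h₀ ∈ H` outside the core of `H`, then some irreducible constituent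
`ψ` of `(χ_H)^G` has degree larger than `χ(1)`. -/
theorem exists_larger_constituent [Fintype G] (H : Subgroup G) [Fintype H] (χ : IrrCharacter G)
    (hirr : IsIrrCharacter H (fun h : H => (χ : G → ℂ) h)) {h₀ : G} (h₀H : h₀ ∈ H)
    (hcore : h₀ ∉ H.normalCore) (hne : (χ : G → ℂ) h₀ ≠ 0) :
    ∃ ψ : IrrCharacter G,
      classInner (fun h : H => (ψ : G → ℂ) h) (fun h : H => (χ : G → ℂ) h) ≠ 0 ∧
      charDegree (χ : G → ℂ) < charDegree (ψ : G → ℂ) := by
  classical
  have : Fintype (IrrCharacter G) := Fintype.ofFinite _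
  by_contra hcon
  push Not at hcon
  set φ : H → ℂ := fun h : H => (χ : G → ℂ) h with hφ
  have hχc := Helper83.IrrCharacter_isCharacter χ
  have hφc : IsCharacter H φ := Helper83.isCharacter_restrict H hχc
  set Θ := indFun H φ with hΘ
  have hΘc : IsCharacter G Θ := Helper34.isCharacter_indFun H hφc
  have hmult : ∀ ψ : IrrCharacter G, (Helper83.irrMult Θ ψ : ℂ) =
      classInner φ (fun h : H => (ψ : G → ℂ) h) := by
    intro ψ
    rw [Helper83.irrMult_cast hΘc, hΘ,
      Helper04.frobenius_reciprocity H φ _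
        (Helper83.char_isClassFunction (Helper83.IrrCharacter_isCharacter ψ))]
  have hkey : ∀ ψ : IrrCharacter G, Helper83.irrMult Θ ψ ≠ 0 →
      (∀ h : H, (ψ : G → ℂ) h = φ h) ∧ Helper83.irrMult Θ ψ = 1 := by
    intro ψ hm
    have hψc := Helper83.IrrCharacter_isCharacter ψ
    have hψH : IsCharacter H (fun h : H => (ψ : G → ℂ) h) := Helper83.isCharacter_restrict H hψc
    have hc : classInner φ (fun h : H => (ψ : G → ℂ) h) ≠ 0 := by
      rw [← hmult]; exact_mod_cast hm
    have hc' : classInner (fun h : H => (ψ : G → ℂ) h) φ ≠ 0 := by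
      rw [← Helper83.classInner_conj_symm]
      simpa using hc
    have hle := hcon ψ hc'
    obtain ⟨A', hA', hA⟩ := Helper84.exists_char_sub hψH ⟨φ, hirr⟩
    set m' := Helper83.irrMult (fun h : H => (ψ : G → ℂ) h) ⟨φ, hirr⟩ with hm'
    have hm'0 : m' ≠ 0 := by
      intro h0
      apply hc'
      have := Helper83.irrMult_cast hψH ⟨φ, hirr⟩
      rw [← hm', h0] at this
      simpa using this.symm
    obtain ⟨b, hb⟩ := Helper83.char_one_eq_nat hA'
    have e1 : (ψ : G → ℂ) 1 = (m' : ℂ) * (χ : G → ℂ) 1 + b := by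
      have := congrFun hA 1
      simp only [Pi.add_apply, Pi.smul_apply, smul_eq_mul, hb] at this
      simpa [hφ] using this
    have d1 := Helper83.charDegree_cast hψc
    have d2 := Helper83.charDegree_cast hχc
    have e2 : charDegree (ψ : G → ℂ) = m' * charDegree (χ : G → ℂ) + b := by
      have : ((charDegree (ψ : G → ℂ) : ℕ) : ℂ) =
          ((m' * charDegree (χ : G → ℂ) + b : ℕ) : ℂ) := by
        push_cast
        rw [d1, d2, e1]
      exact_mod_cast this
    have hm'1 : 1 ≤ m' := Nat.one_le_iff_ne_zero.mpr hm'0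
    have e3 : charDegree (ψ : G → ℂ) = charDegree (χ : G → ℂ) := by
      apply le_antisymm hle
      calc charDegree (χ : G → ℂ) = 1 * charDegree (χ : G → ℂ) := (one_mul _).symm
        _ ≤ m' * charDegree (χ : G → ℂ) := Nat.mul_le_mul_right _ hm'1
        _ ≤ _ := by rw [e2]; exact Nat.le_add_right _ _
    have e4 : (ψ : G → ℂ) 1 = (χ : G → ℂ) 1 := by rw [← d1, ← d2, e3]
    have hres : (fun h : H => (ψ : G → ℂ) h) = φ :=
      char_eq_of_constituent_degree hψH hirr hc' (by simpa [hφ] using e4)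
    refine ⟨fun h => congrFun hres h, ?_⟩
    have h1 : (Helper83.irrMult Θ ψ : ℂ) = 1 := by
      rw [hmult, hres]
      exact Helper83.irr_inner_self ⟨φ, hirr⟩
    exact_mod_cast h1
  -- value of `Θ` on `H`
  set c : ℂ := ∑ ψ : IrrCharacter G, (Helper83.irrMult Θ ψ : ℂ) with hc
  have hdec := Helper83.char_eq_sum_irrMult hΘc
  have hval : ∀ h : H, Θ h = c * (χ : G → ℂ) h := by
    intro h
    have := congrFun hdec (h : G)
    rw [this, hc, Finset.sum_apply, Finset.sum_mul]
    apply Finset.sum_congr rfl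
    intro ψ _
    simp only [Pi.smul_apply, smul_eq_mul]
    by_cases hm : Helper83.irrMult Θ ψ = 0
    · simp [hm]
    · rw [(hkey ψ hm).1 h]
  have hχ1 : (χ : G → ℂ) 1 ≠ 0 := Helper83.irr_degree_ne_zero χ
  have hcidx : c = (H.index : ℂ) := by
    have h1 := hval 1
    have h2 : Θ 1 = (H.index : ℂ) * (χ : G → ℂ) 1 := by
      rw [hΘ, Helper33.indFun_one]
      rfl
    have h3 : Θ ((1 : H) : G) = Θ 1 := rfl
    rw [h3, h2] at h1
    have h4 : ((1 : H) : G) = 1 := rfl
    rw [h4] at h1
    exact (mul_right_cancel₀ hχ1 h1).symm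
  -- value of `Θ` at `h₀` from the definition
  have hval0 : Θ h₀ = (Nat.card H : ℂ)⁻¹ *
      (((Finset.univ.filter (fun x : G => x⁻¹ * h₀ * x ∈ H)).card : ℂ) * (χ : G → ℂ) h₀) := by
    rw [hΘ, Helper04.indFun_apply]
    congr 1
    rw [Finset.card_filter, Nat.cast_sum, Finset.sum_mul]
    apply Finset.sum_congr rfl
    intro x _
    by_cases hx : x⁻¹ * h₀ * x ∈ H
    · rw [Helper04.extendByZero_apply_of_mem H φ _ hx, if_pos hx]
      simp only [hφ, Nat.cast_one, one_mul]
      have := Helper83.char_conj_eq hχc h₀ x⁻¹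
      rw [inv_inv] at this
      exact this
    · rw [Helper04.extendByZero_apply_not_mem H φ _ hx, if_neg hx]
      simp
  have h5 := hval ⟨h₀, h₀H⟩
  simp only at h5
  rw [hval0, hcidx] at h5
  have hHne : (Nat.card H : ℂ) ≠ 0 := by
    exact_mod_cast (Nat.card_pos (α := H)).ne'
  have h6 : ((Finset.univ.filter (fun x : G => x⁻¹ * h₀ * x ∈ H)).card : ℂ) =
      (H.index : ℂ) * (Nat.card H : ℂ) := by
    have h7 : (Nat.card H : ℂ)⁻¹ *
        ((Finset.univ.filter (fun x : G => x⁻¹ * h₀ * x ∈ H)).card : ℂ) = (H.index : ℂ) := by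
      apply mul_right_cancel₀ hne
      rw [← h5]; ring
    rw [← h7]; field_simp
  have h8 : (Finset.univ.filter (fun x : G => x⁻¹ * h₀ * x ∈ H)).card = Fintype.card G := by
    have : ((Finset.univ.filter (fun x : G => x⁻¹ * h₀ * x ∈ H)).card : ℂ) =
        ((Fintype.card G : ℕ) : ℂ) := by
      rw [h6, ← Nat.cast_mul, H.index_mul_card, Nat.card_eq_fintype_card]
    exact_mod_cast this
  have h9 : Finset.univ.filter (fun x : G => x⁻¹ * h₀ * x ∈ H) = Finset.univ := by
    apply Finset.eq_univ_of_card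
    exact h8
  apply hcore
  show ∀ b : G, b * h₀ * b⁻¹ ∈ H
  intro x
  have : x⁻¹ ∈ Finset.univ.filter (fun x : G => x⁻¹ * h₀ * x ∈ H) := by
    rw [h9]; exact Finset.mem_univ _
  simpa using (Finset.mem_filter.mp this).2

end

end Cfsg.Agent.Lib.Helper80
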