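import Mathlib
import Cfsg.Agent.Lib.Helper04.GlaubMain
import Cfsg.Agent.Lib.Helper04.CharTransport
import Cfsg.Agent.Lib.Helper34.Induction
import Cfsg.Agent.Lib.Helper80.DetChar
import Cfsg.Agent.Lib.Helper83.Decompose
import Cfsg.Agent.Lib.Helper83.Linear

/-!
# Glauberman's sign lemma for a non-generating element (helper80)

* `isIrrCharacter_of_restrict_irr` : a character whose restriction to a subgroup is irreducible
  is irreducible.
* `detOrder_restrict_dvd` : the determinantal order of a restriction divides the determinantal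
  order.
* `exists_sign_irr_sub` : helper4's `exists_sign_irr` applied inside `G ⊔ zpowers x`, for an
  arbitrary element `x` normalising `G` (no generation hypothesis).
-/

set_option autoImplicit false

namespace Cfsg.Agent.Lib.Helper80

open Cfsg
open scoped ComplexConjugate

theorem isIrrCharacter_of_restrict_irr {G : Type*} [Group G] [Fintype G] (H : Subgroup G)
    [Fintype H] {ψ : G → ℂ} (hψ : IsCharacter G ψ)
    (hH : IsIrrCharacter H (fun h : H => ψ h)) : IsIrrCharacter G ψ := by
  classical
  have : Fintype (IrrCharacter G) := Fintype.ofFinite _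
  set m : IrrCharacter G → ℕ := fun θ => Helper83.irrMult ψ θ with hm
  have hdec : ψ = ∑ θ : IrrCharacter G, (m θ : ℂ) • (θ : G → ℂ) :=
    Helper83.char_eq_sum_irrMult hψ
  have hres : (fun h : H => ψ h) =
      ∑ θ : IrrCharacter G, (m θ : ℂ) • (fun h : H => (θ : G → ℂ) h) := by
    funext h
    have := congrFun hdec (h : G)
    simp only [Finset.sum_apply, Pi.smul_apply] at this ⊢
    exact this
  have hnat : ∀ θ θ' : IrrCharacter G, ∃ k : ℕ,
      classInner (fun h : H => (θ : G → ℂ) h) (fun h : H => (θ' : G → ℂ) h) = k := fun θ θ' =>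
    Helper83.classInner_char_nat
      (Helper83.isCharacter_restrict H (Helper83.IrrCharacter_isCharacter θ))
      (Helper83.isCharacter_restrict H (Helper83.IrrCharacter_isCharacter θ'))
  choose N hN using hnat
  have hNpos : ∀ θ, 1 ≤ N θ θ := by
    intro θ
    rw [Nat.one_le_iff_ne_zero]
    intro h0
    have h1 := hN θ θ
    rw [h0, Nat.cast_zero, Helper34.classInner_self_eq_zero] at h1
    have h2 := congrFun h1 1
    exact Helper83.irr_degree_ne_zero θ h2
  have hone : classInner (fun h : H => ψ h) (fun h : H => ψ h) = 1 :=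
    Helper83.irr_inner_self ⟨_, hH⟩
  have hexp : classInner (fun h : H => ψ h) (fun h : H => ψ h) =
      ∑ θ, ∑ θ', ((m θ * m θ' * N θ θ' : ℕ) : ℂ) := by
    rw [hres, Helper83.classInner_sum_left]
    apply Finset.sum_congr rfl; intro θ _
    rw [Helper83.classInner_sum_right]
    apply Finset.sum_congr rfl; intro θ' _
    rw [Helper83.classInner_smul_left, Helper83.classInner_smul_right, hN, Complex.conj_natCast]
    push_cast; ring
  have hsumN : ∑ θ, ∑ θ', m θ * m θ' * N θ θ' = 1 := by
    have : ((∑ θ, ∑ θ', m θ * m θ' * N θ θ' : ℕ) : ℂ) = 1 := by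
      rw [← hone, hexp]; push_cast; rfl
    exact_mod_cast this
  have hsq : ∑ θ, m θ * m θ ≤ 1 := by
    calc ∑ θ, m θ * m θ ≤ ∑ θ, m θ * m θ * N θ θ :=
          Finset.sum_le_sum (fun θ _ => Nat.le_mul_of_pos_right _ (hNpos θ))
      _ ≤ ∑ θ, ∑ θ', m θ * m θ' * N θ θ' :=
          Finset.sum_le_sum (fun θ _ =>
            Finset.single_le_sum (f := fun θ' => m θ * m θ' * N θ θ')
              (fun _ _ => Nat.zero_le _) (Finset.mem_univ θ))
      _ = 1 := hsumN
  have hnorm : classInner ψ ψ = ((∑ θ, m θ * m θ : ℕ) : ℂ) := by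
    conv_lhs => rw [hdec]
    rw [Helper83.classInner_sum_irr_self]
    push_cast
    apply Finset.sum_congr rfl; intro θ _
    rw [Complex.conj_natCast]
  have hne : ∑ θ, m θ * m θ ≠ 0 := by
    intro h0
    have h1 : ∀ θ, m θ = 0 := by
      intro θ
      have := (Finset.sum_eq_zero_iff.mp h0) θ (Finset.mem_univ θ)
      exact mul_self_eq_zero.mp this
    have h2 : ψ = 0 := by
      rw [hdec]; simp [h1]
    have h3 : (fun h : H => ψ h) (1 : H) = 0 := by simp [h2]
    exact Helper83.irr_degree_ne_zero ⟨_, hH⟩ h3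
  have h1 : ∑ θ, m θ * m θ = 1 := by omega
  rw [h1] at hnorm
  exact Helper83.isIrrCharacter_of_norm_one hψ (by simpa using hnorm)

theorem detOrder_restrict_dvd {G : Type*} [Group G] [Finite G] (H : Subgroup G) {χ : G → ℂ}
    (hχ : IsCharacter G χ) : detOrder (fun h : H => χ h) ∣ detOrder χ := by
  rw [detOrder, detOrder, detChar_restrict H hχ]
  apply orderOf_dvd_of_pow_eq_one
  have h := pow_orderOf_eq_one (detChar χ)
  funext x
  have := congrFun h (x : G)
  simpa using this

theorem exists_sign_irr_sub {Γ : Type*} [Group Γ] [Fintype Γ] (G : Subgroup Γ) [hGn : G.Normal]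
    [Fintype G] (x : Γ) (hcop : (Nat.card G).Coprime (orderOf x)) (C : Subgroup Γ)
    (hC : C = G ⊓ Subgroup.centralizer ({x} : Set Γ))
    {χh : Γ → ℂ} (hχ : IsCharacter Γ χh) (hχG : IsIrrCharacter G (fun g : G => χh g))
    (hcan : (detOrder χh).Coprime (orderOf x)) :
    ∃ (β : IrrCharacter C) (ε : ℤ), (ε = 1 ∨ ε = -1) ∧
      ∀ c : C, χh ((c : Γ) * x) = (ε : ℂ) * (β : C → ℂ) c := by
  classical
  subst hC
  set K : Subgroup Γ := G ⊔ Subgroup.zpowers x with hK
  have hGK : G ≤ K := le_sup_left
  have hxK : x ∈ K := (le_sup_right : Subgroup.zpowers x ≤ K) (Subgroup.mem_zpowers x)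
  set G' : Subgroup K := G.subgroupOf K with hG'
  set x' : K := ⟨x, hxK⟩ with hx'
  have : G'.Normal := Subgroup.Normal.subgroupOf hGn K
  have : Fintype G' := Fintype.ofFinite _
  have : Fintype (Helper04.fixC G' x') := Fintype.ofFinite _
  let eG : G' ≃* G := Subgroup.subgroupOfEquivOfLe hGK
  have hcard : Nat.card G' = Nat.card G := Nat.card_congr eG.toEquiv
  have hord : orderOf x' = orderOf x := by
    rw [← Subgroup.orderOf_coe]
  have hcop' : (Nat.card G').Coprime (orderOf x') := by rw [hcard, hord]; exact hcop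
  have hgen : G' ⊔ Subgroup.zpowers x' = ⊤ := by
    have hz : Subgroup.zpowers x' = (Subgroup.zpowers x).subgroupOf K := by
      ext y
      rw [Subgroup.mem_subgroupOf, Subgroup.mem_zpowers_iff, Subgroup.mem_zpowers_iff]
      constructor
      · rintro ⟨k, rfl⟩; exact ⟨k, by simp [x']⟩
      · rintro ⟨k, hk⟩; exact ⟨k, Subtype.ext (by simpa [x'] using hk)⟩
    rw [hz, hG', ← Subgroup.subgroupOf_sup hGK le_sup_right, ← hK, Subgroup.subgroupOf_self]
  set χK : K → ℂ := fun y => χh y with hχK
  have hχKc : IsCharacter K χK := Helper83.isCharacter_restrict K hχ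
  have hχG' : IsIrrCharacter G' (fun g : G' => χK g) :=
    Helper84.isIrrCharacter_comp_mulEquiv eG hχG
  have hχKi : IsIrrCharacter K χK := isIrrCharacter_of_restrict_irr G' hχKc hχG'
  have hcan' : (detOrder χK).Coprime (orderOf x') := by
    rw [hord]
    exact Nat.Coprime.coprime_dvd_left (detOrder_restrict_dvd K hχ) hcan
  obtain ⟨β', ε, hε, hβ'⟩ := Helper04.exists_sign_irr (G := G') (s := x') hcop' hgen hχKi hχG' hcan'
  -- transport
  let e : ↥(G ⊓ Subgroup.centralizer ({x} : Set Γ)) ≃* ↥(Helper04.fixC G' x') :=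
    { toFun := fun c => ⟨⟨c, hGK (Subgroup.mem_inf.mp c.2).1⟩, by
        rw [Helper04.mem_fixC]
        refine ⟨Subgroup.mem_subgroupOf.mpr (Subgroup.mem_inf.mp c.2).1, ?_⟩
        apply Subtype.ext
        have := Subgroup.mem_centralizer_singleton_iff.mp (Subgroup.mem_inf.mp c.2).2
        exact this.symm⟩
      invFun := fun c => ⟨((c : K) : Γ), by
        have hc := (Helper04.mem_fixC G' x').mp c.2
        refine Subgroup.mem_inf.mpr ⟨Subgroup.mem_subgroupOf.mp hc.1, ?_⟩
        rw [Subgroup.mem_centralizer_singleton_iff]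
        have := congrArg Subtype.val hc.2
        exact this.symm⟩
      left_inv := fun c => rfl
      right_inv := fun c => rfl
      map_mul' := fun a b => rfl }
  refine ⟨Helper04.irrCongr e β', ε, hε, ?_⟩
  intro c
  rw [Helper04.irrCongr_apply]
  exact hβ' (e c)

end Cfsg.Agent.Lib.Helper80
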