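import Cfsg.Agent.Lib.Helper98.Sy8
import Cfsg.Agent.Lib.Helper98.Ti9

/-!
# K-Nd-E (keystone 595605, S5956 pack of helper98): the Cayley transform of a skew nilpotent map.
-/

set_option autoImplicit false
set_option linter.style.haveILetI false
set_option linter.unusedSectionVars false

namespace Cfsg.Agent.Lib.Helper80.Nd

open Module Cfsg.Agent.Lib.Helper98.Elus Cfsg.Agent.Lib.Helper98.Sy

universe u
variable {F : Type u} [Field F] {V : Type u} [AddCommGroup V] [Module F V]

/-- `Y` is a right adjoint of `X` for `B`. -/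
def Adj (B : LinearMap.BilinForm F V) (X Y : V →ₗ[F] V) : Prop := ∀ x y, B (X x) y = B x (Y y)

lemma Adj.one (B : LinearMap.BilinForm F V) : Adj B 1 1 := fun _ _ => rfl

lemma Adj.zero (B : LinearMap.BilinForm F V) : Adj B 0 0 := fun x y => by
  simp

lemma Adj.add {B : LinearMap.BilinForm F V} {X Y X' Y' : V →ₗ[F] V} (h : Adj B X Y)
    (h' : Adj B X' Y') : Adj B (X + X') (Y + Y') := fun x y => by
  rw [LinearMap.add_apply, LinearMap.add_apply, map_add, LinearMap.add_apply, map_add, h x y, h' x y]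

lemma Adj.mul {B : LinearMap.BilinForm F V} {X Y X' Y' : V →ₗ[F] V} (h : Adj B X Y)
    (h' : Adj B X' Y') : Adj B (X * X') (Y' * Y) := fun x y => by
  rw [Module.End.mul_apply, Module.End.mul_apply, h, h']

lemma Adj.pow {B : LinearMap.BilinForm F V} {X Y : V →ₗ[F] V} (h : Adj B X Y) (k : ℕ) :
    Adj B (X ^ k) (Y ^ k) := by
  induction k with
  | zero => rw [pow_zero, pow_zero]; exact Adj.one B
  | succ k ih =>
    rw [pow_succ, pow_succ']
    exact ih.mul h

lemma Adj.sum {B : LinearMap.BilinForm F V} {ι : Type*} (s : Finset ι) (f g : ι → (V →ₗ[F] V))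
    (h : ∀ i ∈ s, Adj B (f i) (g i)) : Adj B (∑ i ∈ s, f i) (∑ i ∈ s, g i) := by
  classical
  induction s using Finset.induction_on with
  | empty => rw [Finset.sum_empty, Finset.sum_empty]; exact Adj.zero B
  | insert a s ha ih =>
    rw [Finset.sum_insert ha, Finset.sum_insert ha]
    exact (h a (Finset.mem_insert_self a s)).add
      (ih (fun i hi => h i (Finset.mem_insert_of_mem hi)))

/-- **K-Nd-E** (595605): the Cayley transform. -/
theorem exists_cayley {p : ℕ} [Fact p.Prime] [CharP F p] (hp2 : p ≠ 2)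
    (B : LinearMap.BilinForm F V) (M : V →ₗ[F] V) (hskew : ∀ x y, B (M x) y = - B x (M y))
    (hM : M ^ p = 0) :
    ∃ u : V →ₗ[F] V, Iso B u ∧ u ^ p = 1 ∧
      ∀ k : ℕ, LinearMap.ker ((u - 1) ^ k) = LinearMap.ker (M ^ k) := by
  have hp : p.Prime := Fact.out
  -- `2` is invertible
  have h2 : (2 : F) ≠ 0 := by
    intro h
    have h' : ((2 : ℕ) : F) = 0 := by exact_mod_cast h
    rw [CharP.cast_eq_zero_iff F p] at h'
    exact hp2 ((Nat.prime_dvd_prime_iff_eq hp Nat.prime_two).mp h')
  set T : V →ₗ[F] V := ∑ i ∈ Finset.range p, M ^ i with hT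
  set T' : V →ₗ[F] V := ∑ i ∈ Finset.range p, (-M) ^ i with hT'
  have hnM : (-M) ^ p = 0 := by rw [neg_pow, hM, mul_zero]
  have hT1 : (1 - M) * T = 1 := by rw [hT, mul_neg_geom_sum, hM, sub_zero]
  have hT2 : T * (1 - M) = 1 := by rw [hT, geom_sum_mul_neg, hM, sub_zero]
  have hT'2 : T' * (1 + M) = 1 := by
    have := geom_sum_mul_neg (-M) p
    rw [hnM, sub_zero, sub_neg_eq_add] at this
    exact this
  have hMT : Commute M T := by
    rw [hT]
    exact Commute.sum_right _ _ _ (fun i _ => (Commute.refl M).pow_right i)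
  -- adjoints
  have hAdjM : Adj B M (-M) := fun x y => by
    rw [hskew, LinearMap.neg_apply, map_neg]
  have hAdjT : Adj B T T' := Adj.sum _ _ _ (fun i _ => hAdjM.pow i)
  have hAdj1 : Adj B (1 + M) (1 + -M) := (Adj.one B).add hAdjM
  set u : V →ₗ[F] V := (1 + M) * T with hu
  have hAdju : Adj B u (T' * (1 + -M)) := hAdj1.mul hAdjT
  have hcomm : (1 - M) * (1 + M) = (1 + M) * (1 - M) := by noncomm_ring
  have hone : T' * (1 + -M) * u = 1 := by
    rw [hu, ← sub_eq_add_neg]
    calc T' * (1 - M) * ((1 + M) * T) = T' * ((1 - M) * (1 + M)) * T := by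
          simp only [mul_assoc]
      _ = T' * ((1 + M) * (1 - M)) * T := by rw [hcomm]
      _ = (T' * (1 + M)) * ((1 - M) * T) := by simp only [mul_assoc]
      _ = 1 := by rw [hT'2, hT1, mul_one]
  -- `u - 1 = C * M` with `C = 2 T` invertible
  set C : V →ₗ[F] V := (2 : F) • T with hC
  set D : V →ₗ[F] V := (2 : F)⁻¹ • (1 - M) with hD
  have hDC : D * C = 1 := by
    rw [hD, hC, smul_mul_smul_comm, inv_mul_cancel₀ h2, one_smul, hT1]
  have hu1 : u - 1 = C * M := by
    have e1 : u - 1 = (1 + M) * T - (1 - M) * T := by rw [hu, hT1]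
    rw [e1, ← sub_mul]
    have e2 : (1 + M) - (1 - M) = (2 : F) • M := by
      rw [two_smul]; abel
    rw [e2, hC, smul_mul_assoc, smul_mul_assoc, hMT.eq]
  have hCM : Commute C M := by
    rw [hC]
    exact (hMT.symm).smul_left _
  have hDCk : ∀ k : ℕ, D ^ k * C ^ k = 1 := by
    intro k
    have hcDC : Commute D C := by
      rw [hD, hC]
      have h1 : Commute (1 - M) T := by
        unfold Commute SemiconjBy
        rw [hT1, hT2]
      exact (h1.smul_left _).smul_right _
    rw [← hcDC.mul_pow, hDC, one_pow]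
  refine ⟨u, ?_, ?_, ?_⟩
  · -- isometry
    intro x y
    rw [hAdju x (u y), ← Module.End.mul_apply, hone]
    rfl
  · -- `u ^ p = 1`
    rcases subsingleton_or_nontrivial (V →ₗ[F] V) with hsub | hnt
    · exact Subsingleton.elim _ _
    · haveI : CharP (Module.End F V) p :=
        charP_of_injective_algebraMap (algebraMap F (Module.End F V)).injective p
      have h1 : (u - 1) ^ p = u ^ p - 1 ^ p := sub_pow_char_of_commute p (Commute.one_right u)
      rw [hu1, hCM.mul_pow, hM, mul_zero, one_pow] at h1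
      exact (sub_eq_zero.mp h1.symm)
  · -- kernels
    intro k
    ext x
    rw [LinearMap.mem_ker, LinearMap.mem_ker, hu1, hCM.mul_pow, Module.End.mul_apply]
    constructor
    · intro h
      have := congrArg (D ^ k) h
      rw [← Module.End.mul_apply, hDCk k, map_zero] at this
      exact this
    · intro h
      rw [h, map_zero]

end Cfsg.Agent.Lib.Helper80.Nd
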