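import Mathlib
import Cfsg.Agent.Lib.Helper06.NFDefs

set_option autoImplicit false
set_option linter.style.haveILetI false
set_option linter.unusedSectionVars false
set_option linter.unusedTactic false
set_option linter.unreachableTactic false
set_option linter.unusedVariables false

/-!
# K-S0688-6 : `|C_H(A) : A|` divides 24

A nonabelian normal subgroup `Q` of order 8 with `C_C(Q) = A` (`C = C_H(A)`): `C` acts on the 24
non-commuting ordered pairs of `Q` with all point stabilizers equal to `A`.
-/

namespace Cfsg.Agent.Lib.Helper80.NF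

theorem dvd_eight_cases (n : ℕ) (hn : n ∣ 8) : n = 1 ∨ n = 2 ∨ n = 4 ∨ n = 8 := by
  have h := Nat.le_of_dvd (by norm_num) hn
  interval_cases n <;> simp_all <;> omega

section Eight

variable {G : Type*} [Group G] [Finite G]

theorem card_subgroup_cases (h8 : Nat.card G = 8) (K : Subgroup G) :
    Nat.card K = 1 ∨ Nat.card K = 2 ∨ Nat.card K = 4 ∨ Nat.card K = 8 :=
  dvd_eight_cases _ (h8 ▸ Subgroup.card_subgroup_dvd_card K)

/-- a subgroup of a group of order 8 containing two non-commuting elements is everything. -/
theorem eq_top_of_noncomm (h8 : Nat.card G = 8) (D : Subgroup G) (u v : G) (hu : u ∈ D)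
    (hv : v ∈ D) (huv : u * v ≠ v * u) : D = ⊤ := by
  rcases card_subgroup_cases h8 D with h | h | h | h
  · exfalso
    have hD : D = ⊥ := Subgroup.card_eq_one.mp h
    rw [hD, Subgroup.mem_bot] at hu
    apply huv
    rw [hu, one_mul, mul_one]
  · exfalso
    haveI : Fact (Nat.Prime 2) := ⟨Nat.prime_two⟩
    haveI : IsCyclic D := isCyclic_of_prime_card (p := 2) h
    have hc : (⟨u, hu⟩ : D) * ⟨v, hv⟩ = ⟨v, hv⟩ * ⟨u, hu⟩ :=
      (IsCyclic.commGroup (α := D)).mul_comm _ _
    apply huv
    exact congrArg Subtype.val hc
  · exfalso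
    haveI : Fact (Nat.Prime 2) := ⟨Nat.prime_two⟩
    haveI : IsMulCommutative D :=
      IsPGroup.isMulCommutative_of_card_eq_prime_sq (p := 2) (by rw [h]; norm_num)
    have hc : (⟨u, hu⟩ : D) * ⟨v, hv⟩ = ⟨v, hv⟩ * ⟨u, hu⟩ :=
      IsMulCommutative.is_comm.comm _ _
    apply huv
    exact congrArg Subtype.val hc
  · exact (Subgroup.card_eq_iff_eq_top D).mp (h.trans h8.symm)

theorem centralizer_singleton_eq_top_iff (u : G) :
    Subgroup.centralizer ({u} : Set G) = ⊤ ↔ u ∈ Subgroup.center G := by
  constructor
  · intro h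
    rw [Subgroup.mem_center_iff]
    intro g
    have hg : g ∈ Subgroup.centralizer ({u} : Set G) := by rw [h]; trivial
    rw [Subgroup.mem_centralizer_iff] at hg
    exact (hg u rfl).symm
  · intro h
    rw [eq_top_iff]
    intro g _
    rw [Subgroup.mem_centralizer_iff]
    intro x hx
    rw [Set.mem_singleton_iff] at hx
    rw [hx]
    rw [Subgroup.mem_center_iff] at h
    exact (h g).symm

theorem card_center_eq_two (h8 : Nat.card G = 8) (hna : ∃ u v : G, u * v ≠ v * u) :
    Nat.card (Subgroup.center G) = 2 := by
  haveI : Fact (Nat.Prime 2) := ⟨Nat.prime_two⟩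
  have hp : IsPGroup 2 G := IsPGroup.of_card (n := 3) (by rw [h8]; norm_num)
  haveI : Nontrivial G := by
    rw [← Finite.one_lt_card_iff_nontrivial, h8]; norm_num
  obtain ⟨u, v, huv⟩ := hna
  have hu : u ∉ Subgroup.center G := by
    intro h
    rw [Subgroup.mem_center_iff] at h
    exact huv (h v).symm
  have hle : Subgroup.center G ≤ Subgroup.centralizer ({u} : Set G) :=
    Subgroup.center_le_centralizer _
  have huC : u ∈ Subgroup.centralizer ({u} : Set G) := by
    rw [Subgroup.mem_centralizer_iff]
    intro x hx
    rw [Set.mem_singleton_iff] at hx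
    rw [hx]
  have hCtop : Subgroup.centralizer ({u} : Set G) ≠ ⊤ := by
    intro h
    exact hu ((centralizer_singleton_eq_top_iff u).mp h)
  have hne : Subgroup.center G ≠ Subgroup.centralizer ({u} : Set G) := by
    intro h
    apply hu
    rw [h]
    exact huC
  have hcard_le := Subgroup.card_le_of_le hle
  have hC8 : Nat.card (Subgroup.centralizer ({u} : Set G)) ≠ 8 := by
    intro h
    exact hCtop ((Subgroup.card_eq_iff_eq_top _).mp (h.trans h8.symm))
  have hge : ¬ (Nat.card (Subgroup.centralizer ({u} : Set G)) ≤ Nat.card (Subgroup.center G)) := by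
    intro h
    exact hne (Subgroup.eq_of_le_of_card_ge hle h)
  have hZ1 : Nat.card (Subgroup.center G) ≠ 1 := by
    intro h
    have hb : Subgroup.center G = ⊥ := Subgroup.card_eq_one.mp h
    have hnt := IsPGroup.center_nontrivial hp
    rw [hb] at hnt
    exact not_nontrivial _ hnt
  rcases card_subgroup_cases h8 (Subgroup.center G) with h | h | h | h
  · exact absurd h hZ1
  · exact h
  · exfalso
    rcases card_subgroup_cases h8 (Subgroup.centralizer ({u} : Set G)) with h' | h' | h' | h'
    · omega
    · omega
    · omega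
    · exact hC8 h'
  · exfalso
    rcases card_subgroup_cases h8 (Subgroup.centralizer ({u} : Set G)) with h' | h' | h' | h'
    · omega
    · omega
    · omega
    · exact hC8 h'

theorem card_centralizer_eq_four (h8 : Nat.card G = 8) (u : G) (hu : u ∉ Subgroup.center G) :
    Nat.card (Subgroup.centralizer ({u} : Set G)) = 4 := by
  have hna : ∃ u v : G, u * v ≠ v * u := by
    by_contra hcon
    push Not at hcon
    apply hu
    rw [Subgroup.mem_center_iff]
    intro g
    exact (hcon u g).symm
  have hZ := card_center_eq_two h8 hna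
  have hle : Subgroup.center G ≤ Subgroup.centralizer ({u} : Set G) :=
    Subgroup.center_le_centralizer _
  have huC : u ∈ Subgroup.centralizer ({u} : Set G) := by
    rw [Subgroup.mem_centralizer_iff]
    intro x hx
    rw [Set.mem_singleton_iff] at hx
    rw [hx]
  have hCtop : Subgroup.centralizer ({u} : Set G) ≠ ⊤ := by
    intro h
    exact hu ((centralizer_singleton_eq_top_iff u).mp h)
  have hne : Subgroup.center G ≠ Subgroup.centralizer ({u} : Set G) := by
    intro h
    apply hu
    rw [h]
    exact huC
  have hC8 : Nat.card (Subgroup.centralizer ({u} : Set G)) ≠ 8 := by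
    intro h
    exact hCtop ((Subgroup.card_eq_iff_eq_top _).mp (h.trans h8.symm))
  have hge : ¬ (Nat.card (Subgroup.centralizer ({u} : Set G)) ≤ Nat.card (Subgroup.center G)) := by
    intro h
    exact hne (Subgroup.eq_of_le_of_card_ge hle h)
  rcases card_subgroup_cases h8 (Subgroup.centralizer ({u} : Set G)) with h' | h' | h' | h'
  · omega
  · omega
  · exact h'
  · exact absurd h' hC8

/-- the number of non-commuting ordered pairs in a nonabelian group of order 8 is 24. -/
theorem card_noncomm_pairs (h8 : Nat.card G = 8) (hna : ∃ u v : G, u * v ≠ v * u) :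
    Nat.card {p : G × G // p.1 * p.2 ≠ p.2 * p.1} = 24 := by
  classical
  haveI : Fintype G := Fintype.ofFinite G
  have hZ := card_center_eq_two h8 hna
  have e : {p : G × G // p.1 * p.2 ≠ p.2 * p.1} ≃ Σ u : G, {v : G // u * v ≠ v * u} :=
    Equiv.subtypeProdEquivSigmaSubtype (fun u v : G => u * v ≠ v * u)
  rw [Nat.card_congr e, Nat.card_sigma]
  have hfib : ∀ u : G, Nat.card {v : G // u * v ≠ v * u} =
      if u ∈ Subgroup.center G then 0 else 4 := by
    intro u
    have hset : {v : G | u * v ≠ v * u} = ((Subgroup.centralizer ({u} : Set G) : Set G))ᶜ := by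
      ext v
      rw [Set.mem_compl_iff, SetLike.mem_coe, Subgroup.mem_centralizer_iff]
      simp only [Set.mem_singleton_iff, forall_eq]
      exact Iff.rfl
    have h1 : Nat.card {v : G // u * v ≠ v * u} = ({v : G | u * v ≠ v * u}).ncard := rfl
    have h2 := Set.ncard_add_ncard_compl ((Subgroup.centralizer ({u} : Set G) : Set G))
    have h3 : ((Subgroup.centralizer ({u} : Set G) : Set G)).ncard =
        Nat.card (Subgroup.centralizer ({u} : Set G)) := rfl
    rw [h1, hset]
    rw [h3, h8] at h2
    split_ifs with hu
    · have : Subgroup.centralizer ({u} : Set G) = ⊤ := (centralizer_singleton_eq_top_iff u).mpr hu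
      have h4 : Nat.card (Subgroup.centralizer ({u} : Set G)) = 8 := by
        rw [this, Subgroup.card_top, h8]
      omega
    · have h4 := card_centralizer_eq_four h8 u hu
      omega
  simp_rw [hfib]
  rw [Finset.sum_ite, Finset.sum_const_zero, Finset.sum_const, smul_eq_mul, zero_add]
  have h5 := Finset.card_filter_add_card_filter_not (s := (Finset.univ : Finset G))
    (fun u => u ∈ Subgroup.center G)
  have h6 : (Finset.univ.filter (fun u : G => u ∈ Subgroup.center G)).card = 2 := by
    rw [← hZ, Nat.card_eq_fintype_card, Fintype.card_subtype]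
  have h7 : (Finset.univ : Finset G).card = 8 := by
    rw [Finset.card_univ, ← Nat.card_eq_fintype_card, h8]
  rw [h6, h7] at h5
  have h8' : (Finset.univ.filter (fun u : G => ¬ u ∈ Subgroup.center G)).card = 6 := by omega
  rw [h8']

end Eight

section Action

/-- if all point stabilizers equal `S`, then `|K : S|` divides the size of the set. -/
theorem index_dvd_card_of_stabilizer_eq {K X : Type*} [Group K] [MulAction K X] [Finite K]
    [Finite X] (S : Subgroup K) (h : ∀ x : X, MulAction.stabilizer K x = S) :
    S.index ∣ Nat.card X := by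
  classical
  haveI : Fintype (Quotient (MulAction.orbitRel K X)) := Fintype.ofFinite _
  have e := MulAction.selfEquivSigmaOrbitsQuotientStabilizer K X
  rw [Nat.card_congr e, Nat.card_sigma]
  apply Finset.dvd_sum
  intro ω _
  rw [h]
  exact dvd_rfl

/-- the action of `K` on non-commuting pairs of `Q` through `φ : K →* MulAut Q`. -/
@[reducible] def pairAction {K Q : Type*} [Group K] [Group Q] (φ : K →* MulAut Q) :
    MulAction K {p : Q × Q // p.1 * p.2 ≠ p.2 * p.1} where
  smul k x := ⟨(φ k x.1.1, φ k x.1.2), by
    intro h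
    apply x.2
    apply (φ k).injective
    rw [map_mul, map_mul]
    exact h⟩
  one_smul x := by
    apply Subtype.ext
    apply Prod.ext
    · change φ 1 x.1.1 = x.1.1
      rw [map_one, MulAut.one_apply]
    · change φ 1 x.1.2 = x.1.2
      rw [map_one, MulAut.one_apply]
  mul_smul k l x := by
    apply Subtype.ext
    apply Prod.ext
    · change φ (k * l) x.1.1 = φ k (φ l x.1.1)
      rw [map_mul, MulAut.mul_apply]
    · change φ (k * l) x.1.2 = φ k (φ l x.1.2)
      rw [map_mul, MulAut.mul_apply]

end Action

variable {H : Type*} [Group H] [Finite H]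

/-- K-S0688-6. -/
theorem relIndex_centralizer_dvd (A Q : Subgroup H) (hQn : Q.Normal)
    (hQ8 : Nat.card Q = 8) (hQna : ∃ u ∈ Q, ∃ v ∈ Q, u * v ≠ v * u)
    (hinv : ∀ u v : H, u * u = 1 → u ≠ 1 → v * v = 1 → v ≠ 1 → u = v)
    (hAc : ∀ a ∈ A, ∀ b ∈ A, a * b = b * a)
    (hCQ : Subgroup.centralizer (Q : Set H) ⊓ Subgroup.centralizer (A : Set H) = A) :
    A.relIndex (Subgroup.centralizer (A : Set H)) ∣ 24 := by
  classical
  haveI := hQn
  have hna' : ∃ u v : Q, u * v ≠ v * u := by
    obtain ⟨u, hu, v, hv, huv⟩ := hQna
    refine ⟨⟨u, hu⟩, ⟨v, hv⟩, ?_⟩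
    intro h
    exact huv (congrArg Subtype.val h)
  have h24 := card_noncomm_pairs hQ8 hna'
  let φ : (Subgroup.centralizer (A : Set H)) →* MulAut Q :=
    (MulAut.conjNormal (H := Q)).comp (Subgroup.centralizer (A : Set H)).subtype
  letI : MulAction (Subgroup.centralizer (A : Set H)) {p : Q × Q // p.1 * p.2 ≠ p.2 * p.1} :=
    pairAction φ
  have hstab : ∀ x : {p : Q × Q // p.1 * p.2 ≠ p.2 * p.1},
      MulAction.stabilizer (Subgroup.centralizer (A : Set H)) x =
        A.subgroupOf (Subgroup.centralizer (A : Set H)) := by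
    intro x
    ext c
    rw [MulAction.mem_stabilizer_iff, Subgroup.mem_subgroupOf]
    have hsm : c • x = ⟨(φ c x.1.1, φ c x.1.2), (c • x).2⟩ := rfl
    have hφ : ∀ q : Q, ((φ c q : Q) : H) = (c : H) * q * (c : H)⁻¹ := by
      intro q
      exact MulAut.conjNormal_apply (c : H) q
    constructor
    · intro hcx
      have h1 : φ c x.1.1 = x.1.1 := by
        have := congrArg (fun y => y.1.1) hcx
        exact this
      have h2 : φ c x.1.2 = x.1.2 := by
        have := congrArg (fun y => y.1.2) hcx
        exact this
      have h1' : (c : H) * (x.1.1 : H) * (c : H)⁻¹ = x.1.1 := by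
        rw [← hφ, h1]
      have h2' : (c : H) * (x.1.2 : H) * (c : H)⁻¹ = x.1.2 := by
        rw [← hφ, h2]
      -- the subgroup of `Q` commuting with `c`
      have hD := eq_top_of_noncomm hQ8
        ((Subgroup.centralizer ({(c : H)} : Set H)).subgroupOf Q) x.1.1 x.1.2
        (by
          rw [Subgroup.mem_subgroupOf, Subgroup.mem_centralizer_iff]
          intro y hy
          rw [Set.mem_singleton_iff] at hy
          rw [hy]
          calc (c : H) * (x.1.1 : H) = (c : H) * (x.1.1 : H) * (c : H)⁻¹ * c := by group
            _ = (x.1.1 : H) * c := by rw [h1'])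
        (by
          rw [Subgroup.mem_subgroupOf, Subgroup.mem_centralizer_iff]
          intro y hy
          rw [Set.mem_singleton_iff] at hy
          rw [hy]
          calc (c : H) * (x.1.2 : H) = (c : H) * (x.1.2 : H) * (c : H)⁻¹ * c := by group
            _ = (x.1.2 : H) * c := by rw [h2'])
        x.2
      have hgoal : (c : H) ∈ Subgroup.centralizer (Q : Set H) ⊓
          Subgroup.centralizer (A : Set H) := by
        refine Subgroup.mem_inf.mpr ⟨?_, c.2⟩
        rw [Subgroup.mem_centralizer_iff]
        intro q hq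
        have hq' : (⟨q, hq⟩ : Q) ∈ (Subgroup.centralizer ({(c : H)} : Set H)).subgroupOf Q := by
          rw [hD]; trivial
        rw [Subgroup.mem_subgroupOf, Subgroup.mem_centralizer_iff] at hq'
        exact (hq' (c : H) rfl).symm
      rw [hCQ] at hgoal
      exact hgoal
    · intro hcA
      have hcQ : (c : H) ∈ Subgroup.centralizer (Q : Set H) := by
        have hh : (c : H) ∈ Subgroup.centralizer (Q : Set H) ⊓
            Subgroup.centralizer (A : Set H) := by
          rw [hCQ]; exact hcA
        exact (Subgroup.mem_inf.mp hh).1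
      rw [Subgroup.mem_centralizer_iff] at hcQ
      have hfix : ∀ q : Q, φ c q = q := by
        intro q
        apply Subtype.ext
        rw [hφ]
        have := hcQ q q.2
        calc (c : H) * (q : H) * (c : H)⁻¹ = (q : H) * c * (c : H)⁻¹ := by rw [this]
          _ = q := by group
      rw [hsm]
      apply Subtype.ext
      apply Prod.ext
      · exact hfix _
      · exact hfix _
  have hdvd := index_dvd_card_of_stabilizer_eq
    (A.subgroupOf (Subgroup.centralizer (A : Set H))) hstab
  rw [h24] at hdvd
  exact hdvd

end Cfsg.Agent.Lib.Helper80.NF
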