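import Mathlib
import Cfsg.Agent.Lib.Helper06.NFDefs

/-!
# K-S3360-LIa: coset representatives of `A` in `B` are linearly independent over `adj H A`
-/

set_option autoImplicit false

namespace Cfsg.Agent.Lib.Helper80.NF2

open Cfsg.Agent.Lib.Helper06.NF

variable {p : ℕ} [Fact p.Prime] {V : Type*} [AddCommGroup V] [Module (ZMod p) V]

/-- the natural monoid hom `H → End V`. -/
def Lm (H : Subgroup (V ≃ₗ[ZMod p] V)) : H →* Module.End (ZMod p) V where
  toFun h := (((h : H) : V ≃ₗ[ZMod p] V) : V →ₗ[ZMod p] V)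
  map_one' := by
    ext v
    simp
  map_mul' a b := by
    ext v
    simp

theorem Lm_apply (H : Subgroup (V ≃ₗ[ZMod p] V)) (h : H) :
    Lm H h = (((h : H) : V ≃ₗ[ZMod p] V) : V →ₗ[ZMod p] V) := rfl

theorem Lm_injective (H : Subgroup (V ≃ₗ[ZMod p] V)) : Function.Injective (Lm H) := by
  intro a b hab
  apply Subtype.ext
  apply LinearEquiv.ext
  intro v
  exact LinearMap.congr_fun hab v

theorem Lm_mem_adj (H : Subgroup (V ≃ₗ[ZMod p] V)) (A : Subgroup H) {a : H} (ha : a ∈ A) :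
    Lm H a ∈ adj H A :=
  Algebra.subset_adjoin ⟨a, ha, rfl⟩

theorem adj_comm (H : Subgroup (V ≃ₗ[ZMod p] V)) (A : Subgroup H)
    (hAc : ∀ a ∈ A, ∀ b ∈ A, a * b = b * a) :
    ∀ x ∈ adj H A, ∀ y ∈ adj H A, x * y = y * x := by
  have hgen : ∀ f ∈ {f : Module.End (ZMod p) V | ∃ a ∈ A,
      f = (((a : H) : V ≃ₗ[ZMod p] V) : V →ₗ[ZMod p] V)},
      ∀ g ∈ {f : Module.End (ZMod p) V | ∃ a ∈ A,
      f = (((a : H) : V ≃ₗ[ZMod p] V) : V →ₗ[ZMod p] V)}, f * g = g * f := by
    rintro f ⟨a, ha, rfl⟩ g ⟨b, hb, rfl⟩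
    ext v
    have := congrArg (fun h : H => ((h : V ≃ₗ[ZMod p] V) v)) (hAc a ha b hb)
    simpa using this
  have hI : IsMulCommutative ↥(adj H A) := Algebra.isMulCommutative_adjoin (ZMod p) hgen
  intro x hx y hy
  exact setLike_mul_comm hx hy

theorem Lm_comm_adj (H : Subgroup (V ≃ₗ[ZMod p] V)) (A : Subgroup H) {z : H}
    (hz : z ∈ Subgroup.centralizer (A : Set H)) :
    ∀ k ∈ adj H A, Lm H z * k = k * Lm H z := by
  intro k hk
  induction hk using Algebra.adjoin_induction with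
  | mem f hf =>
    obtain ⟨a, ha, rfl⟩ := hf
    have h1 : a * z = z * a := Subgroup.mem_centralizer_iff.mp hz a ha
    have h2 := congrArg (Lm H) h1
    rw [map_mul, map_mul] at h2
    exact h2.symm
  | algebraMap r => exact (Algebra.commutes r _).symm
  | add f g hf hg ihf ihg => rw [mul_add, add_mul, ihf, ihg]
  | mul f g hf hg ihf ihg => rw [← mul_assoc, ihf, mul_assoc, ihg, ← mul_assoc]

theorem coset_reps_aux (H : Subgroup (V ≃ₗ[ZMod p] V)) (A B : Subgroup H)
    (hAc : ∀ a ∈ A, ∀ b ∈ A, a * b = b * a)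
    (hK : ∀ k ∈ adj H A, ∀ v : V, v ≠ 0 → k v = 0 → k = 0)
    (hBC : B ≤ Subgroup.centralizer (A : Set H))
    (hZ : ∀ x ∈ B, (∀ y ∈ B, x * y = y * x) → x ∈ A)
    (hcomm : ∀ x ∈ B, ∀ y ∈ B, x * y * x⁻¹ * y⁻¹ ∈ A) :
    ∀ (n : ℕ) (T : Finset H), T.card = n → (∀ t ∈ T, t ∈ B) →
    (∀ s ∈ T, ∀ t ∈ T, s⁻¹ * t ∈ A → s = t) →
    ∀ (k : H → Module.End (ZMod p) V), (∀ t ∈ T, k t ∈ adj H A) →
    (∑ t ∈ T, k t * Lm H t = 0) → ∀ t ∈ T, k t = 0 := by
  classical
  intro n
  induction n with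
  | zero =>
    intro T hT _ _ k _ _ t ht
    rw [Finset.card_eq_zero] at hT
    rw [hT] at ht
    exact absurd ht (Finset.notMem_empty t)
  | succ n ih =>
    intro T hT hTB hTA k hk hsum t0 ht0
    by_contra hkt0
    by_cases hsingle : ∀ s ∈ T, s = t0
    · -- T = {t0}
      have hTeq : T = {t0} := by
        ext s
        rw [Finset.mem_singleton]
        exact ⟨hsingle s, fun h => h ▸ ht0⟩
      rw [hTeq, Finset.sum_singleton] at hsum
      apply hkt0
      have h1 : k t0 * Lm H t0 * Lm H t0⁻¹ = 0 := by rw [hsum, zero_mul]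
      rw [mul_assoc, ← map_mul, mul_inv_cancel, map_one, mul_one] at h1
      exact h1
    · push Not at hsingle
      obtain ⟨s, hsT, hst0⟩ := hsingle
      have hsB := hTB s hsT
      have ht0B := hTB t0 ht0
      have huA : s⁻¹ * t0 ∉ A := fun h => hst0 (hTA s hsT t0 ht0 h)
      have huB : s⁻¹ * t0 ∈ B := B.mul_mem (B.inv_mem hsB) ht0B
      obtain ⟨b, hbB, hbu⟩ : ∃ b ∈ B, (s⁻¹ * t0) * b ≠ b * (s⁻¹ * t0) := by
        by_contra hcon
        push Not at hcon
        exact huA (hZ _ huB hcon)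
      have hbC : b ∈ Subgroup.centralizer (A : Set H) := hBC hbB
      -- the commutator function
      set c : H → H := fun t => b * t * b⁻¹ * t⁻¹ with hc
      have hcA : ∀ t ∈ T, c t ∈ A := fun t ht => hcomm b hbB t (hTB t ht)
      have hconj : ∀ t, b * t * b⁻¹ = c t * t := by
        intro t
        simp only [hc]
        group
      -- conjugate the relation by b
      have eq2 : ∑ t ∈ T, k t * Lm H (c t) * Lm H t = 0 := by
        have h1 : Lm H b * (∑ t ∈ T, k t * Lm H t) * Lm H b⁻¹ = 0 := by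
          rw [hsum, mul_zero, zero_mul]
        rw [Finset.mul_sum, Finset.sum_mul] at h1
        rw [← h1]
        refine Finset.sum_congr rfl (fun t ht => ?_)
        rw [← mul_assoc, Lm_comm_adj H A hbC (k t) (hk t ht), mul_assoc (k t), mul_assoc (k t),
          mul_assoc (k t), ← map_mul, ← map_mul, ← map_mul, hconj t]
      -- multiply the relation by c s
      have eq3 : ∑ t ∈ T, k t * Lm H (c s) * Lm H t = 0 := by
        have h1 : Lm H (c s) * (∑ t ∈ T, k t * Lm H t) = 0 := by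
          rw [hsum, mul_zero]
        rw [Finset.mul_sum] at h1
        rw [← h1]
        refine Finset.sum_congr rfl (fun t ht => ?_)
        rw [← mul_assoc, adj_comm H A hAc _ (Lm_mem_adj H A (hcA s hsT)) _ (hk t ht)]
      -- subtract
      set k' : H → Module.End (ZMod p) V := fun t => k t * (Lm H (c t) - Lm H (c s)) with hk'
      have eq4 : ∑ t ∈ T, k' t * Lm H t = 0 := by
        have h1 : ∑ t ∈ T, (k t * Lm H (c t) * Lm H t - k t * Lm H (c s) * Lm H t) = 0 := by
          rw [Finset.sum_sub_distrib, eq2, eq3, sub_zero]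
        rw [← h1]
        refine Finset.sum_congr rfl (fun t _ => ?_)
        simp only [hk']
        rw [mul_sub, sub_mul]
      have eq5 : ∑ t ∈ T.erase s, k' t * Lm H t = 0 := by
        have h1 := Finset.add_sum_erase T (fun t => k' t * Lm H t) hsT
        rw [eq4] at h1
        have h2 : k' s * Lm H s = 0 := by
          simp only [hk']
          rw [sub_self, mul_zero, zero_mul]
        rw [h2, zero_add] at h1
        exact h1
      have hcard : (T.erase s).card = n := by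
        rw [Finset.card_erase_of_mem hsT, hT]
        rfl
      have ht0' : t0 ∈ T.erase s := Finset.mem_erase.mpr ⟨fun h => hst0 h.symm, ht0⟩
      have hres := ih (T.erase s) hcard
        (fun t ht => hTB t (Finset.mem_of_mem_erase ht))
        (fun s' hs' t ht => hTA s' (Finset.mem_of_mem_erase hs') t (Finset.mem_of_mem_erase ht))
        k'
        (fun t ht => (adj H A).mul_mem (hk t (Finset.mem_of_mem_erase ht))
          ((adj H A).sub_mem (Lm_mem_adj H A (hcA t (Finset.mem_of_mem_erase ht)))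
            (Lm_mem_adj H A (hcA s hsT))))
        eq5 t0 ht0'
      -- d := Lm (c t0) - Lm (c s) is a nonzero element of adj H A
      have hd : Lm H (c t0) - Lm H (c s) ≠ 0 := by
        intro h
        have h1 : c t0 = c s := Lm_injective H (sub_eq_zero.mp h)
        apply hbu
        -- b (s⁻¹ t0) b⁻¹ = s⁻¹ t0
        have h2 : b * (s⁻¹ * t0) * b⁻¹ = s⁻¹ * t0 := by
          have e1 : b * (s⁻¹ * t0) * b⁻¹ = (b * s * b⁻¹)⁻¹ * (b * t0 * b⁻¹) := by group
          rw [e1, hconj s, hconj t0, h1]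
          group
        have h3 : b * (s⁻¹ * t0) = (s⁻¹ * t0) * b := by
          have := congrArg (· * b) h2
          simpa [mul_assoc] using this
        exact h3.symm
      obtain ⟨v, hv⟩ : ∃ v, (Lm H (c t0) - Lm H (c s)) v ≠ 0 := by
        by_contra hcon
        push Not at hcon
        exact hd (LinearMap.ext hcon)
      have h5 : k t0 ((Lm H (c t0) - Lm H (c s)) v) = 0 := by
        have := LinearMap.congr_fun hres v
        simpa [hk'] using this
      exact hkt0 (hK (k t0) (hk t0 ht0) _ hv h5)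

theorem coset_reps_independent [Finite V] (H : Subgroup (V ≃ₗ[ZMod p] V)) (A B : Subgroup H)
    (hAc : ∀ a ∈ A, ∀ b ∈ A, a * b = b * a)
    (hK : ∀ k ∈ adj H A, ∀ v : V, v ≠ 0 → k v = 0 → k = 0)
    (hBC : B ≤ Subgroup.centralizer (A : Set H))
    (hZ : ∀ x ∈ B, (∀ y ∈ B, x * y = y * x) → x ∈ A)
    (hcomm : ∀ x ∈ B, ∀ y ∈ B, x * y * x⁻¹ * y⁻¹ ∈ A)
    (T : Finset H) (hTB : ∀ t ∈ T, t ∈ B) (hTA : ∀ s ∈ T, ∀ t ∈ T, s⁻¹ * t ∈ A → s = t)
    (k : H → Module.End (ZMod p) V) (hk : ∀ t ∈ T, k t ∈ adj H A)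
    (hsum : ∑ t ∈ T, k t * (((t : H) : V ≃ₗ[ZMod p] V) : V →ₗ[ZMod p] V) = 0) :
    ∀ t ∈ T, k t = 0 :=
  coset_reps_aux H A B hAc hK hBC hZ hcomm T.card T rfl hTB hTA k hk hsum

end Cfsg.Agent.Lib.Helper80.NF2
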