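import Mathlib
import Cfsg.Agent.Lib.Helper06.NFDefs
import Cfsg.Agent.Lib.Helper80.NF2LIa

/-!
# K-S3360-LIb: `|B : A| ≤ e^2`, and in case of equality `C_C(B) ≤ Z(C)`.
-/

set_option autoImplicit false
set_option linter.style.haveILetI false

namespace Cfsg.Agent.Lib.Helper80.NF2

open Cfsg.Agent.Lib.Helper06.NF

/-- a linearly independent family of endomorphisms has at most `(dim V)^2` members, and if it has
exactly that many, anything commuting with the family is central. -/
theorem li_card_le {K : Type*} [Field K] {V : Type*} [AddCommGroup V] [Module K V]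
    [FiniteDimensional K V] {ι : Type*} [Fintype ι] (τ : ι → Module.End K V)
    (hli : LinearIndependent K τ) :
    Fintype.card ι ≤ (Module.finrank K V) ^ 2 ∧
    (Fintype.card ι = (Module.finrank K V) ^ 2 → ∀ c : Module.End K V,
      (∀ i, c * τ i = τ i * c) → ∀ f : Module.End K V, c * f = f * c) := by
  have hfr : Module.finrank K (Module.End K V) = (Module.finrank K V) ^ 2 := by
    rw [Module.finrank_linearMap, sq]
  constructor
  · rw [← hfr]
    exact hli.fintype_card_le_finrank
  · intro hcard c hc f
    have hspan : Submodule.span K (Set.range τ) = ⊤ :=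
      hli.span_eq_top_of_card_eq_finrank' (by rw [hcard, hfr])
    have hmem : f ∈ Submodule.span K (Set.range τ) := by
      rw [hspan]
      trivial
    induction hmem using Submodule.span_induction with
    | mem x hx =>
      obtain ⟨i, rfl⟩ := hx
      exact hc i
    | zero => simp
    | add x y _ _ hx hy => rw [mul_add, add_mul, hx, hy]
    | smul a x _ hx => rw [mul_smul_comm, smul_mul_assoc, hx]

variable {p : ℕ} [Fact p.Prime] {V : Type*} [AddCommGroup V] [Module (ZMod p) V]

theorem relIndex_le_sq [Finite V] [Nontrivial V] (H : Subgroup (V ≃ₗ[ZMod p] V)) (A B : Subgroup H)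
    (hAc : ∀ a ∈ A, ∀ b ∈ A, a * b = b * a)
    (hK : ∀ k ∈ adj H A, ∀ v : V, v ≠ 0 → k v = 0 → k = 0)
    (hAB : A ≤ B) (hBC : B ≤ Subgroup.centralizer (A : Set H))
    (e : ℕ) (hV : Nat.card V = p ^ (Module.finrank (ZMod p) (adj H A) * e))
    (hLI : ∀ T : Finset H, (∀ t ∈ T, t ∈ B) → (∀ s ∈ T, ∀ t ∈ T, s⁻¹ * t ∈ A → s = t) →
      ∀ k : H → Module.End (ZMod p) V, (∀ t ∈ T, k t ∈ adj H A) →
      ∑ t ∈ T, k t * (((t : H) : V ≃ₗ[ZMod p] V) : V →ₗ[ZMod p] V) = 0 → ∀ t ∈ T, k t = 0) :
    A.relIndex B ≤ e ^ 2 ∧
    (A.relIndex B = e ^ 2 → ∀ c ∈ Subgroup.centralizer (A : Set H), (∀ b ∈ B, c * b = b * c) →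
      ∀ y ∈ Subgroup.centralizer (A : Set H), c * y = y * c) := by
  classical
  have hp : p.Prime := Fact.out
  haveI : Finite H := finite_subgroup_linearEquiv H
  have hc := adj_comm H A hAc
  haveI : Finite (Module.End (ZMod p) V) :=
    Finite.of_injective (fun f : Module.End (ZMod p) V => (f : V → V)) DFunLike.coe_injective
  haveI : Finite (adj H A) := inferInstance
  obtain ⟨v₁, hv₁⟩ := exists_ne (0 : V)
  letI : CommRing (adj H A) :=
    { (inferInstance : Ring (adj H A)) with
      mul_comm := fun x y => Subtype.ext (hc x.1 x.2 y.1 y.2) }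
  haveI : Nontrivial (adj H A) := by
    refine ⟨⟨0, 1, fun h => hv₁ ?_⟩⟩
    have h2 : ((0 : adj H A) : Module.End (ZMod p) V) v₁ =
        ((1 : adj H A) : Module.End (ZMod p) V) v₁ := by
      rw [h]
    simpa using h2.symm
  haveI : NoZeroDivisors (adj H A) := by
    refine ⟨fun {a b} hab => ?_⟩
    by_cases hb : b = 0
    · exact Or.inr hb
    · left
      have hb' : (b : Module.End (ZMod p) V) ≠ 0 := fun h => hb (Subtype.ext h)
      obtain ⟨v, hv⟩ : ∃ v, (b : Module.End (ZMod p) V) v ≠ 0 := by
        by_contra hcon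
        push Not at hcon
        exact hb' (LinearMap.ext hcon)
      have h1 : (a : Module.End (ZMod p) V) ((b : Module.End (ZMod p) V) v) = 0 := by
        have := congrArg (fun k : adj H A => (k : Module.End (ZMod p) V) v) hab
        simpa using this
      exact Subtype.ext (hK a.1 a.2 _ hv h1)
  haveI : IsDomain (adj H A) := NoZeroDivisors.to_isDomain (adj H A)
  letI : Fintype (adj H A) := Fintype.ofFinite (adj H A)
  letI : Field (adj H A) := Fintype.fieldOfDomain (adj H A)
  have hcardK : Nat.card (adj H A) = p ^ Module.finrank (ZMod p) (adj H A) := by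
    have := Module.natCard_eq_pow_finrank (K := ZMod p) (V := adj H A)
    rwa [Nat.card_zmod] at this
  have hcardV : Nat.card V = Nat.card (adj H A) ^ Module.finrank (adj H A) V :=
    Module.natCard_eq_pow_finrank (K := adj H A) (V := V)
  have hK1 : 1 < Nat.card (adj H A) := Finite.one_lt_card
  have hd : 0 < Module.finrank (ZMod p) (adj H A) := by
    rcases Nat.eq_zero_or_pos (Module.finrank (ZMod p) (adj H A)) with h | h
    · rw [h, pow_zero] at hcardK
      omega
    · exact h
  -- `e` is the `K`-dimension of `V`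
  have he : Module.finrank (adj H A) V = e := by
    rw [hcardK, ← pow_mul, hV] at hcardV
    have h1 := Nat.pow_right_injective hp.two_le hcardV
    exact (Nat.eq_of_mul_eq_mul_left hd h1).symm
  haveI : FiniteDimensional (adj H A) V := Module.Finite.of_finite
  -- the `K`-linear map attached to an element of the centralizer
  let τ : (Subgroup.centralizer (A : Set H)) → Module.End (adj H A) V := fun z =>
    { toFun := fun v => ((z : H) : V ≃ₗ[ZMod p] V) v
      map_add' := fun v w => map_add _ v w
      map_smul' := fun k v => by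
        have h1 := LinearMap.congr_fun (Lm_comm_adj H A z.2 k.1 k.2) v
        exact h1 }
  have hτ : ∀ z v, τ z v = ((z : H) : V ≃ₗ[ZMod p] V) v := fun _ _ => rfl
  have hτmul : ∀ z w, τ (z * w) = τ z * τ w := by
    intro z w
    ext v
    rfl
  have hτinj : Function.Injective τ := by
    intro z w hzw
    apply Subtype.ext
    apply Subtype.ext
    apply LinearEquiv.ext
    intro v
    have := LinearMap.congr_fun hzw v
    exact this
  -- the transversal
  let Q := B ⧸ A.subgroupOf B
  haveI : Finite Q := inferInstance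
  letI : Fintype Q := Fintype.ofFinite Q
  let r : Q → H := fun q => ((Quotient.out q : B) : H)
  have hrB : ∀ q, r q ∈ B := fun q => (Quotient.out q : B).2
  have hrA : ∀ q q', (r q)⁻¹ * r q' ∈ A → q = q' := by
    intro q q' h
    have h1 : ((Quotient.out q : B) : B ⧸ A.subgroupOf B) = ((Quotient.out q' : B) : B ⧸ A.subgroupOf B) := by
      rw [QuotientGroup.eq]
      exact h
    have h2 : ∀ q : Q, ((Quotient.out q : B) : B ⧸ A.subgroupOf B) = q := fun q => Quotient.out_eq' q
    rw [h2 q, h2 q'] at h1
    exact h1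
  have hr_inj : Function.Injective r := by
    intro q q' h
    apply hrA
    rw [h, inv_mul_cancel]
    exact A.one_mem
  have hcardQ : Fintype.card Q = A.relIndex B := by
    rw [← Nat.card_eq_fintype_card]
    rfl
  let τ' : Q → Module.End (adj H A) V := fun q => τ ⟨r q, hBC (hrB q)⟩
  have hli : LinearIndependent (adj H A) τ' := by
    rw [Fintype.linearIndependent_iff]
    intro g hg q0
    let T : Finset H := Finset.univ.image r
    let k : H → Module.End (ZMod p) V := fun h =>
      if hh : ∃ q, r q = h then ((g (Classical.choose hh) : adj H A) : Module.End (ZMod p) V) else 0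
    have hkr : ∀ q, k (r q) = ((g q : adj H A) : Module.End (ZMod p) V) := by
      intro q
      have hh : ∃ q', r q' = r q := ⟨q, rfl⟩
      simp only [k]
      rw [dif_pos hh]
      have := hr_inj (Classical.choose_spec hh)
      rw [this]
    have hsum : ∑ t ∈ T, k t * (((t : H) : V ≃ₗ[ZMod p] V) : V →ₗ[ZMod p] V) = 0 := by
      rw [Finset.sum_image (fun q _ q' _ h => hr_inj h)]
      ext v
      have h1 := LinearMap.congr_fun hg v
      rw [LinearMap.sum_apply] at h1
      rw [LinearMap.sum_apply, LinearMap.zero_apply]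
      rw [LinearMap.zero_apply] at h1
      rw [← h1]
      refine Finset.sum_congr rfl (fun q _ => ?_)
      rw [hkr q]
      rfl
    have hres := hLI T
      (fun t ht => by
        obtain ⟨q, _, rfl⟩ := Finset.mem_image.mp ht
        exact hrB q)
      (fun s hs t ht hst => by
        obtain ⟨q, _, rfl⟩ := Finset.mem_image.mp hs
        obtain ⟨q', _, rfl⟩ := Finset.mem_image.mp ht
        rw [hrA q q' hst])
      k
      (fun t ht => by
        obtain ⟨q, _, rfl⟩ := Finset.mem_image.mp ht
        rw [hkr q]
        exact (g q).2)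
      hsum (r q0) (Finset.mem_image.mpr ⟨q0, Finset.mem_univ _, rfl⟩)
    rw [hkr q0] at hres
    exact Subtype.ext hres
  obtain ⟨h1, h2⟩ := li_card_le τ' hli
  rw [hcardQ, he] at h1 h2
  refine ⟨h1, fun hcard c hcC hcB y hyC => ?_⟩
  have h3 := h2 hcard (τ ⟨c, hcC⟩) (fun q => by
    rw [← hτmul, ← hτmul]
    congr 1
    apply Subtype.ext
    exact hcB (r q) (hrB q)) (τ ⟨y, hyC⟩)
  rw [← hτmul, ← hτmul] at h3
  have h4 := hτinj h3
  exact congrArg Subtype.val h4

end Cfsg.Agent.Lib.Helper80.NF2
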