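import Mathlib
import Cfsg.Prelude.Def_GeometricClasses
import Cfsg.Agent.Lib.Helper61.AschDefs
import Cfsg.Agent.Lib.Helper32.Class2

set_option autoImplicit false
set_option linter.style.haveILetI false
set_option linter.unusedSectionVars false
set_option linter.unusedVariables false

/-!
# K-S5630-D1, part (a): scalars, centralizers of spanning groups, commutator characters,
linear independence of coset representatives.
-/

namespace Cfsg.Agent.Lib.Helper80.Asch

open Cfsg Cfsg.Geo Cfsg.Agent.Lib.Helper61.Asch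
open scoped Matrix MatrixGroups commutatorElement

variable {F : Type*} [Field F] {n : ℕ}

local notation "Mat" => Matrix (Fin n) (Fin n) F
local notation "Z" => scalars (Fin n) F

/-- the scalar embedding `Fˣ →* GL_n(F)`, whose range is `scalars`. -/
def scHom (n : ℕ) (F : Type*) [Field F] : Fˣ →* GL (Fin n) F :=
  Units.map (Matrix.scalar (Fin n) : F →+* Matrix (Fin n) (Fin n) F).toMonoidHom

theorem scalars_eq_range : (Z : Subgroup (GL (Fin n) F)) = (scHom n F).range := rfl

theorem scHom_coe (c : Fˣ) : ((scHom n F c : GL (Fin n) F) : Mat) = (c : F) • (1 : Mat) := by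
  simp [scHom, Matrix.smul_one_eq_diagonal]

theorem scHom_mem (c : Fˣ) : scHom n F c ∈ Z := ⟨c, rfl⟩

theorem exists_scHom_of_mem {g : GL (Fin n) F} (hg : g ∈ Z) : ∃ c : Fˣ, scHom n F c = g := hg

theorem scHom_injective [NeZero n] : Function.Injective (scHom n F) := by
  intro c d h
  have h1 : ((scHom n F c : GL (Fin n) F) : Mat) = ((scHom n F d : GL (Fin n) F) : Mat) := by rw [h]
  rw [scHom_coe, scHom_coe] at h1
  have h2 := congrFun (congrFun h1 0) 0
  simp only [Matrix.smul_apply, Matrix.one_apply_eq, smul_eq_mul, mul_one] at h2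
  exact Units.ext h2

/-- scalars are central. -/
theorem scalars_comm {z : GL (Fin n) F} (hz : z ∈ Z) (g : GL (Fin n) F) : z * g = g * z := by
  obtain ⟨c, rfl⟩ := exists_scHom_of_mem hz
  apply Units.ext
  rw [Units.val_mul, Units.val_mul, scHom_coe]
  rw [Matrix.smul_mul, Matrix.one_mul, Matrix.mul_smul, Matrix.mul_one]

theorem mem_scalars_of_forall_commute (g : GL (Fin n) F)
    (h : ∀ M : Mat, M * (g : Mat) = (g : Mat) * M) : g ∈ Z := by
  have h1 : (g : Mat) ∈ Set.range (Matrix.scalar (Fin n)) := by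
    rw [Matrix.mem_range_scalar_iff_commute_single']
    intro i j
    exact h _
  obtain ⟨c, hc⟩ := h1
  rw [mem_scalars_iff]
  by_cases hc0 : c = 0
  · have h2 : (g : Mat) * ((g⁻¹ : GL (Fin n) F) : Mat) = 1 := by
      rw [← Units.val_mul, mul_inv_cancel, Units.val_one]
    rw [← hc, hc0, map_zero, zero_mul] at h2
    have h3 : ∀ M M' : Mat, M = M' := fun M M' => by
      rw [← mul_one M, ← mul_one M', ← h2, mul_zero, mul_zero]
    exact ⟨1, h3 _ _⟩
  · refine ⟨Units.mk0 c hc0, ?_⟩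
    rw [← hc]
    simp [Matrix.smul_one_eq_diagonal]

theorem matrixSet_subset_spanAlg (N : Subgroup (GL (Fin n) F)) {x : GL (Fin n) F} (hx : x ∈ N) :
    (x : Mat) ∈ spanAlg N :=
  Algebra.subset_adjoin ⟨x, hx, rfl⟩

/-- an invertible matrix commuting with a group spanning the matrix algebra is scalar. -/
theorem mem_scalars_of_centralizes (N : Subgroup (GL (Fin n) F)) (hspan : spanAlg N = ⊤)
    (g : GL (Fin n) F) (h : ∀ y ∈ N, y * g = g * y) : g ∈ Z := by
  apply mem_scalars_of_forall_commute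
  have hle : spanAlg N ≤ Subalgebra.centralizer F ({(g : Mat)} : Set Mat) := by
    apply Algebra.adjoin_le
    rintro _ ⟨y, hy, rfl⟩
    rw [SetLike.mem_coe, Subalgebra.mem_centralizer_iff]
    intro m hm
    rw [Set.mem_singleton_iff] at hm
    rw [hm, ← Units.val_mul, ← Units.val_mul, h y hy]
  intro M
  have hM : M ∈ Subalgebra.centralizer F ({(g : Mat)} : Set Mat) := by
    apply hle
    rw [hspan]
    trivial
  rw [Subalgebra.mem_centralizer_iff] at hM
  exact (hM _ rfl).symm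

/-- a group of scalars does not span the matrix algebra when `n ≥ 2`. -/
theorem spanAlg_ne_top_of_le_scalars (hn : 2 ≤ n) (N : Subgroup (GL (Fin n) F)) (hN : N ≤ Z) :
    spanAlg N ≠ ⊤ := by
  intro htop
  have hle : spanAlg N ≤ (⊥ : Subalgebra F Mat) := by
    apply Algebra.adjoin_le
    rintro _ ⟨y, hy, rfl⟩
    obtain ⟨c, rfl⟩ := exists_scHom_of_mem (hN hy)
    show ((scHom n F c : GL (Fin n) F) : Mat) ∈ (⊥ : Subalgebra F Mat)
    rw [scHom_coe, Algebra.mem_bot]
    exact ⟨(c : F), by rw [Algebra.algebraMap_eq_smul_one]⟩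
  rw [htop] at hle
  have h1 : (Matrix.single (⟨0, by omega⟩ : Fin n) (⟨1, by omega⟩ : Fin n) (1 : F)) ∈
      (⊥ : Subalgebra F Mat) := hle trivial
  rw [Algebra.mem_bot] at h1
  obtain ⟨c, hc⟩ := h1
  rw [Algebra.algebraMap_eq_smul_one] at hc
  have h2 := congrFun (congrFun hc (⟨0, by omega⟩ : Fin n)) (⟨1, by omega⟩ : Fin n)
  have hne : (⟨0, by omega⟩ : Fin n) ≠ (⟨1, by omega⟩ : Fin n) := by
    intro h; simp [Fin.ext_iff] at h
  simp [Matrix.smul_apply, Matrix.one_apply_ne hne, Matrix.single_apply_same] at h2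

section Character

variable [NeZero n]

/-- the scalar of a scalar matrix: its `(0,0)` entry. -/
def sc (g : GL (Fin n) F) : F := (g : Mat) 0 0

theorem coe_eq_sc_smul {g : GL (Fin n) F} (hg : g ∈ Z) : (g : Mat) = sc g • (1 : Mat) := by
  obtain ⟨c, rfl⟩ := exists_scHom_of_mem hg
  rw [sc, scHom_coe]
  simp

theorem sc_mul {z : GL (Fin n) F} (hz : z ∈ Z) (g : GL (Fin n) F) : sc (z * g) = sc z * sc g := by
  rw [sc, Units.val_mul, coe_eq_sc_smul hz, Matrix.smul_mul, Matrix.one_mul, Matrix.smul_apply,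
    smul_eq_mul]
  rfl

theorem sc_one : sc (1 : GL (Fin n) F) = 1 := by
  simp [sc]

theorem eq_one_of_sc_eq_one {z : GL (Fin n) F} (hz : z ∈ Z) (h : sc z = 1) : z = 1 := by
  apply Units.ext
  rw [coe_eq_sc_smul hz, h, one_smul, Units.val_one]

/-- the commutator character `y ↦ ⁅y, x⁆` (as a scalar) of a group `N` with scalar commutators. -/
def chi (N : Subgroup (GL (Fin n) F)) (x : GL (Fin n) F) (hx : ∀ y ∈ N, ⁅y, x⁆ ∈ Z) : N →* F where
  toFun y := sc ⁅(y : GL (Fin n) F), x⁆
  map_one' := by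
    simp [sc_one]
  map_mul' y y' := by
    have h1 : ⁅((y * y' : N) : GL (Fin n) F), x⁆ = ⁅(y' : GL (Fin n) F), x⁆ * ⁅(y : GL (Fin n) F), x⁆ := by
      have hc := scalars_comm (hx y' y'.2)
      rw [Subgroup.coe_mul, commutatorElement_def, commutatorElement_def, commutatorElement_def]
      have e1 : (y : GL (Fin n) F) * y' * x * ((y : GL (Fin n) F) * y')⁻¹ * x⁻¹ =
          (y : GL (Fin n) F) * ((y' : GL (Fin n) F) * x * (y' : GL (Fin n) F)⁻¹ * x⁻¹) * x *
            (y : GL (Fin n) F)⁻¹ * x⁻¹ := by group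
      rw [e1]
      rw [commutatorElement_def] at hc
      rw [← hc (y : GL (Fin n) F)]
      group
    show sc ⁅((y * y' : N) : GL (Fin n) F), x⁆ = sc ⁅(y : GL (Fin n) F), x⁆ * sc ⁅(y' : GL (Fin n) F), x⁆
    rw [h1, sc_mul (hx y' y'.2), mul_comm]

theorem chi_apply (N : Subgroup (GL (Fin n) F)) (x : GL (Fin n) F) (hx : ∀ y ∈ N, ⁅y, x⁆ ∈ Z) (y : N) :
    chi N x hx y = sc ⁅(y : GL (Fin n) F), x⁆ := rfl

/-- conjugating `x` by `y ∈ N` multiplies the matrix of `x` by `chi x y`. -/
theorem conj_eq_chi_smul (N : Subgroup (GL (Fin n) F)) (x : GL (Fin n) F) (hx : ∀ y ∈ N, ⁅y, x⁆ ∈ Z)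
    (y : N) : ((y : GL (Fin n) F) : Mat) * (x : Mat) * (((y : GL (Fin n) F)⁻¹ : GL (Fin n) F) : Mat) =
      chi N x hx y • (x : Mat) := by
  have h1 : (y : GL (Fin n) F) * x * (y : GL (Fin n) F)⁻¹ = ⁅(y : GL (Fin n) F), x⁆ * x := by
    rw [commutatorElement_def]; group
  have h2 := congrArg (fun g : GL (Fin n) F => (g : Mat)) h1
  simp only [Units.val_mul] at h2
  rw [h2, coe_eq_sc_smul (hx y y.2), Matrix.smul_mul, Matrix.one_mul]
  rfl

end Character

end Cfsg.Agent.Lib.Helper80.Asch
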