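import Mathlib
import Cfsg.Prelude.Def_GeometricClasses
import Cfsg.Agent.Lib.Helper61.AschDefs
import Cfsg.Agent.Lib.Helper80.AschD1a

set_option autoImplicit false
set_option linter.style.haveILetI false
set_option linter.unusedSectionVars false
set_option linter.unusedVariables false

/-!
# K-S5630-D1, part (b): coset representatives of the scalars in a spanning group with scalar
commutators are linearly independent; `|N : Z| = n ^ 2`; traces.
-/

namespace Cfsg.Agent.Lib.Helper80.Asch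

open Cfsg Cfsg.Geo Cfsg.Agent.Lib.Helper61.Asch
open scoped Matrix MatrixGroups commutatorElement

variable {F : Type*} [Field F] {n : ℕ}

local notation "Mat" => Matrix (Fin n) (Fin n) F
local notation "Z" => scalars (Fin n) F

section

variable [NeZero n]

theorem eq_of_sc_eq {z z' : GL (Fin n) F} (hz : z ∈ Z) (hz' : z' ∈ Z) (h : sc z = sc z') : z = z' := by
  apply Units.ext
  rw [coe_eq_sc_smul hz, coe_eq_sc_smul hz', h]

theorem coe_ne_zero (x : GL (Fin n) F) : (x : Mat) ≠ 0 := by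
  intro h0
  have h2 : (x : Mat) * ((x⁻¹ : GL (Fin n) F) : Mat) = 1 := by
    rw [← Units.val_mul, mul_inv_cancel, Units.val_one]
  rw [h0, zero_mul] at h2
  have h3 := congrFun (congrFun h2 (0 : Fin n)) 0
  simp at h3

theorem linearIndependent_reps (N : Subgroup (GL (Fin n) F)) (hspan : spanAlg N = ⊤)
    (hcomm : ∀ x ∈ N, ∀ y ∈ N, ⁅x, y⁆ ∈ Z)
    {ι' : Type*} [Fintype ι'] (x : ι' → GL (Fin n) F) (hx : ∀ i, x i ∈ N)
    (hdist : ∀ i j, i ≠ j → (x i)⁻¹ * x j ∉ Z) :
    LinearIndependent F (fun i => ((x i : GL (Fin n) F) : Mat)) := by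
  classical
  have hxc : ∀ i, ∀ y ∈ N, ⁅y, x i⁆ ∈ Z := fun i y hy => hcomm y hy (x i) (hx i)
  let X : ι' → (N →* F) := fun i => chi N (x i) (hxc i)
  have hinj : Function.Injective X := by
    intro i j hij
    by_contra hne
    apply hdist i j hne
    apply mem_scalars_of_centralizes N hspan
    intro y hy
    have h1 : chi N (x i) (hxc i) ⟨y, hy⟩ = chi N (x j) (hxc j) ⟨y, hy⟩ := by
      have : chi N (x i) (hxc i) = chi N (x j) (hxc j) := hij
      rw [this]
    rw [chi_apply, chi_apply] at h1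
    have h2 : ⁅y, x i⁆ = ⁅y, x j⁆ := eq_of_sc_eq (hxc i y hy) (hxc j y hy) h1
    have ha : x i * y * (x i)⁻¹ = (y⁻¹ * ⁅y, x i⁆)⁻¹ := by
      rw [commutatorElement_def]; group
    have hb : x j * y * (x j)⁻¹ = (y⁻¹ * ⁅y, x j⁆)⁻¹ := by
      rw [commutatorElement_def]; group
    have h3 : x i * y * (x i)⁻¹ = x j * y * (x j)⁻¹ := by rw [ha, hb, h2]
    calc y * ((x i)⁻¹ * x j) = (x i)⁻¹ * (x i * y * (x i)⁻¹) * x j := by group
      _ = (x i)⁻¹ * (x j * y * (x j)⁻¹) * x j := by rw [h3]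
      _ = (x i)⁻¹ * x j * y := by group
  have hli := (linearIndependent_monoidHom N F).comp X hinj
  rw [Fintype.linearIndependent_iff] at hli ⊢
  intro a ha i
  have key : ∀ s t : Fin n, ∀ j, a j * ((x j : GL (Fin n) F) : Mat) s t = 0 := by
    intro s t
    apply hli (fun j => a j * ((x j : GL (Fin n) F) : Mat) s t)
    funext y
    have h1 : ((y : GL (Fin n) F) : Mat) * (∑ j, a j • ((x j : GL (Fin n) F) : Mat)) *
        (((y : GL (Fin n) F)⁻¹ : GL (Fin n) F) : Mat) = 0 := by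
      rw [ha, mul_zero, zero_mul]
    rw [Finset.mul_sum, Finset.sum_mul] at h1
    have h2 : ∀ j, ((y : GL (Fin n) F) : Mat) * (a j • ((x j : GL (Fin n) F) : Mat)) *
        (((y : GL (Fin n) F)⁻¹ : GL (Fin n) F) : Mat) =
        (a j * chi N (x j) (hxc j) y) • ((x j : GL (Fin n) F) : Mat) := by
      intro j
      rw [Matrix.mul_smul, Matrix.smul_mul, conj_eq_chi_smul N (x j) (hxc j) y, smul_smul]
    simp_rw [h2] at h1
    have h3 := congrFun (congrFun h1 s) t
    rw [Matrix.sum_apply] at h3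
    simp only [Matrix.smul_apply, smul_eq_mul, Matrix.zero_apply] at h3
    simp only [Finset.sum_apply, Pi.smul_apply, smul_eq_mul, Function.comp, Pi.zero_apply]
    rw [← h3]
    apply Finset.sum_congr rfl
    intro j _
    show a j * ((x j : GL (Fin n) F) : Mat) s t * (chi N (x j) (hxc j)) y = _
    ring
  have hne : ((x i : GL (Fin n) F) : Mat) ≠ 0 := coe_ne_zero (x i)
  obtain ⟨s, t, hst⟩ : ∃ s t, ((x i : GL (Fin n) F) : Mat) s t ≠ 0 := by
    by_contra h
    push Not at h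
    exact hne (Matrix.ext h)
  exact (mul_eq_zero.mp (key s t i)).resolve_right hst

/-- the matrices of a subgroup span (as a module) the subalgebra they generate. -/
theorem span_matrixSet (N : Subgroup (GL (Fin n) F)) :
    Submodule.span F (matrixSet N) = Subalgebra.toSubmodule (spanAlg N) := by
  have h1 : (matrixSet N : Set Mat) = ((N.toSubmonoid.map (Units.coeHom Mat) : Submonoid Mat) : Set Mat) := by
    ext M
    simp [matrixSet]
  rw [spanAlg, Algebra.adjoin_eq_span, h1, Submonoid.closure_eq]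

theorem relIndex_scalars_eq_sq [Finite F] (N : Subgroup (GL (Fin n) F)) (hZN : Z ≤ N)
    (hspan : spanAlg N = ⊤) (hcomm : ∀ x ∈ N, ∀ y ∈ N, ⁅x, y⁆ ∈ Z) :
    (Z : Subgroup (GL (Fin n) F)).relIndex N = n * n := by
  classical
  haveI : Fintype (N ⧸ (Z : Subgroup (GL (Fin n) F)).subgroupOf N) := Fintype.ofFinite _
  let rep : (N ⧸ (Z : Subgroup (GL (Fin n) F)).subgroupOf N) → N := fun q => Quotient.out q
  have hrep : ∀ q, (QuotientGroup.mk (rep q) : N ⧸ (Z : Subgroup (GL (Fin n) F)).subgroupOf N) = q :=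
    fun q => QuotientGroup.out_eq' q
  have hli := linearIndependent_reps N hspan hcomm (fun q => ((rep q : N) : GL (Fin n) F))
    (fun q => (rep q).2) (by
      intro q q' hne hmem
      apply hne
      rw [← hrep q, ← hrep q', QuotientGroup.eq, Subgroup.mem_subgroupOf]
      simpa using hmem)
  have hsp : ⊤ ≤ Submodule.span F (Set.range (fun q => (((rep q : N) : GL (Fin n) F) : Mat))) := by
    have h1 : Submodule.span F (matrixSet N) = ⊤ := by
      rw [span_matrixSet, hspan]; rfl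
    rw [← h1]
    apply Submodule.span_le.mpr
    rintro _ ⟨y, hy, rfl⟩
    have h2 : (rep (QuotientGroup.mk ⟨y, hy⟩))⁻¹ * ⟨y, hy⟩ ∈ (Z : Subgroup (GL (Fin n) F)).subgroupOf N := by
      rw [← QuotientGroup.eq, hrep]
    rw [Subgroup.mem_subgroupOf] at h2
    have h3 : y = ((rep (QuotientGroup.mk ⟨y, hy⟩) : N) : GL (Fin n) F) *
        ((((rep (QuotientGroup.mk ⟨y, hy⟩))⁻¹ * ⟨y, hy⟩ : N) : N) : GL (Fin n) F) := by
      simp
    have h4 : (y : Mat) = sc ((((rep (QuotientGroup.mk ⟨y, hy⟩))⁻¹ * ⟨y, hy⟩ : N) : N) : GL (Fin n) F) •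
        (((rep (QuotientGroup.mk ⟨y, hy⟩) : N) : GL (Fin n) F) : Mat) := by
      conv_lhs => rw [h3]
      rw [Units.val_mul, coe_eq_sc_smul h2, Matrix.mul_smul, Matrix.mul_one]
    show (y : Mat) ∈ _
    rw [h4]
    exact Submodule.smul_mem _ _ (Submodule.subset_span ⟨_, rfl⟩)
  have b := Module.Basis.mk hli hsp
  have h5 := Module.finrank_eq_card_basis b
  rw [Module.finrank_matrix, Module.finrank_self, mul_one, Fintype.card_fin] at h5
  rw [Subgroup.relIndex, Subgroup.index, Nat.card_eq_fintype_card, ← h5]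

/-- elements of `N` outside the scalars have trace zero. -/
theorem trace_eq_zero_of_not_mem (N : Subgroup (GL (Fin n) F)) (hspan : spanAlg N = ⊤)
    (hcomm : ∀ x ∈ N, ∀ y ∈ N, ⁅x, y⁆ ∈ Z) (x : GL (Fin n) F) (hx : x ∈ N) (hxZ : x ∉ Z) :
    Matrix.trace (x : Mat) = 0 := by
  have h1 : ¬ ∀ y ∈ N, y * x = x * y := fun h => hxZ (mem_scalars_of_centralizes N hspan x h)
  push Not at h1
  obtain ⟨y, hy, hyx⟩ := h1
  have hxc : ∀ y ∈ N, ⁅y, x⁆ ∈ Z := fun y hy => hcomm y hy x hx
  have h2 := conj_eq_chi_smul N x hxc ⟨y, hy⟩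
  have h3 := congrArg Matrix.trace h2
  have h4 : Matrix.trace ((((⟨y, hy⟩ : N) : GL (Fin n) F) : Mat) * (x : Mat) *
      ((((⟨y, hy⟩ : N) : GL (Fin n) F)⁻¹ : GL (Fin n) F) : Mat)) = Matrix.trace (x : Mat) :=
    Matrix.trace_units_conj _ _
  rw [h4, Matrix.trace_smul, smul_eq_mul] at h3
  have h5 : chi N x hxc ⟨y, hy⟩ ≠ 1 := by
    intro h
    apply hyx
    rw [chi_apply] at h
    have h6 := eq_one_of_sc_eq_one (hxc y hy) h
    have h7 : y * x = ⁅y, x⁆ * x * y := by rw [commutatorElement_def]; group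
    rw [h7, h6, one_mul]
  have h6 : (1 - chi N x hxc ⟨y, hy⟩) * Matrix.trace (x : Mat) = 0 := by
    rw [sub_mul, one_mul, ← h3, sub_self]
  rcases mul_eq_zero.mp h6 with h | h
  · exact absurd (sub_eq_zero.mp h).symm h5
  · exact h

end

end Cfsg.Agent.Lib.Helper80.Asch
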