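import Mathlib
import Cfsg.Prelude.Def_GeometricClasses
import Cfsg.Agent.Lib.Helper61.AschDefs
import Cfsg.Agent.Lib.Helper32.Class2
import Cfsg.Agent.Lib.Helper80.AschD1a
import Cfsg.Agent.Lib.Helper80.AschD1b

set_option autoImplicit false
set_option linter.style.haveILetI false
set_option linter.unusedSectionVars false
set_option linter.unusedVariables false

/-!
# K-S5630-D1, part (c): the power map on `N`, its kernel `R`, counting.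
-/

namespace Cfsg.Agent.Lib.Helper80.Asch

open Cfsg Cfsg.Geo Cfsg.Agent.Lib.Helper61.Asch
open scoped Matrix MatrixGroups commutatorElement

variable {F : Type*} [Field F] {n : ℕ}

local notation "Mat" => Matrix (Fin n) (Fin n) F
local notation "Z" => scalars (Fin n) F

theorem exists_choose_eq_mul (r : ℕ) (hr : r.Prime) :
    ∃ t, (r * Nat.gcd 2 r) * (r * Nat.gcd 2 r - 1) / 2 = r * t := by
  rcases hr.eq_two_or_odd' with rfl | ⟨k, rfl⟩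
  · exact ⟨3, by norm_num⟩
  · have hg : Nat.gcd 2 (2 * k + 1) = 1 := Nat.coprime_two_left.mpr ⟨k, rfl⟩
    refine ⟨k, ?_⟩
    rw [hg, mul_one]
    have : (2 * k + 1) * (2 * k + 1 - 1) = 2 * ((2 * k + 1) * k) := by
      have : 2 * k + 1 - 1 = 2 * k := by omega
      rw [this]; ring
    rw [this, Nat.mul_div_cancel_left _ (by norm_num : 0 < 2)]

theorem commutator_pow_eq_one (N : Subgroup (GL (Fin n) F))
    (hcomm : ∀ x ∈ N, ∀ y ∈ N, ⁅x, y⁆ ∈ Z) (r : ℕ) (hexp : ∀ x ∈ N, x ^ r ∈ Z)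
    {x y : GL (Fin n) F} (hx : x ∈ N) (hy : y ∈ N) : ⁅x, y⁆ ^ r = 1 := by
  have hc : Commute ⁅x, y⁆ x := scalars_comm (hcomm x hx y hy) x
  rw [← Cfsg.Agent.Lib.Helper32.commutator_pow_left_of_central y x hc r, commutatorElement_def,
    scalars_comm (hexp x hx) y]
  group

theorem mul_pow_eq (N : Subgroup (GL (Fin n) F))
    (hcomm : ∀ x ∈ N, ∀ y ∈ N, ⁅x, y⁆ ∈ Z) (r : ℕ) (hexp : ∀ x ∈ N, x ^ r ∈ Z)
    (hr : r.Prime) {x y : GL (Fin n) F} (hx : x ∈ N) (hy : y ∈ N) :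
    (x * y) ^ (r * Nat.gcd 2 r) = x ^ (r * Nat.gcd 2 r) * y ^ (r * Nat.gcd 2 r) := by
  have hcx : Commute ⁅y, x⁆ x := scalars_comm (hcomm y hy x hx) x
  have hcy : Commute ⁅y, x⁆ y := scalars_comm (hcomm y hy x hx) y
  rw [Cfsg.Agent.Lib.Helper32.mul_pow_of_central x y hcx hcy]
  obtain ⟨t, ht⟩ := exists_choose_eq_mul r hr
  rw [ht, pow_mul ⁅y, x⁆ r t, commutator_pow_eq_one N hcomm r hexp hy hx, one_pow, mul_one]

/-- the kernel of the power map `x ↦ x ^ (r gcd(2,r))` on `N`. -/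
def powKer (N : Subgroup (GL (Fin n) F))
    (hcomm : ∀ x ∈ N, ∀ y ∈ N, ⁅x, y⁆ ∈ Z) (r : ℕ) (hexp : ∀ x ∈ N, x ^ r ∈ Z)
    (hr : r.Prime) : Subgroup (GL (Fin n) F) where
  carrier := {x | x ∈ N ∧ x ^ (r * Nat.gcd 2 r) = 1}
  mul_mem' {a b} ha hb := by
    refine ⟨N.mul_mem ha.1 hb.1, ?_⟩
    rw [mul_pow_eq N hcomm r hexp hr ha.1 hb.1, ha.2, hb.2, one_mul]
  one_mem' := ⟨N.one_mem, one_pow _⟩
  inv_mem' {a} ha := ⟨N.inv_mem ha.1, by rw [inv_pow, ha.2, inv_one]⟩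

theorem mem_powKer (N : Subgroup (GL (Fin n) F))
    (hcomm : ∀ x ∈ N, ∀ y ∈ N, ⁅x, y⁆ ∈ Z) (r : ℕ) (hexp : ∀ x ∈ N, x ^ r ∈ Z)
    (hr : r.Prime) (x : GL (Fin n) F) :
    x ∈ powKer N hcomm r hexp hr ↔ x ∈ N ∧ x ^ (r * Nat.gcd 2 r) = 1 := Iff.rfl

/-- the power map as a homomorphism. -/
def powHom (N : Subgroup (GL (Fin n) F))
    (hcomm : ∀ x ∈ N, ∀ y ∈ N, ⁅x, y⁆ ∈ Z) (r : ℕ) (hexp : ∀ x ∈ N, x ^ r ∈ Z)
    (hr : r.Prime) : N →* GL (Fin n) F :=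
  MonoidHom.mk' (fun x : N => ((x : GL (Fin n) F)) ^ (r * Nat.gcd 2 r))
    (fun a b => by
      show ((a * b : N) : GL (Fin n) F) ^ (r * Nat.gcd 2 r) = _
      rw [Subgroup.coe_mul, mul_pow_eq N hcomm r hexp hr a.2 b.2])

theorem powHom_apply (N : Subgroup (GL (Fin n) F))
    (hcomm : ∀ x ∈ N, ∀ y ∈ N, ⁅x, y⁆ ∈ Z) (r : ℕ) (hexp : ∀ x ∈ N, x ^ r ∈ Z)
    (hr : r.Prime) (x : N) :
    powHom N hcomm r hexp hr x = ((x : GL (Fin n) F)) ^ (r * Nat.gcd 2 r) := rfl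

end Cfsg.Agent.Lib.Helper80.Asch
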