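import Mathlib
import Cfsg.Prelude.Def_GeometricClasses
import Cfsg.Agent.Lib.Helper61.AschDefs
import Cfsg.Agent.Lib.Helper80.AschD1a
import Cfsg.Agent.Lib.Helper80.AschD1b
import Cfsg.Agent.Lib.Helper80.AschD1c

set_option autoImplicit false
set_option linter.style.haveILetI false
set_option linter.unusedSectionVars false
set_option linter.unusedVariables false

/-!
# K-S5630-D1, part (d): `r ≠ char F`, `n = r ^ m`, and `R Z = N`.
-/

namespace Cfsg.Agent.Lib.Helper80.Asch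

open Cfsg Cfsg.Geo Cfsg.Agent.Lib.Helper61.Asch
open scoped Matrix MatrixGroups commutatorElement

variable {F : Type*} [Field F] {n : ℕ}

local notation "Mat" => Matrix (Fin n) (Fin n) F
local notation "Z" => scalars (Fin n) F

theorem sc_pow [NeZero n] {z : GL (Fin n) F} (hz : z ∈ Z) (k : ℕ) : sc (z ^ k) = sc z ^ k := by
  induction k with
  | zero => simp [sc_one]
  | succ k ih => rw [pow_succ', sc_mul hz, ih, pow_succ']

theorem not_dvd_card [Fintype F] (hn : 2 ≤ n) (K N : Subgroup (GL (Fin n) F)) (hKN : NormBy K N)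
    (hspan : spanAlg N = ⊤) (hcomm : ∀ x ∈ N, ∀ y ∈ N, ⁅x, y⁆ ∈ Z) (r : ℕ) (hr : r.Prime)
    (hexp : ∀ x ∈ N, x ^ r ∈ Z)
    (hab : ∀ B : Subgroup (GL (Fin n) F), B ≤ N → NormBy K B →
      (∀ x ∈ B, ∀ y ∈ B, x * y = y * x) → B ≤ Z) :
    ¬ (r ∣ Fintype.card F) := by
  intro hdvd
  haveI : NeZero n := ⟨by omega⟩
  obtain ⟨p, hp⟩ := CharP.exists F
  haveI := hp
  obtain ⟨k, hpprime, hcard⟩ := FiniteField.card F p
  have hrp : r = p := by
    rw [hcard] at hdvd
    exact (Nat.prime_dvd_prime_iff_eq hr hpprime).mp (hr.dvd_of_dvd_pow hdvd)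
  subst hrp
  haveI : Fact r.Prime := ⟨hr⟩
  have hc1 : ∀ x ∈ N, ∀ y ∈ N, x * y = y * x := by
    intro x hx y hy
    have h1 := commutator_pow_eq_one N hcomm r hexp hx hy
    have hz := hcomm x hx y hy
    have h2 : sc ⁅x, y⁆ ^ r = 1 := by
      rw [← sc_pow hz, h1, sc_one]
    have h3 : (sc ⁅x, y⁆ - 1) ^ r = 0 := by
      rw [sub_pow_char, h2, one_pow, sub_self]
    have h4 : sc ⁅x, y⁆ = 1 := sub_eq_zero.mp (pow_eq_zero_iff hr.ne_zero |>.mp h3)
    have h5 := eq_one_of_sc_eq_one hz h4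
    exact commutatorElement_eq_one_iff_mul_comm.mp h5
  exact spanAlg_ne_top_of_le_scalars hn N (hab N le_rfl hKN hc1) hspan

theorem exists_pow_eq [Finite F] [NeZero n] (hn : 2 ≤ n) (N : Subgroup (GL (Fin n) F)) (hZN : Z ≤ N)
    (hspan : spanAlg N = ⊤) (hcomm : ∀ x ∈ N, ∀ y ∈ N, ⁅x, y⁆ ∈ Z) (r : ℕ) (hr : r.Prime)
    (hexp : ∀ x ∈ N, x ^ r ∈ Z) : ∃ m, 1 ≤ m ∧ n = r ^ m := by
  haveI : Fact r.Prime := ⟨hr⟩
  have hidx := relIndex_scalars_eq_sq N hZN hspan hcomm
  haveI : ((Z : Subgroup (GL (Fin n) F)).subgroupOf N).Normal :=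
    Subgroup.Normal.subgroupOf inferInstance N
  have hp : IsPGroup r (N ⧸ (Z : Subgroup (GL (Fin n) F)).subgroupOf N) := by
    intro q
    induction q using QuotientGroup.induction_on with
    | H x =>
      refine ⟨1, ?_⟩
      rw [pow_one, ← QuotientGroup.mk_pow, QuotientGroup.eq_one_iff, Subgroup.mem_subgroupOf]
      simpa using hexp x x.2
  obtain ⟨k, hk⟩ := (IsPGroup.iff_card).mp hp
  have h1 : n * n = r ^ k := by
    rw [← hidx, Subgroup.relIndex, Subgroup.index, hk]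
  have hdvd : n ∣ r ^ k := ⟨n, h1.symm⟩
  obtain ⟨m, hmk, hm⟩ := (Nat.dvd_prime_pow hr).mp hdvd
  refine ⟨m, ?_, hm⟩
  by_contra h
  have h0 : m = 0 := by omega
  subst h0
  simp at hm
  omega

theorem card_scalars [Finite F] [NeZero n] :
    Nat.card (Z : Subgroup (GL (Fin n) F)) = Nat.card Fˣ := by
  rw [scalars_eq_range]
  exact (Nat.card_congr (MonoidHom.ofInjective (scHom_injective (n := n) (F := F))).toEquiv).symm

theorem scHom_pow (c : Fˣ) (k : ℕ) : scHom n F (c ^ k) = (scHom n F c) ^ k := map_pow _ _ _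

theorem powKer_not_le_scalars [Fintype F] [NeZero n] (N : Subgroup (GL (Fin n) F)) (hZN : Z ≤ N)
    (hspan : spanAlg N = ⊤) (hcomm : ∀ x ∈ N, ∀ y ∈ N, ⁅x, y⁆ ∈ Z) (r : ℕ) (hr : r.Prime)
    (hexp : ∀ x ∈ N, x ^ r ∈ Z) (hq : ¬ (r ∣ Fintype.card F)) (m : ℕ) (hm : 1 ≤ m)
    (hnm : n = r ^ m) : ¬ powKer N hcomm r hexp hr ≤ Z := by
  intro hRZ
  have hinj : Function.Injective (scHom n F) := scHom_injective
  set φ := powHom N hcomm r hexp hr with hφ
  have hcardN : Nat.card φ.ker * Nat.card φ.range = Nat.card N := by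
    rw [← Subgroup.index_ker]
    exact Subgroup.card_mul_index _
  have hN : Nat.card N = Nat.card Fˣ * (n * n) := by
    rw [← relIndex_scalars_eq_sq N hZN hspan hcomm, ← card_scalars (n := n) (F := F),
      ← Subgroup.relIndex_bot_left, ← Subgroup.relIndex_bot_left,
      Subgroup.relIndex_mul_relIndex _ _ _ bot_le hZN]
  -- the kernel
  have hker : Nat.card φ.ker ≤ Nat.gcd (Nat.card Fˣ) (r * Nat.gcd 2 r) := by
    rw [← IsCyclic.card_powMonoidHom_ker Fˣ (r * Nat.gcd 2 r)]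
    have h1 : Nat.card φ.ker = Nat.card (φ.ker.map N.subtype) :=
      (Subgroup.card_map_of_injective N.subtype_injective).symm
    have h2 : φ.ker.map N.subtype ≤
        ((powMonoidHom (r * Nat.gcd 2 r) : Fˣ →* Fˣ).ker).map (scHom n F) := by
      rintro _ ⟨x, hx, rfl⟩
      rw [SetLike.mem_coe, MonoidHom.mem_ker, hφ, powHom_apply] at hx
      have hxR : (x : GL (Fin n) F) ∈ powKer N hcomm r hexp hr := ⟨x.2, hx⟩
      obtain ⟨c, hc⟩ := exists_scHom_of_mem (hRZ hxR)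
      refine ⟨c, ?_, hc⟩
      rw [SetLike.mem_coe, MonoidHom.mem_ker, powMonoidHom_apply]
      apply hinj
      rw [scHom_pow, hc, map_one]
      exact hx
    rw [h1, ← Subgroup.card_map_of_injective hinj]
    exact Subgroup.card_le_of_le h2
  -- the range
  have hrange : Nat.card φ.range ≤ Nat.card Fˣ / Nat.gcd (Nat.card Fˣ) (Nat.gcd 2 r) := by
    rw [← IsCyclic.card_powMonoidHom_range Fˣ (Nat.gcd 2 r)]
    have h2 : φ.range ≤ ((powMonoidHom (Nat.gcd 2 r) : Fˣ →* Fˣ).range).map (scHom n F) := by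
      rintro _ ⟨x, rfl⟩
      obtain ⟨c, hc⟩ := exists_scHom_of_mem (hexp x x.2)
      refine ⟨c ^ Nat.gcd 2 r, ⟨c, rfl⟩, ?_⟩
      rw [scHom_pow, hc, hφ, powHom_apply, pow_mul]
    rw [← Subgroup.card_map_of_injective hinj]
    exact Subgroup.card_le_of_le h2
  -- arithmetic
  have hq' : Nat.card Fˣ = Fintype.card F - 1 := by
    rw [Nat.card_units, Nat.card_eq_fintype_card]
  have hqpos : 0 < Nat.card Fˣ := Nat.card_pos
  have hgdvd : Nat.gcd 2 r ∣ Nat.card Fˣ := by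
    rcases hr.eq_two_or_odd' with rfl | hodd
    · have h2 : Nat.gcd 2 2 = 2 := rfl
      rw [h2, hq']
      have hodd : ¬ 2 ∣ Fintype.card F := hq
      have hpos : 0 < Fintype.card F := Fintype.card_pos
      omega
    · have hg : Nat.gcd 2 r = 1 := Nat.coprime_two_left.mpr hodd
      rw [hg]
      exact one_dvd _
  have hgpos : 0 < Nat.gcd 2 r := Nat.gcd_pos_of_pos_left _ (by norm_num)
  have hg2 : Nat.gcd (Nat.card Fˣ) (Nat.gcd 2 r) = Nat.gcd 2 r := Nat.gcd_eq_right hgdvd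
  rw [hg2] at hrange
  have hr2 : 2 ≤ r := hr.two_le
  have hepos : 0 < r * Nat.gcd 2 r := Nat.mul_pos (by omega) hgpos
  have hker' : Nat.card φ.ker ≤ r * Nat.gcd 2 r :=
    hker.trans (Nat.le_of_dvd hepos (Nat.gcd_dvd_right _ _))
  obtain ⟨t, ht⟩ := hgdvd
  have hrange' : Nat.card φ.range ≤ t := by
    rw [ht, Nat.mul_div_cancel_left _ hgpos] at hrange
    exact hrange
  have hfinal : Nat.card Fˣ * (n * n) ≤ r * Nat.card Fˣ := by
    rw [← hN, ← hcardN]
    calc Nat.card φ.ker * Nat.card φ.range ≤ (r * Nat.gcd 2 r) * t := Nat.mul_le_mul hker' hrange'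
      _ = r * Nat.card Fˣ := by rw [ht]; ring
  have hnn : n * n ≤ r := by
    have : Nat.card Fˣ * (n * n) ≤ Nat.card Fˣ * r := by rw [mul_comm _ r]; exact hfinal
    exact Nat.le_of_mul_le_mul_left this hqpos
  have hrn : r ≤ n := by
    rw [hnm]
    calc r = r ^ 1 := (pow_one r).symm
      _ ≤ r ^ m := Nat.pow_le_pow_right (by omega) hm
  nlinarith

end Cfsg.Agent.Lib.Helper80.Asch
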