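import Mathlib
import Cfsg.Prelude.Def_GeometricClasses
import Cfsg.Agent.Lib.Helper61.AschDefs
import Cfsg.Agent.Lib.Helper80.AschD1a
import Cfsg.Agent.Lib.Helper80.AschD1b
import Cfsg.Agent.Lib.Helper80.AschD1c
import Cfsg.Agent.Lib.Helper80.AschD1d

set_option autoImplicit false
set_option linter.style.haveILetI false
set_option linter.unusedSectionVars false
set_option linter.unusedVariables false

/-!
# K-S5630-D1 : the symplectic-type group `R` inside a minimal normal subgroup `N` over the scalars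
with `N / Z` elementary abelian.
-/

namespace Cfsg.Agent.Lib.Helper80.Asch

open Cfsg Cfsg.Geo Cfsg.Agent.Lib.Helper61.Asch
open scoped Matrix MatrixGroups commutatorElement

variable {F : Type*} [Field F] [Fintype F] {n : ℕ}

local notation "Mat" => Matrix (Fin n) (Fin n) F
local notation "Z" => scalars (Fin n) F

theorem comm_of_sq_eq_one {G : Type*} [Group G] (x y : G) (hx : x * x = 1) (hy : y * y = 1)
    (hxy : (x * y) * (x * y) = 1) : x * y = y * x := by
  calc x * y = x * ((x * y) * (x * y)) * y := by rw [hxy, mul_one]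
    _ = (x * x) * (y * x) * (y * y) := by group
    _ = y * x := by rw [hx, hy, one_mul, mul_one]

/-- K-S5630-D1. -/
theorem exists_symplecticType (K N : Subgroup (GL (Fin n) F)) (hn : 2 ≤ n) (hZN : Z ≤ N) (hNK : N ≤ K)
    (hKN : NormBy K N) (hspan : spanAlg N = ⊤) (r : ℕ) (hr : r.Prime)
    (hcomm : ∀ x ∈ N, ∀ y ∈ N, x * y * x⁻¹ * y⁻¹ ∈ Z) (hexp : ∀ x ∈ N, x ^ r ∈ Z)
    (hmin : ∀ M : Subgroup (GL (Fin n) F), Z ≤ M → M ≤ N → NormBy K M → M = Z ∨ M = N)
    (hab : ∀ B : Subgroup (GL (Fin n) F), B ≤ N → NormBy K B → (∀ x ∈ B, ∀ y ∈ B, x * y = y * x) → B ≤ Z) :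
    ∃ R : Subgroup (GL (Fin n) F), R ≤ N ∧ NormBy K R ∧ spanAlg R = ⊤ ∧ IsSymplecticTypeGroup r R ∧
      ¬ (r ∣ Fintype.card F) ∧
      (∀ x ∈ R, x ∈ Z ∨ Matrix.trace ((x : GL (Fin n) F) : Mat) = 0) ∧
      (∀ x ∈ R, x ^ (r * Nat.gcd 2 r) = 1) ∧
      ∃ m : ℕ, 1 ≤ m ∧ n = r ^ m ∧
        Nat.card (Subgroup.center R) = Nat.gcd (r * Nat.gcd 2 r) (Fintype.card F - 1) ∧
        Nat.card R = Nat.card (Subgroup.center R) * r ^ (2 * m) := by
  classical
  haveI : NeZero n := ⟨by omega⟩
  have hcomm' : ∀ x ∈ N, ∀ y ∈ N, ⁅x, y⁆ ∈ Z := hcomm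
  have hq := not_dvd_card hn K N hKN hspan hcomm' r hr hexp hab
  obtain ⟨m, hm, hnm⟩ := exists_pow_eq hn N hZN hspan hcomm' r hr hexp
  have hinj : Function.Injective (scHom n F) := scHom_injective
  set R := powKer N hcomm' r hexp hr with hRdef
  have hRN : R ≤ N := fun x hx => hx.1
  have hRe : ∀ x ∈ R, x ^ (r * Nat.gcd 2 r) = 1 := fun x hx => hx.2
  have hRK : NormBy K R := by
    intro k hk x hx
    refine ⟨hKN k hk x hx.1, ?_⟩
    rw [conj_pow, hx.2, mul_one, mul_inv_cancel]
  have hZnorm : ∀ k : GL (Fin n) F, ∀ z ∈ Z, k * z * k⁻¹ ∈ Z := fun k z hz =>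
    (scalars_normal (ι := Fin n) (F := F)).conj_mem z hz k
  have hRZK : NormBy K (R ⊔ Z) := by
    intro k hk x hx
    have hle : R ⊔ Z ≤ (R ⊔ Z).comap (MulAut.conj k).toMonoidHom := by
      apply sup_le
      · intro y hy
        rw [Subgroup.mem_comap]
        exact Subgroup.mem_sup_left (hRK k hk y hy)
      · intro y hy
        rw [Subgroup.mem_comap]
        exact Subgroup.mem_sup_right (hZnorm k y hy)
    exact hle hx
  have hsup : R ⊔ Z = N := by
    rcases hmin (R ⊔ Z) le_sup_right (sup_le hRN hZN) hRZK with h | h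
    · exfalso
      exact powKer_not_le_scalars N hZN hspan hcomm' r hr hexp hq m hm hnm
        (by rw [← h]; exact le_sup_left)
    · exact h
  have hspanR : spanAlg R = ⊤ := by
    rw [eq_top_iff, ← hspan]
    apply Algebra.adjoin_le
    rintro _ ⟨x, hx, rfl⟩
    have hx' : x ∈ R ⊔ Z := by rw [hsup]; exact hx
    rw [← SetLike.mem_coe, Subgroup.mul_normal] at hx'
    obtain ⟨y, hy, z, hz, rfl⟩ := Set.mem_mul.mp hx'
    show ((y * z : GL (Fin n) F) : Mat) ∈ spanAlg R
    rw [Units.val_mul, coe_eq_sc_smul hz, Matrix.mul_smul, Matrix.mul_one]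
    exact Subalgebra.smul_mem _ (matrixSet_subset_spanAlg R hy) _
  have hnoncomm : ¬ ∀ x ∈ R, ∀ y ∈ R, x * y = y * x := by
    intro hc
    have hle : R ≤ Z := fun x hx =>
      mem_scalars_of_centralizes R hspanR x (fun y hy => hc y hy x hx)
    exact spanAlg_ne_top_of_le_scalars hn R hle hspanR
  haveI hZcyc : IsCyclic (Z : Subgroup (GL (Fin n) F)) := by
    rw [scalars_eq_range]
    exact isCyclic_of_surjective (scHom n F).rangeRestrict (scHom n F).rangeRestrict_surjective
  have hsymp : IsSymplecticTypeGroup r R := by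
    refine ⟨hr, ?_, ?_, ?_⟩
    · intro x
      refine ⟨2, ?_⟩
      have hx := hRe x x.2
      apply Subtype.ext
      rw [Subgroup.coe_pow, Subgroup.coe_one]
      obtain ⟨t, ht⟩ := Nat.gcd_dvd_right 2 r
      have h2 : r ^ 2 = (r * Nat.gcd 2 r) * t := by
        rw [pow_two]
        nth_rewrite 2 [ht]
        ring
      rw [h2, pow_mul, hx, one_pow]
    · intro A hA hAc
      have hconj : ∀ k (hk : k ∈ K), ∀ a : R, a ∈ A → (⟨k * a * k⁻¹, hRK k hk a a.2⟩ : R) ∈ A := by
        intro k hk a ha
        let α : R ≃* R :=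
          { toFun := fun x => ⟨k * x * k⁻¹, hRK k hk x x.2⟩
            invFun := fun x => ⟨k⁻¹ * x * k, by
              have := hRK k⁻¹ (K.inv_mem hk) x x.2
              simpa using this⟩
            left_inv := fun x => by
              apply Subtype.ext
              simp [mul_assoc]
            right_inv := fun x => by
              apply Subtype.ext
              simp [mul_assoc]
            map_mul' := fun x y => by
              apply Subtype.ext
              simp [mul_assoc] }
        have h1 := hA.fixed α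
        have h2 : a ∈ A.comap α.toMonoidHom := by rw [h1]; exact ha
        exact h2
      have hBN : A.map R.subtype ≤ N := by
        rintro _ ⟨a, ha, rfl⟩
        exact hRN a.2
      have hBK : NormBy K (A.map R.subtype) := by
        rintro k hk _ ⟨a, ha, rfl⟩
        exact ⟨_, hconj k hk a ha, rfl⟩
      have hBc : ∀ x ∈ A.map R.subtype, ∀ y ∈ A.map R.subtype, x * y = y * x := by
        rintro _ ⟨a, ha, rfl⟩ _ ⟨b, hb, rfl⟩
        have h1 : (⟨a, ha⟩ : A) * ⟨b, hb⟩ = ⟨b, hb⟩ * ⟨a, ha⟩ := hAc.is_comm.comm _ _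
        have h2 := congrArg (fun x : A => ((x : R) : GL (Fin n) F)) h1
        exact h2
      have hBZ := hab (A.map R.subtype) hBN hBK hBc
      haveI : IsCyclic (A.map R.subtype) := Subgroup.isCyclic_of_le hBZ
      exact isCyclic_of_surjective (A.equivMapOfInjective R.subtype R.subtype_injective).symm
        (MulEquiv.surjective _)
    · have hdvd : Monoid.exponent R ∣ r * Nat.gcd 2 r :=
        Monoid.exponent_dvd_of_forall_pow_eq_one (fun x => Subtype.ext (by
          rw [Subgroup.coe_pow, Subgroup.coe_one]; exact hRe x x.2))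
      apply Nat.dvd_antisymm hdvd
      by_contra hnd
      apply hnoncomm
      have hd2 : Monoid.exponent R ∣ 2 := by
        rcases hr.eq_two_or_odd' with h2 | hodd
        · subst h2
          have h4 : 2 * Nat.gcd 2 2 = 4 := rfl
          rw [h4] at hdvd hnd
          have hle := Nat.le_of_dvd (by norm_num) hdvd
          generalize Monoid.exponent R = d at hdvd hnd hle
          interval_cases d <;> omega
        · have hg : Nat.gcd 2 r = 1 := Nat.coprime_two_left.mpr hodd
          rw [hg, mul_one] at hdvd hnd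
          rcases (Nat.dvd_prime hr).mp hdvd with h1 | h1
          · rw [h1]; exact one_dvd 2
          · exact absurd (h1 ▸ dvd_rfl) hnd
      have hsq : ∀ x ∈ R, x * x = 1 := by
        intro x hx
        obtain ⟨t, ht⟩ := hd2
        have h1 : (⟨x, hx⟩ : R) ^ 2 = 1 := by
          rw [ht, pow_mul, Monoid.pow_exponent_eq_one, one_pow]
        have h2 := congrArg (fun y : R => (y : GL (Fin n) F)) h1
        simpa [pow_two] using h2
      intro x hx y hy
      exact comm_of_sq_eq_one x y (hsq x hx) (hsq y hy) (hsq _ (R.mul_mem hx hy))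
  have hcenterEq : (Subgroup.center R).map R.subtype =
      ((powMonoidHom (r * Nat.gcd 2 r) : Fˣ →* Fˣ).ker).map (scHom n F) := by
    ext x
    constructor
    · rintro ⟨a, ha, rfl⟩
      have haZ : (a : GL (Fin n) F) ∈ Z := by
        apply mem_scalars_of_centralizes R hspanR
        intro y hy
        rw [SetLike.mem_coe, Subgroup.mem_center_iff] at ha
        exact congrArg Subtype.val (ha ⟨y, hy⟩)
      obtain ⟨c, hc⟩ := exists_scHom_of_mem haZ
      refine ⟨c, ?_, hc⟩
      rw [SetLike.mem_coe, MonoidHom.mem_ker, powMonoidHom_apply]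
      apply hinj
      rw [scHom_pow, hc, map_one]
      exact hRe a a.2
    · rintro ⟨c, hc, rfl⟩
      rw [SetLike.mem_coe, MonoidHom.mem_ker, powMonoidHom_apply] at hc
      have hmem : scHom n F c ∈ R := by
        refine ⟨hZN (scHom_mem c), ?_⟩
        rw [← scHom_pow, hc, map_one]
      refine ⟨⟨scHom n F c, hmem⟩, ?_, rfl⟩
      rw [SetLike.mem_coe, Subgroup.mem_center_iff]
      intro b
      apply Subtype.ext
      exact (scalars_comm (scHom_mem c) (b : GL (Fin n) F)).symm
  have hcenter : Nat.card (Subgroup.center R) =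
      Nat.gcd (r * Nat.gcd 2 r) (Fintype.card F - 1) := by
    rw [← Subgroup.card_map_of_injective R.subtype_injective, hcenterEq,
      Subgroup.card_map_of_injective hinj, IsCyclic.card_powMonoidHom_ker, Nat.card_units,
      Nat.card_eq_fintype_card, Nat.gcd_comm]
  have hcardR : Nat.card R = Nat.card (Subgroup.center R) * r ^ (2 * m) := by
    have h1 : (Z : Subgroup (GL (Fin n) F)).relIndex R = n * n := by
      rw [← relIndex_scalars_eq_sq N hZN hspan hcomm', ← hsup, Subgroup.relIndex_sup_right]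
    have h2 : ((Z : Subgroup (GL (Fin n) F)).subgroupOf R) = Subgroup.center R := by
      ext a
      rw [Subgroup.mem_subgroupOf, Subgroup.mem_center_iff]
      constructor
      · intro ha b
        apply Subtype.ext
        exact (scalars_comm ha (b : GL (Fin n) F)).symm
      · intro ha
        apply mem_scalars_of_centralizes R hspanR
        intro y hy
        exact congrArg Subtype.val (ha ⟨y, hy⟩)
    have h3 := Subgroup.card_mul_index ((Z : Subgroup (GL (Fin n) F)).subgroupOf R)
    have h4 : ((Z : Subgroup (GL (Fin n) F)).subgroupOf R).index = n * n := h1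
    rw [h4, h2] at h3
    have h5 : n * n = r ^ (2 * m) := by
      rw [two_mul, pow_add, ← hnm]
    rw [← h3, h5]
  refine ⟨R, hRN, hRK, hspanR, hsymp, hq, ?_, hRe, m, hm, hnm, hcenter, hcardR⟩
  intro x hx
  by_cases hxZ : x ∈ Z
  · exact Or.inl hxZ
  · exact Or.inr (trace_eq_zero_of_not_mem N hspan hcomm' x (hRN hx) hxZ)

end Cfsg.Agent.Lib.Helper80.Asch
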