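import Mathlib
import Cfsg.Prelude.Def_GeometricClasses
import Cfsg.Agent.Lib.Helper43.AltForm

/-!
# K-OEvenX-X2 (keystone 582622, pack OEvenX of helper46): a non-degenerate subspace of odd dimension for
the polar form of a quadratic form forces `|F|` odd.
-/

set_option autoImplicit false
set_option linter.style.haveILetI false

namespace Cfsg.Agent.Lib.Helper80.OEvenX

open Cfsg Cfsg.Geo

variable {F : Type*} [Field F] [Fintype F] {n : ℕ}

/-- K-OEvenX-X2.  In characteristic 2 the polar form is alternating, and a non-degenerate alternating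
form lives in even dimension. -/
theorem odd_card_of_odd_finrank (Q : (Fin n → F) → F) (hQ : IsNondegenerateQuadraticForm Q)
    (W : Submodule F (Fin n → F)) (hW : IsNondegenerateOn (QuadraticMap.polar Q) W)
    (hodd : Odd (Module.finrank F W)) : Odd (Fintype.card F) := by
  by_contra hne
  rw [Nat.not_odd_iff_even, Nat.even_iff, ← FiniteField.even_card_iff_char_two] at hne
  haveI : CharP F 2 := ringChar.of_eq hne
  have hb := hQ.polar_bilinear
  -- the restricted polar form as a bilinear form on `W`
  let B : LinearMap.BilinForm F W :=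
    LinearMap.mk₂ F (fun w₁ w₂ : W => QuadraticMap.polar Q (w₁ : Fin n → F) (w₂ : Fin n → F))
      (fun x y v => hb.add_left x y v) (fun c x v => hb.smul_left c x v)
      (fun v x y => hb.add_right v x y) (fun c v x => hb.smul_right c v x)
  have hB : ∀ w₁ w₂ : W, B w₁ w₂ = QuadraticMap.polar Q (w₁ : Fin n → F) (w₂ : Fin n → F) :=
    fun _ _ => rfl
  have hQ0 : Q 0 = 0 := by
    have := hQ.smul 0 0
    rw [zero_smul, zero_pow two_ne_zero, zero_mul] at this
    exact this
  have hAlt : B.IsAlt := by
    intro w
    rw [hB]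
    unfold QuadraticMap.polar
    have hww : (w : Fin n → F) + (w : Fin n → F) = 0 := by
      funext i
      exact CharTwo.add_self_eq_zero _
    rw [hww, hQ0, zero_sub, sub_eq_add_neg, ← neg_add, CharTwo.add_self_eq_zero, neg_zero]
  have hN : B.Nondegenerate := by
    refine ⟨fun x hx => ?_, fun y hy => ?_⟩
    · by_contra hx0
      have hx0' : (x : Fin n → F) ≠ 0 := fun h => hx0 (Subtype.ext h)
      obtain ⟨y, hyW, hy⟩ := (hW x x.2 hx0').2
      exact hy (hx ⟨y, hyW⟩)
    · by_contra hy0
      have hy0' : (y : Fin n → F) ≠ 0 := fun h => hy0 (Subtype.ext h)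
      obtain ⟨x, hxW, hx⟩ := (hW y y.2 hy0').1
      exact hx (hy ⟨x, hxW⟩)
  have hev := Cfsg.Agent.Lib.Helper43.even_finrank_of_isAlt_nondegenerate B hAlt hN
  exact (Nat.not_even_iff_odd.mpr hodd) hev

end Cfsg.Agent.Lib.Helper80.OEvenX
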