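import Mathlib
import Cfsg.Prelude.Def_GeometricClasses
import Cfsg.Agent.Lib.Helper09.O12PlusDefs

/-!
# K-O12-X4P2 (keystone 587112, S5871 pack of helper9): over `F₂` the whole group
`GL₂(2) ⊗ GL_{n₂}(2)` normalises the field `F₄ ⊗ 1`.
-/

set_option autoImplicit false
set_option linter.style.haveILetI false
set_option linter.unusedSectionVars false

namespace Cfsg.Agent.Lib.Helper80.O12

open Cfsg Cfsg.Geo Module
open scoped Matrix Kronecker MatrixGroups

variable {F : Type*} [Field F] [Fintype F] {n : ℕ}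

/-- the generator `ω` of `F₄` inside `M₂(F)`. -/
def omega (F : Type*) [Field F] : Matrix (Fin 2) (Fin 2) F := !![0, 1; 1, 1]

omit [Fintype F] in
lemma omega_mul_self : omega F * omega F = omega F + 1 := by
  ext i j
  fin_cases i <;> fin_cases j <;>
    simp [omega, Matrix.mul_apply, Fin.sum_univ_two, Matrix.one_apply] <;> norm_num

lemma zero_or_one (hq : Fintype.card F = 2) (a : F) : a = 0 ∨ a = 1 := by
  classical
  by_contra h
  push Not at h
  have hle : ({0, 1, a} : Finset F).card ≤ Fintype.card F := Finset.card_le_univ _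
  rw [Finset.card_insert_of_notMem, Finset.card_insert_of_notMem, Finset.card_singleton, hq] at hle
  · omega
  · rw [Finset.mem_singleton]; exact fun h' => h.2 h'.symm
  · rw [Finset.mem_insert, Finset.mem_singleton]
    rintro (h' | h')
    · exact zero_ne_one h'
    · exact h.1 h'.symm

lemma two_eq_zero_of_card (hq : Fintype.card F = 2) : (2 : F) = 0 := by
  have := Nat.cast_card_eq_zero F
  rw [hq] at this
  exact_mod_cast this

/-- conjugates of `ω` in `GL₂(F₂)`. -/
lemma conj_omega (hq : Fintype.card F = 2) (a : GL (Fin 2) F) :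
    (a : Matrix (Fin 2) (Fin 2) F) * omega F * ((a⁻¹ : GL (Fin 2) F) : Matrix (Fin 2) (Fin 2) F) =
        omega F ∨
      (a : Matrix (Fin 2) (Fin 2) F) * omega F * ((a⁻¹ : GL (Fin 2) F) : Matrix (Fin 2) (Fin 2) F) =
        omega F + 1 := by
  have h2 := two_eq_zero_of_card hq
  have h11 : (1 : F) + 1 = 0 := by rw [one_add_one_eq_two]; exact h2
  have hneg : (-1 : F) = 1 := by
    rw [neg_eq_iff_add_eq_zero]; exact h11
  set y := (a : Matrix (Fin 2) (Fin 2) F) * omega F *
    ((a⁻¹ : GL (Fin 2) F) : Matrix (Fin 2) (Fin 2) F) with hy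
  have htr : Matrix.trace y = 1 := by
    rw [hy, Matrix.trace_units_conj]
    simp [omega, Matrix.trace_fin_two]
  have hdet : Matrix.det y = 1 := by
    rw [hy, Matrix.det_units_conj]
    simp [omega, Matrix.det_fin_two, hneg]
  rw [Matrix.trace_fin_two] at htr
  rw [Matrix.det_fin_two] at hdet
  have hyeta : y = !![y 0 0, y 0 1; y 1 0, y 1 1] := Matrix.eta_fin_two y
  have hom1 : omega F + 1 = !![1, 1; 1, 0] := by
    ext i j
    fin_cases i <;> fin_cases j <;> simp [omega, h11]
  rcases zero_or_one hq (y 0 0) with hp | hp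
  · -- `y 0 0 = 0`, so `y 1 1 = 1`
    have hs : y 1 1 = 1 := by rw [hp, zero_add] at htr; exact htr
    have hqr : y 0 1 * y 1 0 = 1 := by
      rw [hp, hs, zero_mul, zero_sub, neg_eq_iff_eq_neg, hneg] at hdet
      exact hdet
    have hq1 : y 0 1 = 1 := by
      rcases zero_or_one hq (y 0 1) with h | h
      · rw [h, zero_mul] at hqr; exact absurd hqr zero_ne_one
      · exact h
    have hr1 : y 1 0 = 1 := by
      rw [hq1, one_mul] at hqr; exact hqr
    left
    rw [hyeta, hp, hs, hq1, hr1]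
    rfl
  · -- `y 0 0 = 1`, so `y 1 1 = 0`
    have hs : y 1 1 = 0 := by
      rw [hp] at htr
      have : y 1 1 = 1 + 1 := by
        calc y 1 1 = (1 + y 1 1) + 1 := by rw [add_comm 1 (y 1 1), add_assoc, h11, add_zero]
          _ = 1 + 1 := by rw [htr]
      rw [this, h11]
    have hqr : y 0 1 * y 1 0 = 1 := by
      rw [hp, hs, mul_zero, zero_sub, neg_eq_iff_eq_neg, hneg] at hdet
      exact hdet
    have hq1 : y 0 1 = 1 := by
      rcases zero_or_one hq (y 0 1) with h | h
      · rw [h, zero_mul] at hqr; exact absurd hqr zero_ne_one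
      · exact h
    have hr1 : y 1 0 = 1 := by
      rw [hq1, one_mul] at hqr; exact hqr
    right
    rw [hom1, hyeta, hp, hs, hq1, hr1]

/-! ### the embedding `M_{2 × n₂}(F) → M_n(F)`, `u ↦ P (reindex u) P⁻¹` -/

omit [Fintype F] in
/-- `u ↦ P (reindex u) P⁻¹`. -/
def Psi {n₂ : ℕ} (e : Fin n ≃ Fin 2 × Fin n₂) (P : GL (Fin n) F)
    (u : Matrix (Fin 2 × Fin n₂) (Fin 2 × Fin n₂) F) : Matrix (Fin n) (Fin n) F :=
  (P : Matrix (Fin n) (Fin n) F) * Matrix.reindexAlgEquiv F F e.symm u *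
    ((P⁻¹ : GL (Fin n) F) : Matrix (Fin n) (Fin n) F)

section Psi

variable {n₂ : ℕ} (e : Fin n ≃ Fin 2 × Fin n₂) (P : GL (Fin n) F)

omit [Fintype F] in
lemma Psi_mul (u v : Matrix (Fin 2 × Fin n₂) (Fin 2 × Fin n₂) F) :
    Psi e P (u * v) = Psi e P u * Psi e P v := by
  unfold Psi
  rw [map_mul]
  have hPP : ((P⁻¹ : GL (Fin n) F) : Matrix (Fin n) (Fin n) F) * (P : Matrix (Fin n) (Fin n) F) = 1 := by
    rw [← Units.val_mul, inv_mul_cancel, Units.val_one]
  calc (P : Matrix (Fin n) (Fin n) F) *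
        (Matrix.reindexAlgEquiv F F e.symm u * Matrix.reindexAlgEquiv F F e.symm v) *
        ((P⁻¹ : GL (Fin n) F) : Matrix (Fin n) (Fin n) F)
      = (P : Matrix (Fin n) (Fin n) F) * Matrix.reindexAlgEquiv F F e.symm u *
          (((P⁻¹ : GL (Fin n) F) : Matrix (Fin n) (Fin n) F) * (P : Matrix (Fin n) (Fin n) F)) *
          Matrix.reindexAlgEquiv F F e.symm v *
          ((P⁻¹ : GL (Fin n) F) : Matrix (Fin n) (Fin n) F) := by
        rw [hPP, mul_one]; simp only [mul_assoc]
    _ = _ := by simp only [mul_assoc]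

omit [Fintype F] in
lemma Psi_one : Psi e P 1 = 1 := by
  unfold Psi
  rw [map_one, mul_one, ← Units.val_mul, mul_inv_cancel, Units.val_one]

omit [Fintype F] in
lemma Psi_add (u v : Matrix (Fin 2 × Fin n₂) (Fin 2 × Fin n₂) F) :
    Psi e P (u + v) = Psi e P u + Psi e P v := by
  unfold Psi
  rw [map_add, mul_add, add_mul]

omit [Fintype F] in
lemma Psi_smul (c : F) (u : Matrix (Fin 2 × Fin n₂) (Fin 2 × Fin n₂) F) :
    Psi e P (c • u) = c • Psi e P u := by
  unfold Psi
  rw [map_smul, Matrix.mul_smul, Matrix.smul_mul]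

omit [Fintype F] in
lemma Psi_eq_zero {u : Matrix (Fin 2 × Fin n₂) (Fin 2 × Fin n₂) F} (h : Psi e P u = 0) : u = 0 := by
  unfold Psi at h
  have hPP : ((P⁻¹ : GL (Fin n) F) : Matrix (Fin n) (Fin n) F) * (P : Matrix (Fin n) (Fin n) F) = 1 := by
    rw [← Units.val_mul, inv_mul_cancel, Units.val_one]
  have hPP' : (P : Matrix (Fin n) (Fin n) F) * ((P⁻¹ : GL (Fin n) F) : Matrix (Fin n) (Fin n) F) = 1 := by
    rw [← Units.val_mul, mul_inv_cancel, Units.val_one]
  have h1 : Matrix.reindexAlgEquiv F F e.symm u = 0 := by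
    calc Matrix.reindexAlgEquiv F F e.symm u
        = (((P⁻¹ : GL (Fin n) F) : Matrix (Fin n) (Fin n) F) * (P : Matrix (Fin n) (Fin n) F)) *
            Matrix.reindexAlgEquiv F F e.symm u *
            (((P⁻¹ : GL (Fin n) F) : Matrix (Fin n) (Fin n) F) * (P : Matrix (Fin n) (Fin n) F)) := by
          rw [hPP, one_mul, mul_one]
      _ = ((P⁻¹ : GL (Fin n) F) : Matrix (Fin n) (Fin n) F) *
            ((P : Matrix (Fin n) (Fin n) F) * Matrix.reindexAlgEquiv F F e.symm u *
              ((P⁻¹ : GL (Fin n) F) : Matrix (Fin n) (Fin n) F)) *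
            (P : Matrix (Fin n) (Fin n) F) := by simp only [mul_assoc]
      _ = 0 := by rw [h, mul_zero, zero_mul]
  exact (map_eq_zero_iff _ (Matrix.reindexAlgEquiv F F e.symm).injective).mp h1

/-- `x ↦ P (x ⊗ 1) P⁻¹`. -/
def Phi (x : Matrix (Fin 2) (Fin 2) F) : Matrix (Fin n) (Fin n) F :=
  Psi e P (x ⊗ₖ (1 : Matrix (Fin n₂) (Fin n₂) F))

omit [Fintype F] in
lemma Phi_mul (x y : Matrix (Fin 2) (Fin 2) F) : Phi e P (x * y) = Phi e P x * Phi e P y := by
  unfold Phi
  rw [← Psi_mul, ← Matrix.mul_kronecker_mul, mul_one]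

omit [Fintype F] in
lemma Phi_one : Phi e P (1 : Matrix (Fin 2) (Fin 2) F) = 1 := by
  unfold Phi
  rw [Matrix.one_kronecker_one, Psi_one]

omit [Fintype F] in
lemma Phi_add (x y : Matrix (Fin 2) (Fin 2) F) : Phi e P (x + y) = Phi e P x + Phi e P y := by
  unfold Phi
  rw [Matrix.add_kronecker, Psi_add]

omit [Fintype F] in
lemma Phi_eq_zero (k0 : Fin n₂) {x : Matrix (Fin 2) (Fin 2) F} (h : Phi e P x = 0) : x = 0 := by
  have h1 := Psi_eq_zero e P h
  ext i j
  have := congrFun (congrFun h1 (i, k0)) (j, k0)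
  simpa [Matrix.kroneckerMap_apply] using this

omit [Fintype F] in
/-- conjugation by an element of the tensor product subgroup. -/
lemma conj_Phi (g : GL (Fin n) F) (hg : g ∈ tensorProductSubgroup 2 n₂ e P) :
    ∃ a : GL (Fin 2) F, ∀ x : Matrix (Fin 2) (Fin 2) F,
      (g : Matrix (Fin n) (Fin n) F) * Phi e P x * ((g⁻¹ : GL (Fin n) F) : Matrix (Fin n) (Fin n) F) =
        Phi e P ((a : Matrix (Fin 2) (Fin 2) F) * x *
          ((a⁻¹ : GL (Fin 2) F) : Matrix (Fin 2) (Fin 2) F)) := by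
  unfold tensorProductSubgroup at hg
  obtain ⟨k', hk', rfl⟩ := hg
  obtain ⟨k, hk, rfl⟩ := hk'
  obtain ⟨a, b, hab⟩ := hk
  refine ⟨a, fun x => ?_⟩
  have hg1 : (((MulAut.conj P).toMonoidHom ((glReindex e.symm).toMonoidHom k) : GL (Fin n) F) :
      Matrix (Fin n) (Fin n) F) =
      Psi e P ((a : Matrix (Fin 2) (Fin 2) F) ⊗ₖ (b : Matrix (Fin n₂) (Fin n₂) F)) := by
    rw [← hab]
    rfl
  set G2 := Psi e P (((a⁻¹ : GL (Fin 2) F) : Matrix (Fin 2) (Fin 2) F) ⊗ₖ
    ((b⁻¹ : GL (Fin n₂) F) : Matrix (Fin n₂) (Fin n₂) F)) with hG2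
  have hinv : (((MulAut.conj P).toMonoidHom ((glReindex e.symm).toMonoidHom k) : GL (Fin n) F) :
      Matrix (Fin n) (Fin n) F) * G2 = 1 := by
    rw [hg1, hG2, ← Psi_mul, ← Matrix.mul_kronecker_mul, ← Units.val_mul, ← Units.val_mul,
      mul_inv_cancel, mul_inv_cancel, Units.val_one, Units.val_one, Matrix.one_kronecker_one, Psi_one]
  have hinv' := Units.inv_eq_of_mul_eq_one_right hinv
  rw [hinv', hg1, hG2]
  unfold Phi
  rw [← Psi_mul, ← Psi_mul, ← Matrix.mul_kronecker_mul, ← Matrix.mul_kronecker_mul, mul_one,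
    ← Units.val_mul, mul_inv_cancel, Units.val_one]

end Psi

/-- K-O12-X4P2 (587112), with the necessary extra hypothesis `0 < n`. -/
theorem tensor_two_le_fieldNormalizer_card_two (hn : 0 < n) (hq : Fintype.card F = 2) (n₂ : ℕ)
    (e : Fin n ≃ Fin 2 × Fin n₂) (P : GL (Fin n) F) :
    ∃ K : Subalgebra F (Matrix (Fin n) (Fin n) F), IsFieldSubalgebra 2 K ∧
      tensorProductSubgroup 2 n₂ e P ≤ subalgebraNormalizer K := by
  classical
  have h2 := two_eq_zero_of_card hq
  have h11 : (1 : F) + 1 = 0 := by rw [one_add_one_eq_two]; exact h2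
  -- `n₂` is positive
  have hn2 : 0 < n₂ := by
    have := Fintype.card_congr e
    rw [Fintype.card_fin, Fintype.card_prod, Fintype.card_fin, Fintype.card_fin] at this
    rcases Nat.eq_zero_or_pos n₂ with h | h
    · rw [h] at this; omega
    · exact h
  let k0 : Fin n₂ := ⟨0, hn2⟩
  set Ω : Matrix (Fin n) (Fin n) F := Phi e P (omega F) with hΩ
  have hΩΩ : Ω * Ω = Ω + 1 := by
    rw [hΩ, ← Phi_mul, omega_mul_self, Phi_add, Phi_one]
  have hΩΩ' : Ω * (Ω + 1) = 1 := by
    rw [mul_add, hΩΩ, mul_one, add_comm Ω 1, add_assoc, ← two_smul F Ω, h2, zero_smul, add_zero]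
  -- `Ω` is not a scalar
  have hΩs : ∀ c : F, c • (1 : Matrix (Fin n) (Fin n) F) ≠ Ω := by
    intro c hc
    have : Phi e P (omega F + c • 1) = 0 := by
      rw [Phi_add, ← hΩ, ← hc]
      unfold Phi
      rw [Matrix.smul_kronecker, Matrix.one_kronecker_one, Psi_smul, Psi_one, ← add_smul,
        ← two_mul, h2, zero_mul, zero_smul]
    have h0 := Phi_eq_zero e P k0 this
    have := congrFun (congrFun h0 0) 1
    simp [omega] at this
  set K : Subalgebra F (Matrix (Fin n) (Fin n) F) := Algebra.adjoin F {Ω} with hK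
  have hΩK : Ω ∈ K := Algebra.subset_adjoin rfl
  set S : Submodule F (Matrix (Fin n) (Fin n) F) := Submodule.span F {1, Ω} with hS
  have h1S : (1 : Matrix (Fin n) (Fin n) F) ∈ S := Submodule.subset_span (by simp)
  have hΩS : Ω ∈ S := Submodule.subset_span (by simp)
  -- `K = span {1, Ω}`
  have hKS : Subalgebra.toSubmodule K = S := by
    apply le_antisymm
    · rw [hK, Algebra.adjoin_eq_span, Submodule.span_le]
      intro x hx
      rw [SetLike.mem_coe, Submonoid.mem_closure_singleton] at hx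
      obtain ⟨m, rfl⟩ := hx
      induction m with
      | zero => rw [pow_zero]; exact h1S
      | succ m ih =>
        obtain ⟨α, β, hαβ⟩ := Submodule.mem_span_pair.mp ih
        rw [pow_succ, ← hαβ, add_mul, smul_mul_assoc, smul_mul_assoc, one_mul, hΩΩ]
        exact S.add_mem (S.smul_mem _ hΩS) (S.smul_mem _ (S.add_mem hΩS h1S))
    · rw [hS, Submodule.span_le]
      intro x hx
      rw [Set.mem_insert_iff, Set.mem_singleton_iff] at hx
      rcases hx with rfl | rfl
      · exact K.one_mem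
      · exact hΩK
  have hmemK : ∀ x, x ∈ K ↔ ∃ α β : F, α • (1 : Matrix (Fin n) (Fin n) F) + β • Ω = x := by
    intro x
    rw [← Subalgebra.mem_toSubmodule, hKS, hS, Submodule.mem_span_pair]
  refine ⟨K, ⟨?_, ?_, ?_⟩, ?_⟩
  · -- commutative
    intro x hx y hy
    have h1 : Commute x Ω := (Algebra.commute_of_mem_adjoin_self hx).symm
    have h2' : Commute x y := by
      apply Algebra.commute_of_mem_adjoin_of_forall_mem_commute hy
      intro b hb
      rw [Set.mem_singleton_iff] at hb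
      rw [hb]
      exact h1
    exact h2'
  · -- inverses
    intro x hx hx0
    obtain ⟨α, β, rfl⟩ := (hmemK x).mp hx
    rcases zero_or_one hq α with hα | hα <;> rcases zero_or_one hq β with hβ | hβ
    · exfalso; apply hx0; rw [hα, hβ, zero_smul, zero_smul, add_zero]
    · refine ⟨Ω + 1, K.add_mem hΩK K.one_mem, ?_⟩
      rw [hα, hβ, zero_smul, zero_add, one_smul]
      exact hΩΩ'
    · refine ⟨1, K.one_mem, ?_⟩
      rw [hα, hβ, zero_smul, add_zero, one_smul, mul_one]
    · refine ⟨Ω, hΩK, ?_⟩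
      rw [hα, hβ, one_smul, one_smul, add_comm, add_mul, one_mul, hΩΩ, add_assoc,
        add_comm 1 Ω, ← add_assoc, ← two_smul F Ω, h2, zero_smul, zero_add]
  · -- dimension two
    have h1ne : (1 : Matrix (Fin n) (Fin n) F) ≠ 0 := by
      intro h
      apply hΩs 0
      rw [zero_smul]
      have : Ω = Ω * 1 := (mul_one Ω).symm
      rw [this, h, mul_zero]
    have hli : LinearIndependent F ![(1 : Matrix (Fin n) (Fin n) F), Ω] :=
      (LinearIndependent.pair_iff' h1ne).mpr hΩs
    have h2c := finrank_span_eq_card hli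
    rw [Fintype.card_fin] at h2c
    have hrange : Set.range ![(1 : Matrix (Fin n) (Fin n) F), Ω] = {1, Ω} := by
      ext z
      simp only [Matrix.range_cons, Matrix.range_empty, Set.union_empty, Set.mem_union,
        Set.mem_singleton_iff, Set.mem_insert_iff]
    rw [hrange] at h2c
    rw [← Subalgebra.finrank_toSubmodule, hKS]
    exact h2c
  · -- the normaliser
    have key : ∀ g ∈ tensorProductSubgroup 2 n₂ e P, ∀ x ∈ K,
        (g : Matrix (Fin n) (Fin n) F) * x * ((g⁻¹ : GL (Fin n) F) : Matrix (Fin n) (Fin n) F) ∈ K := by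
      intro g hg x hx
      obtain ⟨a, ha⟩ := conj_Phi e P g hg
      obtain ⟨α, β, rfl⟩ := (hmemK x).mp hx
      have hgg : (g : Matrix (Fin n) (Fin n) F) * ((g⁻¹ : GL (Fin n) F) : Matrix (Fin n) (Fin n) F) = 1 := by
        rw [← Units.val_mul, mul_inv_cancel, Units.val_one]
      have hgΩ : (g : Matrix (Fin n) (Fin n) F) * Ω * ((g⁻¹ : GL (Fin n) F) : Matrix (Fin n) (Fin n) F) ∈ K := by
        rw [hΩ, ha (omega F)]
        rcases conj_omega hq a with h | h
        · rw [h]; exact hΩK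
        · rw [h, Phi_add, Phi_one]; exact K.add_mem hΩK K.one_mem
      rw [mul_add, add_mul, Matrix.mul_smul, Matrix.smul_mul, mul_one, hgg, Matrix.mul_smul,
        Matrix.smul_mul]
      exact K.add_mem (K.smul_mem K.one_mem _) (K.smul_mem hgΩ _)
    intro g hg
    show ∀ k : Matrix (Fin n) (Fin n) F, k ∈ K ↔
      (g : Matrix (Fin n) (Fin n) F) * k * ((g⁻¹ : GL (Fin n) F) : Matrix (Fin n) (Fin n) F) ∈ K
    intro k
    refine ⟨fun hk => key g hg k hk, fun hk => ?_⟩
    have := key g⁻¹ ((tensorProductSubgroup 2 n₂ e P).inv_mem hg) _ hk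
    rw [inv_inv] at this
    have hgg : ((g⁻¹ : GL (Fin n) F) : Matrix (Fin n) (Fin n) F) * (g : Matrix (Fin n) (Fin n) F) = 1 := by
      rw [← Units.val_mul, inv_mul_cancel, Units.val_one]
    have e1 : ((g⁻¹ : GL (Fin n) F) : Matrix (Fin n) (Fin n) F) *
        ((g : Matrix (Fin n) (Fin n) F) * k * ((g⁻¹ : GL (Fin n) F) : Matrix (Fin n) (Fin n) F)) *
        (g : Matrix (Fin n) (Fin n) F) = k := by
      calc _ = (((g⁻¹ : GL (Fin n) F) : Matrix (Fin n) (Fin n) F) * (g : Matrix (Fin n) (Fin n) F)) * k *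
            (((g⁻¹ : GL (Fin n) F) : Matrix (Fin n) (Fin n) F) * (g : Matrix (Fin n) (Fin n) F)) := by
            simp only [mul_assoc]
        _ = k := by rw [hgg, one_mul, mul_one]
    rw [e1] at this
    exact this

/-- the instance used by the glue of S5871. -/
theorem hypX4P2_twelve : Cfsg.Agent.Lib.Helper09.O12.HypX4P2 F 12 :=
  fun hq n₂ e P => tensor_two_le_fieldNormalizer_card_two (by norm_num) hq n₂ e P

end Cfsg.Agent.Lib.Helper80.O12
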