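import Mathlib
import Cfsg.Agent.Lib.Helper16.BG1363Defs
import Cfsg.Agent.Lib.Helper55.Basic
import Cfsg.Agent.Lib.Helper02.Fitting

/-!
# Keystone 143516 (K-1435-P11) `le_fittingOf_inf` (pack S1435, architect helper31)

A `p`-subgroup `K ≤ H ⊓ Q` with `Q` a `p`-group normalized by `Ms` lies in `F(H ⊓ Ms)`.
-/

set_option autoImplicit false

namespace Cfsg.Agent.Lib.Helper80.BG1435

open Cfsg Subgroup Cfsg.Agent.Lib.Helper55 Cfsg.Agent.Lib.Helper11.BG14D Cfsg.Agent.Lib.Helper16.BG1363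

variable {G : Type*} [Group G] [Finite G]

theorem le_fittingOf_inf {H Ms K Q : Subgroup G} (p : ℕ) (hp : p.Prime) (hKH : K ≤ H)
    (hQMs : Q ≤ Ms) (hQn : Ms ≤ normalizer (Q : Set G)) (hQp : IsPGroup p Q) (hKQ : K ≤ Q) :
    K ≤ fittingOf (H ⊓ Ms) := by
  have : Fact p.Prime := ⟨hp⟩
  -- the normal `p`-subgroup `N := Q.subgroupOf X` of `X := H ⊓ Ms`
  have hNn : (Q.subgroupOf (H ⊓ Ms)).Normal := by
    refine ⟨fun n hn g => ?_⟩
    have hg : (g : G) ∈ normalizer (Q : Set G) := hQn g.2.2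
    rw [mem_subgroupOf] at hn ⊢
    have := (mem_normalizer_iff.1 hg (n : G)).1 hn
    simpa using this
  have hNp : IsPGroup p (Q.subgroupOf (H ⊓ Ms)) :=
    hQp.comap_of_injective (H ⊓ Ms).subtype (H ⊓ Ms).subtype_injective
  have hNnil : Group.IsNilpotent (Q.subgroupOf (H ⊓ Ms)) := hNp.isNilpotent
  have hle : Q.subgroupOf (H ⊓ Ms) ≤ Cfsg.fittingSubgroup ↥(H ⊓ Ms) :=
    Cfsg.Agent.Lib.Helper02.le_fittingSubgroup _ hNn hNnil
  intro k hk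
  have hkX : k ∈ H ⊓ Ms := ⟨hKH hk, hQMs (hKQ hk)⟩
  refine ⟨⟨k, hkX⟩, hle ?_, rfl⟩
  rw [mem_subgroupOf]
  exact hKQ hk

end Cfsg.Agent.Lib.Helper80.BG1435
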