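import Mathlib

/-!
# K-S3359-9: a finite non-solvable group has a nontrivial perfect normal subgroup
-/

set_option autoImplicit false

namespace Cfsg.Agent.Lib.Helper80.FC

universe u

theorem exists_perfect_normal {G : Type u} [Group G] [Finite G] (h : ¬ Group.IsSolvable G) :
    ∃ S : Subgroup G, S.Normal ∧ S ≠ ⊥ ∧ commutator S = ⊤ := by
  classical
  obtain ⟨n, hn⟩ : ∃ n, ∀ m, Nat.card (derivedSeries G n) ≤ Nat.card (derivedSeries G m) := by
    let f : ℕ → ℕ := fun n => Nat.card (derivedSeries G n)
    exact ⟨Function.argmin f, fun m => Function.argmin_le f m⟩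
  have hle : derivedSeries G (n + 1) ≤ derivedSeries G n := derivedSeries_antitone G (Nat.le_succ n)
  have heq : derivedSeries G (n + 1) = derivedSeries G n :=
    Subgroup.eq_of_le_of_card_ge hle (hn (n + 1))
  refine ⟨derivedSeries G n, inferInstance, ?_, ?_⟩
  · intro hbot
    exact h ((Group.isSolvable_def G).mpr ⟨n, hbot⟩)
  · have h1 : (commutator (derivedSeries G n)).map (derivedSeries G n).subtype =
        (⊤ : Subgroup (derivedSeries G n)).map (derivedSeries G n).subtype := by
      rw [Subgroup.map_subtype_commutator, ← derivedSeries_succ, heq, ← MonoidHom.range_eq_map,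
        Subgroup.range_subtype]
    exact Subgroup.map_injective (derivedSeries G n).subtype_injective h1

end Cfsg.Agent.Lib.Helper80.FC
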