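import Mathlib
import Cfsg.Prelude.Def_Transfer
import Cfsg.Agent.Lib.Helper04.BurnsidePQ
import Cfsg.Agent.Lib.Helper02.FpfCyclic

/-! S4081, forward direction, group-theoretic part: a group of non-prime-power order with exactly
three automorphism orbits has order `p^n q` with a normal elementary abelian Sylow `p`-subgroup on
which the elements of order `q` act without fixed points. -/

set_option autoImplicit false

namespace Cfsg.Agent.Lib.Helper80.AutOrbit

open MulAction
open scoped commutatorElement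

variable {G : Type*} [Group G]

theorem mk_eq_iff (x y : G) :
    (Quotient.mk'' x : orbitRel.Quotient (MulAut G) G) = Quotient.mk'' y ↔
      ∃ α : MulAut G, α y = x := by
  rw [Quotient.eq'']
  change x ∈ orbit (MulAut G) y ↔ _
  rw [mem_orbit_iff]
  rfl

variable [Finite G]

/-- With exactly three orbits, represented by `1`, `a`, `b`, every element is in one of them. -/
theorem three_orbits_cover (h3 : Nat.card (orbitRel.Quotient (MulAut G) G) = 3) (a b : G)
    (ha : a ≠ 1) (hb : b ≠ 1) (hab : orderOf a ≠ orderOf b) (g : G) :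
    g = 1 ∨ (∃ α : MulAut G, α a = g) ∨ (∃ α : MulAut G, α b = g) := by
  classical
  haveI : Fintype (orbitRel.Quotient (MulAut G) G) := Fintype.ofFinite _
  let Q := orbitRel.Quotient (MulAut G) G
  let c1 : Q := Quotient.mk'' 1
  let ca : Q := Quotient.mk'' a
  let cb : Q := Quotient.mk'' b
  have h1a : c1 ≠ ca := by
    intro h
    obtain ⟨α, hα⟩ := (mk_eq_iff _ _).mp h
    exact ha ((map_eq_one_iff α α.injective).mp hα)
  have h1b : c1 ≠ cb := by
    intro h
    obtain ⟨α, hα⟩ := (mk_eq_iff _ _).mp h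
    exact hb ((map_eq_one_iff α α.injective).mp hα)
  have hab' : ca ≠ cb := by
    intro h
    obtain ⟨α, hα⟩ := (mk_eq_iff _ _).mp h
    apply hab
    rw [← hα, MulEquiv.orderOf_eq]
  have hcard : ({c1, ca, cb} : Finset Q).card = Fintype.card Q := by
    rw [← Nat.card_eq_fintype_card, h3, Finset.card_insert_of_notMem, Finset.card_pair hab']
    simp only [Finset.mem_insert, Finset.mem_singleton, not_or]
    exact ⟨h1a, h1b⟩
  have huniv := Finset.eq_univ_of_card _ hcard
  have hg : (Quotient.mk'' g : Q) ∈ ({c1, ca, cb} : Finset Q) := by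
    rw [huniv]; exact Finset.mem_univ _
  simp only [Finset.mem_insert, Finset.mem_singleton] at hg
  rcases hg with h | h | h
  · left
    obtain ⟨α, hα⟩ := (mk_eq_iff _ _).mp h
    rw [← hα, map_one]
  · right; left
    obtain ⟨α, hα⟩ := (mk_eq_iff _ _).mp h
    exact ⟨α, hα⟩
  · right; right
    obtain ⟨α, hα⟩ := (mk_eq_iff _ _).mp h
    exact ⟨α, hα⟩

/-- An abelian subgroup acting by conjugation without fixed points on a nontrivial abelian normal
subgroup is cyclic. -/
theorem isCyclic_of_fpf_conj (R : Subgroup G) [R.Normal]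
    (hRc : ∀ x ∈ R, ∀ y ∈ R, x * y = y * x) (hRne : R ≠ ⊥) (E : Subgroup G)
    (hEc : ∀ x ∈ E, ∀ y ∈ E, x * y = y * x)
    (hfpf : ∀ x ∈ E, x ≠ 1 → ∀ y ∈ R, x * y * x⁻¹ = y → y = 1) : IsCyclic E := by
  letI : CommGroup R := { (inferInstance : Group R) with
    mul_comm := fun a b => Subtype.ext (hRc a a.2 b b.2) }
  letI : MulDistribMulAction E R :=
    MulDistribMulAction.compHom R ((MulAut.conjNormal (H := R)).comp E.subtype)
  haveI : Nontrivial R := (Subgroup.nontrivial_iff_ne_bot R).mpr hRne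
  apply Cfsg.Agent.Lib.Helper02.isCyclic_of_fpf_of_comm (A := E) (W := R)
  · intro a ha w hw
    have h1 : ((a • w : R) : G) = (a : G) * (w : G) * (a : G)⁻¹ := rfl
    have h2 : (a : G) * (w : G) * (a : G)⁻¹ = (w : G) := by rw [← h1, hw]
    have h3 := hfpf a a.2 (fun h => ha (Subtype.ext h)) w w.2 h2
    exact Subtype.ext h3
  · intro a b
    exact Subtype.ext (hEc a a.2 b b.2)

/-- A subgroup of exponent `q` acting by conjugation without fixed points on a nontrivial abelian
normal subgroup has order `q`. -/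
theorem card_eq_prime_of_fpf {q : ℕ} [hq : Fact q.Prime] (R : Subgroup G) [R.Normal]
    (hRc : ∀ x ∈ R, ∀ y ∈ R, x * y = y * x) (hRne : R ≠ ⊥)
    (Q : Subgroup G) (hQne : Q ≠ ⊥) (hQq : ∀ x ∈ Q, x ^ q = 1)
    (hfpf : ∀ x ∈ Q, x ≠ 1 → ∀ y ∈ R, x * y * x⁻¹ = y → y = 1) : Nat.card Q = q := by
  have hQp : IsPGroup q Q := fun g => ⟨1, by
    rw [pow_one]; exact Subtype.ext (by simpa using hQq g g.2)⟩
  haveI : Nontrivial Q := (Subgroup.nontrivial_iff_ne_bot Q).mpr hQne
  haveI := hQp.center_nontrivial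
  obtain ⟨⟨z, hzc⟩, hz1⟩ := exists_ne (1 : Subgroup.center Q)
  have hz1' : (z : G) ≠ 1 := fun h => hz1 (Subtype.ext (Subtype.ext h))
  have hzo : orderOf (z : G) = q := orderOf_eq_prime (hQq z z.2) hz1'
  have hzQ : Subgroup.zpowers (z : G) ≤ Q := by
    rw [Subgroup.zpowers_le]; exact z.2
  by_contra hne
  -- an element outside `⟨z⟩`
  have hex : ∃ x ∈ Q, x ∉ Subgroup.zpowers (z : G) := by
    by_contra hcon
    push Not at hcon
    have : Q = Subgroup.zpowers (z : G) := le_antisymm hcon hzQ
    apply hne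
    rw [this, Nat.card_zpowers, hzo]
  obtain ⟨x, hxQ, hxz⟩ := hex
  have hzx : (z : G) * x = x * (z : G) := by
    have := Subgroup.mem_center_iff.mp hzc ⟨x, hxQ⟩
    have h2 := congrArg (fun w : Q => (w : G)) this
    simpa using h2.symm
  set E : Subgroup G := Subgroup.closure {(z : G), x} with hE
  have hEQ : E ≤ Q := by
    rw [hE, Subgroup.closure_le]
    intro y hy
    rcases hy with rfl | rfl
    · exact z.2
    · exact hxQ
  have hEc : ∀ a ∈ E, ∀ b ∈ E, a * b = b * a := by
    have hcomm : ∀ a ∈ ({(z : G), x} : Set G), ∀ b ∈ ({(z : G), x} : Set G), a * b = b * a := by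
      intro a ha b hb
      rcases ha with rfl | rfl <;> rcases hb with rfl | rfl
      · rfl
      · exact hzx
      · exact hzx.symm
      · rfl
    have := Subgroup.isMulCommutative_closure hcomm
    intro a ha b hb
    exact congrArg Subtype.val (this.is_comm.comm ⟨a, ha⟩ ⟨b, hb⟩)
  have hEcyc : IsCyclic E := isCyclic_of_fpf_conj R hRc hRne E hEc
    (fun a ha ha1 y hy h => hfpf a (hEQ ha) ha1 y hy h)
  obtain ⟨g, hg⟩ := hEcyc.exists_generator
  have hgq : (g : G) ^ q = 1 := hQq g (hEQ g.2)
  have hcardE : Nat.card E ≤ q := by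
    rw [← orderOf_eq_card_of_forall_mem_zpowers hg]
    apply orderOf_le_of_pow_eq_one hq.out.pos
    exact Subtype.ext (by simpa using hgq)
  have hzE : Subgroup.zpowers (z : G) ≤ E := by
    rw [Subgroup.zpowers_le]; exact Subgroup.subset_closure (Or.inl rfl)
  have hEz : E = Subgroup.zpowers (z : G) := by
    symm
    apply Subgroup.eq_of_le_of_card_ge hzE
    rw [Nat.card_zpowers, hzo]; exact hcardE
  apply hxz
  rw [← hEz]
  exact Subgroup.subset_closure (Or.inr rfl)

/-- Structure, once the roles of the two primes are fixed. -/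
theorem structure_aux (p q : ℕ) [hp : Fact p.Prime] [hq : Fact q.Prime] (hpq : p ≠ q)
    (ho : ∀ g : G, g = 1 ∨ orderOf g = p ∨ orderOf g = q)
    (htr : ∀ x y : G, x ≠ 1 → orderOf x = orderOf y → ∃ α : MulAut G, α x = y)
    (hprimes : ∀ r : ℕ, r.Prime → r ∣ Nat.card G → r = p ∨ r = q)
    (hqd : q ∣ Nat.card G)
    (A : Subgroup G) [hAchar : A.Characteristic] (hA : ∀ x ∈ A, ∀ y ∈ A, x * y = y * x)
    (x0 : G) (hx0 : x0 ∈ A) (hx0o : orderOf x0 = p) :
    ∃ n : ℕ, 1 ≤ n ∧ Nat.card G = p ^ n * q ∧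
      (∀ P : Sylow p G, (P : Subgroup G).Normal ∧ Cfsg.IsElementaryAbelian p (P : Subgroup G)) ∧
      (∀ x y : G, orderOf x = q → orderOf y = p → x * y * x⁻¹ ≠ y) := by
  have hx01 : x0 ≠ 1 := by
    intro h; rw [h, orderOf_one] at hx0o; exact hp.out.one_lt.ne hx0o
  -- all elements of order p lie in A
  have hpA : ∀ y : G, orderOf y = p → y ∈ A := by
    intro y hy
    obtain ⟨α, hα⟩ := htr x0 y hx01 (by rw [hx0o, hy])
    have := hAchar.fixed α.symm
    rw [← hα]
    have h2 : x0 ∈ A.comap α.toMonoidHom := by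
      have h3 := hAchar.fixed α
      rw [h3]; exact hx0
    exact h2
  -- the subgroup of elements of A of order dividing p
  let Ap : Subgroup G :=
    { carrier := {x | x ∈ A ∧ x ^ p = 1}
      mul_mem' := by
        rintro a b ⟨ha, hap⟩ ⟨hb, hbp⟩
        refine ⟨mul_mem ha hb, ?_⟩
        have hc : Commute a b := hA a ha b hb
        rw [hc.mul_pow, hap, hbp, one_mul]
      one_mem' := ⟨one_mem _, one_pow _⟩
      inv_mem' := by
        rintro a ⟨ha, hap⟩
        exact ⟨inv_mem ha, by rw [inv_pow, hap, inv_one]⟩ }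
  have hApmem : ∀ x, x ∈ Ap ↔ x ∈ A ∧ x ^ p = 1 := fun x => Iff.rfl
  have hApp : IsPGroup p Ap := fun g => ⟨1, by
    rw [pow_one]; exact Subtype.ext (by simpa using g.2.2)⟩
  have hApn : Ap.Normal := by
    constructor
    intro x hx g
    refine ⟨(inferInstance : A.Normal).conj_mem x hx.1 g, ?_⟩
    rw [conj_pow, hx.2, mul_one, mul_inv_cancel]
  have hSyl : ∀ P : Sylow p G, (P : Subgroup G) = Ap := by
    intro P
    have hle : (P : Subgroup G) ≤ Ap := by
      intro x hx
      rcases ho x with h | h | h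
      · rw [h]; exact one_mem _
      · exact ⟨hpA x h, by rw [← h]; exact pow_orderOf_eq_one x⟩
      · exfalso
        obtain ⟨k, hk⟩ := (IsPGroup.iff_orderOf.mp P.isPGroup') ⟨x, hx⟩
        have h2 : orderOf x = p ^ k := by
          have := Subgroup.orderOf_mk x hx
          rw [← this]; exact hk
        rw [h] at h2
        have : q ∣ p ^ k := by rw [← h2]
        have := (Nat.prime_dvd_prime_iff_eq hq.out hp.out).mp (hq.out.dvd_of_dvd_pow this)
        exact hpq this.symm
    exact (P.is_maximal' hApp hle).symm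
  have hfpf : ∀ x y : G, orderOf x = q → orderOf y = p → x * y * x⁻¹ ≠ y := by
    intro x y hx hy hxy
    have hc : Commute x y := by
      have : x * y = y * x := by
        calc x * y = x * y * x⁻¹ * x := by group
          _ = y * x := by rw [hxy]
      exact this
    have hcop : (orderOf x).Coprime (orderOf y) := by
      rw [hx, hy]; exact (Nat.coprime_primes hq.out hp.out).mpr (Ne.symm hpq)
    have ho2 := hc.orderOf_mul_eq_mul_orderOf_of_coprime hcop
    rw [hx, hy] at ho2
    have hp1 := hp.out.one_lt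
    have hq1 := hq.out.one_lt
    rcases ho (x * y) with h | h | h
    · rw [h, orderOf_one] at ho2; nlinarith
    · rw [h] at ho2; nlinarith
    · rw [h] at ho2; nlinarith
  -- the Sylow q-subgroup has order q
  have hApne : Ap ≠ ⊥ := by
    intro h
    have : x0 ∈ Ap := ⟨hx0, by rw [← hx0o]; exact pow_orderOf_eq_one x0⟩
    rw [h, Subgroup.mem_bot] at this
    exact hx01 this
  have hApc : ∀ x ∈ Ap, ∀ y ∈ Ap, x * y = y * x := fun x hx y hy => hA x hx.1 y hy.1
  obtain ⟨Q⟩ : Nonempty (Sylow q G) := inferInstance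
  have hQcard := Q.card_eq_multiplicity
  have hQne : (Q : Subgroup G) ≠ ⊥ := by
    intro h
    have h1 : Nat.card (Q : Subgroup G) = 1 := by rw [h, Subgroup.card_bot]
    have hpos : 0 < (Nat.card G).factorization q :=
      hq.out.factorization_pos_of_dvd Nat.card_pos.ne' hqd
    rw [hQcard] at h1
    have := Nat.one_lt_pow hpos.ne' hq.out.one_lt
    omega
  have hQq : ∀ x ∈ (Q : Subgroup G), x ^ q = 1 := by
    intro x hx
    rcases ho x with h | h | h
    · rw [h, one_pow]
    · exfalso
      obtain ⟨k, hk⟩ := (IsPGroup.iff_orderOf.mp Q.isPGroup') ⟨x, hx⟩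
      have h2 : orderOf x = q ^ k := by
        have := Subgroup.orderOf_mk x hx
        rw [← this]; exact hk
      rw [h] at h2
      have : p ∣ q ^ k := by rw [← h2]
      have := (Nat.prime_dvd_prime_iff_eq hp.out hq.out).mp (hp.out.dvd_of_dvd_pow this)
      exact hpq this
    · rw [← h]; exact pow_orderOf_eq_one x
  have hQfpf : ∀ x ∈ (Q : Subgroup G), x ≠ 1 → ∀ y ∈ Ap, x * y * x⁻¹ = y → y = 1 := by
    intro x hx hx1 y hy hxy
    by_contra hy1
    have hxo : orderOf x = q := orderOf_eq_prime (hQq x hx) hx1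
    have hyo : orderOf y = p := orderOf_eq_prime hy.2 hy1
    exact hfpf x y hxo hyo hxy
  haveI := hApn
  have hQq' : Nat.card (Q : Subgroup G) = q :=
    card_eq_prime_of_fpf Ap hApc hApne (Q : Subgroup G) hQne hQq hQfpf
  -- the order of G
  have hfq : (Nat.card G).factorization q = 1 := by
    rw [hQcard] at hQq'
    have := Nat.pow_right_injective hq.out.two_le (a₁ := (Nat.card G).factorization q) (a₂ := 1)
      (by simpa using hQq')
    exact this
  have hpd : p ∣ Nat.card G := by rw [← hx0o]; exact orderOf_dvd_natCard x0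
  have hfp : 0 < (Nat.card G).factorization p :=
    hp.out.factorization_pos_of_dvd Nat.card_pos.ne' hpd
  have hcard : Nat.card G = p ^ (Nat.card G).factorization p * q := by
    conv_lhs => rw [← Nat.prod_factorization_pow_eq_self (Nat.card_pos (α := G)).ne']
    have hsupp : (Nat.card G).factorization.support = {p, q} := by
      ext r
      rw [Nat.support_factorization, Nat.mem_primeFactors, Finset.mem_insert, Finset.mem_singleton]
      constructor
      · rintro ⟨hr, hrd, -⟩
        exact hprimes r hr hrd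
      · rintro (rfl | rfl)
        · exact ⟨hp.out, hpd, Nat.card_pos.ne'⟩
        · exact ⟨hq.out, hqd, Nat.card_pos.ne'⟩
    rw [Finsupp.prod, hsupp, Finset.prod_pair hpq, hfq, pow_one]
  refine ⟨(Nat.card G).factorization p, hfp, hcard, ?_, hfpf⟩
  intro P
  rw [hSyl P]
  refine ⟨hApn, ?_, fun a ha => ha.2⟩
  exact ⟨⟨fun a b => Subtype.ext (hApc a a.2 b b.2)⟩⟩

/-- Forward direction, group-theoretic part. -/
theorem structure_of_three_orbits (hnpp : ¬ IsPrimePow (Nat.card G)) (hnt : Nat.card G ≠ 1)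
    (h3 : Nat.card (orbitRel.Quotient (MulAut G) G) = 3) :
    ∃ (p q n : ℕ) (_ : Fact p.Prime) (_ : Fact q.Prime), p ≠ q ∧ 1 ≤ n ∧
      Nat.card G = p ^ n * q ∧
      (∀ P : Sylow p G, (P : Subgroup G).Normal ∧ Cfsg.IsElementaryAbelian p (P : Subgroup G)) ∧
      (∀ x y : G, orderOf x = q → orderOf y = p → x * y * x⁻¹ ≠ y) ∧
      (∀ x y : G, x ≠ 1 → orderOf x = orderOf y → ∃ α : MulAut G, α x = y) := by
  obtain ⟨r1, hr1, hd1⟩ := Nat.exists_prime_and_dvd hnt
  obtain ⟨r2, hr2, hd2, hne⟩ : ∃ r2, r2.Prime ∧ r2 ∣ Nat.card G ∧ r2 ≠ r1 := by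
    by_contra hcon
    push Not at hcon
    apply hnpp
    rw [isPrimePow_iff_unique_prime_dvd]
    exact ⟨r1, ⟨hr1, hd1⟩, fun y ⟨hy, hyd⟩ => hcon y hy hyd⟩
  haveI := Fact.mk hr1
  haveI := Fact.mk hr2
  obtain ⟨a, ha⟩ := exists_prime_orderOf_dvd_card' r1 hd1
  obtain ⟨b, hb⟩ := exists_prime_orderOf_dvd_card' r2 hd2
  have ha1 : a ≠ 1 := by
    intro h; rw [h, orderOf_one] at ha; exact hr1.one_lt.ne ha
  have hb1 : b ≠ 1 := by
    intro h; rw [h, orderOf_one] at hb; exact hr2.one_lt.ne hb
  have hcov := three_orbits_cover h3 a b ha1 hb1 (by rw [ha, hb]; exact hne.symm)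
  have ho : ∀ g : G, g = 1 ∨ orderOf g = r1 ∨ orderOf g = r2 := by
    intro g
    rcases hcov g with h | ⟨α, h⟩ | ⟨α, h⟩
    · exact Or.inl h
    · right; left; rw [← h, MulEquiv.orderOf_eq, ha]
    · right; right; rw [← h, MulEquiv.orderOf_eq, hb]
  have htr : ∀ x y : G, x ≠ 1 → orderOf x = orderOf y → ∃ α : MulAut G, α x = y := by
    intro x y hx hxy
    have hy : y ≠ 1 := by
      intro h
      rw [h, orderOf_one, orderOf_eq_one_iff] at hxy
      exact hx hxy
    rcases hcov x with h | ⟨α, h⟩ | ⟨α, h⟩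
    · exact absurd h hx
    · rcases hcov y with h' | ⟨β, h'⟩ | ⟨β, h'⟩
      · exact absurd h' hy
      · refine ⟨β * α⁻¹, ?_⟩
        rw [← h, ← h']
        simp
      · exfalso
        rw [← h, ← h', MulEquiv.orderOf_eq, MulEquiv.orderOf_eq, ha, hb] at hxy
        exact hne hxy.symm
    · rcases hcov y with h' | ⟨β, h'⟩ | ⟨β, h'⟩
      · exact absurd h' hy
      · exfalso
        rw [← h, ← h', MulEquiv.orderOf_eq, MulEquiv.orderOf_eq, ha, hb] at hxy
        exact hne hxy
      · refine ⟨β * α⁻¹, ?_⟩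
        rw [← h, ← h']
        simp
  have hprimes : ∀ r : ℕ, r.Prime → r ∣ Nat.card G → r = r1 ∨ r = r2 := by
    intro r hr hrd
    haveI := Fact.mk hr
    obtain ⟨x, hx⟩ := exists_prime_orderOf_dvd_card' r hrd
    rcases ho x with h | h | h
    · rw [h, orderOf_one] at hx; exact absurd hx hr.one_lt.ne
    · left; rw [← hx, h]
    · right; rw [← hx, h]
  -- solvability
  have hsolv : Group.IsSolvable G := by
    have hcard : Nat.card G = r1 ^ (Nat.card G).factorization r1 *
        r2 ^ (Nat.card G).factorization r2 := by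
      conv_lhs => rw [← Nat.prod_factorization_pow_eq_self (Nat.card_pos (α := G)).ne']
      have hsupp : (Nat.card G).factorization.support = {r1, r2} := by
        ext r
        rw [Nat.support_factorization, Nat.mem_primeFactors, Finset.mem_insert,
          Finset.mem_singleton]
        constructor
        · rintro ⟨hr, hrd, -⟩
          exact hprimes r hr hrd
        · rintro (rfl | rfl)
          · exact ⟨hr1, hd1, Nat.card_pos.ne'⟩
          · exact ⟨hr2, hd2, Nat.card_pos.ne'⟩
      rw [Finsupp.prod, hsupp, Finset.prod_pair hne.symm]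
    exact Cfsg.Agent.Lib.Helper04.burnside_paqb r1 r2 _ _ hr1 hr2 hcard
  -- a nontrivial characteristic abelian subgroup
  obtain ⟨A, hAchar, hAc, x0, hx0A, hx01⟩ : ∃ A : Subgroup G, A.Characteristic ∧
      (∀ x ∈ A, ∀ y ∈ A, x * y = y * x) ∧ ∃ x0 ∈ A, x0 ≠ 1 := by
    classical
    have hex : ∃ n, derivedSeries G n = ⊥ := (Group.isSolvable_def G).mp hsolv
    have hn0 : Nat.find hex ≠ 0 := by
      intro h0
      have := Nat.find_spec hex
      rw [h0, derivedSeries_zero] at this
      have hcard : Nat.card G = 1 := by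
        have h1 : Nat.card (⊤ : Subgroup G) = 1 := by rw [this, Subgroup.card_bot]
        rwa [Subgroup.card_top] at h1
      exact hnt hcard
    obtain ⟨m, hm⟩ := Nat.exists_eq_succ_of_ne_zero hn0
    have hbot : derivedSeries G (m + 1) = ⊥ := by
      have := Nat.find_spec hex
      rwa [hm] at this
    have hnb : derivedSeries G m ≠ ⊥ := by
      have := Nat.find_min hex (m := m) (by omega)
      exact this
    refine ⟨derivedSeries G m, inferInstance, ?_, ?_⟩
    · intro x hx y hy
      rw [derivedSeries_succ] at hbot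
      have hmem : ⁅x, y⁆ ∈ ⁅derivedSeries G m, derivedSeries G m⁆ :=
        Subgroup.commutator_mem_commutator hx hy
      rw [hbot, Subgroup.mem_bot] at hmem
      exact (commutatorElement_eq_one_iff_mul_comm.mp hmem)
    · by_contra hcon
      push Not at hcon
      apply hnb
      rw [eq_bot_iff]
      intro x hx
      rw [Subgroup.mem_bot]
      exact hcon x hx
  rcases ho x0 with h | h | h
  · exact absurd h hx01
  · -- p = r1, q = r2
    obtain ⟨n, hn1, hcard, hS, hf⟩ := structure_aux r1 r2 hne.symm ho htr hprimes hd2 A hAc x0 hx0A h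
    exact ⟨r1, r2, n, inferInstance, inferInstance, hne.symm, hn1, hcard, hS, hf, htr⟩
  · have ho' : ∀ g : G, g = 1 ∨ orderOf g = r2 ∨ orderOf g = r1 := by
      intro g
      rcases ho g with h | h | h
      · exact Or.inl h
      · exact Or.inr (Or.inr h)
      · exact Or.inr (Or.inl h)
    have hprimes' : ∀ r : ℕ, r.Prime → r ∣ Nat.card G → r = r2 ∨ r = r1 :=
      fun r hr hrd => (hprimes r hr hrd).symm
    obtain ⟨n, hn1, hcard, hS, hf⟩ := structure_aux r2 r1 hne ho' htr hprimes' hd1 A hAc x0 hx0A h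
    exact ⟨r2, r1, n, inferInstance, inferInstance, hne, hn1, hcard, hS, hf, htr⟩

end Cfsg.Agent.Lib.Helper80.AutOrbit
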