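import Mathlib

set_option autoImplicit false

namespace Cfsg.Agent.Lib.Helper80

open scoped commutatorElement
variable {P : Type*} [Group P]

/-- y ↦ ⁅a, y⁆ as a hom, when all ⁅a, y⁆ are central -/
def commHom (a : P) (h : ∀ y, ⁅a, y⁆ ∈ Subgroup.center P) : P →* P where
  toFun y := ⁅a, y⁆
  map_one' := by simp
  map_mul' y z := by
    have hz := Subgroup.mem_center_iff.1 (h z) y⁻¹
    simp only [commutatorElement_def] at *
    calc a * (y * z) * a⁻¹ * (y * z)⁻¹ = a * y * a⁻¹ * ((a * z * a⁻¹ * z⁻¹) * y⁻¹) := by group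
      _ = a * y * a⁻¹ * (y⁻¹ * (a * z * a⁻¹ * z⁻¹)) := by rw [hz]
      _ = _ := by group

theorem commHom_apply (a : P) (h : ∀ y, ⁅a, y⁆ ∈ Subgroup.center P) (y : P) : commHom a h y = ⁅a, y⁆ := rfl

theorem commHom_ker (a : P) (h : ∀ y, ⁅a, y⁆ ∈ Subgroup.center P) :
    (commHom a h).ker = Subgroup.centralizer {a} := by
  ext y
  rw [MonoidHom.mem_ker, commHom_apply, commutatorElement_eq_one_iff_mul_comm,
    Subgroup.mem_centralizer_singleton_iff]
  exact eq_comm

theorem commHom_range_le (a : P) (h : ∀ y, ⁅a, y⁆ ∈ Subgroup.center P) :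
    (commHom a h).range ≤ commutator P := by
  rintro _ ⟨y, rfl⟩
  rw [commHom_apply, commutator_eq_closure]
  exact Subgroup.subset_closure (commutator_mem_commutatorSet a y)

theorem aux_nat {p m n : ℕ} (hp : p.Prime) (h : m * n = p ^ 2) (hm : m ≠ 1) : n ∣ p := by
  have hn : n ∣ p ^ 2 := Dvd.intro_left m h
  obtain ⟨k, hk, rfl⟩ := (Nat.dvd_prime_pow hp).1 hn
  interval_cases k
  · simp
  · simp
  · exfalso
    apply hm
    have hpos : 0 < p ^ 2 := pow_pos hp.pos 2
    exact Nat.eq_of_mul_eq_mul_right hpos (by rw [h, one_mul])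

theorem index_dvd_of_center_lt {p : ℕ} [hp : Fact p.Prime]
    (hZ : (Subgroup.center P).index = p ^ 2) (C : Subgroup P) (hC : Subgroup.center P ≤ C)
    (a : P) (haC : a ∈ C) (haZ : a ∉ Subgroup.center P) : C.index ∣ p := by
  have h1 := Subgroup.relIndex_mul_index hC
  rw [hZ] at h1
  refine aux_nat hp.out h1 ?_
  rw [Ne, Subgroup.relIndex_eq_one]
  exact fun h => haZ (h haC)

theorem card_commutator_of_index_center [Finite P] {p : ℕ} [hp : Fact p.Prime]
    (hZ : (Subgroup.center P).index = p ^ 2) : Nat.card (commutator P) = p := by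
  have hcomm : commutator P ≤ Subgroup.center P := by
    rw [← Subgroup.Normal.quotient_commutative_iff_commutator_le]
    exact IsPGroup.isMulCommutative_of_card_eq_prime_sq (p := p) (by rw [← Subgroup.index_eq_card, hZ])
  have hne : Subgroup.center P ≠ ⊤ := by
    intro h
    rw [← Subgroup.index_eq_one, hZ] at h
    have := hp.out.one_lt
    nlinarith
  obtain ⟨a, ha⟩ : ∃ a, a ∉ Subgroup.center P := by
    by_contra hcon
    push Not at hcon
    exact hne (by rw [eq_top_iff]; intro x _; exact hcon x)
  have h : ∀ y, ⁅a, y⁆ ∈ Subgroup.center P := fun y => hcomm (by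
    rw [commutator_eq_closure]; exact Subgroup.subset_closure (commutator_mem_commutatorSet a y))
  have hA1 : (Subgroup.centralizer {a}).index ∣ p :=
    index_dvd_of_center_lt hZ _ (Subgroup.center_le_centralizer _) a
      (Subgroup.mem_centralizer_singleton_iff.2 rfl) ha
  have hA2 : (Subgroup.centralizer {a}).index ≠ 1 := by
    rw [Ne, Subgroup.index_eq_one, Subgroup.centralizer_eq_top_iff_subset]
    intro hh
    exact ha (hh rfl)
  have hA : (Subgroup.centralizer {a}).index = p := by
    rcases (Nat.dvd_prime hp.out).1 hA1 with h1 | h1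
    · exact absurd h1 hA2
    · exact h1
  have hcard : Nat.card (commHom a h).range = p := by
    rw [← Subgroup.index_ker, commHom_ker, hA]
  have hle : (commHom a h).range ≤ commutator P := commHom_range_le a h
  have hcen : (commHom a h).range ≤ Subgroup.center P := hle.trans hcomm
  suffices hge : commutator P ≤ (commHom a h).range by
    rw [le_antisymm hge hle, hcard]
  haveI : (commHom a h).range.Normal := by
    constructor
    intro n hn g
    have := Subgroup.mem_center_iff.1 (hcen hn) g
    rw [this, mul_inv_cancel_right]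
    exact hn
  rw [← Subgroup.Normal.quotient_commutative_iff_commutator_le]
  set H := (commHom a h).range with hH
  -- the center of the quotient has index dividing p
  let C : Subgroup P := (Subgroup.center (P ⧸ H)).comap (QuotientGroup.mk' H)
  have hZC : Subgroup.center P ≤ C := by
    intro z hz
    change (QuotientGroup.mk' H z) ∈ Subgroup.center (P ⧸ H)
    rw [Subgroup.mem_center_iff]
    intro q
    obtain ⟨y, rfl⟩ := QuotientGroup.mk'_surjective H q
    rw [← map_mul, ← map_mul, Subgroup.mem_center_iff.1 hz y]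
  have haC : a ∈ C := by
    change (QuotientGroup.mk' H a) ∈ Subgroup.center (P ⧸ H)
    rw [Subgroup.mem_center_iff]
    intro q
    obtain ⟨y, rfl⟩ := QuotientGroup.mk'_surjective H q
    rw [← map_mul, ← map_mul]
    -- y * a = a * y mod H
    simp only [QuotientGroup.mk'_apply]
    rw [eq_comm, QuotientGroup.eq]
    have : (a * y)⁻¹ * (y * a) = commHom a h (a⁻¹ * y⁻¹) := by
      rw [commHom_apply, commutatorElement_def]; group
    rw [this]
    exact ⟨_, rfl⟩
  have hCidx : C.index ∣ p := index_dvd_of_center_lt hZ C hZC a haC ha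
  have hCidx' : (Subgroup.center (P ⧸ H)).index ∣ p := by
    rw [← Subgroup.index_comap_of_surjective (Subgroup.center (P ⧸ H)) (QuotientGroup.mk'_surjective H)]
    exact hCidx
  haveI : IsCyclic ((P ⧸ H) ⧸ Subgroup.center (P ⧸ H)) := by
    apply isCyclic_of_card_dvd_prime (p := p)
    rw [← Subgroup.index_eq_card]
    exact hCidx'
  exact isMulCommutative_of_isCyclic_quotient_center_self _

/-- In a finite `p`-group, a normal subgroup of order `p` is central. -/
theorem le_center_of_normal_of_card_prime [Finite P] {p : ℕ} [hp : Fact p.Prime]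
    (hP : IsPGroup p P) (N : Subgroup P) [hN : N.Normal] (hN1 : Nat.card N = p) :
    N ≤ Subgroup.center P := by
  have hP' : IsPGroup p (ConjAct P) := hP.of_equiv ConjAct.toConjAct
  have hdvd : p ∣ Nat.card N := by rw [hN1]
  have h1 : (1 : N) ∈ MulAction.fixedPoints (ConjAct P) N := fun g => smul_one g
  obtain ⟨b, hb, hb1⟩ := hP'.exists_fixed_point_of_prime_dvd_card_of_fixed_point (α := N) hdvd h1
  have hbc : (b : P) ∈ Subgroup.center P := by
    rw [Subgroup.mem_center_iff]
    intro g
    have := hb (ConjAct.toConjAct g)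
    have h2 : ((ConjAct.toConjAct g • b : N) : P) = (b : P) := congrArg Subtype.val this
    rw [ConjAct.Subgroup.val_conj_smul, ConjAct.toConjAct_smul] at h2
    calc g * b.1 = g * b.1 * g⁻¹ * g := by group
      _ = b.1 * g := by rw [h2]
  intro n hn
  have hmem : (⟨n, hn⟩ : N) ∈ Subgroup.zpowers b := mem_zpowers_of_prime_card hN1 (Ne.symm hb1)
  obtain ⟨k, hk⟩ := hmem
  have : n = (b : P) ^ k := by
    have := congrArg Subtype.val hk
    simpa using this.symm
  rw [this]
  exact Subgroup.zpow_mem _ hbc k

theorem le_of_le_of_index_eq {D A : Subgroup P} (h : D ≤ A) (hi : D.index = A.index)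
    (h0 : A.index ≠ 0) : A ≤ D := by
  have h1 := Subgroup.relIndex_mul_index h
  rw [hi] at h1
  have : D.relIndex A = 1 := by
    have h2 : D.relIndex A * A.index = 1 * A.index := by rw [h1, one_mul]
    exact Nat.eq_of_mul_eq_mul_right (Nat.pos_of_ne_zero h0) h2
  exact Subgroup.relIndex_eq_one.1 this


theorem index_center_of_card_commutator [Finite P] {p : ℕ} [hp : Fact p.Prime]
    (hP : Nat.card P = p ^ 4) (hc : Nat.card (commutator P) = p) :
    (Subgroup.center P).index = p ^ 2 := by
  have hPG : IsPGroup p P := IsPGroup.of_card hP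
  have hcomm : commutator P ≤ Subgroup.center P :=
    le_center_of_normal_of_card_prime hPG (commutator P) hc
  have h : ∀ a y : P, ⁅a, y⁆ ∈ Subgroup.center P := fun a y => hcomm (by
    rw [commutator_eq_closure]; exact Subgroup.subset_closure (commutator_mem_commutatorSet a y))
  -- centralizers of noncentral elements have index p
  have hidx : ∀ a : P, a ∉ Subgroup.center P → (Subgroup.centralizer {a}).index = p := by
    intro a ha
    have h1 : Nat.card (commHom a (h a)).range ∣ p := by
      rw [← hc]; exact Subgroup.card_dvd_of_le (commHom_range_le a (h a))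
    rw [← Subgroup.index_ker, commHom_ker] at h1
    rcases (Nat.dvd_prime hp.out).1 h1 with h2 | h2
    · exfalso
      rw [Subgroup.index_eq_one, Subgroup.centralizer_eq_top_iff_subset] at h2
      exact ha (h2 rfl)
    · exact h2
  have hne : Subgroup.center P ≠ ⊤ := by
    intro hh
    rw [← commutator_eq_bot_iff_center_eq_top, ← Subgroup.card_eq_one, hc] at hh
    exact hp.out.one_lt.ne' hh
  obtain ⟨x, hx⟩ : ∃ a, a ∉ Subgroup.center P := by
    by_contra hcon
    push Not at hcon
    exact hne (by rw [eq_top_iff]; intro x _; exact hcon x)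
  set A := Subgroup.centralizer ({x} : Set P) with hA
  have hAidx : A.index = p := hidx x hx
  have hAne : A ≠ ⊤ := by
    intro hh
    rw [← Subgroup.index_eq_one, hAidx] at hh
    exact hp.out.one_lt.ne' hh
  obtain ⟨y, hy⟩ : ∃ a, a ∉ A := by
    by_contra hcon
    push Not at hcon
    exact hAne (by rw [eq_top_iff]; intro x _; exact hcon x)
  have hyZ : y ∉ Subgroup.center P := fun hh => hy (Subgroup.center_le_centralizer _ hh)
  set B := Subgroup.centralizer ({y} : Set P) with hB
  have hBidx : B.index = p := hidx y hyZ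
  have hxA : x ∈ A := Subgroup.mem_centralizer_singleton_iff.2 rfl
  have hyB : y ∈ B := Subgroup.mem_centralizer_singleton_iff.2 rfl
  have hxy : x * y ≠ y * x := by
    intro hh
    exact hy (Subgroup.mem_centralizer_singleton_iff.2 hh.symm)
  have hxB : x ∉ B := by
    intro hh
    exact hxy (Subgroup.mem_centralizer_singleton_iff.1 hh)
  set D := A ⊓ B with hD
  have hZD : Subgroup.center P ≤ D :=
    le_inf (Subgroup.center_le_centralizer _) (Subgroup.center_le_centralizer _)
  have hxD : x ∉ D := fun hh => hxB hh.2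
  -- index of D is p^2
  have hDle : D.index ≤ p ^ 2 := by
    have := Subgroup.index_inf_le (H := A) (K := B)
    rw [hAidx, hBidx] at this
    rw [sq]; exact this
  have hDdvd : D.index ∣ p ^ 4 := by
    rw [← hP]; exact Subgroup.index_dvd_card D
  have hDidx : D.index = p ^ 2 := by
    obtain ⟨k, hk, hk'⟩ := (Nat.dvd_prime_pow hp.out).1 hDdvd
    have h2 : k ≤ 2 := by
      rw [hk'] at hDle
      exact (Nat.pow_le_pow_iff_right hp.out.one_lt).1 hDle
    interval_cases k
    · exfalso
      rw [pow_zero, Subgroup.index_eq_one] at hk'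
      apply hAne
      rw [eq_top_iff, ← hk']
      exact inf_le_left
    · exfalso
      rw [pow_one] at hk'
      have : A ≤ D := le_of_le_of_index_eq inf_le_left (by rw [hk', hAidx])
        (by rw [hAidx]; exact hp.out.ne_zero)
      exact hxD (this hxA)
    · exact hk'
  have hDcard : Nat.card D = p ^ 2 := by
    have := Subgroup.card_mul_index D
    rw [hDidx, hP] at this
    have h4 : p ^ 4 = p ^ 2 * p ^ 2 := by ring
    rw [h4] at this
    exact Nat.eq_of_mul_eq_mul_right (pow_pos hp.out.pos 2) this
  have hDcomm : ∀ a b : D, a * b = b * a :=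
    (IsPGroup.isMulCommutative_of_card_eq_prime_sq hDcard).is_comm.comm
  -- D ≤ Z
  have hDZ : D ≤ Subgroup.center P := by
    intro w hw
    by_contra hwZ
    set K := Subgroup.centralizer ({w} : Set P) with hK
    have hKidx : K.index = p := hidx w hwZ
    have hxK : x ∈ K := by
      rw [hK, Subgroup.mem_centralizer_singleton_iff]
      exact (Subgroup.mem_centralizer_singleton_iff.1 hw.1).symm
    have hyK : y ∈ K := by
      rw [hK, Subgroup.mem_centralizer_singleton_iff]
      exact (Subgroup.mem_centralizer_singleton_iff.1 hw.2).symm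
    have hDK : D ≤ K := by
      intro d hd
      rw [hK, Subgroup.mem_centralizer_singleton_iff]
      have := hDcomm ⟨d, hd⟩ ⟨w, hw⟩
      exact congrArg Subtype.val this
    have hAK : ¬ A ≤ K := by
      intro hh
      have : K ≤ A := le_of_le_of_index_eq hh (by rw [hAidx, hKidx])
        (by rw [hKidx]; exact hp.out.ne_zero)
      exact hy (this hyK)
    have hDAK : D ≤ A ⊓ K := le_inf inf_le_left hDK
    have h1 : (A ⊓ K).index ∣ p ^ 2 := by
      rw [← hDidx]; exact Subgroup.index_dvd_of_le hDAK
    have h2 := Subgroup.relIndex_mul_index (inf_le_left : A ⊓ K ≤ A)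
    rw [hAidx] at h2
    have h3 : (A ⊓ K).relIndex A ≠ 1 := by
      rw [Ne, Subgroup.relIndex_eq_one]
      intro hh
      exact hAK (hh.trans inf_le_right)
    have h4 : (A ⊓ K).relIndex A ∣ p := by
      rw [← h2, sq] at h1
      exact Nat.dvd_of_mul_dvd_mul_right hp.out.pos h1
    have h5 : (A ⊓ K).relIndex A = p := by
      rcases (Nat.dvd_prime hp.out).1 h4 with h6 | h6
      · exact absurd h6 h3
      · exact h6
    have h6 : (A ⊓ K).index = D.index := by rw [← h2, h5, hDidx, sq]
    have h7 : A ⊓ K ≤ D := le_of_le_of_index_eq hDAK h6.symm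
      (by rw [h6, hDidx]; exact pow_ne_zero 2 hp.out.ne_zero)
    exact hxD (h7 ⟨hxA, hxK⟩)
  rw [le_antisymm hZD hDZ, hDidx]


end Cfsg.Agent.Lib.Helper80
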