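import Cfsg.Agent.Lib.Helper49.OElDefs
import Cfsg.Agent.Lib.Helper53.OhPD3b

/-!
# K-OEl-D3t (keystone 598808, architect helper49, pack S5988 + S5990): the model with prescribed type

ROUTE 2: helper53's product model `(Fin T → Vb) × Vk` (`Lib/Helper53/OhPD3.lean`), with the fixed part `Vk` of type
`(ε ↔ tPlus i T)` (K-OhP D2), block `Vb` from K-OhP D1, types by K-OhP A + S1.
-/

set_option autoImplicit false
set_option linter.unusedSimpArgs false

namespace Cfsg.Agent.Lib.Helper80.OEl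

open Module Cfsg.Agent.Lib.Helper98.Elus Cfsg.Agent.Lib.Helper98.Sy Cfsg.Agent.Lib.Helper38.OhP
  Cfsg.Agent.Lib.Helper49.OEl
open Cfsg.Agent.Lib.Helper53.OhP (mQ mY mQ_apply mY_apply mY_pow_apply nonDeg_mQ qiso_mY V0_mY
  plusQ_range_iff exists_fixed_part type_of_le_V1_q')

universe u
variable {F : Type u} [Field F] {V : Type u} [AddCommGroup V] [Module F V]

/-- a scalar isometry of odd order of a nonzero nondegenerate quadratic space is the identity -/
theorem eq_one_of_scalar [FiniteDimensional F V] (Q : QuadraticForm F V) (hV : NonDeg (pB Q) ⊤)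
    (hpos : 0 < finrank F V) (r : ℕ) (hr : Odd r) (y : V →ₗ[F] V) (hiso : QIso Q y) (hy : y ^ r = 1)
    (z : F) (hyz : y = z • 1) : y = 1 := by
  have hVnt : ∃ v : V, v ≠ 0 := by
    have : Nontrivial V := Module.nontrivial_of_finrank_pos (R := F) hpos
    exact exists_ne 0
  obtain ⟨v0, hv0⟩ := hVnt
  obtain ⟨w0, hw0⟩ : ∃ w, pB Q v0 w ≠ 0 := by
    by_contra hcon
    push Not at hcon
    exact hv0 (hV v0 Submodule.mem_top (fun w _ => hcon w))
  have hQne : ∃ v, Q v ≠ 0 := by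
    by_contra hcon
    push Not at hcon
    apply hw0
    rw [pB_apply, hcon, hcon, hcon]; ring
  obtain ⟨v1, hv1⟩ := hQne
  have hz2 : z * z = 1 := by
    have h1 := hiso v1
    rw [hyz, LinearMap.smul_apply, Module.End.one_apply, QuadraticMap.map_smul, smul_eq_mul] at h1
    have h3 : (z * z - 1) * Q v1 = 0 := by linear_combination h1
    rcases mul_eq_zero.mp h3 with h4 | h4
    · linear_combination h4
    · exact absurd h4 hv1
  have hzr : z ^ r = 1 := by
    have h1 := hy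
    rw [hyz, smul_pow, one_pow] at h1
    have h3 := congrArg (fun f : V →ₗ[F] V => f v0) h1
    simp only [LinearMap.smul_apply, Module.End.one_apply] at h3
    have h4 : (z ^ r - 1) • v0 = 0 := by rw [sub_smul, one_smul, h3, sub_self]
    rcases smul_eq_zero.mp h4 with h5 | h5
    · linear_combination h5
    · exact absurd h5 hv0
  obtain ⟨j, hj⟩ := hr
  have hz1 : z = 1 := by
    have h6 : z ^ r = z := by
      rw [hj, pow_succ, pow_mul, sq, hz2, one_pow, one_mul]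
    rw [← h6]; exact hzr
  rw [hyz, hz1, one_smul]

/-- **K-OEl-D3t (598808)**, exact signature -/
theorem exists_model_t [Fintype F] (p f : ℕ) [Fact p.Prime] (hF : Fintype.card F = p ^ f)
    (r : ℕ) [Fact r.Prime] (hpr : p ≠ r) (hr2 : r ≠ 2) (hrF : (r : F) ≠ 0)
    (i c : ℕ) (hi : i = orderOf ((Fintype.card F : ℕ) : ZMod r)) (hc : c = cOf i)
    (ε : Prop) (T k : ℕ) (hT : 1 ≤ T) (hk : Even k) (hal : 0 < k ∨ (ε ↔ tPlus i T)) :
    ∃ (V : Type u) (_ : AddCommGroup V) (_ : Module F V) (_ : FiniteDimensional F V)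
      (Q : QuadraticForm F V) (y : V →ₗ[F] V),
      NonDeg (pB Q) ⊤ ∧ (PlusQ Q ⊤ ↔ ε) ∧ QIso Q y ∧ y ^ r = 1 ∧ (∀ z : F, y ≠ z • 1) ∧
      finrank F V = T * c + k ∧ finrank F (V1 r y) = T * c ∧ finrank F (V0 y) = k := by
  classical
  obtain ⟨Vb, iVb1, iVb2, iVb3, Qb, yb, hbnd, hbiso, hbr, hbfr, hb0⟩ :=
    Cfsg.Agent.Lib.Helper05.OhP.exists_block_q (F := F) p f hF r hpr hr2 hrF
  obtain ⟨Vk, iVk1, iVk2, iVk3, Qk, hknd, hkfr, hkt⟩ :=
    exists_fixed_part (F := F)
      (fun k hk hk2 t => Cfsg.Agent.Lib.Helper04.OhP.exists_space_of_type k hk hk2 t)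
      k hk (ε ↔ tPlus i T) hal
  have hcpos : 1 ≤ c := by
    rw [hc, hi]
    exact cOf_pos _ (orderOf_card_pos p f hF r hpr)
  have hbfr' : finrank F Vb = c := by rw [hbfr, hc, hi]
  refine ⟨(Fin T → Vb) × Vk, inferInstance, inferInstance, inferInstance, mQ T Qb Qk, mY T yb, ?_⟩
  have hV : NonDeg (pB (mQ T Qb Qk)) ⊤ := nonDeg_mQ T Qb Qk hbnd hknd
  have hiso : QIso (mQ T Qb Qk) (mY (Vk := Vk) T yb) := qiso_mY T Qb Qk yb hbiso
  have hy : mY (Vk := Vk) T yb ^ r = 1 := by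
    apply LinearMap.ext
    intro x
    rw [mY_pow_apply, hbr]
    rfl
  have hfr : finrank F ((Fin T → Vb) × Vk) = T * c + k := by
    rw [Module.finrank_prod, Module.finrank_pi_fintype, hkfr]
    simp [hbfr']
  have hV0 := V0_mY (Vk := Vk) T yb hb0
  have hinr : Function.Injective (LinearMap.inr F (Fin T → Vb) Vk) := LinearMap.inr_injective
  have hfr0 : finrank F (V0 (mY (Vk := Vk) T yb)) = k := by
    rw [hV0, LinearMap.finrank_range_of_inj hinr, hkfr]
  have hsum := finrank_V0_add_V1 r hrF (mY (Vk := Vk) T yb) hy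
  have hfr1 : finrank F (V1 r (mY (Vk := Vk) T yb)) = T * c := by omega
  have hTc : 1 ≤ T * c := by
    have : 1 * 1 ≤ T * c := Nat.mul_le_mul hT hcpos
    omega
  have hne : mY (Vk := Vk) T yb ≠ 1 := by
    intro h
    have h1 : V0 (mY (Vk := Vk) T yb) = ⊤ := by
      rw [eq_top_iff]
      intro x _
      rw [mem_V0, h]
      rfl
    rw [h1, finrank_top, hfr] at hfr0
    omega
  have hrodd : Odd r := (Fact.out : r.Prime).odd_of_ne_two hr2
  have hns : ∀ z : F, mY (Vk := Vk) T yb ≠ z • 1 := by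
    intro z hz
    exact hne (eq_one_of_scalar (mQ T Qb Qk) hV (by rw [hfr]; omega) r hrodd _ hiso hy z hz)
  -- the type
  have hR : (pB (mQ T Qb Qk)).IsRefl := by
    intro a b h
    rw [pB_symm]
    exact h
  have hinvtop : Inv (mY (Vk := Vk) T yb) ⊤ := fun v _ => Submodule.mem_top
  obtain ⟨hnd0, hnd1⟩ := Cfsg.Agent.Lib.Helper98.Oh.nonDeg_inf_parts_refl hR r hrF _ hy hiso.iso ⊤ hV
    hinvtop
  rw [top_inf_eq] at hnd0 hnd1
  have hort := ort_V0_V1 (B := pB (mQ T Qb Qk)) r hrF _ hy hiso.iso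
  have hsup := V0_sup_V1 r hrF (mY (Vk := Vk) T yb) hy
  have hS := type_of_le_V1_q' (mQ T Qb Qk) hV p f hF r hpr hr2 hrF _ hy hiso
    (V1 r (mY (Vk := Vk) T yb)) le_rfl (inv_V1 r _) hnd1
  have hquot : finrank F (V1 r (mY (Vk := Vk) T yb)) /
      cOf (orderOf ((Fintype.card F : ℕ) : ZMod r)) = T := by
    rw [hfr1, hc, hi]
    have hcp : 0 < cOf (orderOf ((Fintype.card F : ℕ) : ZMod r)) := by
      rw [← hi, ← hc]
      omega
    exact Nat.mul_div_cancel T hcp
  have hp1 : PlusQ (mQ T Qb Qk) (V1 r (mY (Vk := Vk) T yb)) ↔ tPlus i T := by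
    rw [hS.2, hquot, ← hi]
  have hp0 : PlusQ (mQ T Qb Qk) (V0 (mY (Vk := Vk) T yb)) ↔ (ε ↔ tPlus i T) := by
    rw [hV0, ← plusQ_range_iff Qk (mQ T Qb Qk) (LinearMap.inr F (Fin T → Vb) Vk) hinr
      (fun b => by simp [mQ_apply])]
    exact hkt
  have heven1 : Even (finrank F (V1 r (mY (Vk := Vk) T yb))) := by
    rw [hfr1, hc]
    exact (cOf_even i).mul_left T
  have hplus : PlusQ (mQ T Qb Qk) ⊤ ↔ ε := by
    have hA := Cfsg.Agent.Lib.Helper28.OhP.plusQ_sup_iff (mQ T Qb Qk) _ _ hnd0 hnd1 hort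
      (by rw [hfr0]; exact hk) heven1
    rw [hsup] at hA
    refine hA.trans ?_
    rw [hp0, hp1]
    by_cases hε : ε <;> by_cases ht : tPlus i T <;> simp only [hε, ht, iff_true, iff_false,
      true_iff, false_iff, not_true_eq_false, not_false_eq_true]
  exact ⟨hV, hplus, hiso, hy, hns, hfr, hfr1, hfr0⟩

end Cfsg.Agent.Lib.Helper80.OEl
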