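/-
K-Oh-E (keystone 599207, architect helper98, pack S5992/S5993): counting singular hyperbolic frames of the
odd-dimensional quadratic space `quadFormOdd d`; a prime `r ≠ char` dividing the number of hyperbolic
`2e`-subspaces divides some `q^(2j) - 1`, `d - e < j ≤ d`.
-/
import Cfsg.Prelude.Def_GeometricClasses
import Cfsg.Agent.Lib.Helper72.NdA
import Cfsg.Agent.Lib.Helper98.Os1
import Cfsg.Agent.Lib.Helper50.WittMain
import Cfsg.Agent.Lib.Helper50.TypeCriteria
import Cfsg.Agent.Lib.Helper50.StdForms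
import Cfsg.Agent.Lib.Helper50.ZeroCount

set_option autoImplicit false
set_option linter.unusedSimpArgs false
set_option linter.unusedSectionVars false
set_option linter.unusedVariables false
set_option linter.style.haveILetI false
set_option maxHeartbeats 800000

namespace Cfsg.Agent.Lib.Helper80.Oh

open Module Cfsg.Agent.Lib.Helper98.Sy Cfsg.Agent.Lib.Helper98.Ti Cfsg.Agent.Lib.Helper72.Nd

universe u
variable {F : Type u} [Field F] {V : Type u} [AddCommGroup V] [Module F V]
variable {B : LinearMap.BilinForm F V}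

/-! ### singular hyperbolic frames for a symmetric form -/

/-- singular hyperbolic frames: a hyperbolic frame of isotropic vectors -/
def IsSF (B : LinearMap.BilinForm F V) {k : ℕ} (s : Fin k → V × V) : Prop :=
  IsHF B s ∧ ∀ a, B (s a).1 (s a).1 = 0 ∧ B (s a).2 (s a).2 = 0

/-- the dual vectors of a singular frame (symmetric form) -/
def dualS {k : ℕ} (s : Fin k → V × V) : Fin k ⊕ Fin k → V :=
  Sum.elim (fun a => (s a).2) (fun a => (s a).1)

theorem flat_dualS (hS : ∀ u v, B u v = B v u) {k : ℕ} (s : Fin k → V × V) (hs : IsSF B s)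
    (i j : Fin k ⊕ Fin k) : B (flat s i) (dualS s j) = if i = j then 1 else 0 := by
  rcases i with a | a <;> rcases j with b | b
  · by_cases hab : a = b
    · subst hab
      simpa [flat, dualS] using hs.1.1 a
    · simpa [flat, dualS, hab] using (hs.1.2 a b hab).2.1
  · by_cases hab : a = b
    · subst hab
      simpa [flat, dualS] using (hs.2 a).1
    · simpa [flat, dualS, hab] using (hs.1.2 a b hab).1
  · by_cases hab : a = b
    · subst hab
      simpa [flat, dualS] using (hs.2 a).2
    · simpa [flat, dualS, hab] using (hs.1.2 a b hab).2.2.2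
  · by_cases hab : a = b
    · subst hab
      have := hs.1.1 a
      rw [hS] at this
      simpa [flat, dualS] using this
    · simpa [flat, dualS, hab] using (hs.1.2 a b hab).2.2.1

theorem dualS_mem {k : ℕ} (s : Fin k → V × V) (j : Fin k ⊕ Fin k) : dualS s j ∈ spanHF F s := by
  rcases j with b | b
  · exact Submodule.subset_span ⟨Sum.inr b, rfl⟩
  · exact Submodule.subset_span ⟨Sum.inl b, rfl⟩

theorem finrank_spanSF (hS : ∀ u v, B u v = B v u) {k : ℕ} (s : Fin k → V × V) (hs : IsSF B s) :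
    finrank F (spanHF F s) = 2 * k := by
  rw [spanHF, finrank_span_eq_card (linearIndependent_of_dual _ _ (flat_dualS hS s hs)),
    Fintype.card_sum, Fintype.card_fin]
  ring

theorem nonDeg_spanSF (hS : ∀ u v, B u v = B v u) {k : ℕ} (s : Fin k → V × V) (hs : IsSF B s) :
    NonDeg B (spanHF F s) := by
  intro u hu h
  obtain ⟨c, rfl⟩ := (Submodule.mem_span_range_iff_exists_fun F).1 hu
  have hc : ∀ j, c j = 0 := fun j => by
    rw [← sum_pair_dual (flat s) (dualS s) (flat_dualS hS s hs) c j]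
    exact h _ (dualS_mem s j)
  simp [hc]

theorem isHF_cons_iff_symm (hS : ∀ u v, B u v = B v u) {k : ℕ} (s : Fin k → V × V) (p : V × V) :
    IsHF B (Fin.cons p s : Fin (k + 1) → V × V) ↔
      IsHF B s ∧ B p.1 p.2 = 1 ∧ p.1 ∈ B.orthogonal (spanHF F s) ∧
        p.2 ∈ B.orthogonal (spanHF F s) := by
  unfold spanHF
  rw [mem_orth_span_range_iff, mem_orth_span_range_iff]
  constructor
  · rintro ⟨h1, h2⟩
    refine ⟨⟨fun a => ?_, fun a b hab => ?_⟩, ?_, fun i => ?_, fun i => ?_⟩
    · simpa using h1 a.succ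
    · simpa using h2 a.succ b.succ (by simpa using hab)
    · simpa using h1 0
    · rcases i with a | a
      · simpa [flat] using (h2 a.succ 0 (Fin.succ_ne_zero a)).1
      · simpa [flat] using (h2 a.succ 0 (Fin.succ_ne_zero a)).2.2.1
    · rcases i with a | a
      · simpa [flat] using (h2 a.succ 0 (Fin.succ_ne_zero a)).2.1
      · simpa [flat] using (h2 a.succ 0 (Fin.succ_ne_zero a)).2.2.2
  · rintro ⟨⟨h1, h2⟩, h3, h4, h5⟩
    refine ⟨fun a => ?_, fun a b hab => ?_⟩
    · cases a using Fin.cases with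
      | zero => simpa using h3
      | succ a => simpa using h1 a
    · cases a using Fin.cases with
      | zero =>
        cases b using Fin.cases with
        | zero => exact absurd rfl hab
        | succ b =>
          simp only [Fin.cons_zero, Fin.cons_succ]
          exact ⟨(hS _ _).trans (h4 (Sum.inl b)), (hS _ _).trans (h4 (Sum.inr b)),
            (hS _ _).trans (h5 (Sum.inl b)), (hS _ _).trans (h5 (Sum.inr b))⟩
      | succ a =>
        cases b using Fin.cases with
        | zero =>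
          simp only [Fin.cons_zero, Fin.cons_succ]
          exact ⟨h4 (Sum.inl a), h5 (Sum.inl a), h4 (Sum.inr a), h5 (Sum.inr a)⟩
        | succ b => simpa using h2 a b (by simpa using hab)

theorem isSF_cons_iff (hS : ∀ u v, B u v = B v u) {k : ℕ} (s : Fin k → V × V) (p : V × V) :
    IsSF B (Fin.cons p s : Fin (k + 1) → V × V) ↔
      IsSF B s ∧ B p.1 p.2 = 1 ∧ B p.1 p.1 = 0 ∧ B p.2 p.2 = 0 ∧
        p.1 ∈ B.orthogonal (spanHF F s) ∧ p.2 ∈ B.orthogonal (spanHF F s) := by
  unfold IsSF
  rw [isHF_cons_iff_symm hS, Fin.forall_fin_succ]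
  simp only [Fin.cons_zero, Fin.cons_succ]
  tauto

theorem frame_cons_iffS (hS : ∀ u v, B u v = B v u) (U : Submodule F V) {k : ℕ}
    (s : Fin k → V × V) (p : V × V) :
    (IsSF B (Fin.cons p s : Fin (k + 1) → V × V) ∧ InU U (Fin.cons p s : Fin (k + 1) → V × V)) ↔
      (IsSF B s ∧ InU U s) ∧ (B p.1 p.2 = 1 ∧ B p.1 p.1 = 0 ∧ B p.2 p.2 = 0 ∧
        p.1 ∈ B.orthogonal (spanHF F s) ⊓ U ∧ p.2 ∈ B.orthogonal (spanHF F s) ⊓ U) := by
  rw [isSF_cons_iff hS, inU_cons_iff]
  simp only [Submodule.mem_inf]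
  tauto

/-- frames are determined by their Gram matrix -/
theorem isSF_congr {V' : Type u} [AddCommGroup V'] [Module F V'] {B' : LinearMap.BilinForm F V'}
    {k : ℕ} (s : Fin k → V × V) (s' : Fin k → V' × V')
    (h : ∀ i j : Fin k ⊕ Fin k, B (flat s i) (flat s j) = B' (flat s' i) (flat s' j)) :
    IsSF B s → IsSF B' s' := by
  rintro ⟨⟨h1, h2⟩, h3⟩
  refine ⟨⟨fun a => ?_, fun a b hab => ⟨?_, ?_, ?_, ?_⟩⟩, fun a => ⟨?_, ?_⟩⟩
  · rw [← h1 a]; exact (h (Sum.inl a) (Sum.inr a)).symm
  · rw [← (h2 a b hab).1]; exact (h (Sum.inl a) (Sum.inl b)).symm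
  · rw [← (h2 a b hab).2.1]; exact (h (Sum.inl a) (Sum.inr b)).symm
  · rw [← (h2 a b hab).2.2.1]; exact (h (Sum.inr a) (Sum.inl b)).symm
  · rw [← (h2 a b hab).2.2.2]; exact (h (Sum.inr a) (Sum.inr b)).symm
  · rw [← (h3 a).1]; exact (h (Sum.inl a) (Sum.inl a)).symm
  · rw [← (h3 a).2]; exact (h (Sum.inr a) (Sum.inr a)).symm


/-! ### counting -/

section Count

variable [Fintype F] [FiniteDimensional F V]

omit [Fintype F] [FiniteDimensional F V] in
theorem sing_shift (hS : ∀ u v, B u v = B v u) (x y : V) (hxx : B x x = 0) (hxy : B x y = 1)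
    (c : F) : B (y + c • x) (y + c • x) = B y y + 2 * c := by
  have hyx : B y x = 1 := by rw [hS]; exact hxy
  simp only [map_add, map_smul, LinearMap.add_apply, LinearMap.smul_apply, smul_eq_mul, hxx, hxy,
    hyx]
  ring

/-- isotropic partners of an isotropic vector -/
theorem card_sing_fiber (hS : ∀ u v, B u v = B v u) (h2 : (2 : F) ≠ 0) (O : Submodule F V)
    (hO : NonDeg B O) (x : V) (hx : x ∈ O) (hx0 : x ≠ 0) (hxx : B x x = 0) :
    Nat.card {y : V // B x y = 1 ∧ y ∈ O ∧ B y y = 0} * Fintype.card F =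
      Fintype.card F ^ (finrank F O - 1) := by
  classical
  haveI : Finite V := Module.finite_of_finite F
  rw [← card_pair_fiber O hO x hx hx0, ← Nat.card_eq_fintype_card (α := F), ← Nat.card_prod]
  apply Nat.card_congr
  symm
  refine
    { toFun := fun y => (⟨y.1 + (-(B y.1 y.1 / 2)) • x, ?_, ?_, ?_⟩, B y.1 y.1 / 2)
      invFun := fun p => ⟨p.1.1 + p.2 • x, ?_, ?_⟩
      left_inv := ?_
      right_inv := ?_ }
  · rw [map_add, map_smul, hxx, y.2.1]; simp
  · exact O.add_mem y.2.2 (O.smul_mem _ hx)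
  · rw [sing_shift hS x y.1 hxx y.2.1]
    field_simp
    ring
  · rw [map_add, map_smul, hxx, p.1.2.1]; simp
  · exact O.add_mem p.1.2.2.1 (O.smul_mem _ hx)
  · intro y
    apply Subtype.ext
    simp
  · rintro ⟨⟨y', hy1, hy2, hy3⟩, t⟩
    have h1 : B (y' + t • x) (y' + t • x) / 2 = t := by
      rw [sing_shift hS x y' hxx hy1, hy3]
      field_simp
      ring
    apply Prod.ext
    · apply Subtype.ext
      simp only [h1]
      simp
    · simp only [h1]

omit [FiniteDimensional F V] in
theorem natCard_zeros_eq_zeroCount' {X : Type*} [Fintype X] [DecidableEq F] (R : X → F) :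
    Nat.card {v : X // R v = 0} = Cfsg.Agent.Lib.Helper50.zeroCount R := by
  classical
  rw [Nat.card_eq_fintype_card, Fintype.card_subtype, Finset.card_filter]
  rfl

omit [FiniteDimensional F V] in
/-- the number of zeros of the standard odd form -/
theorem zeroCount_oddForm [DecidableEq F] (c : F) (hc : c ≠ 0) : ∀ D : ℕ,
    Cfsg.Agent.Lib.Helper50.zeroCount (Cfsg.Agent.Lib.Helper50.oddForm D c) =
      Fintype.card F ^ (2 * D) := by
  intro D
  induction D with
  | zero =>
    rw [← natCard_zeros_eq_zeroCount', Nat.mul_zero, pow_zero]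
    haveI : Unique {v : Unit ⊕ (Fin 0 ⊕ Fin 0) → F //
        Cfsg.Agent.Lib.Helper50.oddForm 0 c v = 0} :=
      { default := ⟨0, by simp [Cfsg.Agent.Lib.Helper50.oddForm]⟩
        uniq := fun v => by
          apply Subtype.ext
          have hv := v.2
          simp only [Cfsg.Agent.Lib.Helper50.oddForm, Finset.univ_eq_empty, Finset.sum_empty,
            add_zero, mul_eq_zero, hc, false_or, ne_eq, OfNat.ofNat_ne_zero, not_false_eq_true,
            pow_eq_zero_iff] at hv
          funext i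
          rcases i with i | i | i
          · cases i; simpa using hv
          · exact i.elim0
          · exact i.elim0 }
    exact Nat.card_unique
  | succ k ih =>
    rw [Cfsg.Agent.Lib.Helper50.zeroCount_congr (Cfsg.Agent.Lib.Helper50.splitOdd k F)
      (fun p : (Unit ⊕ (Fin k ⊕ Fin k) → F) × F × F =>
        Cfsg.Agent.Lib.Helper50.oddForm k c p.1 + p.2.1 * p.2.2)
      (Cfsg.Agent.Lib.Helper50.oddForm (k + 1) c)
      (Cfsg.Agent.Lib.Helper50.oddForm_split k c),
      Cfsg.Agent.Lib.Helper50.zeroCount_add_hyp, ih]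
    have hcard : Fintype.card (Unit ⊕ (Fin k ⊕ Fin k) → F) = Fintype.card F ^ (2 * k + 1) := by
      rw [Fintype.card_fun, Fintype.card_sum, Fintype.card_sum, Fintype.card_fin,
        Fintype.card_unit]
      congr 1
      ring
    rw [hcard]
    obtain ⟨q, hq⟩ : ∃ q, Fintype.card F = q + 1 := ⟨Fintype.card F - 1, by
      have : 0 < Fintype.card F := Fintype.card_pos
      omega⟩
    rw [hq, Nat.add_sub_cancel]
    ring


omit [Fintype F] [FiniteDimensional F V] in
theorem polar_comp_subtype (Q : QuadraticForm F V) (O : Submodule F V) (u v : O) :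
    QuadraticMap.polar (⇑(Q.comp O.subtype)) u v = QuadraticMap.polar (⇑Q) (u : V) (v : V) := by
  simp [QuadraticMap.polar, QuadraticMap.comp_apply]

omit [Fintype F] [FiniteDimensional F V] in
theorem pB_self (Q : QuadraticForm F V) (h2 : (2 : F) ≠ 0) (x : V) :
    QuadraticMap.polarBilin Q x x = 0 ↔ Q x = 0 := by
  rw [QuadraticMap.polarBilin_apply_apply, QuadraticMap.polar_self, nsmul_eq_mul, Nat.cast_ofNat]
  constructor
  · intro h
    rcases mul_eq_zero.mp h with h | h
    · exact absurd h h2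
    · exact h
  · intro h; rw [h, mul_zero]

omit [Fintype F] [FiniteDimensional F V] in
theorem pB_symm (Q : QuadraticForm F V) (u v : V) :
    QuadraticMap.polarBilin Q u v = QuadraticMap.polarBilin Q v u := by
  rw [QuadraticMap.polarBilin_apply_apply, QuadraticMap.polarBilin_apply_apply,
    QuadraticMap.polar_comm]

/-- the number of nonzero singular vectors of a nondegenerate odd-dimensional subspace -/
theorem card_sing_vectors (Q : QuadraticForm F V) (h2 : (2 : F) ≠ 0) (O : Submodule F V)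
    (hO : NonDeg (QuadraticMap.polarBilin Q) O) (D : ℕ) (hD : finrank F O = 2 * D + 1) :
    Nat.card {x : V // x ∈ O ∧ x ≠ 0 ∧ QuadraticMap.polarBilin Q x x = 0} =
      Fintype.card F ^ (2 * D) - 1 := by
  classical
  haveI : Finite V := Module.finite_of_finite F
  have hQND : Cfsg.Agent.Lib.Helper50.QND (Q.comp O.subtype) := by
    intro v hv
    apply Subtype.ext
    rw [Submodule.coe_zero]
    apply hO v v.2
    intro w hw
    have := hv ⟨w, hw⟩
    rw [polar_comp_subtype] at this
    rw [QuadraticMap.polarBilin_apply_apply]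
    exact this
  have hcount : Nat.card {v : O // (Q.comp O.subtype) v = 0} = Fintype.card F ^ (2 * D) := by
    rcases Cfsg.Agent.Lib.Helper50.witt_type (2 * D + 1) (Q.comp O.subtype) hD hQND with
      ⟨m, hm, -⟩ | ⟨m, ζ, hm, -, -⟩ | ⟨m, c, hm, hc, φ, hφ⟩
    · omega
    · omega
    · have hmD : m = D := by omega
      subst hmD
      rw [← zeroCount_oddForm c hc m, ← natCard_zeros_eq_zeroCount']
      apply Nat.card_congr
      exact Equiv.subtypeEquiv φ.toEquiv (fun v => by
        rw [LinearEquiv.coe_toEquiv, hφ])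
  -- remove the zero vector
  have h1 : Nat.card {x : V // x ∈ O ∧ x ≠ 0 ∧ QuadraticMap.polarBilin Q x x = 0} =
      Nat.card ↥(({x : V | x ∈ O ∧ Q x = 0} : Set V) \ {0}) := by
    apply Nat.card_congr
    apply Equiv.subtypeEquivRight
    intro x
    rw [pB_self Q h2]
    simp only [Set.mem_sdiff, Set.mem_ofPred_eq, Set.mem_singleton_iff]
    tauto
  have h2' : Nat.card ↥({x : V | x ∈ O ∧ Q x = 0} : Set V) =
      Nat.card {v : O // (Q.comp O.subtype) v = 0} := by
    apply Nat.card_congr
    exact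
      { toFun := fun x => ⟨⟨x.1, x.2.1⟩, by
          rw [QuadraticMap.comp_apply]; exact x.2.2⟩
        invFun := fun v => ⟨v.1.1, v.1.2, by
          have := v.2
          rw [QuadraticMap.comp_apply] at this
          exact this⟩
        left_inv := fun x => rfl
        right_inv := fun v => rfl }
  rw [h1, Nat.card_coe_set_eq, Set.ncard_sdiff_singleton_of_mem (by simp), ← Nat.card_coe_set_eq,
    h2', hcount]

/-- the number of singular hyperbolic pairs of a nondegenerate odd-dimensional subspace -/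
theorem card_hypPairsS (Q : QuadraticForm F V) (h2 : (2 : F) ≠ 0) (O : Submodule F V)
    (hO : NonDeg (QuadraticMap.polarBilin Q) O) (D : ℕ) (hD : finrank F O = 2 * D + 1) :
    Nat.card {p : V × V // QuadraticMap.polarBilin Q p.1 p.2 = 1 ∧
        QuadraticMap.polarBilin Q p.1 p.1 = 0 ∧ QuadraticMap.polarBilin Q p.2 p.2 = 0 ∧
        p.1 ∈ O ∧ p.2 ∈ O} =
      (Fintype.card F ^ (2 * D) - 1) * Fintype.card F ^ (2 * D - 1) := by
  classical
  haveI : Finite V := Module.finite_of_finite F
  let e : {p : V × V // QuadraticMap.polarBilin Q p.1 p.2 = 1 ∧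
        QuadraticMap.polarBilin Q p.1 p.1 = 0 ∧ QuadraticMap.polarBilin Q p.2 p.2 = 0 ∧
        p.1 ∈ O ∧ p.2 ∈ O} ≃
      Σ x : {x : V // x ∈ O ∧ x ≠ 0 ∧ QuadraticMap.polarBilin Q x x = 0},
        {y : V // QuadraticMap.polarBilin Q x.1 y = 1 ∧ y ∈ O ∧
          QuadraticMap.polarBilin Q y y = 0} :=
    { toFun := fun p => ⟨⟨p.1.1, p.2.2.2.2.1, fun h => by
          have := p.2.1
          rw [h] at this
          simp at this, p.2.2.1⟩, ⟨p.1.2, p.2.1, p.2.2.2.2.2, p.2.2.2.1⟩⟩
      invFun := fun s => ⟨(s.1.1, s.2.1), s.2.2.1, s.1.2.2.2, s.2.2.2.2, s.1.2.1, s.2.2.2.1⟩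
      left_inv := fun p => rfl
      right_inv := fun s => rfl }
  rw [Nat.card_congr e]
  haveI : Fintype {x : V // x ∈ O ∧ x ≠ 0 ∧ QuadraticMap.polarBilin Q x x = 0} :=
    Fintype.ofFinite _
  have hq : 1 < Fintype.card F := Fintype.one_lt_card
  have hfib : ∀ x : {x : V // x ∈ O ∧ x ≠ 0 ∧ QuadraticMap.polarBilin Q x x = 0},
      Nat.card {y : V // QuadraticMap.polarBilin Q x.1 y = 1 ∧ y ∈ O ∧
          QuadraticMap.polarBilin Q y y = 0} = Fintype.card F ^ (2 * D - 1) := by
    intro x
    have h := card_sing_fiber (pB_symm Q) h2 O hO x.1 x.2.1 x.2.2.1 x.2.2.2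
    rw [hD, Nat.add_sub_cancel] at h
    have hD1 : 1 ≤ D := by
      rcases Nat.eq_zero_or_pos D with h0 | h0
      · exfalso
        rw [h0, Nat.mul_zero, pow_zero] at h
        have := Nat.eq_one_of_mul_eq_one_left h
        omega
      · exact h0
    have h3 : Fintype.card F ^ (2 * D) = Fintype.card F ^ (2 * D - 1) * Fintype.card F := by
      rw [← pow_succ]
      congr 1
      omega
    rw [h3] at h
    exact Nat.eq_of_mul_eq_mul_right (by omega) h
  rw [Nat.card_sigma, Finset.sum_congr rfl (fun x _ => hfib x), Finset.sum_const,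
    Finset.card_univ, ← Nat.card_eq_fintype_card, smul_eq_mul, card_sing_vectors Q h2 O hO D hD]

/-- the number of singular hyperbolic frames of a nondegenerate odd-dimensional subspace -/
theorem card_framesS (Q : QuadraticForm F V) (h2 : (2 : F) ≠ 0) (U : Submodule F V)
    (hU : NonDeg (QuadraticMap.polarBilin Q) U) (D : ℕ) (hD : finrank F U = 2 * D + 1) :
    ∀ k : ℕ, Nat.card {s : Fin k → V × V // IsSF (QuadraticMap.polarBilin Q) s ∧ InU U s} =
      ∏ j ∈ Finset.range k, ((Fintype.card F ^ (2 * (D - j)) - 1) *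
        Fintype.card F ^ (2 * (D - j) - 1)) := by
  classical
  haveI : Finite V := Module.finite_of_finite F
  have hS := pB_symm Q
  have hR : (QuadraticMap.polarBilin Q).IsRefl := by
    intro x y h
    rw [hS]; exact h
  intro k
  induction k with
  | zero =>
    rw [Finset.prod_range_zero]
    haveI : Unique {s : Fin 0 → V × V // IsSF (QuadraticMap.polarBilin Q) s ∧ InU U s} :=
      { default := ⟨fun a => a.elim0, ⟨⟨fun a => a.elim0, fun a => a.elim0⟩, fun a => a.elim0⟩,
          fun a => a.elim0⟩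
        uniq := fun s => Subtype.ext (funext fun a => a.elim0) }
    exact Nat.card_unique
  | succ k ih =>
    let e : {s : Fin (k + 1) → V × V // IsSF (QuadraticMap.polarBilin Q) s ∧ InU U s} ≃
        Σ s : {s : Fin k → V × V // IsSF (QuadraticMap.polarBilin Q) s ∧ InU U s},
          {p : V × V // QuadraticMap.polarBilin Q p.1 p.2 = 1 ∧
            QuadraticMap.polarBilin Q p.1 p.1 = 0 ∧ QuadraticMap.polarBilin Q p.2 p.2 = 0 ∧
            p.1 ∈ LinearMap.BilinForm.orthogonal (QuadraticMap.polarBilin Q) (spanHF F s.1) ⊓ U ∧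
            p.2 ∈ LinearMap.BilinForm.orthogonal (QuadraticMap.polarBilin Q) (spanHF F s.1) ⊓ U} :=
      { toFun := fun s => ⟨⟨Fin.tail s.1,
            ((frame_cons_iffS hS U (Fin.tail s.1) (s.1 0)).mp
              (by rw [Fin.cons_self_tail]; exact s.2)).1⟩,
          ⟨s.1 0, ((frame_cons_iffS hS U (Fin.tail s.1) (s.1 0)).mp
              (by rw [Fin.cons_self_tail]; exact s.2)).2⟩⟩
        invFun := fun s => ⟨Fin.cons s.2.1 s.1.1,
          (frame_cons_iffS hS U s.1.1 s.2.1).mpr ⟨s.1.2, s.2.2⟩⟩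
        left_inv := fun s => by simp only [Fin.cons_self_tail, Subtype.coe_eta]
        right_inv := fun ⟨⟨s, hs⟩, ⟨x, hx⟩⟩ =>
          sigma_subtype_ext
            (P := fun (s : Fin k → V × V) => IsSF (QuadraticMap.polarBilin Q) s ∧ InU U s)
            (Q := fun (s : Fin k → V × V) (p : V × V) =>
              QuadraticMap.polarBilin Q p.1 p.2 = 1 ∧
              QuadraticMap.polarBilin Q p.1 p.1 = 0 ∧ QuadraticMap.polarBilin Q p.2 p.2 = 0 ∧
              p.1 ∈ LinearMap.BilinForm.orthogonal (QuadraticMap.polarBilin Q) (spanHF F s) ⊓ U ∧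
              p.2 ∈ LinearMap.BilinForm.orthogonal (QuadraticMap.polarBilin Q) (spanHF F s) ⊓ U) _ _ _ _ _ _ _ _
            (show Fin.tail (Fin.cons x s : Fin (k + 1) → V × V) = s from Fin.tail_cons _ _)
            (show (Fin.cons x s : Fin (k + 1) → V × V) 0 = x from Fin.cons_zero _ _) }
    rw [Nat.card_congr e]
    haveI : Fintype {s : Fin k → V × V // IsSF (QuadraticMap.polarBilin Q) s ∧ InU U s} :=
      Fintype.ofFinite _
    rw [Nat.card_sigma]
    have hfib : ∀ s : {s : Fin k → V × V // IsSF (QuadraticMap.polarBilin Q) s ∧ InU U s},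
        Nat.card {p : V × V // QuadraticMap.polarBilin Q p.1 p.2 = 1 ∧
            QuadraticMap.polarBilin Q p.1 p.1 = 0 ∧ QuadraticMap.polarBilin Q p.2 p.2 = 0 ∧
            p.1 ∈ LinearMap.BilinForm.orthogonal (QuadraticMap.polarBilin Q) (spanHF F s.1) ⊓ U ∧
            p.2 ∈ LinearMap.BilinForm.orthogonal (QuadraticMap.polarBilin Q) (spanHF F s.1) ⊓ U} =
          (Fintype.card F ^ (2 * (D - k)) - 1) * Fintype.card F ^ (2 * (D - k) - 1) := by
      intro s
      obtain ⟨-, -, h3, h4⟩ := Cfsg.Agent.Lib.Helper98.Os.compl_props hR (spanHF F s.1) U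
        (nonDeg_spanSF hS s.1 s.2.1) (spanHF_le s.1 U s.2.2) hU
      have h5 := finrank_spanSF hS s.1 s.2.1
      exact card_hypPairsS Q h2 _ h3 (D - k) (by omega)
    rw [Finset.sum_congr rfl (fun s _ => hfib s), Finset.sum_const,
      Finset.card_univ, ← Nat.card_eq_fintype_card, ih, Finset.prod_range_succ, smul_eq_mul]


/-- frames versus subspaces: the generic fibre count -/
theorem card_framesS_eq_mul (hS : ∀ u v, B u v = B v u) (e : ℕ) (P : Submodule F V → Prop) (c : ℕ)
    (hP : ∀ s : Fin e → V × V, IsSF B s → P (spanHF F s))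
    (hc : ∀ W : Submodule F V, finrank F W = 2 * e → P W →
      Nat.card {t : Fin e → V × V // IsSF B t ∧ InU W t} = c) :
    Nat.card {s : Fin e → V × V // IsSF B s ∧ InU (⊤ : Submodule F V) s} =
      Nat.card {W : Submodule F V // finrank F W = 2 * e ∧ P W} * c := by
  classical
  haveI : Finite V := Module.finite_of_finite F
  let fmap : {s : Fin e → V × V // IsSF B s ∧ InU (⊤ : Submodule F V) s} →
      {W : Submodule F V // finrank F W = 2 * e ∧ P W} :=
    fun s => ⟨spanHF F s.1, finrank_spanSF hS s.1 s.2.1, hP s.1 s.2.1⟩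
  rw [← Nat.card_congr (Equiv.sigmaFiberEquiv fmap)]
  haveI : Fintype {W : Submodule F V // finrank F W = 2 * e ∧ P W} := Fintype.ofFinite _
  rw [Nat.card_sigma]
  have hfib : ∀ W : {W : Submodule F V // finrank F W = 2 * e ∧ P W},
      Nat.card {s : {s : Fin e → V × V // IsSF B s ∧ InU (⊤ : Submodule F V) s} // fmap s = W} =
        c := by
    intro W
    let eq : {s : {s : Fin e → V × V // IsSF B s ∧ InU (⊤ : Submodule F V) s} // fmap s = W} ≃
        {t : Fin e → V × V // IsSF B t ∧ InU W.1 t} :=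
      { toFun := fun s => ⟨s.1.1, s.1.2.1, fun a => by
            have h1 : spanHF F s.1.1 = W.1 := congrArg Subtype.val s.2
            rw [← h1]
            exact mem_spanHF s.1.1 a⟩
        invFun := fun t => ⟨⟨t.1, t.2.1, fun a => ⟨Submodule.mem_top, Submodule.mem_top⟩⟩, by
            apply Subtype.ext
            show spanHF F t.1 = W.1
            exact Submodule.eq_of_le_of_finrank_eq (spanHF_le t.1 W.1 t.2.2)
              (by rw [finrank_spanSF hS t.1 t.2.1, W.2.1])⟩
        left_inv := fun s => by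
          apply Subtype.ext
          apply Subtype.ext
          rfl
        right_inv := fun t => by
          apply Subtype.ext
          rfl }
    rw [Nat.card_congr eq, hc W.1 W.2.1 W.2.2]
  rw [Finset.sum_congr rfl (fun W _ => hfib W), Finset.sum_const, Finset.card_univ,
    ← Nat.card_eq_fintype_card, smul_eq_mul]

omit [Fintype F] [FiniteDimensional F V] in
/-- the isotropic half of a frame spans a totally isotropic subspace of half dimension -/
theorem half_frame (hS : ∀ u v, B u v = B v u) {k : ℕ} (s : Fin k → V × V) (hs : IsSF B s) :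
    Submodule.span F (Set.range fun a => (s a).1) ≤ spanHF F s ∧
      (∀ u ∈ Submodule.span F (Set.range fun a => (s a).1), B u u = 0) ∧
      finrank F (Submodule.span F (Set.range fun a => (s a).1)) = k := by
  classical
  refine ⟨?_, ?_, ?_⟩
  · apply Submodule.span_le.mpr
    rintro _ ⟨a, rfl⟩
    exact (mem_spanHF s a).1
  · intro u hu
    obtain ⟨c, rfl⟩ := (Submodule.mem_span_range_iff_exists_fun F).1 hu
    have h0 : ∀ a b, B (s a).1 (s b).1 = 0 := by
      intro a b
      by_cases hab : a = b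
      · subst hab; exact (hs.2 a).1
      · exact (hs.1.2 a b hab).1
    simp only [map_sum, map_smul, LinearMap.sum_apply, LinearMap.smul_apply, h0, smul_zero,
      Finset.sum_const_zero]
  · have hli : LinearIndependent F (flat s) := linearIndependent_of_dual _ _ (flat_dualS hS s hs)
    have hli' : LinearIndependent F (fun a => (s a).1) := by
      have := hli.comp Sum.inl Sum.inl_injective
      exact this
    rw [finrank_span_eq_card hli', Fintype.card_fin]

end Count

/-! ### the concrete odd-dimensional space -/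

section Odd

variable {K : Type u} [Field K] [Fintype K]

/-- the polar form of `QOdd` -/
theorem pB_QOdd (d : ℕ) (u v : Unit ⊕ (Fin d ⊕ Fin d) → K) :
    QuadraticMap.polarBilin (Cfsg.Agent.Lib.Helper50.QOdd d K) u v =
      QuadraticMap.polar (Cfsg.quadFormOdd d K) u v := rfl

theorem nonDeg_top_QOdd (d : ℕ) (h2 : (2 : K) ≠ 0) :
    NonDeg (QuadraticMap.polarBilin (Cfsg.Agent.Lib.Helper50.QOdd d K))
      (⊤ : Submodule K (Unit ⊕ (Fin d ⊕ Fin d) → K)) := by
  have hN : (QuadraticMap.polarBilin (Cfsg.Agent.Lib.Helper50.QOdd d K)).Nondegenerate := by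
    apply Cfsg.Agent.Lib.Helper50.qfOfPolar_nondegenerate
    rw [Cfsg.Agent.Lib.Helper50.det_odd_gram]
    exact mul_ne_zero (mul_ne_zero h2 one_ne_zero) (pow_ne_zero _ (neg_ne_zero.mpr one_ne_zero))
  intro u _ h
  exact hN.1 u (fun w => h w Submodule.mem_top)

/-- the span of a frame is a nondegenerate plus-type subspace -/
theorem span_frame_props (d : ℕ) (h2 : (2 : K) ≠ 0) {e : ℕ}
    (s : Fin e → (Unit ⊕ (Fin d ⊕ Fin d) → K) × (Unit ⊕ (Fin d ⊕ Fin d) → K))
    (hs : IsSF (QuadraticMap.polarBilin (Cfsg.Agent.Lib.Helper50.QOdd d K)) s) :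
    Cfsg.Geo.IsNondegenerateOn (QuadraticMap.polar (Cfsg.quadFormOdd d K)) (spanHF K s) ∧
      Cfsg.Geo.IsPlusTypeOn (Cfsg.quadFormOdd d K) (spanHF K s) := by
  have hS := pB_symm (Cfsg.Agent.Lib.Helper50.QOdd d K)
  have hND := nonDeg_spanSF hS s hs
  refine ⟨?_, ?_⟩
  · intro w hw hw0
    have h1 : ∃ x ∈ spanHF K s,
        QuadraticMap.polarBilin (Cfsg.Agent.Lib.Helper50.QOdd d K) w x ≠ 0 := by
      by_contra hcon
      push Not at hcon
      exact hw0 (hND w hw hcon)
    obtain ⟨x, hx, hx0⟩ := h1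
    rw [pB_QOdd] at hx0
    refine ⟨⟨x, hx, ?_⟩, ⟨x, hx, hx0⟩⟩
    rw [QuadraticMap.polar_comm]
    exact hx0
  · obtain ⟨h1, h2', h3⟩ := half_frame hS s hs
    refine ⟨Submodule.span K (Set.range fun a => (s a).1), h1, ?_, ?_⟩
    · intro u hu
      exact (pB_self (Cfsg.Agent.Lib.Helper50.QOdd d K) h2 u).1 (h2' u hu)
    · rw [h3, finrank_spanSF hS s hs]

/-- the number of frames inside a nondegenerate plus-type `2e`-subspace does not depend on the
subspace -/
theorem card_frames_in (d : ℕ) (h2 : (2 : K) ≠ 0) (e : ℕ)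
    (W : Submodule K (Unit ⊕ (Fin d ⊕ Fin d) → K)) (hW : finrank K W = 2 * e)
    (hN : Cfsg.Geo.IsNondegenerateOn (QuadraticMap.polar (Cfsg.quadFormOdd d K)) W)
    (hP : Cfsg.Geo.IsPlusTypeOn (Cfsg.quadFormOdd d K) W) :
    Nat.card {t : Fin e → (Unit ⊕ (Fin d ⊕ Fin d) → K) × (Unit ⊕ (Fin d ⊕ Fin d) → K) //
        IsSF (QuadraticMap.polarBilin (Cfsg.Agent.Lib.Helper50.QOdd d K)) t ∧ InU W t} =
      Nat.card {t : Fin e → (Fin e ⊕ Fin e → K) × (Fin e ⊕ Fin e → K) //
        IsSF (QuadraticMap.polarBilin (Cfsg.Agent.Lib.Helper50.QPlus e K)) t} := by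
  classical
  set Q := Cfsg.Agent.Lib.Helper50.QOdd d K with hQdef
  have hQND : Cfsg.Agent.Lib.Helper50.QND (Q.comp W.subtype) := by
    intro v hv
    by_contra hv0
    have hv0' : (v : Unit ⊕ (Fin d ⊕ Fin d) → K) ≠ 0 := fun h => hv0 (Subtype.ext h)
    obtain ⟨-, x, hx, hx0⟩ := hN v.1 v.2 hv0'
    apply hx0
    have := hv ⟨x, hx⟩
    rw [polar_comp_subtype] at this
    exact this
  obtain ⟨U, hUW, hU0, hUdim⟩ := hP
  have hUe : finrank K U = e := by omega
  have hX : finrank K (Submodule.comap W.subtype U) = e := by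
    rw [← hUe]
    exact LinearEquiv.finrank_eq (Submodule.comapSubtypeEquivOfLe hUW)
  obtain ⟨φ, hφ⟩ := Cfsg.Agent.Lib.Helper50.plusType_of_totally_singular e (Q.comp W.subtype) hQND
    hW (Submodule.comap W.subtype U) (le_of_eq hX.symm) (fun x hx => hU0 x.1 hx)
  have hφB : ∀ x y : W, QuadraticMap.polarBilin (Cfsg.Agent.Lib.Helper50.QPlus e K) (φ x) (φ y) =
      QuadraticMap.polarBilin Q (x : Unit ⊕ (Fin d ⊕ Fin d) → K) y := by
    intro x y
    have h1 : ∀ z : W, (Cfsg.Agent.Lib.Helper50.QPlus e K) (φ z) =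
        Q (z : Unit ⊕ (Fin d ⊕ Fin d) → K) := fun z => hφ z
    rw [QuadraticMap.polarBilin_apply_apply, QuadraticMap.polarBilin_apply_apply,
      QuadraticMap.polar, QuadraticMap.polar, ← map_add, h1, h1, h1]
    rfl
  apply Nat.card_congr
  refine
    { toFun := fun t => ⟨fun a => (φ ⟨(t.1 a).1, (t.2.2 a).1⟩, φ ⟨(t.1 a).2, (t.2.2 a).2⟩), ?_⟩
      invFun := fun t' => ⟨fun a => ((φ.symm (t'.1 a).1 : Unit ⊕ (Fin d ⊕ Fin d) → K),
        (φ.symm (t'.1 a).2 : Unit ⊕ (Fin d ⊕ Fin d) → K)), ?_, ?_⟩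
      left_inv := ?_
      right_inv := ?_ }
  · refine isSF_congr t.1 _ ?_ t.2.1
    intro i j
    rcases i with a | a <;> rcases j with b | b <;>
      simp only [flat, Sum.elim_inl, Sum.elim_inr] <;> rw [hφB]
  · refine isSF_congr t'.1 _ ?_ t'.2
    intro i j
    have key : ∀ x y : (Fin e ⊕ Fin e → K),
        QuadraticMap.polarBilin (Cfsg.Agent.Lib.Helper50.QPlus e K) x y =
          QuadraticMap.polarBilin Q (φ.symm x : Unit ⊕ (Fin d ⊕ Fin d) → K) (φ.symm y) := by
      intro x y
      rw [← hφB, LinearEquiv.apply_symm_apply, LinearEquiv.apply_symm_apply]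
    rcases i with a | a <;> rcases j with b | b <;>
      simp only [flat, Sum.elim_inl, Sum.elim_inr] <;> rw [key]
  · intro a
    exact ⟨Subtype.property _, Subtype.property _⟩
  · intro t
    apply Subtype.ext
    funext a
    simp
  · intro t'
    apply Subtype.ext
    funext a
    simp

theorem finrank_top_odd (d : ℕ) :
    finrank K (⊤ : Submodule K (Unit ⊕ (Fin d ⊕ Fin d) → K)) = 2 * d + 1 := by
  rw [finrank_top, Module.finrank_fintype_fun_eq_card, Fintype.card_sum, Fintype.card_sum,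
    Fintype.card_fin, Fintype.card_unit]
  ring

end Odd

/-- **K-Oh-E.** A prime `r ≠ char` dividing the number of nondegenerate plus-type `2e`-subspaces of
the odd-dimensional standard quadratic space divides some `q^(2j) - 1` with `d - e < j ≤ d`. -/
theorem exists_of_dvd_card_hyp [Fintype F] (h2 : (2 : F) ≠ 0) (d e : ℕ) (he : 1 ≤ e) (hed : e ≤ d)
    (r : ℕ) [Fact r.Prime] (hrF : (r : F) ≠ 0)
    (hr : r ∣ Nat.card {W : Submodule F (Unit ⊕ (Fin d ⊕ Fin d) → F) //
      Module.finrank F ↥W = 2 * e ∧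
      Cfsg.Geo.IsNondegenerateOn (QuadraticMap.polar (Cfsg.quadFormOdd d F)) W ∧
      Cfsg.Geo.IsPlusTypeOn (Cfsg.quadFormOdd d F) W}) :
    ∃ j : ℕ, d - e < j ∧ j ≤ d ∧ r ∣ Fintype.card F ^ (2 * j) - 1 := by
  classical
  have hrp : r.Prime := Fact.out
  have hS := pB_symm (Cfsg.Agent.Lib.Helper50.QOdd d F)
  have h1 := card_framesS_eq_mul hS e
    (fun W => Cfsg.Geo.IsNondegenerateOn (QuadraticMap.polar (Cfsg.quadFormOdd d F)) W ∧
      Cfsg.Geo.IsPlusTypeOn (Cfsg.quadFormOdd d F) W)
    (Nat.card {t : Fin e → (Fin e ⊕ Fin e → F) × (Fin e ⊕ Fin e → F) //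
        IsSF (QuadraticMap.polarBilin (Cfsg.Agent.Lib.Helper50.QPlus e F)) t})
    (fun s hs => span_frame_props d h2 s hs)
    (fun W hW hP => card_frames_in d h2 e W hW hP.1 hP.2)
  have h3 := card_framesS (Cfsg.Agent.Lib.Helper50.QOdd d F) h2 ⊤ (nonDeg_top_QOdd d h2) d
    (finrank_top_odd d) e
  rw [h3] at h1
  have h4 : r ∣ ∏ j ∈ Finset.range e, ((Fintype.card F ^ (2 * (d - j)) - 1) *
      Fintype.card F ^ (2 * (d - j) - 1)) := by
    rw [h1]
    exact Dvd.dvd.mul_right hr _
  obtain ⟨j, hj, hjr⟩ := (Prime.dvd_finsetProd_iff (Nat.Prime.prime hrp) _).1 h4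
  rw [Finset.mem_range] at hj
  rcases (Nat.Prime.dvd_mul hrp).1 hjr with h | h
  · exact ⟨d - j, by omega, by omega, h⟩
  · exact absurd (hrp.dvd_of_dvd_pow h) (not_dvd_card_of_ne_zero r hrF)

end Cfsg.Agent.Lib.Helper80.Oh
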