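/-
Sub-lemma of K-Oh-G (keystone 599208, owner helper16, architect helper98, pack S5992/S5993):
the number of elliptic frames (`Helper16.Oh.IsEF`) inside a nondegenerate non-plus-type subspace of
dimension `2(k+1)` of `quadFormOdd d` does not depend on the subspace.
-/
import Cfsg.Agent.Lib.Helper16.OhG0
import Cfsg.Agent.Lib.Helper49.MinusUnique
import Cfsg.Agent.Lib.Helper50.IsometryDisc

set_option autoImplicit false
set_option linter.unusedSimpArgs false
set_option linter.unusedSectionVars false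
set_option linter.unusedVariables false
set_option linter.style.haveILetI false
set_option maxHeartbeats 800000

namespace Cfsg.Agent.Lib.Helper80.Oh

open Module Cfsg.Agent.Lib.Helper98.Sy Cfsg.Agent.Lib.Helper98.Ti Cfsg.Agent.Lib.Helper72.Nd
  Cfsg.Agent.Lib.Helper16.Oh

universe u
variable {F : Type u} [Field F] {V : Type u} [AddCommGroup V] [Module F V]

theorem flat_tail {k : ℕ} (s : Fin (k + 1) → V × V) (i : Fin k ⊕ Fin k) :
    flat (Fin.tail s) i = flat s (Sum.map Fin.succ Fin.succ i) := by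
  rcases i with a | a <;> rfl

/-- elliptic frames are determined by their Gram matrix -/
theorem isEF_congr {B : LinearMap.BilinForm F V} {V' : Type u} [AddCommGroup V'] [Module F V']
    {B' : LinearMap.BilinForm F V'}
    {k : ℕ} (s : Fin (k + 1) → V × V) (s' : Fin (k + 1) → V' × V')
    (h : ∀ i j : Fin (k + 1) ⊕ Fin (k + 1), B (flat s i) (flat s j) = B' (flat s' i) (flat s' j)) :
    IsEF B s → IsEF B' s' := by
  rintro ⟨h1, ⟨h3, h4, h5⟩, h6, h7⟩
  have e1 : (s 0).1 = flat s (Sum.inl 0) := rfl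
  have e2 : (s 0).2 = flat s (Sum.inr 0) := rfl
  have e1' : (s' 0).1 = flat s' (Sum.inl 0) := rfl
  have e2' : (s' 0).2 = flat s' (Sum.inr 0) := rfl
  refine ⟨?_, ⟨?_, ?_, ?_⟩, ?_, ?_⟩
  · refine isSF_congr (Fin.tail s) (Fin.tail s') ?_ h1
    intro i j
    rw [flat_tail, flat_tail, flat_tail, flat_tail]
    exact h _ _
  · rw [e1', e2', ← h]; exact h3
  · rw [e1', ← h]; exact h4
  · intro t
    rw [e1', e2', ← h, ← h]; exact h5 t
  · unfold spanHF at h6 ⊢
    rw [mem_orth_span_range_iff] at h6 ⊢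
    intro i
    rw [e1', flat_tail, ← h, ← flat_tail]
    exact h6 i
  · unfold spanHF at h7 ⊢
    rw [mem_orth_span_range_iff] at h7 ⊢
    intro i
    rw [e2', flat_tail, ← h, ← flat_tail]
    exact h7 i

/-- transport of frame counts along an isometry of a subspace with a model space -/
theorem card_frames_transport {B : LinearMap.BilinForm F V} {V' : Type u} [AddCommGroup V']
    [Module F V'] {B' : LinearMap.BilinForm F V'} (W : Submodule F V) (φ : ↥W ≃ₗ[F] V')
    (hφB : ∀ x y : W, B' (φ x) (φ y) = B (x : V) (y : V)) {n : ℕ}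
    (P : (Fin n → V × V) → Prop) (P' : (Fin n → V' × V') → Prop)
    (hPP' : ∀ (s : Fin n → V × V) (s' : Fin n → V' × V'),
      (∀ i j : Fin n ⊕ Fin n, B (flat s i) (flat s j) = B' (flat s' i) (flat s' j)) →
        (P s ↔ P' s')) :
    Nat.card {t : Fin n → V × V // P t ∧ InU W t} = Nat.card {t' : Fin n → V' × V' // P' t'} := by
  apply Nat.card_congr
  refine
    { toFun := fun t => ⟨fun a => (φ ⟨(t.1 a).1, (t.2.2 a).1⟩, φ ⟨(t.1 a).2, (t.2.2 a).2⟩), ?_⟩
      invFun := fun t' => ⟨fun a => ((φ.symm (t'.1 a).1 : V), (φ.symm (t'.1 a).2 : V)), ?_, ?_⟩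
      left_inv := ?_
      right_inv := ?_ }
  · refine (hPP' t.1 _ ?_).1 t.2.1
    intro i j
    rcases i with a | a <;> rcases j with b | b <;>
      simp only [flat, Sum.elim_inl, Sum.elim_inr] <;> rw [hφB]
  · refine (hPP' _ t'.1 ?_).2 t'.2
    intro i j
    have key : ∀ x y : V', B' x y = B (φ.symm x : V) (φ.symm y : V) := by
      intro x y
      rw [← hφB, LinearEquiv.apply_symm_apply, LinearEquiv.apply_symm_apply]
    rcases i with a | a <;> rcases j with b | b <;>
      simp only [flat, Sum.elim_inl, Sum.elim_inr] <;> rw [key]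
  · intro a
    exact ⟨Subtype.property _, Subtype.property _⟩
  · intro t
    apply Subtype.ext
    funext a
    simp
  · intro t'
    apply Subtype.ext
    funext a
    simp

section OddG

variable {K : Type u} [Field K] [Fintype K]

theorem exists_card_eframes_in (d : ℕ) (h2 : (2 : K) ≠ 0) (k : ℕ) :
    ∃ c : ℕ, ∀ W : Submodule K (Unit ⊕ (Fin d ⊕ Fin d) → K), finrank K W = 2 * (k + 1) →
      Cfsg.Geo.IsNondegenerateOn (QuadraticMap.polar (Cfsg.quadFormOdd d K)) W →
      ¬ Cfsg.Geo.IsPlusTypeOn (Cfsg.quadFormOdd d K) W →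
      Nat.card {t : Fin (k + 1) → (Unit ⊕ (Fin d ⊕ Fin d) → K) × (Unit ⊕ (Fin d ⊕ Fin d) → K) //
        Cfsg.Agent.Lib.Helper16.Oh.IsEF
          (QuadraticMap.polarBilin (Cfsg.Agent.Lib.Helper50.QOdd d K)) t ∧ InU W t} = c := by
  classical
  by_cases hex : ∃ ζ0 : K, ∀ t : K, t ^ 2 + t + ζ0 ≠ 0
  swap
  · -- no anisotropic parameter: there is no such `W`
    refine ⟨0, fun W hW hN hP => ?_⟩
    exfalso
    set Q := Cfsg.Agent.Lib.Helper50.QOdd d K with hQdef
    have hQND : Cfsg.Agent.Lib.Helper50.QND (Q.comp W.subtype) := by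
      intro v hv
      by_contra hv0
      have hv0' : (v : Unit ⊕ (Fin d ⊕ Fin d) → K) ≠ 0 := fun h => hv0 (Subtype.ext h)
      obtain ⟨-, x, hx, hx0⟩ := hN v.1 v.2 hv0'
      apply hx0
      have := hv ⟨x, hx⟩
      rw [polar_comp_subtype] at this
      exact this
    rcases Cfsg.Agent.Lib.Helper50.witt_type (2 * (k + 1)) (Q.comp W.subtype) hW hQND with
      ⟨m, hm, hplus⟩ | ⟨m, ζ, hm, hζ, -⟩ | ⟨m, c, hm, -, -⟩
    · have hmk : m = k + 1 := by omega
      subst hmk
      obtain ⟨X, hX1, hX2⟩ :=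
        Cfsg.Agent.Lib.Helper50.exists_totally_singular_of_plusType _ _ hplus
      apply hP
      refine ⟨X.map W.subtype, ?_, ?_, ?_⟩
      · rintro _ ⟨x, -, rfl⟩
        exact x.2
      · rintro _ ⟨x, hx, rfl⟩
        exact hX2 x hx
      · rw [LinearEquiv.finrank_eq (Submodule.equivMapOfInjective W.subtype
          (Submodule.injective_subtype W) X).symm, hX1, hW]
    · exact hex ⟨ζ, hζ⟩
    · omega
  · obtain ⟨ζ0, hζ0⟩ := hex
    refine ⟨Nat.card {t : Fin (k + 1) → ((Fin k ⊕ Fin k) ⊕ Fin 2 → K) × ((Fin k ⊕ Fin k) ⊕ Fin 2 → K) //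
        Cfsg.Agent.Lib.Helper16.Oh.IsEF
          (QuadraticMap.polarBilin (Cfsg.Agent.Lib.Helper50.QMinus k K 1 ζ0)) t}, fun W hW hN hP => ?_⟩
    set Q := Cfsg.Agent.Lib.Helper50.QOdd d K with hQdef
    have hQND : Cfsg.Agent.Lib.Helper50.QND (Q.comp W.subtype) := by
      intro v hv
      by_contra hv0
      have hv0' : (v : Unit ⊕ (Fin d ⊕ Fin d) → K) ≠ 0 := fun h => hv0 (Subtype.ext h)
      obtain ⟨-, x, hx, hx0⟩ := hN v.1 v.2 hv0'
      apply hx0
      have := hv ⟨x, hx⟩
      rw [polar_comp_subtype] at this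
      exact this
    have hmin : ∃ ζ : K, (∀ t : K, t ^ 2 + t + ζ ≠ 0) ∧
        Cfsg.Agent.Lib.Helper50.IsMinusType (Q.comp W.subtype) k ζ := by
      rcases Cfsg.Agent.Lib.Helper50.witt_type (2 * (k + 1)) (Q.comp W.subtype) hW hQND with
        ⟨m, hm, hplus⟩ | ⟨m, ζ, hm, hζ, hminus⟩ | ⟨m, c, hm, -, -⟩
      · exfalso
        have hmk : m = k + 1 := by omega
        subst hmk
        obtain ⟨X, hX1, hX2⟩ :=
          Cfsg.Agent.Lib.Helper50.exists_totally_singular_of_plusType _ _ hplus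
        apply hP
        refine ⟨X.map W.subtype, ?_, ?_, ?_⟩
        · rintro _ ⟨x, -, rfl⟩
          exact x.2
        · rintro _ ⟨x, hx, rfl⟩
          exact hX2 x hx
        · rw [LinearEquiv.finrank_eq (Submodule.equivMapOfInjective W.subtype
            (Submodule.injective_subtype W) X).symm, hX1, hW]
      · have hmk : m = k := by omega
        subst hmk
        exact ⟨ζ, hζ, hminus⟩
      · omega
    obtain ⟨ζ, hζ, φ, hφ⟩ := hmin
    obtain ⟨ψ, hψ⟩ := Cfsg.Agent.Lib.Helper49.exists_equiv_minus_all k 1 ζ0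
      (Cfsg.Agent.Lib.Helper50.anis_of_irred ζ0 hζ0) ζ hζ
    have hφψ : ∀ z : W, (Cfsg.Agent.Lib.Helper50.QMinus k K 1 ζ0) ((φ.trans ψ) z) =
        Q (z : Unit ⊕ (Fin d ⊕ Fin d) → K) := by
      intro z
      show Cfsg.quadFormMinus k K 1 ζ0 (ψ (φ z)) = _
      rw [hψ, hφ]
      rfl
    have hφB : ∀ x y : W,
        QuadraticMap.polarBilin (Cfsg.Agent.Lib.Helper50.QMinus k K 1 ζ0) ((φ.trans ψ) x)
          ((φ.trans ψ) y) = QuadraticMap.polarBilin Q (x : Unit ⊕ (Fin d ⊕ Fin d) → K) y := by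
      intro x y
      rw [QuadraticMap.polarBilin_apply_apply, QuadraticMap.polarBilin_apply_apply,
        QuadraticMap.polar, QuadraticMap.polar, ← map_add, hφψ, hφψ, hφψ]
      rfl
    exact card_frames_transport W (φ.trans ψ) hφB _ _
      (fun s s' h => ⟨isEF_congr s s' h, isEF_congr s' s (fun i j => (h i j).symm)⟩)

end OddG

end Cfsg.Agent.Lib.Helper80.Oh
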