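import Mathlib
import Cfsg.Agent.Lib.Helper17.PG7920Defs
import Cfsg.Agent.Lib.Helper23.SylowPerm
import Cfsg.Agent.Lib.Helper23.SylowEmbed
import Cfsg.Agent.Lib.Helper23.SylowCount
import Cfsg.Agent.Lib.Helper23.Burnside
import Cfsg.Agent.Lib.Helper67.PG7920_TT

/-!
# K-PG-3960 (keystone 249005, S2490 pack of helper17): no simple group of order 3960.
-/

set_option autoImplicit false
set_option linter.style.haveILetI false

namespace Cfsg.Agent.Lib.Helper80.PG7920

open Cfsg.Agent.Lib.Helper23 Cfsg.Agent.Lib.Helper23.SylowPerm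

/-- 249005 K-PG-3960. -/
theorem not_simple_of_card_3960 {H : Type*} [Group H] [Finite H] [IsSimpleGroup H]
    (h : Nat.card H = 3960) : False := by
  have : Fact (Nat.Prime 11) := ⟨by norm_num⟩
  have : Fact (Nat.Prime 3) := ⟨by norm_num⟩
  have : Fact (Nat.Prime 2) := ⟨by norm_num⟩
  have hnc : ¬ IsMulCommutative H := not_isMulCommutative_of_simple (by rw [h]; norm_num)
  have h' : Nat.card H = 11 ^ 1 * 360 := by rw [h]; norm_num
  have hm : ¬ 11 ∣ 360 := by norm_num
  have hcP : ∀ P : Sylow 11 H, Nat.card ↥(P : Subgroup H) = 11 := fun P => by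
    have := sylow_card_of_card_eq 11 1 360 h' hm P
    simpa using this
  have hdvd := card_sylow_dvd_of_card_eq 11 1 360 h' hm
  have hmod := card_sylow_modEq_one 11 H
  have h11 : 11 ∣ Nat.card H := by rw [h]; norm_num
  have hcard2 : 2 < Nat.card H := by rw [h]; norm_num
  obtain ⟨P⟩ : Nonempty (Sylow 11 H) := inferInstance
  have hne1 := card_sylow_ne_one_of_simple 11 P (by rw [hcP]; norm_num) (by rw [hcP, h]; norm_num)
  have hN := card_normalizer_mul_card_sylow 11 P
  rw [h] at hN
  have hrel := relIndex_centralizer_normalizer_dvd_pred 11 (P : Subgroup H) (hcP P)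
  have hmul := card_centralizer_mul_relIndex (P : Subgroup H)
  have hd1 : (Subgroup.centralizer ((P : Subgroup H) : Set H)).relIndex
      (Subgroup.normalizer ((P : Subgroup H) : Set H)) ≠ 1 := by
    intro hd
    rw [Subgroup.relIndex_eq_one] at hd
    exact false_of_normalizer_le_centralizer hnc 11 h11 P hd
  have hd10 := Nat.le_of_dvd (by norm_num) hrel
  set d := (Subgroup.centralizer ((P : Subgroup H) : Set H)).relIndex
      (Subgroup.normalizer ((P : Subgroup H) : Set H)) with hd
  set c := Nat.card ↥(Subgroup.centralizer ((P : Subgroup H) : Set H)) with hc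
  have key : ∀ n ∈ Finset.range 361, n ∣ 360 → n % 11 = 1 → n = 1 ∨ n = 12 ∨ n = 45 := by
    set_option maxRecDepth 100000 in decide
  have hle := Nat.le_of_dvd (by norm_num) hdvd
  rcases key _ (Finset.mem_range.mpr (by omega)) hdvd hmod with h1 | h1 | h1
  · exact hne1 h1
  · -- twelve Sylow 11-subgroups: an element of order 3 centralizing `P` fixes them all
    rw [h1] at hN
    have hNc : Nat.card ↥(Subgroup.normalizer ((P : Subgroup H) : Set H)) = 330 := by omega
    rw [hNc] at hmul
    have h3c : 3 ∣ c := by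
      norm_num at hrel
      interval_cases d <;> omega
    obtain ⟨k, hk⟩ := exists_prime_orderOf_dvd_card' 3 h3c
    have hk3 : orderOf (k : H) = 3 := by rw [Subgroup.orderOf_coe]; exact hk
    have hF1 : Nat.card (MulAction.fixedBy (Sylow 11 H) (k : H)) % 11 = 1 :=
      card_fixedBy_modEq_one 11 P (k : H) k.2
    have hF2 := card_fixedBy_modEq_card 11 3 (k : H) 1 (by rw [hk3]; norm_num)
    rw [h1] at hF2
    have hF2' : 12 % 3 = Nat.card (MulAction.fixedBy (Sylow 11 H) (k : H)) % 3 := hF2
    have hk1 : (k : H) ≠ 1 := by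
      intro hk1
      rw [hk1, orderOf_one] at hk3
      omega
    have hF3 := card_fixedBy_lt 11 hne1 (k : H) hk1
    rw [h1] at hF3
    omega
  · -- forty-five Sylow 11-subgroups: Thompson transfer
    rw [h1] at hN
    have hNc : Nat.card ↥(Subgroup.normalizer ((P : Subgroup H) : Set H)) = 88 := by omega
    rw [hNc] at hmul
    have hd2 : d = 2 := by
      norm_num at hrel
      interval_cases d <;> omega
    have hc44 : c = 44 := by rw [hd2] at hmul; omega
    -- a Sylow 2-subgroup of `H` inside `N(P)`
    obtain ⟨S0⟩ : Nonempty (Sylow 2 ↥(Subgroup.normalizer ((P : Subgroup H) : Set H))) :=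
      inferInstance
    have hS0c : Nat.card ↥(S0 : Subgroup ↥(Subgroup.normalizer ((P : Subgroup H) : Set H))) = 8 := by
      have := sylow_card_of_card_eq 2 3 11 (by rw [hNc]; norm_num) (by norm_num) S0
      simpa using this
    set S1 : Subgroup H := (S0 : Subgroup ↥(Subgroup.normalizer ((P : Subgroup H) : Set H))).map
      (Subgroup.normalizer ((P : Subgroup H) : Set H)).subtype with hS1
    have hS1c : Nat.card ↥S1 = 8 := by
      rw [hS1, Subgroup.card_map_of_injective (Subgroup.subtype_injective _), hS0c]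
    have hS1N : S1 ≤ Subgroup.normalizer ((P : Subgroup H) : Set H) := by
      rw [hS1]
      exact Subgroup.map_subtype_le _
    have hS1p : IsPGroup 2 ↥S1 := IsPGroup.of_card (n := 3) (by rw [hS1c]; norm_num)
    obtain ⟨S, hS⟩ := hS1p.exists_le_sylow
    have hSc : Nat.card ↥(S : Subgroup H) = 8 := by
      have := sylow_card_of_card_eq 2 3 495 (by rw [h]; norm_num) (by norm_num) S
      simpa using this
    have hSeq : S1 = (S : Subgroup H) :=
      Subgroup.eq_of_le_of_card_ge hS (by rw [hS1c, hSc])
    have hSN : (S : Subgroup H) ≤ Subgroup.normalizer ((P : Subgroup H) : Set H) := by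
      rw [← hSeq]; exact hS1N
    -- the index of `S ⊓ C(P)` in `S`
    have hrel2 : ((S : Subgroup H) ⊓ Subgroup.centralizer ((P : Subgroup H) : Set H)).relIndex
        (S : Subgroup H) = 2 := by
      rw [Subgroup.inf_relIndex_left]
      have hle2 : (Subgroup.centralizer ((P : Subgroup H) : Set H)).relIndex (S : Subgroup H) ≤ d :=
        Subgroup.relIndex_le_of_le_right hSN (by rw [← hd, hd2]; norm_num)
      have hne0 : (Subgroup.centralizer ((P : Subgroup H) : Set H)).relIndex (S : Subgroup H) ≠ 0 := by
        unfold Subgroup.relIndex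
        exact Subgroup.index_ne_zero_of_finite
      have hne1' : (Subgroup.centralizer ((P : Subgroup H) : Set H)).relIndex (S : Subgroup H) ≠ 1 := by
        intro h1'
        rw [Subgroup.relIndex_eq_one] at h1'
        have := Subgroup.card_dvd_of_le h1'
        rw [hSc, ← hc, hc44] at this
        norm_num at this
      omega
    -- the order of `S ⊓ C(P)`
    have hSCc : Nat.card ↥((S : Subgroup H) ⊓ Subgroup.centralizer ((P : Subgroup H) : Set H)) = 4 := by
      have h1' := Subgroup.card_mul_index (((S : Subgroup H) ⊓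
        Subgroup.centralizer ((P : Subgroup H) : Set H)).subgroupOf (S : Subgroup H))
      have h2' : Nat.card ↥(((S : Subgroup H) ⊓
          Subgroup.centralizer ((P : Subgroup H) : Set H)).subgroupOf (S : Subgroup H)) =
          Nat.card ↥((S : Subgroup H) ⊓ Subgroup.centralizer ((P : Subgroup H) : Set H)) :=
        Nat.card_congr (Subgroup.subgroupOfEquivOfLe inf_le_left).toEquiv
      have h3' : (((S : Subgroup H) ⊓
          Subgroup.centralizer ((P : Subgroup H) : Set H)).subgroupOf (S : Subgroup H)).index = 2 :=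
        hrel2
      rw [h2', h3', hSc] at h1'
      omega
    -- involutions of `C(P)` fix only `P`
    have hinv : ∀ m ∈ Subgroup.centralizer ((P : Subgroup H) : Set H), m ≠ 1 → m ^ 2 = 1 →
        ∀ Q : Sylow 11 H, m • Q = Q → Q = P := by
      intro m hmC hm1 hm2 Q hQ
      have hF1 : Nat.card (MulAction.fixedBy (Sylow 11 H) m) % 11 = 1 :=
        card_fixedBy_modEq_one 11 P m hmC
      obtain ⟨t, ht⟩ := card_fixedBy_involution 11 hcard2 m hm2
      have hF3 := card_fixedBy_lt 11 hne1 m hm1
      rw [h1] at ht hF3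
      have hfix1 : Nat.card (MulAction.fixedBy (Sylow 11 H) m) = 1 := by omega
      have hmP : m • P = P :=
        Sylow.smul_eq_iff_mem_normalizer.mpr (Subgroup.centralizer_le_normalizer _ hmC)
      have hsub := (Nat.card_eq_one_iff_unique.mp hfix1).1
      have := Subsingleton.elim
        (⟨Q, hQ⟩ : MulAction.fixedBy (Sylow 11 H) m) ⟨P, hmP⟩
      exact congrArg Subtype.val this
    have hfix : ∀ m ∈ (S : Subgroup H) ⊓ Subgroup.centralizer ((P : Subgroup H) : Set H), m ≠ 1 →
        ∀ Q : Sylow 11 H, m • Q = Q → Q = P := by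
      intro m hm hm1 Q hQ
      have hm4 : m ^ 4 = 1 := by
        have := pow_card_eq_one' (G := ↥((S : Subgroup H) ⊓
          Subgroup.centralizer ((P : Subgroup H) : Set H))) (x := ⟨m, hm⟩)
        rw [hSCc] at this
        have := congrArg Subtype.val this
        simpa using this
      by_cases hm2 : m ^ 2 = 1
      · exact hinv m hm.2 hm1 hm2 Q hQ
      · have hmm : (m ^ 2) ^ 2 = 1 := by rw [← pow_mul]; exact hm4
        have hmmC : m ^ 2 ∈ Subgroup.centralizer ((P : Subgroup H) : Set H) :=
          Subgroup.pow_mem _ hm.2 2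
        have hQ2 : (m ^ 2) • Q = Q := by
          rw [pow_two, mul_smul, hQ, hQ]
        exact hinv (m ^ 2) hmmC hm2 hmm Q hQ2
    exact Cfsg.Agent.Lib.Helper67.PG7920.false_of_unique_fixed_of_relIndex_two 11 P S hSN hrel2 hfix

end Cfsg.Agent.Lib.Helper80.PG7920
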