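import Cfsg.Agent.Lib.Helper37.G2InvDefs
import Cfsg.Agent.Lib.Helper26.G2InvC2
import Cfsg.Agent.Lib.Helper86.G2InvZ

/-! Auxiliary conjugation formulas for K-G2I-A (keystone 217710, S2177); own copies of the statements of the
leaves C1 (`c79`, `c106`), C3 (`c76`), I1 (`inv6z`), B1 (`good_z`), so that the leaf A is self-contained
over the landed leaves C2 (helper26) and Z (helper86). -/

set_option autoImplicit false
set_option linter.unusedSectionVars false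
set_option linter.unusedVariables false

namespace Cfsg.Agent.Lib.Helper80.G2Inv

open Cfsg.Agent.Lib.Helper37.G2Inv

variable {F : Type*} [Field F] [CharP F 2] {G : Type*} [Group G] (D : UData F G)

lemma a_z9 (a : F) : D.z a 0 0 = D.x 9 a := by
  unfold UData.z
  rw [D.x_zero, D.x_zero, mul_one, mul_one]

lemma a_z1011 (b c : F) : D.z 0 b c = D.x 10 b * D.x 11 c := by
  unfold UData.z
  rw [D.x_zero, one_mul]

lemma a_z11 (c : F) : D.z 0 0 c = D.x 11 c := by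
  rw [a_z1011, D.x_zero, one_mul]

lemma a_z10 (b : F) : D.z 0 b 0 = D.x 10 b := by
  rw [a_z1011, D.x_zero, mul_one]

theorem a_c79 (c a : F) : D.x 7 c * D.x 9 a * (D.x 7 c)⁻¹ = D.x 9 a * D.x 10 (c * a) := by
  rw [Cfsg.Agent.Lib.Helper86.G2Inv.swap79]
  group

theorem a_c710 (c b : F) : D.x 7 c * D.x 10 b * (D.x 7 c)⁻¹ = D.x 10 b := by
  rw [D.c710, mul_assoc, mul_inv_cancel, mul_one]

theorem a_c106 (c s : F) : D.x 10 c * D.x 6 s * (D.x 10 c)⁻¹ = D.x 6 s * D.x 11 (c * s) := by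
  rw [D.r610, D.x_inv, mul_assoc (D.x 6 s * D.x 10 c), ← D.c1011, mul_comm s c,
    mul_assoc (D.x 6 s), ← mul_assoc (D.x 10 c), D.x_sq, one_mul]

theorem a_inv6z (s α β γ : F) (h : D.x 6 s * D.z α β γ * (D.x 6 s * D.z α β γ) = 1) : s * β = 0 := by
  have e : D.x 6 s * D.z α β γ * (D.x 6 s * D.z α β γ) =
      (D.x 6 s * D.z α β γ * (D.x 6 s)⁻¹) * ((D.x 6 s * D.x 6 s) * D.z α β γ) := by group
  rw [e, D.x_sq, one_mul, Cfsg.Agent.Lib.Helper86.G2Inv.z_conj6, Cfsg.Agent.Lib.Helper86.G2Inv.z_mul,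
    Cfsg.Agent.Lib.Helper86.G2Inv.z_eq_one_iff] at h
  have h3 := h.2.2
  have : γ + s * β + γ = s * β := by
    have : γ + s * β + γ = s * β + (γ + γ) := by ring
    rw [this, CharTwo.add_self_eq_zero, add_zero]
  rw [this] at h3
  exact h3

lemma a_conj3 (g a b c : G) :
    g * (a * (b * c)) * g⁻¹ = (g * a * g⁻¹) * ((g * b * g⁻¹) * (g * c * g⁻¹)) := by group

lemma a_conj2 (g a b : G) : g * (a * b) * g⁻¹ = (g * a * g⁻¹) * (g * b * g⁻¹) := by group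

theorem a_c76 (c s : F) : D.x 7 c * D.x 6 s * (D.x 7 c)⁻¹ =
    D.x 6 s * (D.x 8 (c * s) * (D.x 9 (c ^ 2 * s) * (D.x 10 (c ^ 3 * s) * D.x 11 (c ^ 3 * s ^ 2)))) := by
  rw [D.r67]
  have e : D.x 6 s * D.x 7 c * (D.x 8 (s * c) * (D.x 9 (s * c ^ 2) * D.x 10 (s * c ^ 3))) * (D.x 7 c)⁻¹ =
      D.x 6 s * (D.x 7 c * (D.x 8 (s * c) * (D.x 9 (s * c ^ 2) * D.x 10 (s * c ^ 3))) * (D.x 7 c)⁻¹) := by
    group
  rw [e, a_conj3, Cfsg.Agent.Lib.Helper26.G2Inv.c78, a_c79, a_c710, ← a_z1011]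
  have e9 : D.x 9 (s * c ^ 2) * D.x 10 (c * (s * c ^ 2)) = D.z (s * c ^ 2) (c * (s * c ^ 2)) 0 := by
    unfold UData.z
    rw [D.x_zero, mul_one]
  rw [e9, ← a_z10 D (s * c ^ 3), mul_assoc (D.x 8 (s * c)), Cfsg.Agent.Lib.Helper86.G2Inv.z_mul,
    Cfsg.Agent.Lib.Helper86.G2Inv.z_mul]
  have hb : c ^ 2 * (s * c) + (c * (s * c ^ 2) + s * c ^ 3) = c ^ 3 * s := by
    have : c ^ 2 * (s * c) + (c * (s * c ^ 2) + s * c ^ 3) = c ^ 3 * s + (c ^ 3 * s + c ^ 3 * s) := by ring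
    rw [this, CharTwo.add_self_eq_zero, add_zero]
  have ha : (0 : F) + (s * c ^ 2 + 0) = c ^ 2 * s := by ring
  have hc : c * (s * c) ^ 2 + (0 + 0) = c ^ 3 * s ^ 2 := by ring
  rw [hb, ha, hc, mul_comm s c]
  rfl

theorem a_good_z (α β γ : F) (h : D.z α β γ ≠ 1) : D.Good (D.z α β γ) := by
  by_cases hα : α = 0
  · subst hα
    by_cases hβ : β = 0
    · subst hβ
      have hγ : γ ≠ 0 := by
        intro h0
        apply h
        rw [(Cfsg.Agent.Lib.Helper86.G2Inv.z_eq_one_iff D 0 0 γ)]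
        exact ⟨rfl, rfl, h0⟩
      rw [a_z11]
      obtain ⟨g, hg⟩ := D.torus11 γ hγ
      exact ⟨g, Or.inl hg⟩
    · apply D.good_of_conj (D.x 6 (γ / β))
      rw [Cfsg.Agent.Lib.Helper86.G2Inv.z_conj6, div_mul_cancel₀ γ hβ, CharTwo.add_self_eq_zero, a_z10]
      obtain ⟨g, hg⟩ := D.w10_11 β
      apply D.good_of_conj g
      rw [hg]
      obtain ⟨g', hg'⟩ := D.torus11 β hβ
      exact ⟨g', Or.inl hg'⟩
  · apply D.good_of_conj (D.x 7 (β / α))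
    rw [Cfsg.Agent.Lib.Helper86.G2Inv.z_conj7, div_mul_cancel₀ β hα, CharTwo.add_self_eq_zero]
    apply D.good_of_conj (D.x 8 (γ / α))
    rw [Cfsg.Agent.Lib.Helper86.G2Inv.z_conj8, div_mul_cancel₀ γ hα, CharTwo.add_self_eq_zero, a_z9]
    obtain ⟨g, hg⟩ := D.torus9 α hα
    exact ⟨g, Or.inr hg⟩

end Cfsg.Agent.Lib.Helper80.G2Inv
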