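import Cfsg.Agent.Lib.Helper37.G2InvDefs
import Cfsg.Agent.Lib.Helper80.G2InvAux

/-! K-G2I-A (keystone 217710, S2177): an involution `x6(s) x8(t8) z`, `s ≠ 0`, of `U ≤ G₂(q)`, `q` even,
is conjugate to `x11(1)` or `x9(1)`. -/

set_option autoImplicit false
set_option linter.unusedSectionVars false
set_option linter.unusedVariables false

namespace Cfsg.Agent.Lib.Helper80.G2Inv

open Cfsg.Agent.Lib.Helper37.G2Inv
open Cfsg.Agent.Lib.Helper86.G2Inv (z_mul z_conj7 z_conj8 z_conj10 z_eq_one_iff)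
open Cfsg.Agent.Lib.Helper26.G2Inv (c78)

variable {F : Type*} [Field F] [CharP F 2] {G : Type*} [Group G] (D : UData F G)

/-- `z` moved to the left of `x8`. -/
lemma a_z_x8 (c α β γ : F) : D.z α β γ * D.x 8 c = D.x 8 c * D.z α β (γ + c * α) := by
  have h := z_conj8 D c α β γ
  rw [D.x_inv] at h
  rw [← h]
  have e : D.x 8 c * (D.x 8 c * D.z α β γ * D.x 8 c) = (D.x 8 c * D.x 8 c) * D.z α β γ * D.x 8 c := by
    group
  rw [e, D.x_sq, one_mul]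

/-- Step 1. -/
lemma a_step1 (s t8 α β γ c : F) (hc : c * s = t8) :
    ∃ α' β' γ' : F, D.x 7 c * (D.x 6 s * (D.x 8 t8 * D.z α β γ)) * (D.x 7 c)⁻¹ =
      D.x 6 s * D.z α' β' γ' := by
  rw [a_conj3, a_c76, c78, z_conj7]
  have e1 : D.x 9 (c ^ 2 * s) * (D.x 10 (c ^ 3 * s) * D.x 11 (c ^ 3 * s ^ 2)) =
      D.z (c ^ 2 * s) (c ^ 3 * s) (c ^ 3 * s ^ 2) := rfl
  rw [e1, ← a_z1011]
  have e2 : D.x 6 s * (D.x 8 (c * s) * D.z (c ^ 2 * s) (c ^ 3 * s) (c ^ 3 * s ^ 2)) *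
      (D.x 8 t8 * D.z 0 (c ^ 2 * t8) (c * t8 ^ 2) * D.z α (β + c * α) γ) =
      D.x 6 s * (D.x 8 (c * s) * (D.z (c ^ 2 * s) (c ^ 3 * s) (c ^ 3 * s ^ 2) * D.x 8 t8) *
        (D.z 0 (c ^ 2 * t8) (c * t8 ^ 2) * D.z α (β + c * α) γ)) := by group
  rw [e2, a_z_x8, ← mul_assoc (D.x 8 (c * s)), D.add, hc, CharTwo.add_self_eq_zero, D.x_zero, one_mul,
    z_mul, z_mul]
  exact ⟨_, _, _, rfl⟩

/-- Step 3. -/
lemma a_step3 (s d α γ : F) :
    D.x 10 d * (D.x 6 s * D.z α 0 γ) * (D.x 10 d)⁻¹ = D.x 6 s * D.z α 0 (γ + d * s) := by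
  rw [a_conj2, a_c106, z_conj10, ← a_z11, mul_assoc, z_mul]
  congr 2
  · ring
  · ring
  · ring

/-- Step 4. -/
lemma a_step4 (s e α : F) (he : e ^ 2 * s = α) :
    D.x 7 e * (D.x 6 s * D.x 9 α) * (D.x 7 e)⁻¹ = D.x 6 s * (D.x 8 (e * s) * D.x 11 (e ^ 3 * s ^ 2)) := by
  rw [a_conj2, a_c76, a_c79]
  have e1 : D.x 9 (e ^ 2 * s) * (D.x 10 (e ^ 3 * s) * D.x 11 (e ^ 3 * s ^ 2)) =
      D.z (e ^ 2 * s) (e ^ 3 * s) (e ^ 3 * s ^ 2) := rfl
  have e2 : D.x 9 α * D.x 10 (e * α) = D.z α (e * α) 0 := by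
    unfold UData.z
    rw [D.x_zero, mul_one]
  rw [e1, e2, mul_assoc, mul_assoc, z_mul, he]
  have h1 : α + α = 0 := CharTwo.add_self_eq_zero α
  have h2 : e ^ 3 * s + e * α = 0 := by
    rw [← he]
    have : e ^ 3 * s + e * (e ^ 2 * s) = (e ^ 3 * s) + (e ^ 3 * s) := by ring
    rw [this]
    exact CharTwo.add_self_eq_zero _
  rw [h1, h2, add_zero, a_z11]

/-- Step 5. -/
lemma a_step5 (s b c d : F) :
    D.x 10 d * (D.x 6 s * (D.x 8 b * D.x 11 c)) * (D.x 10 d)⁻¹ =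
      D.x 6 s * (D.x 8 b * D.x 11 (c + d * s)) := by
  rw [a_conj3, a_c106]
  have h8 : D.x 10 d * D.x 8 b * (D.x 10 d)⁻¹ = D.x 8 b := by
    rw [← D.c810, mul_assoc, mul_inv_cancel, mul_one]
  have h11 : D.x 10 d * D.x 11 c * (D.x 10 d)⁻¹ = D.x 11 c := by
    rw [D.c1011, mul_assoc, mul_inv_cancel, mul_one]
  rw [h8, h11, mul_assoc, ← mul_assoc (D.x 11 (d * s)), ← D.c811, mul_assoc, D.add, add_comm]

theorem good_68z (s t8 α β γ : F) (hs : s ≠ 0)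
    (h : D.x 6 s * (D.x 8 t8 * D.z α β γ) * (D.x 6 s * (D.x 8 t8 * D.z α β γ)) = 1) :
    D.Good (D.x 6 s * (D.x 8 t8 * D.z α β γ)) := by
  -- Step 1
  obtain ⟨α', β', γ', h1⟩ := a_step1 D s t8 α β γ (t8 / s) (div_mul_cancel₀ t8 hs)
  apply D.good_of_conj (D.x 7 (t8 / s))
  rw [h1]
  -- the conjugate is an involution
  have hinv : D.x 6 s * D.z α' β' γ' * (D.x 6 s * D.z α' β' γ') = 1 := by
    rw [← h1]
    have e : ∀ g u : G, g * u * g⁻¹ * (g * u * g⁻¹) = g * (u * u) * g⁻¹ := by intro g u; group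
    rw [e, h, mul_one, mul_inv_cancel]
  have hβ : β' = 0 := by
    have := a_inv6z D s α' β' γ' hinv
    rcases mul_eq_zero.mp this with h0 | h0
    · exact absurd h0 hs
    · exact h0
  subst hβ
  -- Step 3
  apply D.good_of_conj (D.x 10 (γ' / s))
  rw [a_step3, div_mul_cancel₀ γ' hs, CharTwo.add_self_eq_zero, a_z9]
  by_cases hα : α' = 0
  · subst hα
    rw [D.x_zero, mul_one]
    obtain ⟨g, hg⟩ := D.w6_11 s
    apply D.good_of_conj g
    rw [hg]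
    obtain ⟨g', hg'⟩ := D.torus11 s hs
    exact ⟨g', Or.inl hg'⟩
  · -- Step 4
    obtain ⟨e, he⟩ := D.sqrt (α' / s)
    have he' : e ^ 2 * s = α' := by
      rw [pow_two, he, div_mul_cancel₀ α' hs]
    apply D.good_of_conj (D.x 7 e)
    rw [a_step4 D s e α' he']
    -- Step 5
    apply D.good_of_conj (D.x 10 (e ^ 3 * s))
    rw [a_step5]
    have h0 : e ^ 3 * s ^ 2 + e ^ 3 * s * s = 0 := by
      have : e ^ 3 * s * s = e ^ 3 * s ^ 2 := by ring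
      rw [this]
      exact CharTwo.add_self_eq_zero _
    rw [h0, D.x_zero, mul_one]
    -- Step 6
    obtain ⟨g, hg⟩ := D.w68 s (e * s)
    apply D.good_of_conj g
    rw [hg]
    have ez : D.x 10 s * D.x 9 (e * s) = D.z (e * s) s 0 := by
      unfold UData.z
      rw [D.x_zero, mul_one, D.c910]
    rw [ez]
    apply a_good_z
    intro h1'
    have := (z_eq_one_iff D (e * s) s 0).mp h1'
    exact hs this.2.1

end Cfsg.Agent.Lib.Helper80.G2Inv
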