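import Mathlib

/-!
# K-GAG leaf 483908 G07a `exists_involution` (helper80)
-/

set_option autoImplicit false

namespace Cfsg.Agent.Lib.Helper80.Gag

variable {G : Type*} [Group G] [Finite G]

/-- G07a (MEDIUM): for `p` odd, `G` has an involution. -/
theorem exists_involution {p : ℕ} [Fact p.Prime] (hp2 : p ≠ 2) (N : Subgroup G) [N.Normal]
    (hNp : IsPGroup p N) (hN1 : N ≠ ⊥)
    (hidx : ∀ x ∈ N, x ≠ 1 → (Subgroup.centralizer ({x} : Set G)).index + 1 = Nat.card N) :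
    ∃ t : G, t ≠ 1 ∧ t * t = 1 := by
  have hp : p.Prime := Fact.out
  obtain ⟨x, hx1⟩ := (Subgroup.ne_bot_iff_exists_ne_one (H := N)).mp hN1
  have hx1' : (x : G) ≠ 1 := fun h => hx1 (Subtype.ext h)
  have h1 := hidx (x : G) x.2 hx1'
  obtain ⟨k, hk⟩ := hNp.exists_card_eq
  have hodd : Odd (Nat.card N) := by
    rw [hk]
    exact (hp.odd_of_ne_two hp2).pow
  have heven : 2 ∣ (Subgroup.centralizer ({(x : G)} : Set G)).index := by
    obtain ⟨m, hm⟩ := hodd
    omega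
  have h2G : 2 ∣ Nat.card G := heven.trans (Subgroup.index_dvd_card _)
  haveI : Fact (Nat.Prime 2) := ⟨Nat.prime_two⟩
  obtain ⟨t, ht⟩ := exists_prime_orderOf_dvd_card' 2 h2G
  refine ⟨t, ?_, ?_⟩
  · intro h
    rw [h, orderOf_one] at ht
    omega
  · rw [← pow_two, ← ht]
    exact pow_orderOf_eq_one t

end Cfsg.Agent.Lib.Helper80.Gag
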