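/-
K-OhP-AR2 (keystone 597413, architect helper38, pack S5974): pure arithmetic; when the criterion `RhsOdd`
fails and `r` divides the number of hyperbolic `m`-spaces there is a shape with no good `j`.
-/
import Cfsg.Agent.Lib.Helper38.OhP.Defs

set_option autoImplicit false
set_option linter.unusedVariables false
set_option maxHeartbeats 1000000

namespace Cfsg.Agent.Lib.Helper80.OhP

open Module Cfsg.Agent.Lib.Helper98.Elus Cfsg.Agent.Lib.Helper98.Sy Cfsg.Agent.Lib.Helper38.OhP

theorem div_mod_of_eq {a b q r : ℕ} (hb : 0 < b) (h : r + b * q = a) (hr : r < b) :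
    a / b = q ∧ a % b = r := (Nat.div_mod_unique hb).mpr ⟨h, hr⟩

/-- if `j * c ≤ m` and the remainder `m - j * c` is `< c`, then `j = m / c` and the remainder is `m % c` -/
theorem quot_of_small {m c j : ℕ} (hc : 0 < c) (hj : j * c ≤ m) (hlt : m - j * c < c) :
    m / c = j ∧ m % c = m - j * c := by
  apply div_mod_of_eq hc _ hlt
  rw [mul_comm c j]
  omega

theorem sub_mul_ge_mod {m c j : ℕ} (hj : j * c ≤ m) : m % c ≤ m - j * c := by
  have h1 : (m - c * j) % c = m % c := Nat.sub_mul_mod (by rw [mul_comm]; exact hj)
  rw [mul_comm c j] at h1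
  rw [← h1]
  exact Nat.mod_le _ _

theorem arith_derange (i c d m : ℕ) (hi : 0 < i) (hc : c = cOf i) (hd : 4 ≤ d) (hm : 2 ≤ m) (hme : Even m)
    (hmd : m < d)
    (hw : ∃ j : ℕ, j < m / 2 ∧ (i ∣ d - j ∨ (Even i ∧ (d - j - 1) % i = i / 2)))
    (hR : ¬ RhsOdd i c d m) :
    ∃ T : ℕ, 1 ≤ T ∧ T * c ≤ 2 * d ∧ (0 < 2 * d - T * c ∨ tPlus i T) ∧
      ∀ j : ℕ, j ≤ T → j * c ≤ m → ¬ Good i c T (2 * d - T * c) m j := by
  obtain ⟨j0, hj0, hw⟩ := hw
  obtain ⟨m', rfl⟩ := hme
  have hj0' : 2 * j0 + 2 ≤ m' + m' := by omega
  have hdm := Nat.div_add_mod' (2 * d) c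
  rcases Nat.even_or_odd i with hev | hodd
  · -- `i` even, `c = i`
    have hci : c = i := by rw [hc, cOf, if_pos hev]
    have hcpos : 0 < c := by rw [hci]; exact hi
    have hk0 : 2 * d % c < c := Nat.mod_lt _ hcpos
    have hnodd : ¬ Odd i := Nat.not_odd_iff_even.mpr hev
    refine ⟨2 * d / c, ?_, Nat.div_mul_le_self _ _, ?_, ?_⟩
    · -- `1 ≤ T`
      rcases Nat.lt_or_ge (m' + m') c with hmc | hmc
      · -- `m < c`: use `hw`
        rcases hw with ⟨t, ht⟩ | ⟨_, hB⟩
        · rw [← hci] at ht
          have ht1 : 1 ≤ t := by
            rcases Nat.eq_zero_or_pos t with h0 | h0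
            · rw [h0, mul_zero] at ht; omega
            · exact h0
          have h1 : c ≤ c * t := Nat.le_mul_of_pos_right c ht1
          exact (Nat.one_le_div_iff hcpos).mpr (by omega)
        · rw [← hci] at hB
          have h1 := Nat.mod_le (d - j0 - 1) c
          have h3 : c / 2 * 2 = c := Nat.div_two_mul_two_of_even (hci ▸ hev)
          exact (Nat.one_le_div_iff hcpos).mpr (by omega)
      · exact (Nat.one_le_div_iff hcpos).mpr (by omega)
    · -- `0 < k ∨ tPlus`
      by_cases hk : 2 * d % c = 0
      · right
        right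
        by_contra hT
        apply hR
        right
        refine ⟨hev, Or.inl ⟨hk, Or.inl ?_⟩⟩
        rw [← hci]
        exact Nat.not_even_iff_odd.mp hT
      · left
        omega
    · -- no good `j`
      intro j hjT hjm hgood
      have hk : 2 * d - 2 * d / c * c = 2 * d % c := by omega
      rw [hk] at hgood
      have htP : ∀ x : ℕ, tPlus i x ↔ Even x := by
        intro x
        unfold tPlus
        constructor
        · rintro (h | h)
          · exact absurd h hnodd
          · exact h
        · exact fun h => Or.inr h
      rcases hgood with ⟨h1, h3⟩ | ⟨h1, h3⟩ | ⟨h1, h3, h4⟩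
      · -- `m = j c`, `j` even
        rw [htP] at h3
        have hq := quot_of_small hcpos hjm (by omega)
        apply hR
        right
        refine ⟨hev, ?_⟩
        by_cases hk0' : 2 * d % c = 0
        · left
          refine ⟨hk0', Or.inr ⟨by omega, ?_⟩⟩
          rw [← hci, hq.1]; exact h3
        · right
          have hj1 : 1 ≤ j := by
            rcases Nat.eq_zero_or_pos j with h0 | h0
            · rw [h0] at h1; omega
            · exact h0
          have h5 : c ≤ j * c := Nat.le_mul_of_pos_left c hj1
          refine ⟨by omega, Or.inr (Or.inr ⟨by omega, by omega, ?_⟩)⟩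
          rw [← hci, hq.1]; exact h3
      · -- `0 < m - j c < k`
        have hq := quot_of_small hcpos hjm (by omega)
        rcases Nat.lt_or_ge (m' + m') c with hmc | hmc
        · -- `m < c`: `hw`
          rcases hw with ⟨t, ht⟩ | ⟨_, hB⟩
          · rw [← hci] at ht
            have h5 := div_mod_of_eq hcpos (a := 2 * d) (q := 2 * t) (r := 2 * j0)
              (by rw [show c * (2 * t) = 2 * (c * t) by ring]; omega) (by omega)
            have h6 := Nat.mod_eq_of_lt hmc
            omega
          · rw [← hci] at hB
            have h7 := Nat.div_add_mod (d - j0 - 1) c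
            have h8 : c / 2 * 2 = c := Nat.div_two_mul_two_of_even (hci ▸ hev)
            have h5 := div_mod_of_eq hcpos (a := 2 * d) (q := 2 * ((d - j0 - 1) / c) + 1)
              (r := 2 * j0 + 2)
              (by rw [show c * (2 * ((d - j0 - 1) / c) + 1) = 2 * (c * ((d - j0 - 1) / c)) + c by ring]
                  omega) (by omega)
            have h6 := Nat.mod_eq_of_lt hmc
            omega
        · apply hR
          right
          refine ⟨hev, Or.inr ⟨by omega, Or.inl ⟨by omega, by omega⟩⟩⟩
      · -- `m - j c = k > 0`, same parity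
        rw [htP, htP] at h4
        have hq := quot_of_small hcpos hjm (by omega)
        rcases Nat.lt_or_ge (m' + m') c with hmc | hmc
        · rcases hw with ⟨t, ht⟩ | ⟨_, hB⟩
          · rw [← hci] at ht
            have h5 := div_mod_of_eq hcpos (a := 2 * d) (q := 2 * t) (r := 2 * j0)
              (by rw [show c * (2 * t) = 2 * (c * t) by ring]; omega) (by omega)
            have h6 := Nat.mod_eq_of_lt hmc
            omega
          · rw [← hci] at hB
            have h7 := Nat.div_add_mod (d - j0 - 1) c
            have h8 : c / 2 * 2 = c := Nat.div_two_mul_two_of_even (hci ▸ hev)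
            have h5 := div_mod_of_eq hcpos (a := 2 * d) (q := 2 * ((d - j0 - 1) / c) + 1)
              (r := 2 * j0 + 2)
              (by rw [show c * (2 * ((d - j0 - 1) / c) + 1) = 2 * (c * ((d - j0 - 1) / c)) + c by ring]
                  omega) (by omega)
            have h6 := Nat.mod_eq_of_lt hmc
            -- `j = 0` (as `m < c`), `T` odd
            have hj0eq : j = 0 := by
              have := hq.1
              rw [Nat.div_eq_of_lt hmc] at this
              exact this.symm
            rw [hj0eq, h5.1] at h4
            have : Even (2 * ((d - j0 - 1) / c) + 1) := h4.mp (by simp)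
            rw [Nat.even_add_one] at this
            exact this (even_two_mul _)
        · apply hR
          right
          refine ⟨hev, Or.inr ⟨by omega, Or.inr (Or.inl ⟨by omega, by omega, ?_⟩)⟩⟩
          have h9 : 2 * d + (m' + m') - 2 * (2 * d % c) = c * (2 * d / c + j) := by
            have h10 := hq.2
            have h11 : c * (2 * d / c + j) = 2 * d / c * c + j * c := by ring
            omega
          rw [h9, ← hci, Nat.mul_div_cancel_left _ hcpos, Nat.even_add]
          exact h4.symm
  · -- `i` odd, `c = 2 i`
    have hnev : ¬ Even i := Nat.not_even_iff_odd.mpr hodd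
    have hci : c = 2 * i := by rw [hc, cOf, if_neg hnev]
    have hcpos : 0 < c := by omega
    have hk0 : 2 * d % c < c := Nat.mod_lt _ hcpos
    obtain ⟨t, ht⟩ : i ∣ d - j0 := by
      rcases hw with h | ⟨h, -⟩
      · exact h
      · exact absurd h hnev
    have ht1 : 1 ≤ t := by
      rcases Nat.eq_zero_or_pos t with h0 | h0
      · rw [h0, mul_zero] at ht; omega
      · exact h0
    have hct : c * t = 2 * (i * t) := by rw [hci]; ring
    have hn : 2 * j0 + c * t = 2 * d := by omega
    have hmod : 2 * d % c = 2 * j0 % c := by
      rw [← hn, Nat.add_mul_mod_self_left]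
    have hmodle : 2 * d % c ≤ 2 * j0 := by rw [hmod]; exact Nat.mod_le _ _
    refine ⟨2 * d / c, ?_, Nat.div_mul_le_self _ _, Or.inr (Or.inl hodd), ?_⟩
    · have h1 : c ≤ c * t := Nat.le_mul_of_pos_right c ht1
      exact (Nat.one_le_div_iff hcpos).mpr (by omega)
    · intro j hjT hjm hgood
      have hk : 2 * d - 2 * d / c * c = 2 * d % c := by omega
      rw [hk] at hgood
      -- `m - j c > k`
      have hgt : 2 * d % c < m' + m' - j * c := by
        rcases Nat.lt_or_ge (m' + m') c with hmc | hmc
        · have hj0eq : j = 0 := by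
            rcases Nat.eq_zero_or_pos j with h0 | h0
            · exact h0
            · have h5 : c ≤ j * c := Nat.le_mul_of_pos_left c h0
              omega
          rw [hj0eq]
          omega
        · have h5 : 2 * d % c < (m' + m') % c := by
            by_contra h6
            apply hR
            left
            exact ⟨hodd, hmc, by omega⟩
          have h6 := sub_mul_ge_mod hjm
          omega
      rcases hgood with ⟨h1, -⟩ | ⟨h1, h3⟩ | ⟨h1, -, -⟩ <;> omega

end Cfsg.Agent.Lib.Helper80.OhP
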