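/-
K-OhP-T3 (keystone 597421, architect helper38, pack S5974): transport of an abstract model (plus type
quadratic space of dimension `2d` with an isometry of odd prime order) to `Ω⁺_{2d}` inside `GL (Fin d ⊕ Fin d)`.
Self-contained (contains its own copies of the small parts of T0, T1, T2 that it needs).
-/
import Cfsg.Agent.Lib.Helper38.OhP.Defs
import Cfsg.Agent.Lib.Helper50.SumForm
import Cfsg.Agent.Lib.Helper50.GeoBridge
import Cfsg.Agent.Lib.Helper50.PlusForm
import Cfsg.Agent.Lib.Helper50.TypeCriteria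
import Cfsg.Agent.Lib.Helper19.QuadMat

set_option autoImplicit false
set_option linter.unusedSimpArgs false
set_option linter.unusedSectionVars false
set_option linter.unusedVariables false
set_option linter.style.haveILetI false
set_option maxHeartbeats 800000

namespace Cfsg.Agent.Lib.Helper80.OhP

open Module Cfsg.Agent.Lib.Helper98.Elus Cfsg.Agent.Lib.Helper98.Sy Cfsg.Agent.Lib.Helper38.OhP
open scoped Matrix

universe u
variable {F : Type u} [Field F] {V : Type u} [AddCommGroup V] [Module F V]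

/-- (T1) a nondegenerate plus type quadratic space of dimension `2 d` is the standard one -/
theorem exists_isometry_std' [Fintype F] [FiniteDimensional F V] (Q : QuadraticForm F V)
    (hV : NonDeg (pB Q) ⊤) (hVp : PlusQ Q ⊤) (d : ℕ) (hdim : finrank F V = 2 * d) :
    ∃ e : V ≃ₗ[F] (Fin d ⊕ Fin d → F), ∀ v, Cfsg.quadFormPlus d F (e v) = Q v := by
  have hQND : Cfsg.Agent.Lib.Helper50.QND Q := by
    intro v hv
    apply hV v Submodule.mem_top
    intro w _
    exact hv w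
  obtain ⟨U, -, hU0, hUd⟩ := hVp
  rw [finrank_top, hdim] at hUd
  exact Cfsg.Agent.Lib.Helper50.plusType_of_totally_singular d Q hQND hdim U (by omega) hU0

/-- (T2) isometries of odd order are in `Ω` -/
theorem mem_omegaGL_of_pow_odd' [Fintype F] (d : ℕ) (hd : 3 ≤ d) (x : GL (Fin d ⊕ Fin d) F)
    (hx : x ∈ Cfsg.isometryGroup F (Cfsg.quadFormPlus d F)) (r : ℕ) (hr : Odd r) (hxr : x ^ r = 1) :
    x ∈ Cfsg.Geo.omegaGL (Cfsg.quadFormPlus d F) := by
  have hx' : x ∈ Cfsg.isometryGroup F (⇑(Cfsg.Agent.Lib.Helper50.QPlus d F)) := by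
    rw [Cfsg.Agent.Lib.Helper50.QPlus_coe]; exact hx
  let g : ↥(Cfsg.isometryGroup F (⇑(Cfsg.Agent.Lib.Helper50.QPlus d F))) := ⟨x, hx'⟩
  have hgr : g ^ r = 1 := by
    apply Subtype.ext
    rw [SubmonoidClass.coe_pow]
    exact hxr
  obtain ⟨k, hk⟩ := hr
  have hgsq : g = g ^ (k + 1) * g ^ (k + 1) := by
    rw [← pow_add]
    have : k + 1 + (k + 1) = r + 1 := by omega
    rw [this, pow_succ, hgr, one_mul]
  have hcard : Fintype.card (Fin d ⊕ Fin d) ≠ 4 := by
    rw [Fintype.card_sum, Fintype.card_fin]; omega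
  have hgΩ : g ∈ Cfsg.Omega F (⇑(Cfsg.Agent.Lib.Helper50.QPlus d F)) := by
    rw [hgsq]
    exact Cfsg.Agent.Lib.Helper50.mul_self_mem_Omega (Cfsg.Agent.Lib.Helper50.QPlus d F)
      Cfsg.Agent.Lib.Helper50.QPlus_nondegenerate (Or.inr hcard) (g ^ (k + 1))
  exact Cfsg.Agent.Lib.Helper50.coe_mem_omegaGL (⇑(Cfsg.Agent.Lib.Helper50.QPlus d F)) g hgΩ

/-- **K-OhP-T3.** -/
theorem exists_gl_of_model [Fintype F] [FiniteDimensional F V] (d m : ℕ) (hd : 3 ≤ d)
    (r : ℕ) [Fact r.Prime] (hr2 : r ≠ 2) (Q : QuadraticForm F V) (y : V →ₗ[F] V)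
    (hV : NonDeg (pB Q) ⊤) (hVp : PlusQ Q ⊤) (hdim : finrank F V = 2 * d) (hiso : QIso Q y)
    (hy : y ^ r = 1) (hy1 : y ≠ 1) :
    ∃ x : GL (Fin d ⊕ Fin d) F, x ∈ Cfsg.Geo.omegaGL (Cfsg.quadFormPlus d F) ∧
      (∃ z : F, ((x ^ r : GL (Fin d ⊕ Fin d) F) : Matrix (Fin d ⊕ Fin d) (Fin d ⊕ Fin d) F) =
        z • (1 : Matrix (Fin d ⊕ Fin d) (Fin d ⊕ Fin d) F)) ∧
      (∀ z : F, (x : Matrix (Fin d ⊕ Fin d) (Fin d ⊕ Fin d) F) ≠
        z • (1 : Matrix (Fin d ⊕ Fin d) (Fin d ⊕ Fin d) F)) ∧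
      ∀ W : Submodule F (Fin d ⊕ Fin d → F), IsHyp d m W →
        W.map (Matrix.toLin' (x : Matrix (Fin d ⊕ Fin d) (Fin d ⊕ Fin d) F)) ≤ W →
        ∃ W' : Submodule F V, Inv y W' ∧ NonDeg (pB Q) W' ∧ finrank F W' = m ∧ PlusQ Q W' := by
  classical
  have hrp : r.Prime := Fact.out
  have hrodd : Odd r := hrp.odd_of_ne_two hr2
  obtain ⟨φ, hφ⟩ := exists_isometry_std' Q hV hVp d hdim
  let b : Basis (Fin d ⊕ Fin d) F V := Basis.ofEquivFun φ
  set M := LinearMap.toMatrix b b y with hM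
  have hinter : ∀ w : Fin d ⊕ Fin d → F,
      φ.symm (Matrix.toLin' M w) = y (φ.symm w) := by
    intro w
    apply φ.injective
    rw [LinearEquiv.apply_symm_apply, Matrix.toLin'_apply]
    have h1 := LinearMap.toMatrix_mulVec_repr b b y (φ.symm w)
    have h3 : (b.repr (φ.symm w) : Fin d ⊕ Fin d → F) = w := by
      have := φ.apply_symm_apply w
      exact this
    rw [h3] at h1
    rw [← hM] at h1
    rw [h1]
    rfl
  have hQs : ∀ a : Fin d ⊕ Fin d → F, Q (φ.symm a) = Cfsg.quadFormPlus d F a := by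
    intro a
    rw [← hφ, LinearEquiv.apply_symm_apply]
  have hMQ : ∀ w : Fin d ⊕ Fin d → F,
      Cfsg.quadFormPlus d F (M *ᵥ w) = Cfsg.quadFormPlus d F w := by
    intro w
    have h1 : M *ᵥ w = φ (y (φ.symm w)) := by
      rw [← hinter, LinearEquiv.apply_symm_apply, Matrix.toLin'_apply]
    rw [h1, hφ, hiso, hQs]
  have hMr : M ^ r = 1 := by
    rw [hM, LinearMap.toMatrix_pow, hy, LinearMap.toMatrix_one]
  have hr1 : 1 ≤ r := hrp.one_le
  have hMM : M * M ^ (r - 1) = 1 := by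
    rw [← pow_succ', Nat.sub_add_cancel hr1, hMr]
  have hMM' : M ^ (r - 1) * M = 1 := by
    rw [← pow_succ, Nat.sub_add_cancel hr1, hMr]
  let x₀ : GL (Fin d ⊕ Fin d) F := ⟨M, M ^ (r - 1), hMM, hMM'⟩
  have hx₀iso : x₀ ∈ Cfsg.isometryGroup F (Cfsg.quadFormPlus d F) := by
    rw [Cfsg.Agent.Lib.Helper19.mem_isometryGroup_iff]
    exact hMQ
  have hx₀r : x₀ ^ r = 1 := by
    apply Units.ext
    rw [Units.val_pow_eq_pow_val]
    exact hMr
  have hmem := mem_omegaGL_of_pow_odd' d hd x₀ hx₀iso r hrodd hx₀r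
  -- the polar forms correspond
  have hpB : ∀ a c : Fin d ⊕ Fin d → F,
      pB Q (φ.symm a) (φ.symm c) = pB (Q0 d F) a c := by
    intro a c
    rw [pB_apply, pB_apply, ← map_add, hQs, hQs, hQs]
    rfl
  refine ⟨x₀, hmem, ⟨1, ?_⟩, ?_, ?_⟩
  · rw [hx₀r, one_smul]
    rfl
  · intro z hz
    change M = z • 1 at hz
    have hyz : y = z • 1 := by
      apply (LinearMap.toMatrix b b).injective
      rw [← hM, hz, map_smul, LinearMap.toMatrix_one]
    -- a vector with `Q v ≠ 0`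
    have hVnt : ∃ v : V, v ≠ 0 := by
      haveI : Nontrivial V := Module.nontrivial_of_finrank_pos (R := F) (by omega)
      exact exists_ne 0
    obtain ⟨v0, hv0⟩ := hVnt
    obtain ⟨w0, hw0⟩ : ∃ w, pB Q v0 w ≠ 0 := by
      by_contra hcon
      push Not at hcon
      exact hv0 (hV v0 Submodule.mem_top (fun w _ => hcon w))
    have hQne : ∃ v, Q v ≠ 0 := by
      by_contra hcon
      push Not at hcon
      apply hw0
      rw [pB_apply, hcon, hcon, hcon]; ring
    obtain ⟨v1, hv1⟩ := hQne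
    have hz2 : z * z = 1 := by
      have h1 := hiso v1
      rw [hyz, LinearMap.smul_apply, Module.End.one_apply, QuadraticMap.map_smul, smul_eq_mul] at h1
      have h3 : (z * z - 1) * Q v1 = 0 := by linear_combination h1
      rcases mul_eq_zero.mp h3 with h4 | h4
      · linear_combination h4
      · exact absurd h4 hv1
    have hzr : z ^ r = 1 := by
      have h1 := hy
      rw [hyz, smul_pow, one_pow] at h1
      have h3 := congrArg (fun f : V →ₗ[F] V => f v0) h1
      simp only [LinearMap.smul_apply, Module.End.one_apply] at h3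
      have h4 : (z ^ r - 1) • v0 = 0 := by rw [sub_smul, one_smul, h3, sub_self]
      rcases smul_eq_zero.mp h4 with h5 | h5
      · linear_combination h5
      · exact absurd h5 hv0
    have hz1 : z = 1 := by
      obtain ⟨k, hk⟩ := hrodd
      have h1 : z ^ r = z * (z * z) ^ k := by rw [hk]; ring
      rw [hz2, one_pow, mul_one] at h1
      rw [← h1, hzr]
    apply hy1
    rw [hyz, hz1, one_smul]
  · intro W hW hWinv
    obtain ⟨hWm, hWnd, U, hUW, hUd, hU0⟩ := hW
    refine ⟨W.map (φ.symm : (Fin d ⊕ Fin d → F) →ₗ[F] V), ?_, ?_, ?_, ?_⟩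
    · rintro _ ⟨w, hw, rfl⟩
      refine ⟨Matrix.toLin' M w, hWinv ⟨w, hw, rfl⟩, ?_⟩
      exact hinter w
    · rintro _ ⟨a, ha, rfl⟩ h0
      have ha0 : a = 0 := by
        by_contra hne
        obtain ⟨c, hc, hac⟩ := hWnd a ha hne
        apply hac
        have := h0 (φ.symm c) ⟨c, hc, rfl⟩
        rw [LinearEquiv.coe_coe, hpB] at this
        exact this
      rw [ha0, map_zero]
    · rw [← hWm]
      exact LinearEquiv.finrank_map_eq φ.symm W
    · refine ⟨U.map (φ.symm : (Fin d ⊕ Fin d → F) →ₗ[F] V), Submodule.map_mono hUW, ?_, ?_⟩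
      · rintro _ ⟨u, hu, rfl⟩
        rw [LinearEquiv.coe_coe, hQs]
        exact hU0 u hu
      · rw [LinearEquiv.finrank_map_eq φ.symm U, LinearEquiv.finrank_map_eq φ.symm W, hUd, hWm]

end Cfsg.Agent.Lib.Helper80.OhP
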