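import Mathlib
import Cfsg.Agent.Lib.Helper80.GaloisChar
import Cfsg.Agent.Lib.Helper05.CharOrtho

/-!
# Blichfeldt's theorem, part A (helper80): the Galois dichotomy

If no element of `G` has both its `P`-part and its `Q`-part non-central, every irreducible
character with the central `P`- and `Q`-elements in its kernel is fixed by all Galois
automorphisms acting on the `P`-part, or by all those acting on the `Q`-part.
-/

set_option autoImplicit false

namespace Cfsg.Agent.Lib.Helper80.Blich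

open Cfsg
open scoped ComplexConjugate

universe u

section Arith

/-- Chinese remainder exponents: `u ≡ 1 [MOD P]`, `u ≡ 0 [MOD m]`, `v ≡ 0 [MOD P]`, `v ≡ 1 [MOD m]`. -/
theorem exists_crt_exponents (P m : ℕ) (hc : P.Coprime m) :
    ∃ u v : ℕ, u ≡ 1 [MOD P] ∧ u ≡ 0 [MOD m] ∧ v ≡ 0 [MOD P] ∧ v ≡ 1 [MOD m] ∧
      u + v ≡ 1 [MOD P * m] := by
  obtain ⟨u, hu1, hu2⟩ := Nat.chineseRemainder hc 1 0
  obtain ⟨v, hv1, hv2⟩ := Nat.chineseRemainder hc 0 1
  refine ⟨u, v, hu1, hu2, hv1, hv2, ?_⟩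
  rw [← Nat.modEq_and_modEq_iff_modEq_mul hc]
  constructor
  · simpa using hu1.add hv1
  · simpa using hu2.add hv2

end Arith

variable {G : Type u} [Group G]

/-- If `n ≡ m` modulo the group order then `g ^ n = g ^ m`. -/
theorem pow_eq_pow_of_modEq_card [Finite G] (g : G) {n m : ℕ} (h : n ≡ m [MOD Nat.card G]) :
    g ^ n = g ^ m := by
  rw [pow_eq_pow_iff_modEq]
  exact h.of_dvd (orderOf_dvd_natCard g)

/-- One-sided invariance: if the `P`-part `g ^ u` of `g` is central and `θ` has the central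
`P`-elements in its kernel, then `θ (g ^ k) = θ g` for `k ≡ 1` modulo the `P'`-part of `|G|`. -/
theorem apply_pow_eq_of_central [Finite G] {θ : G → ℂ} (P m : ℕ) (hPm : P * m = Nat.card G)
    (hc : P.Coprime m)
    (hker : ∀ z ∈ Subgroup.center G, z ^ P = 1 → ∀ h : G, θ (h * z) = θ h)
    {u v : ℕ} (hu2 : u ≡ 0 [MOD m]) (hv1 : v ≡ 0 [MOD P])
    (huv : u + v ≡ 1 [MOD P * m]) (k : ℕ) (hk : k ≡ 1 [MOD m]) (g : G)
    (hg : g ^ u ∈ Subgroup.center G) : θ (g ^ k) = θ g := by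
  have huP : (g ^ u) ^ P = 1 := by
    rw [← pow_mul]
    have : u * P ≡ 0 [MOD Nat.card G] := by
      rw [← hPm, mul_comm P m]
      have := Nat.ModEq.mul_right' P hu2
      simpa using this
    rw [pow_eq_pow_of_modEq_card g this, pow_zero]
  have hvk : v * k ≡ v [MOD Nat.card G] := by
    rw [← hPm, ← Nat.modEq_and_modEq_iff_modEq_mul hc]
    constructor
    · have h1 : v * k ≡ 0 * k [MOD P] := hv1.mul_right k
      rw [zero_mul] at h1
      exact h1.trans hv1.symm
    · have h1 : v * k ≡ v * 1 [MOD m] := hk.mul_left v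
      rwa [mul_one] at h1
  have hg1 : g = g ^ v * g ^ u := by
    rw [← pow_add, add_comm]
    have := pow_eq_pow_of_modEq_card g (hPm ▸ huv)
    rw [this, pow_one]
  have hgk : g ^ k = g ^ v * (g ^ u) ^ k := by
    calc g ^ k = (g ^ v * g ^ u) ^ k := by rw [← hg1]
      _ = (g ^ v) ^ k * (g ^ u) ^ k := by
          rw [(Commute.pow_pow (Commute.refl g) v u).mul_pow]
      _ = g ^ v * (g ^ u) ^ k := by
          rw [← pow_mul g v k, pow_eq_pow_of_modEq_card g hvk]
  have hzk : ((g ^ u) ^ k) ^ P = 1 := by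
    rw [← pow_mul, mul_comm, pow_mul, huP, one_pow]
  rw [hgk, hker _ (Subgroup.pow_mem _ hg k) hzk]
  conv_rhs => rw [hg1]
  rw [hker _ hg huP]

/-- **The Galois dichotomy.** -/
theorem galois_dichotomy [Fintype G] {θ : G → ℂ} (hθ : IsIrrCharacter G θ)
    (P mp Q mq : ℕ) (hP : P * mp = Nat.card G) (hQ : Q * mq = Nat.card G)
    (hPc : P.Coprime mp) (hQc : Q.Coprime mq)
    (hkerP : ∀ z ∈ Subgroup.center G, z ^ P = 1 → ∀ h : G, θ (h * z) = θ h)
    (hkerQ : ∀ z ∈ Subgroup.center G, z ^ Q = 1 → ∀ h : G, θ (h * z) = θ h)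
    (H : ∀ (g : G) (u w : ℕ), (g ^ u) ^ P = 1 → (g ^ w) ^ Q = 1 →
      g ^ u ∈ Subgroup.center G ∨ g ^ w ∈ Subgroup.center G) :
    (∀ k : ℕ, k.Coprime (Nat.card G) → k ≡ 1 [MOD mp] → ∀ g, θ (g ^ k) = θ g) ∨
    (∀ l : ℕ, l.Coprime (Nat.card G) → l ≡ 1 [MOD mq] → ∀ g, θ (g ^ l) = θ g) := by
  classical
  by_contra hcon
  rw [not_or] at hcon
  obtain ⟨h1, h2⟩ := hcon
  push Not at h1 h2
  obtain ⟨k, hk, hk1, g₁, hg₁⟩ := h1
  obtain ⟨l, hl, hl1, g₂, hg₂⟩ := h2
  obtain ⟨u, v, -, hu2, hv1, -, huv⟩ := exists_crt_exponents P mp hPc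
  obtain ⟨u', v', -, hu2', hv1', -, huv'⟩ := exists_crt_exponents Q mq hQc
  set A : G → ℂ := fun g => θ (g ^ k) with hA
  set C : G → ℂ := fun g => θ (g ^ l) with hC
  have hAirr : IsIrrCharacter G A := isIrrCharacter_pow_coprime hθ k hk
  have hCirr : IsIrrCharacter G C := isIrrCharacter_pow_coprime hθ l hl
  have hAne : A ≠ θ := fun h => hg₁ (congrFun h g₁)
  have hCne : θ ≠ C := fun h => hg₂ (congrFun h g₂).symm
  have hpow : ∀ (g : G) (u : ℕ) (P m : ℕ), P * m = Nat.card G → u ≡ 0 [MOD m] →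
      (g ^ u) ^ P = 1 := by
    intro g u P m hPm hu
    rw [← pow_mul]
    have : u * P ≡ 0 [MOD Nat.card G] := by
      rw [← hPm, mul_comm P m]
      have := Nat.ModEq.mul_right' P hu
      simpa using this
    rw [pow_eq_pow_of_modEq_card g this, pow_zero]
  have hpt : ∀ g : G, (A - θ) g * conj ((C - θ) g) = 0 := by
    intro g
    rcases H g u u' (hpow g u P mp hP hu2) (hpow g u' Q mq hQ hu2') with hc | hc
    · have : A g = θ g := apply_pow_eq_of_central P mp hP hPc hkerP hu2 hv1 huv k hk1 g hc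
      simp [this]
    · have : C g = θ g := apply_pow_eq_of_central Q mq hQ hQc hkerQ hu2' hv1' huv' l hl1 g hc
      simp [this]
  have hzero : classInner (A - θ) (C - θ) = 0 := by
    unfold classInner
    rw [Finset.sum_eq_zero (fun g _ => hpt g), mul_zero]
  rw [Cfsg.Agent.Lib.Helper05.classInner_sub_left, Cfsg.Agent.Lib.Helper05.classInner_sub_right,
    Cfsg.Agent.Lib.Helper05.classInner_sub_right,
    Cfsg.Agent.Lib.Helper05.classInner_irr_ne hAirr hθ hAne,
    Cfsg.Agent.Lib.Helper05.classInner_irr_ne hθ hCirr hCne,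
    Cfsg.Agent.Lib.Helper05.classInner_irr_self hθ,
    Cfsg.Agent.Lib.Helper05.classInner_irr hAirr hCirr] at hzero
  split_ifs at hzero <;> norm_num at hzero

end Cfsg.Agent.Lib.Helper80.Blich
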