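import Mathlib
import Cfsg.Agent.Lib.Helper05.CharValues
import Cfsg.Agent.Lib.Helper83.CharBasic
import Cfsg.Agent.Lib.Helper86.K65B

/-!
# Blichfeldt's theorem, part B (helper80): rational characters of small degree

A character of degree `d < p - 1` whose values on `p`-elements are invariant under all
power maps prime to `p` has every `p`-element in its kernel.
-/

set_option autoImplicit false

namespace Cfsg.Agent.Lib.Helper80.Blich

open Cfsg

universe u

/-- Unit complex numbers whose sum is their number are all `1`. -/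
theorem eq_one_of_sum_eq_card {ι : Type*} [Fintype ι] (w : ι → ℂ) (hw : ∀ i, ‖w i‖ = 1)
    (hsum : ∑ i, w i = (Fintype.card ι : ℂ)) : ∀ i, w i = 1 := by
  have hre : ∀ i, (w i).re ≤ 1 := fun i => (Complex.re_le_norm (w i)).trans (hw i).le
  have h1 : ∑ i, (1 - (w i).re) = 0 := by
    have h2 := congrArg Complex.re hsum
    rw [Complex.re_sum, Complex.natCast_re] at h2
    rw [Finset.sum_sub_distrib, h2]
    simp
  have h3 : ∀ i ∈ Finset.univ, 1 - (w i).re = 0 :=
    (Finset.sum_eq_zero_iff_of_nonneg (fun i _ => sub_nonneg.2 (hre i))).1 h1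
  intro i
  have hr : (w i).re = 1 := by
    have := h3 i (Finset.mem_univ i)
    linarith
  have hn : Complex.normSq (w i) = 1 := by
    rw [Complex.normSq_eq_norm_sq, hw i, one_pow]
  rw [Complex.normSq_apply, hr] at hn
  have hi : (w i).im = 0 := by
    have : (w i).im * (w i).im = 0 := by linarith
    exact mul_self_eq_zero.1 this
  exact Complex.ext hr hi

variable {G : Type u} [Group G]

/-- A character of degree `d < p - 1` which is invariant under the power maps prime to `p` on
`p`-elements has all `p`-elements in its kernel. -/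
theorem pElement_mem_ker [Finite G] {θ : G → ℂ} (hθ : IsCharacter G θ) (p : ℕ) (hp : p.Prime)
    (d : ℕ) (hd : θ 1 = d) (hdp : d + 1 < p)
    (hinv : ∀ x : G, (∃ k, x ^ p ^ k = 1) → ∀ j : ℕ, ¬ p ∣ j → θ (x ^ j) = θ x) :
    ∀ (k : ℕ) (x : G), x ^ p ^ k = 1 → θ x = θ 1 := by
  intro k
  induction k with
  | zero =>
    intro x hx
    rw [pow_zero, pow_one] at hx
    rw [hx]
  | succ k ih =>
    intro x hx
    have hy : (x ^ p) ^ p ^ k = 1 := by
      rw [← pow_mul, ← pow_succ']
      exact hx
    have hxp : θ (x ^ p) = θ 1 := ih (x ^ p) hy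
    obtain ⟨n, ρ, rfl⟩ := hθ
    have hn : (n : ℂ) = d := by
      rw [← hd, Cfsg.Agent.Lib.Helper83.rep_char_one]
    have hnd : n = d := by exact_mod_cast hn
    obtain ⟨b, μ, hμ, -, hk', -⟩ :=
      Cfsg.Agent.Lib.Helper05.exists_eigenvalues ρ x (isOfFinOrder_of_finite x)
    have hfr : Module.finrank ℂ (Fin n → ℂ) = n := Module.finrank_fin_fun ℂ
    have hcard : Fintype.card (Fin (Module.finrank ℂ (Fin n → ℂ))) = n := by
      rw [Fintype.card_fin, hfr]
    have hnorm : ∀ i, ‖μ i‖ = 1 := fun i =>
      Complex.norm_eq_one_of_pow_eq_one (hμ i) (isOfFinOrder_of_finite x).orderOf_pos.ne'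
    have hμp : ∀ i, μ i ^ p = 1 := by
      apply eq_one_of_sum_eq_card (fun i => μ i ^ p)
      · intro i
        rw [norm_pow, hnorm i, one_pow]
      · rw [← hk' p, hxp, Cfsg.Agent.Lib.Helper83.rep_char_one, hcard]
    have hall : ∀ i, μ i = 1 := by
      apply Cfsg.Agent.Lib.Helper86.K65B.roots_all_one_of_pow_invariant p hp μ hμp
      · rw [hcard, hnd]; exact hdp
      · intro j hj
        have h1 := hk' 1
        rw [pow_one] at h1
        rw [← hk' j, hinv x ⟨k + 1, hx⟩ j hj, h1]
        simp
    have h1 := hk' 1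
    rw [pow_one] at h1
    rw [h1, Cfsg.Agent.Lib.Helper83.rep_char_one]
    simp [hall, hfr]

end Cfsg.Agent.Lib.Helper80.Blich
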