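import Mathlib
import Cfsg.Agent.Lib.Helper80.DetChar
import Cfsg.Agent.Lib.Helper23.DetAdd
import Cfsg.Agent.Lib.Helper83.LinearCount
import Cfsg.Agent.Lib.Helper04.GlaubInt
import Cfsg.Agent.Lib.Helper20.LinExt

/-!
# Blichfeldt's theorem, part C (helper80): twisting away the central character

For an irreducible character `ψ` of degree `d` prime to `N`, a power `κ` of `det ψ` satisfies
`κ(z) · ψ(z)/ψ(1) = 1` for all central `z` with `z ^ N = 1`; hence `κ ψ` has these `z` in its kernel.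
-/

set_option autoImplicit false
set_option linter.style.haveILetI false

namespace Cfsg.Agent.Lib.Helper80.Blich

open Cfsg

universe u

variable {G : Type u} [Group G] [Finite G]

/-- The central character of an irreducible character as a homomorphism on the centre. -/
noncomputable def centHom (ψ : IrrCharacter G) : Subgroup.center G →* ℂˣ where
  toFun w := Units.mk0 ((ψ : G → ℂ) w / (ψ : G → ℂ) 1) (by
    have h1 := Cfsg.Agent.Lib.Helper83.irr_central_mul_conj ψ w.2
    have h0 := Cfsg.Agent.Lib.Helper83.irr_degree_ne_zero ψ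
    have h2 : (ψ : G → ℂ) (w : G) ≠ 0 := by
      intro h
      rw [h, zero_mul] at h1
      exact mul_self_ne_zero.2 h0 h1.symm
    exact div_ne_zero h2 h0)
  map_one' := by
    apply Units.ext
    have h0 := Cfsg.Agent.Lib.Helper83.irr_degree_ne_zero ψ
    simp [h0]
  map_mul' a b := by
    apply Units.ext
    have h0 := Cfsg.Agent.Lib.Helper83.irr_degree_ne_zero ψ
    have h1 := Cfsg.Agent.Lib.Helper83.irr_mul_central ψ b.2 (a : G)
    simp only [Subgroup.coe_mul, Units.val_mk0, Units.val_mul]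
    rw [h1]
    field_simp

theorem centHom_apply (ψ : IrrCharacter G) (w : Subgroup.center G) :
    ((centHom ψ w : ℂˣ) : ℂ) = (ψ : G → ℂ) w / (ψ : G → ℂ) 1 := rfl

/-- The determinant of an irreducible character at a central element. -/
theorem detChar_central (ψ : IrrCharacter G) (d : ℕ) (hd : (ψ : G → ℂ) 1 = d) {z : G}
    (hz : z ∈ Subgroup.center G) :
    detChar (ψ : G → ℂ) z = ((ψ : G → ℂ) z / (ψ : G → ℂ) 1) ^ d := by
  have hψ := Cfsg.Agent.Lib.Helper83.IrrCharacter_isCharacter ψ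
  have h0 := Cfsg.Agent.Lib.Helper83.irr_degree_ne_zero ψ
  set Z := Subgroup.center G with hZ
  set lam : Z → ℂ := Cfsg.Agent.Lib.Helper20.homFun (centHom ψ) with hlam
  obtain ⟨hlamc, hlam1⟩ := Cfsg.Agent.Lib.Helper20.isCharacter_homFun (centHom ψ)
  have hres : (fun w : Z => (ψ : G → ℂ) w) = ∑ _i ∈ Finset.range d, lam := by
    funext w
    rw [Finset.sum_apply, Finset.sum_const, Finset.card_range, hlam,
      Cfsg.Agent.Lib.Helper20.homFun_apply, centHom_apply, hd, nsmul_eq_mul]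
    rw [hd] at h0
    field_simp
  have h1 := detChar_restrict Z hψ
  rw [hres, Cfsg.Agent.Lib.Helper23.DetAdd.detChar_sum (Finset.range d) (fun _ => lam)
    (fun _ _ => hlamc)] at h1
  have h2 := congrFun h1 ⟨z, hz⟩
  simp only [Finset.prod_const, Finset.card_range] at h2
  rw [← h2, detChar_of_linear hlamc hlam1, Cfsg.Agent.Lib.Helper20.homFun_apply,
    centHom_apply]

/-- An exponent `e` with `d * e ≡ -1` modulo `N`. -/
theorem exists_neg_inverse (d N : ℕ) (hN : 0 < N) (hcop : Nat.Coprime d N) :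
    ∃ e : ℕ, N ∣ d * e + 1 := by
  haveI : NeZero N := ⟨hN.ne'⟩
  set u := ZMod.unitOfCoprime d hcop with hu
  refine ⟨((-(u⁻¹ : (ZMod N)ˣ) : ZMod N)).val, ?_⟩
  rw [← ZMod.natCast_eq_zero_iff]
  push_cast
  rw [ZMod.natCast_zmod_val]
  have : (d : ZMod N) = (u : ZMod N) := rfl
  rw [this, mul_neg, ← Units.val_mul, mul_inv_cancel]
  simp

/-- **Twisting.** For irreducible `ψ` of degree prime to `N` there is a linear character `κ`
with `κ(hz) ψ(hz) = κ(h) ψ(h)` for all central `z` with `z ^ N = 1`. -/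
theorem exists_twist {ψ : G → ℂ} (hψ : IsIrrCharacter G ψ) (d N : ℕ) (hd : ψ 1 = d)
    (hN : 0 < N) (hcop : Nat.Coprime d N) :
    ∃ κ : G →* ℂˣ, ∀ z ∈ Subgroup.center G, z ^ N = 1 → ∀ h : G,
      ((κ (h * z) : ℂˣ) : ℂ) * ψ (h * z) = ((κ h : ℂˣ) : ℂ) * ψ h := by
  obtain ⟨e, he⟩ := exists_neg_inverse d N hN hcop
  refine ⟨(detHom ψ) ^ e, ?_⟩
  intro z hz hzN h
  set Ψ : IrrCharacter G := ⟨ψ, hψ⟩ with hΨ
  have h0 := Cfsg.Agent.Lib.Helper83.irr_degree_ne_zero Ψ
  have h1 := Cfsg.Agent.Lib.Helper83.irr_mul_central Ψ hz h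
  have h2 := detChar_central Ψ d hd hz
  have h3 := Cfsg.Agent.Lib.Helper04.irr_central_root Ψ hz N hzN
  simp only [hΨ] at h0 h1 h2 h3
  set c : ℂ := ψ z / ψ 1 with hc
  have h4 : c ^ (d * e + 1) = 1 := by
    obtain ⟨t, ht⟩ := he
    rw [ht, pow_mul, h3, one_pow]
  rw [map_mul, Units.val_mul, MonoidHom.pow_apply, MonoidHom.pow_apply, Units.val_pow_eq_pow_val,
    Units.val_pow_eq_pow_val, detHom_apply, detHom_apply, h2, h1]
  have h5 : ψ h * ψ z / ψ 1 = ψ h * c := by rw [hc]; ring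
  rw [h5, ← pow_mul]
  calc detChar ψ h ^ e * c ^ (d * e) * (ψ h * c)
      = detChar ψ h ^ e * ψ h * c ^ (d * e + 1) := by ring
    _ = detChar ψ h ^ e * ψ h := by rw [h4, mul_one]

end Cfsg.Agent.Lib.Helper80.Blich
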