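import Mathlib
import Cfsg.Agent.Lib.Helper80.BlichA
import Cfsg.Agent.Lib.Helper80.BlichB
import Cfsg.Agent.Lib.Helper80.BlichC
import Cfsg.Agent.Lib.Helper05.CharDecomp
import Cfsg.Agent.Lib.Helper83.CharMisc
import Cfsg.Agent.Lib.Helper83.Quotient
import Cfsg.Agent.Lib.Helper83.Linear

/-!
# Blichfeldt's theorem, part D (helper80): `p`-elements commute with `q`-elements

Let `G` have a faithful character of degree `n` and let `p ≠ q` be primes `> n + 1`.  If no
non-central `p`-element commutes with a non-central `q`-element, then all `p`-elements commute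
with all `q`-elements.
-/

set_option autoImplicit false
set_option linter.style.haveILetI false

namespace Cfsg.Agent.Lib.Helper80.Blich

open Cfsg

universe u

variable {G : Type u} [Group G] [Finite G]

/-- A `p`-element of `G` has order dividing the `p`-part of `|G|`. -/
theorem pow_ordProj_eq_one (p : ℕ) (hp : p.Prime) {x : G} (hx : ∃ k, x ^ p ^ k = 1) :
    x ^ (p ^ (Nat.card G).factorization p) = 1 := by
  obtain ⟨k, hk⟩ := hx
  have h1 : orderOf x ∣ p ^ k := orderOf_dvd_of_pow_eq_one hk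
  obtain ⟨i, -, hi⟩ := (Nat.dvd_prime_pow hp).1 h1
  have h2 : p ^ i ∣ Nat.card G := hi ▸ orderOf_dvd_natCard x
  have h3 : i ≤ (Nat.card G).factorization p :=
    (hp.pow_dvd_iff_le_factorization Nat.card_pos.ne').1 h2
  apply orderOf_dvd_iff_pow_eq_one.1
  rw [hi]
  exact pow_dvd_pow p h3

/-- From invariance under the Galois group of the `p`-part to invariance of the values on
`p`-elements under all power maps prime to `p`. -/
theorem pElement_pow_invariant {θ : G → ℂ} (p : ℕ) (hp : p.Prime)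
    (hgal : ∀ k : ℕ, k.Coprime (Nat.card G) →
      k ≡ 1 [MOD Nat.card G / p ^ (Nat.card G).factorization p] → ∀ g, θ (g ^ k) = θ g)
    (x : G) (hx : ∃ k, x ^ p ^ k = 1) (j : ℕ) (hj : ¬ p ∣ j) : θ (x ^ j) = θ x := by
  set a := (Nat.card G).factorization p with ha
  set P := p ^ a with hP
  set m := Nat.card G / P with hm
  have hPm : P * m = Nat.card G := Nat.ordProj_mul_ordCompl_eq_self (Nat.card G) p
  have hc : P.Coprime m := (Nat.coprime_ordCompl hp Nat.card_pos.ne').pow_left a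
  obtain ⟨k, hk1, hk2⟩ := Nat.chineseRemainder hc j 1
  have hkP : k.Coprime P := by
    have h1 : Nat.gcd k P = Nat.gcd j P := hk1.gcd_eq
    have h2 : Nat.Coprime j P := ((Nat.Prime.coprime_iff_not_dvd hp).2 hj).symm.pow_right a
    rw [Nat.Coprime, h1]; exact h2
  have hkm : k.Coprime m := by
    have h1 : Nat.gcd k m = Nat.gcd 1 m := hk2.gcd_eq
    rw [Nat.Coprime, h1]; simp
  have hkG : k.Coprime (Nat.card G) := by
    rw [← hPm]; exact Nat.Coprime.mul_right hkP hkm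
  have hxP : x ^ P = 1 := pow_ordProj_eq_one p hp hx
  have hxk : x ^ k = x ^ j := by
    rw [pow_eq_pow_iff_modEq]
    exact hk1.of_dvd (orderOf_dvd_of_pow_eq_one hxP)
  rw [← hxk]
  exact hgal k hkG hk2 x

/-- The commutator of a kernel element with anything lies in the kernel. -/
theorem apply_commutator_of_left {θ : G → ℂ} (hθ : IsCharacter G θ) {x : G} (hx : θ x = θ 1)
    (y : G) : θ (x * y * x⁻¹ * y⁻¹) = θ 1 := by
  have hxK : x ∈ Cfsg.Agent.Lib.Helper83.charKer hθ :=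
    (Cfsg.Agent.Lib.Helper83.mem_charKer hθ x).2 hx
  rw [← Cfsg.Agent.Lib.Helper83.mem_charKer hθ]
  have h1 : y * x⁻¹ * y⁻¹ ∈ Cfsg.Agent.Lib.Helper83.charKer hθ :=
    (Cfsg.Agent.Lib.Helper83.charKer_normal hθ).conj_mem _ (inv_mem hxK) y
  have h2 : x * y * x⁻¹ * y⁻¹ = x * (y * x⁻¹ * y⁻¹) := by group
  rw [h2]
  exact mul_mem hxK h1

theorem apply_commutator_of_right {θ : G → ℂ} (hθ : IsCharacter G θ) (x : G) {y : G}
    (hy : θ y = θ 1) : θ (x * y * x⁻¹ * y⁻¹) = θ 1 := by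
  have hyK : y ∈ Cfsg.Agent.Lib.Helper83.charKer hθ :=
    (Cfsg.Agent.Lib.Helper83.mem_charKer hθ y).2 hy
  rw [← Cfsg.Agent.Lib.Helper83.mem_charKer hθ]
  have h1 : x * y * x⁻¹ ∈ Cfsg.Agent.Lib.Helper83.charKer hθ :=
    (Cfsg.Agent.Lib.Helper83.charKer_normal hθ).conj_mem _ hyK x
  exact mul_mem h1 (inv_mem hyK)

/-- The key step for one irreducible constituent. -/
theorem irr_commutator_mem_ker {ψ : G → ℂ} (hψ : IsIrrCharacter G ψ) (d : ℕ) (hd : ψ 1 = d)
    (p q : ℕ) (hp : p.Prime) (hq : q.Prime) (hdp : d + 1 < p) (hdq : d + 1 < q)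
    (H : ∀ x y : G, (∃ k, x ^ p ^ k = 1) → (∃ k, y ^ q ^ k = 1) → x * y = y * x →
      x ∈ Subgroup.center G ∨ y ∈ Subgroup.center G)
    (x y : G) (hx : ∃ k, x ^ p ^ k = 1) (hy : ∃ k, y ^ q ^ k = 1) :
    ψ (x * y * x⁻¹ * y⁻¹) = ψ 1 := by
  classical
  haveI : Fintype G := Fintype.ofFinite G
  have hG0 : Nat.card G ≠ 0 := Nat.card_pos.ne'
  have hψc : IsCharacter G ψ := Cfsg.Agent.Lib.Helper83.isCharacter_of_irr hψ
  have hdpos : 0 < d := by
    have h0 := Cfsg.Agent.Lib.Helper83.irr_degree_ne_zero (⟨ψ, hψ⟩ : IrrCharacter G)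
    rcases Nat.eq_zero_or_pos d with h | h
    · exfalso; apply h0; simp only; rw [hd, h]; simp
    · exact h
  set a := (Nat.card G).factorization p with ha
  set b := (Nat.card G).factorization q with hb
  set P := p ^ a with hP
  set Q := q ^ b with hQ
  set mp := Nat.card G / P with hmp
  set mq := Nat.card G / Q with hmq
  have hPm : P * mp = Nat.card G := Nat.ordProj_mul_ordCompl_eq_self (Nat.card G) p
  have hQm : Q * mq = Nat.card G := Nat.ordProj_mul_ordCompl_eq_self (Nat.card G) q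
  have hPc : P.Coprime mp := (Nat.coprime_ordCompl hp hG0).pow_left a
  have hQc : Q.Coprime mq := (Nat.coprime_ordCompl hq hG0).pow_left b
  have hcopP : Nat.Coprime d P :=
    (((Nat.Prime.coprime_iff_not_dvd hp).2
      (Nat.not_dvd_of_pos_of_lt hdpos (by omega))).symm).pow_right a
  have hcopQ : Nat.Coprime d Q :=
    (((Nat.Prime.coprime_iff_not_dvd hq).2
      (Nat.not_dvd_of_pos_of_lt hdpos (by omega))).symm).pow_right b
  have hNpos : 0 < P * Q := Nat.mul_pos (pow_pos hp.pos a) (pow_pos hq.pos b)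
  obtain ⟨κ, hκ⟩ := exists_twist hψ d (P * Q) hd hNpos (Nat.Coprime.mul_right hcopP hcopQ)
  set lam : G → ℂ := Cfsg.Agent.Lib.Helper20.homFun κ with hlam
  obtain ⟨hlamc, hlam1⟩ := Cfsg.Agent.Lib.Helper20.isCharacter_homFun κ
  set θ : G → ℂ := lam * ψ with hθ
  have hθirr : IsIrrCharacter G θ :=
    Cfsg.Agent.Lib.Helper83.isIrrCharacter_mul_linear hlamc hlam1 hψ
  have hθc : IsCharacter G θ := Cfsg.Agent.Lib.Helper83.isCharacter_of_irr hθirr
  have hθapp : ∀ g, θ g = ((κ g : ℂˣ) : ℂ) * ψ g := fun g => rfl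
  have hθ1 : θ 1 = d := by
    rw [hθapp, map_one, Units.val_one, one_mul, hd]
  have hkerP : ∀ z ∈ Subgroup.center G, z ^ P = 1 → ∀ h : G, θ (h * z) = θ h := by
    intro z hz hzP h
    rw [hθapp, hθapp]
    apply hκ z hz _ h
    rw [pow_mul, hzP, one_pow]
  have hkerQ : ∀ z ∈ Subgroup.center G, z ^ Q = 1 → ∀ h : G, θ (h * z) = θ h := by
    intro z hz hzQ h
    rw [hθapp, hθapp]
    apply hκ z hz _ h
    rw [mul_comm, pow_mul, hzQ, one_pow]
  have H' : ∀ (g : G) (u w : ℕ), (g ^ u) ^ P = 1 → (g ^ w) ^ Q = 1 →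
      g ^ u ∈ Subgroup.center G ∨ g ^ w ∈ Subgroup.center G := by
    intro g u w hu hw
    exact H (g ^ u) (g ^ w) ⟨a, hu⟩ ⟨b, hw⟩ ((Commute.refl g).pow_pow u w).eq
  -- the commutator is killed by `κ`
  have hκc : ((κ (x * y * x⁻¹ * y⁻¹) : ℂˣ) : ℂ) = 1 := by
    have : κ (x * y * x⁻¹ * y⁻¹) = 1 := by
      simp only [map_mul, map_inv]
      rw [mul_comm (κ x) (κ y), mul_assoc (κ y), mul_inv_cancel, mul_one, mul_inv_cancel]
    rw [this, Units.val_one]
  have hfin : θ (x * y * x⁻¹ * y⁻¹) = θ 1 → ψ (x * y * x⁻¹ * y⁻¹) = ψ 1 := by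
    intro h
    rw [hθapp, hκc, one_mul, hθ1] at h
    rw [h, hd]
  apply hfin
  rcases galois_dichotomy hθirr P mp Q mq hPm hQm hPc hQc hkerP hkerQ H' with hgal | hgal
  · have hinv := pElement_pow_invariant (θ := θ) p hp hgal
    obtain ⟨k, hk⟩ := hx
    have hxker : θ x = θ 1 := pElement_mem_ker hθc p hp d hθ1 hdp hinv k x hk
    exact apply_commutator_of_left hθc hxker y
  · have hinv := pElement_pow_invariant (θ := θ) q hq hgal
    obtain ⟨k, hk⟩ := hy
    have hyker : θ y = θ 1 := pElement_mem_ker hθc q hq d hθ1 hdq hinv k y hk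
    exact apply_commutator_of_right hθc x hyker

/-- **`p`-elements commute with `q`-elements** when `p ≠ q` are primes exceeding `n + 1`, `n` the
degree of a faithful character, unless some non-central `p`-element commutes with a non-central
`q`-element. -/
theorem commute_of_no_noncentral_pair {χ : G → ℂ} (hχ : IsCharacter G χ)
    (hfaith : ∀ g : G, χ g = χ 1 → g = 1) (n : ℕ) (hn : χ 1 = n)
    (p q : ℕ) (hp : p.Prime) (hq : q.Prime) (hnp : n + 1 < p) (hnq : n + 1 < q)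
    (H : ∀ x y : G, (∃ k, x ^ p ^ k = 1) → (∃ k, y ^ q ^ k = 1) → x * y = y * x →
      x ∈ Subgroup.center G ∨ y ∈ Subgroup.center G)
    (x y : G) (hx : ∃ k, x ^ p ^ k = 1) (hy : ∃ k, y ^ q ^ k = 1) : x * y = y * x := by
  classical
  haveI : Fintype G := Fintype.ofFinite G
  haveI : Finite (IrrCharacter G) := Cfsg.Agent.Lib.Helper05.finite_irrCharacter
  haveI : Fintype (IrrCharacter G) := Fintype.ofFinite _
  obtain ⟨m, hm⟩ := Cfsg.Agent.Lib.Helper05.exists_nat_coeff hχ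
  have happ : ∀ g, χ g = ∑ ψ : IrrCharacter G, (m ψ : ℂ) * (ψ : G → ℂ) g := by
    intro g
    rw [hm, Finset.sum_apply]
    rfl
  -- degrees
  have hdeg : ∀ ψ : IrrCharacter G, (ψ : G → ℂ) 1 = (charDegree (ψ : G → ℂ) : ℂ) := fun ψ =>
    (Cfsg.Agent.Lib.Helper83.charDegree_cast (Cfsg.Agent.Lib.Helper83.IrrCharacter_isCharacter ψ)).symm
  have hsumdeg : ∑ ψ : IrrCharacter G, m ψ * charDegree (ψ : G → ℂ) = n := by
    have h1 := happ 1
    rw [hn] at h1
    have h2 : ((∑ ψ : IrrCharacter G, m ψ * charDegree (ψ : G → ℂ) : ℕ) : ℂ) = (n : ℂ) := by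
      rw [h1]
      push_cast
      exact Finset.sum_congr rfl (fun ψ _ => by rw [hdeg ψ])
    exact_mod_cast h2
  have hle : ∀ ψ : IrrCharacter G, m ψ ≠ 0 → charDegree (ψ : G → ℂ) ≤ n := by
    intro ψ hψ
    have h1 : m ψ * charDegree (ψ : G → ℂ) ≤ ∑ ψ : IrrCharacter G, m ψ * charDegree (ψ : G → ℂ) :=
      Finset.single_le_sum (f := fun ψ : IrrCharacter G => m ψ * charDegree (ψ : G → ℂ))
        (fun _ _ => Nat.zero_le _) (Finset.mem_univ ψ)
    rw [hsumdeg] at h1
    calc charDegree (ψ : G → ℂ) = 1 * charDegree (ψ : G → ℂ) := (one_mul _).symm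
      _ ≤ m ψ * charDegree (ψ : G → ℂ) :=
        Nat.mul_le_mul_right _ (Nat.one_le_iff_ne_zero.2 hψ)
      _ ≤ n := h1
  have hkey : χ (x * y * x⁻¹ * y⁻¹) = χ 1 := by
    rw [happ, happ 1]
    apply Finset.sum_congr rfl
    intro ψ _
    by_cases hψ : m ψ = 0
    · rw [hψ]; simp
    · have hd := hle ψ hψ
      rw [irr_commutator_mem_ker ψ.2 (charDegree (ψ : G → ℂ)) (hdeg ψ) p q hp hq
        (by omega) (by omega) H x y hx hy]
  have h1 := hfaith _ hkey
  have h2 : x * y = (x * y * x⁻¹ * y⁻¹) * (y * x) := by group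
  rw [h2, h1, one_mul]

end Cfsg.Agent.Lib.Helper80.Blich
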