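import Mathlib
import Cfsg.Agent.Lib.Helper80.BlichD
import Cfsg.Agent.Lib.Helper31.K65A
import Cfsg.Agent.Lib.Helper83.Decompose
import Cfsg.Agent.Lib.Helper82.CharSchur

/-!
# Blichfeldt's theorem (helper80): abelian Hall subgroups for the primes `> n + 1`

A finite group with a faithful character of degree `n` has an abelian Hall `π`-subgroup, `π` the
set of primes exceeding `n + 1`.
-/

set_option autoImplicit false
set_option linter.style.haveILetI false

namespace Cfsg.Agent.Lib.Helper80.Blich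

open Cfsg

universe u

variable {G : Type u} [Group G] [Finite G]

/-- If every irreducible character of degree `≤ χ(1)` takes the value of its degree at `g`,
then so does `χ`. -/
theorem apply_eq_of_constituents {χ : G → ℂ} (hχ : IsCharacter G χ) (n : ℕ) (hn : χ 1 = n)
    (g : G)
    (h : ∀ ψ : IrrCharacter G, charDegree (ψ : G → ℂ) ≤ n → (ψ : G → ℂ) g = (ψ : G → ℂ) 1) :
    χ g = χ 1 := by
  classical
  haveI : Fintype G := Fintype.ofFinite G
  haveI : Finite (IrrCharacter G) := Cfsg.Agent.Lib.Helper05.finite_irrCharacter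
  haveI : Fintype (IrrCharacter G) := Fintype.ofFinite _
  obtain ⟨m, hm⟩ := Cfsg.Agent.Lib.Helper05.exists_nat_coeff hχ
  have happ : ∀ g, χ g = ∑ ψ : IrrCharacter G, (m ψ : ℂ) * (ψ : G → ℂ) g := by
    intro g
    rw [hm, Finset.sum_apply]
    rfl
  have hdeg : ∀ ψ : IrrCharacter G, (ψ : G → ℂ) 1 = (charDegree (ψ : G → ℂ) : ℂ) := fun ψ =>
    (Cfsg.Agent.Lib.Helper83.charDegree_cast
      (Cfsg.Agent.Lib.Helper83.IrrCharacter_isCharacter ψ)).symm
  have hsumdeg : ∑ ψ : IrrCharacter G, m ψ * charDegree (ψ : G → ℂ) = n := by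
    have h1 := happ 1
    rw [hn] at h1
    have h2 : ((∑ ψ : IrrCharacter G, m ψ * charDegree (ψ : G → ℂ) : ℕ) : ℂ) = (n : ℂ) := by
      rw [h1]
      push_cast
      exact Finset.sum_congr rfl (fun ψ _ => by rw [hdeg ψ])
    exact_mod_cast h2
  have hle : ∀ ψ : IrrCharacter G, m ψ ≠ 0 → charDegree (ψ : G → ℂ) ≤ n := by
    intro ψ hψ
    have h1 : m ψ * charDegree (ψ : G → ℂ) ≤ ∑ ψ : IrrCharacter G, m ψ * charDegree (ψ : G → ℂ) :=
      Finset.single_le_sum (f := fun ψ : IrrCharacter G => m ψ * charDegree (ψ : G → ℂ))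
        (fun _ _ => Nat.zero_le _) (Finset.mem_univ ψ)
    rw [hsumdeg] at h1
    calc charDegree (ψ : G → ℂ) = 1 * charDegree (ψ : G → ℂ) := (one_mul _).symm
      _ ≤ m ψ * charDegree (ψ : G → ℂ) :=
        Nat.mul_le_mul_right _ (Nat.one_le_iff_ne_zero.2 hψ)
      _ ≤ n := h1
  rw [happ, happ 1]
  apply Finset.sum_congr rfl
  intro ψ _
  by_cases hψ : m ψ = 0
  · rw [hψ]; simp
  · rw [h ψ (hle ψ hψ)]

/-- In a group with a faithful character of degree `n`, every `r`-subgroup with `r > n` prime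
is abelian. -/
theorem pGroup_comm_of_faithful {χ : G → ℂ} (hχ : IsCharacter G χ)
    (hfaith : ∀ g : G, χ g = χ 1 → g = 1) (n : ℕ) (hn : χ 1 = n) (r : ℕ) (hr : r.Prime)
    (hnr : n < r) (P : Subgroup G) (hP : IsPGroup r P) :
    ∀ x ∈ P, ∀ y ∈ P, x * y = y * x := by
  intro x hx y hy
  have hχP : IsCharacter P (fun h : P => χ (h : G)) :=
    Cfsg.Agent.Lib.Helper83.isCharacter_restrict P hχ
  haveI : Fact r.Prime := ⟨hr⟩
  obtain ⟨k, hk⟩ := IsPGroup.exists_card_eq hP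
  have hkey : (fun h : P => χ (h : G)) (⟨x, hx⟩ * ⟨y, hy⟩ * ⟨x, hx⟩⁻¹ * ⟨y, hy⟩⁻¹) =
      (fun h : P => χ (h : G)) 1 := by
    apply apply_eq_of_constituents hχP n (by simpa using hn)
    intro ψ hψ
    have hψc := Cfsg.Agent.Lib.Helper83.IrrCharacter_isCharacter ψ
    have hdvd : charDegree (ψ : P → ℂ) ∣ Nat.card P :=
      Cfsg.Agent.Lib.Helper83.irr_charDegree_dvd_card ψ
    rw [hk] at hdvd
    obtain ⟨i, -, hi⟩ := (Nat.dvd_prime_pow hr).1 hdvd
    have hi0 : i = 0 := by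
      by_contra h0
      have : r ≤ r ^ i := Nat.le_self_pow h0 r
      omega
    have h1 : (ψ : P → ℂ) 1 = 1 := by
      rw [← Cfsg.Agent.Lib.Helper83.charDegree_cast hψc, hi, hi0]
      simp
    have hmul := Cfsg.Agent.Lib.Helper83.char_deg_one_mul hψc h1
    have hne : ∀ g : P, (ψ : P → ℂ) g * (ψ : P → ℂ) g⁻¹ = 1 := by
      intro g
      rw [← hmul, mul_inv_cancel, h1]
    rw [hmul, hmul, hmul, h1]
    have hx' := hne ⟨x, hx⟩
    have hy' := hne ⟨y, hy⟩
    calc (ψ : P → ℂ) ⟨x, hx⟩ * (ψ : P → ℂ) ⟨y, hy⟩ * (ψ : P → ℂ) ⟨x, hx⟩⁻¹ * (ψ : P → ℂ) ⟨y, hy⟩⁻¹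
        = ((ψ : P → ℂ) ⟨x, hx⟩ * (ψ : P → ℂ) ⟨x, hx⟩⁻¹) *
          ((ψ : P → ℂ) ⟨y, hy⟩ * (ψ : P → ℂ) ⟨y, hy⟩⁻¹) := by ring
      _ = 1 := by rw [hx', hy', one_mul]
  have h1 : x * y * x⁻¹ * y⁻¹ = 1 := by
    apply hfaith
    simpa using hkey
  have h2 : x * y = (x * y * x⁻¹ * y⁻¹) * (y * x) := by group
  rw [h2, h1, one_mul]

/-- **Blichfeldt.**  A finite group with a faithful character of degree `n` has an abelian
Hall subgroup for the set of primes exceeding `n + 1`. -/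
theorem exists_abelian_hall {χ : G → ℂ} (hχ : IsCharacter G χ)
    (hfaith : ∀ g : G, χ g = χ 1 → g = 1) (n : ℕ) (hn : χ 1 = n) :
    ∃ A : Subgroup G, (∀ x ∈ A, ∀ y ∈ A, x * y = y * x) ∧
      (∀ q : ℕ, q.Prime → q ∣ Nat.card A → n + 1 < q) ∧
      ∀ q : ℕ, q.Prime → q ∣ A.index → q ≤ n + 1 := by
  apply Cfsg.Agent.Lib.Helper31.K65A.exists_abelian_hall_of_local n
  · intro r hr hnr P hP
    exact pGroup_comm_of_faithful hχ hfaith n hn r hr (by omega) P hP
  · intro K p q hp hq _ hnp hnq Hloc x hxK y hyK hxp hyq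
    have hχK : IsCharacter K (fun h : K => χ (h : G)) :=
      Cfsg.Agent.Lib.Helper83.isCharacter_restrict K hχ
    have hfK : ∀ g : K, (fun h : K => χ (h : G)) g = (fun h : K => χ (h : G)) 1 → g = 1 := by
      intro g hg
      apply Subtype.ext
      exact hfaith _ (by simpa using hg)
    have hcoe : ∀ (r : ℕ) (z : K), (∃ k, z ^ r ^ k = 1) ↔ ∃ k, (z : G) ^ r ^ k = 1 := by
      intro r z
      constructor
      · rintro ⟨k, hk⟩
        exact ⟨k, by rw [← Subgroup.coe_pow, hk, Subgroup.coe_one]⟩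
      · rintro ⟨k, hk⟩
        exact ⟨k, Subtype.ext (by rw [Subgroup.coe_pow, hk, Subgroup.coe_one])⟩
    have HK : ∀ a b : K, (∃ k, a ^ p ^ k = 1) → (∃ k, b ^ q ^ k = 1) → a * b = b * a →
        a ∈ Subgroup.center K ∨ b ∈ Subgroup.center K := by
      intro a b ha hb hab
      have hab' : (a : G) * (b : G) = (b : G) * (a : G) := by
        rw [← Subgroup.coe_mul, hab, Subgroup.coe_mul]
      rcases Hloc a a.2 b b.2 ((hcoe p a).1 ha) ((hcoe q b).1 hb) hab' with h | h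
      · left
        rw [Subgroup.mem_center_iff]
        intro g
        exact Subtype.ext (by simpa using (h g g.2).symm)
      · right
        rw [Subgroup.mem_center_iff]
        intro g
        exact Subtype.ext (by simpa using (h g g.2).symm)
    have := commute_of_no_noncentral_pair hχK hfK n (by simpa using hn) p q hp hq hnp hnq HK
      ⟨x, hxK⟩ ⟨y, hyK⟩ ((hcoe p ⟨x, hxK⟩).2 hxp) ((hcoe q ⟨y, hyK⟩).2 hyq)
    simpa using congrArg Subtype.val this

end Cfsg.Agent.Lib.Helper80.Blich
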