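import Mathlib
import Cfsg.Prelude.Def_GeometricClasses

/-!
# K-OPlus10-X10 (keystone 584708, S5847 pack of helper43): in characteristic 2 a self-adjoint quadratic
field subalgebra for the polar form of a non-degenerate quadratic form forces `4 ∣ n`.
-/

set_option autoImplicit false
set_option linter.style.haveILetI false
set_option linter.unusedSectionVars false

namespace Cfsg.Agent.Lib.Helper80.OPlus10

open Cfsg Cfsg.Geo Module LinearMap

universe u v

section abstract

variable {F : Type u} [Field F] [CharP F 2]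

/-- the Gram computation on `x, θ x, y, θ y`. -/
lemma coeff_zero {V : Type v} [AddCommGroup V] [Module F V] (B : LinearMap.BilinForm F V)
    (hA : B.IsAlt) (θ : V →ₗ[F] V) (hsa : ∀ x y, B (θ x) y = B x (θ y)) (a b : F)
    (hθ : ∀ x, θ (θ x) = a • θ x + b • x) (hψ : ∀ x, B (θ x) x = 0)
    (hirr : ∀ s : F, s * s + a * s + b ≠ 0) (x y : V) (hxy : B x y = 1) (c0 c1 c2 c3 : F)
    (h0 : B x (c0 • x + c1 • θ x + c2 • y + c3 • θ y) = 0)
    (h1 : B (θ x) (c0 • x + c1 • θ x + c2 • y + c3 • θ y) = 0)
    (h2 : B y (c0 • x + c1 • θ x + c2 • y + c3 • θ y) = 0)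
    (h3 : B (θ y) (c0 • x + c1 • θ x + c2 • y + c3 • θ y) = 0) :
    c0 = 0 ∧ c1 = 0 ∧ c2 = 0 ∧ c3 = 0 := by
  have hsymm : ∀ u v, B u v = B v u := by
    intro u v
    rw [← hA.neg_eq u v, CharTwo.neg_eq]
  set s := B (θ x) y with hs
  have e1 : B x (θ x) = 0 := by rw [hsymm]; exact hψ x
  have e2 : B x (θ y) = s := (hsa x y).symm
  have e3 : B (θ x) (θ y) = a * s + b := by
    rw [← hsa (θ x) y, hθ x, map_add, map_smul, map_smul, LinearMap.add_apply,
      LinearMap.smul_apply, LinearMap.smul_apply, smul_eq_mul, smul_eq_mul, hxy, mul_one]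
  have e4 : B y x = 1 := by rw [hsymm]; exact hxy
  have e5 : B y (θ x) = s := hsymm _ _
  have e6 : B y (θ y) = 0 := by rw [hsymm]; exact hψ y
  have e7 : B (θ y) x = s := by rw [hsymm]; exact e2
  have e8 : B (θ y) (θ x) = a * s + b := by rw [hsymm]; exact e3
  simp only [map_add, map_smul, smul_eq_mul, hA.self_eq_zero, e1, e2, hxy, mul_zero, zero_add,
    mul_one] at h0
  simp only [map_add, map_smul, smul_eq_mul, hA.self_eq_zero, hψ x, e3, ← hs, mul_zero, zero_add]
    at h1
  simp only [map_add, map_smul, smul_eq_mul, hA.self_eq_zero, e4, e5, e6, mul_zero, add_zero,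
    mul_one] at h2
  simp only [map_add, map_smul, smul_eq_mul, hA.self_eq_zero, e7, e8, hψ y, mul_zero, add_zero]
    at h3
  have k23 : c2 = c3 * s := CharTwo.add_eq_zero.mp h0
  have k01 : c0 = c1 * s := CharTwo.add_eq_zero.mp h2
  have hc3 : c3 = 0 := by
    have : c3 * (s * s + a * s + b) = 0 := by
      rw [k23] at h1
      rw [← h1]; ring
    rcases mul_eq_zero.mp this with h | h
    · exact h
    · exact absurd h (hirr s)
  have hc1 : c1 = 0 := by
    have : c1 * (s * s + a * s + b) = 0 := by
      rw [k01] at h3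
      rw [← h3]; ring
    rcases mul_eq_zero.mp this with h | h
    · exact h
    · exact absurd h (hirr s)
  refine ⟨by rw [k01, hc1, zero_mul], hc1, by rw [k23, hc3, zero_mul], hc3⟩

/-- the induction: `4 ∣ dim V`. -/
theorem four_dvd_finrank_aux (a b : F) (hirr : ∀ s : F, s * s + a * s + b ≠ 0) :
    ∀ (N : ℕ) (V : Type v) [AddCommGroup V] [Module F V] [FiniteDimensional F V]
      (B : LinearMap.BilinForm F V) (θ : V →ₗ[F] V), B.IsAlt → B.Nondegenerate →
      (∀ x y, B (θ x) y = B x (θ y)) → (∀ x, θ (θ x) = a • θ x + b • x) →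
      (∀ x, B (θ x) x = 0) → finrank F V = N → 4 ∣ N := by
  intro N
  induction N using Nat.strong_induction_on with
  | _ N ih =>
    intro V _ _ _ B θ hA hN hsa hθ hψ hfr
    by_cases h0 : N = 0
    · subst h0; exact dvd_zero 4
    have hpos : 0 < finrank F V := by omega
    have : Nontrivial V := Module.finrank_pos_iff.1 hpos
    obtain ⟨x, hx⟩ := exists_ne (0 : V)
    have hex : ∃ y, B x y ≠ 0 := by
      by_contra hcon
      push Not at hcon
      exact hx (hN.1 x hcon)
    obtain ⟨y0, hy0⟩ := hex
    set y : V := (B x y0)⁻¹ • y0 with hy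
    have hxy : B x y = 1 := by
      rw [hy, map_smul, smul_eq_mul, inv_mul_cancel₀ hy0]
    have hrefl : B.IsRefl := hA.isRefl
    set e : Fin 4 → V := ![x, θ x, y, θ y] with he
    set P : Submodule F V := Submodule.span F (Set.range e) with hP
    have hsumform : ∀ c : Fin 4 → F, ∑ i, c i • e i =
        c 0 • x + c 1 • θ x + c 2 • y + c 3 • θ y := by
      intro c
      rw [Fin.sum_univ_four]
      rfl
    have hxP : x ∈ P := Submodule.subset_span ⟨0, rfl⟩
    have hθxP : θ x ∈ P := Submodule.subset_span ⟨1, rfl⟩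
    have hyP : y ∈ P := Submodule.subset_span ⟨2, rfl⟩
    have hθyP : θ y ∈ P := Submodule.subset_span ⟨3, rfl⟩
    -- `P` meets its orthogonal trivially
    have hdisj : Disjoint P (B.orthogonal P) := by
      rw [Submodule.disjoint_def]
      intro z hzP hzO
      rw [LinearMap.BilinForm.mem_orthogonal_iff] at hzO
      obtain ⟨c, rfl⟩ := (Submodule.mem_span_range_iff_exists_fun F).1 hzP
      rw [hsumform] at hzO ⊢
      obtain ⟨k0, k1, k2, k3⟩ := coeff_zero B hA θ hsa a b hθ hψ hirr x y hxy (c 0) (c 1) (c 2) (c 3)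
        (hzO x hxP) (hzO (θ x) hθxP) (hzO y hyP) (hzO (θ y) hθyP)
      rw [k0, k1, k2, k3]
      simp
    have hnd : (B.restrict P).Nondegenerate :=
      B.nondegenerate_restrict_of_disjoint_orthogonal hrefl hdisj
    have hcompl : IsCompl P (B.orthogonal P) :=
      LinearMap.BilinForm.isCompl_orthogonal_of_restrict_nondegenerate hrefl hnd
    have hsum : finrank F P + finrank F (B.orthogonal P) = finrank F V :=
      Submodule.finrank_add_eq_of_isCompl hcompl
    -- `P` has dimension four
    have hli : LinearIndependent F e := by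
      rw [Fintype.linearIndependent_iff]
      intro c hc
      rw [hsumform] at hc
      have hz : ∀ w : V, B w (c 0 • x + c 1 • θ x + c 2 • y + c 3 • θ y) = 0 := by
        intro w
        rw [hc, map_zero]
      obtain ⟨k0, k1, k2, k3⟩ := coeff_zero B hA θ hsa a b hθ hψ hirr x y hxy (c 0) (c 1) (c 2) (c 3)
        (hz x) (hz (θ x)) (hz y) (hz (θ y))
      intro i
      fin_cases i
      · exact k0
      · exact k1
      · exact k2
      · exact k3
    have hP4 : finrank F P = 4 := by
      have h4 := finrank_span_eq_card hli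
      rw [Fintype.card_fin] at h4
      exact h4
    -- `P` is `θ`-stable
    have hθP : ∀ w ∈ P, θ w ∈ P := by
      have : P ≤ P.comap θ := by
        rw [hP, Submodule.span_le]
        rintro _ ⟨i, rfl⟩
        rw [SetLike.mem_coe, Submodule.mem_comap]
        fin_cases i
        · exact hθxP
        · show θ (θ x) ∈ P
          rw [hθ x]
          exact P.add_mem (P.smul_mem _ hθxP) (P.smul_mem _ hxP)
        · exact hθyP
        · show θ (θ y) ∈ P
          rw [hθ y]
          exact P.add_mem (P.smul_mem _ hθyP) (P.smul_mem _ hyP)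
      exact fun w hw => this hw
    -- so is its orthogonal
    have hθO : ∀ z ∈ B.orthogonal P, θ z ∈ B.orthogonal P := by
      intro z hz
      rw [LinearMap.BilinForm.mem_orthogonal_iff] at hz ⊢
      intro w hw
      show B w (θ z) = 0
      rw [← hsa w z]
      exact hz (θ w) (hθP w hw)
    -- the orthogonal complement carries the same structure
    have hdisj' : Disjoint (B.orthogonal P) (B.orthogonal (B.orthogonal P)) := by
      rw [LinearMap.BilinForm.orthogonal_orthogonal hN hrefl]
      exact hcompl.symm.disjoint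
    have hnd' : (B.restrict (B.orthogonal P)).Nondegenerate :=
      B.nondegenerate_restrict_of_disjoint_orthogonal hrefl hdisj'
    have hA' : (B.restrict (B.orthogonal P)).IsAlt := fun z => hA.self_eq_zero (z : V)
    set θ' : ↥(B.orthogonal P) →ₗ[F] ↥(B.orthogonal P) := θ.restrict hθO with hθ'
    have hθ'coe : ∀ z : ↥(B.orthogonal P), ((θ' z : ↥(B.orthogonal P)) : V) = θ (z : V) :=
      fun z => rfl
    have hlt : finrank F (B.orthogonal P) < N := by omega
    have h4 := ih _ hlt (B.orthogonal P) (B.restrict (B.orthogonal P)) θ' hA' hnd'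
      (fun z w => by
        show B ((θ' z : ↥(B.orthogonal P)) : V) (w : V) = B (z : V) ((θ' w : ↥(B.orthogonal P)) : V)
        rw [hθ'coe, hθ'coe]
        exact hsa _ _)
      (fun z => by
        apply Subtype.ext
        rw [hθ'coe, hθ'coe]
        simp only [Submodule.coe_add, Submodule.coe_smul, hθ'coe]
        exact hθ (z : V))
      (fun z => by
        show B ((θ' z : ↥(B.orthogonal P)) : V) (z : V) = 0
        rw [hθ'coe]
        exact hψ _)
      rfl
    have : N = finrank F (B.orthogonal P) + 4 := by omega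
    rw [this]
    exact Dvd.dvd.add h4 (dvd_refl 4)

end abstract

section main

variable {F : Type*} [Field F] [Fintype F] {n : ℕ}

/-- **K-OPlus10-X10** (584708). -/
theorem four_dvd_of_selfAdjoint_quadratic_char_two (h2 : (2 : F) = 0) (Q : (Fin n → F) → F)
    (hQ : IsNondegenerateQuadraticForm Q) (E : Subalgebra F (Matrix (Fin n) (Fin n) F))
    (hE : IsFieldSubalgebra 2 E) (hsa : IsSelfAdjointFor (QuadraticMap.polar Q) E) : 4 ∣ n := by
  haveI : CharP F 2 := CharTwo.of_one_ne_zero_of_two_eq_zero one_ne_zero h2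
  have hb := hQ.polar_bilinear
  -- the polar form as a bilinear form
  let B : LinearMap.BilinForm F (Fin n → F) :=
    LinearMap.mk₂ F (fun w₁ w₂ : Fin n → F => QuadraticMap.polar Q w₁ w₂)
      (fun x y v => hb.add_left x y v) (fun c x v => hb.smul_left c x v)
      (fun v x y => hb.add_right v x y) (fun c v x => hb.smul_right c v x)
  have hB : ∀ w₁ w₂ : Fin n → F, B w₁ w₂ = QuadraticMap.polar Q w₁ w₂ := fun _ _ => rfl
  have hQ0 : Q 0 = 0 := by
    have := hQ.smul 0 0
    rw [zero_smul, zero_pow two_ne_zero, zero_mul] at this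
    exact this
  have hAlt : B.IsAlt := by
    intro w
    rw [hB]
    unfold QuadraticMap.polar
    have hww : w + w = 0 := by
      funext i
      exact CharTwo.add_self_eq_zero _
    rw [hww, hQ0, zero_sub, sub_eq_add_neg, ← neg_add, CharTwo.add_self_eq_zero, neg_zero]
  have hN : B.Nondegenerate := by
    refine ⟨fun x hx => ?_, fun y hy => ?_⟩
    · by_contra hx0
      obtain ⟨y, hy⟩ := (hQ.nondegenerate x hx0).2
      exact hy (hx y)
    · by_contra hy0
      obtain ⟨x, hx⟩ := (hQ.nondegenerate y hy0).1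
      exact hx (hy x)
  have hsymm : ∀ u v, B u v = B v u := by
    intro u v
    rw [← hAlt.neg_eq u v, CharTwo.neg_eq]
  -- a non-scalar element of `E`
  have hex : ∃ Θ : ↥E, Θ ∉ Submodule.span F ({1} : Set ↥E) := by
    by_contra hcon
    push Not at hcon
    have htop : Submodule.span F ({1} : Set ↥E) = ⊤ := by
      rw [eq_top_iff]
      intro Θ _
      exact hcon Θ
    have h1 : finrank F ↥(Submodule.span F ({1} : Set ↥E)) ≤ 1 := by
      simpa using finrank_span_le_card (R := F) ({1} : Set ↥E)
    rw [htop, finrank_top, hE.finrank_eq] at h1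
    omega
  obtain ⟨Θ, hΘ⟩ := hex
  have hΘs : ∀ c : F, c • (1 : ↥E) ≠ Θ := by
    intro c hc
    apply hΘ
    rw [← hc]
    exact Submodule.smul_mem _ _ (Submodule.subset_span rfl)
  have hE1 : (1 : ↥E) ≠ 0 := by
    intro h
    apply hΘs 0
    rw [zero_smul]
    have : Θ = Θ * 1 := (mul_one Θ).symm
    rw [this, h, mul_zero]
  have hli : LinearIndependent F ![(1 : ↥E), Θ] :=
    (LinearIndependent.pair_iff' hE1).mpr hΘs
  have hspan : Submodule.span F (Set.range ![(1 : ↥E), Θ]) = ⊤ :=
    hli.span_eq_top_of_card_eq_finrank' (by rw [Fintype.card_fin, hE.finrank_eq])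
  have hmem : Θ * Θ ∈ Submodule.span F (Set.range ![(1 : ↥E), Θ]) := by
    rw [hspan]; exact Submodule.mem_top
  obtain ⟨c, hc⟩ := (Submodule.mem_span_range_iff_exists_fun F).1 hmem
  rw [Fin.sum_univ_two] at hc
  set b := c 0 with hb0
  set a := c 1 with ha1
  have hrel : Θ * Θ = a • Θ + b • 1 := by
    rw [← hc, add_comm]
    rfl
  -- the matrix identities
  have hrelM : (Θ : Matrix (Fin n) (Fin n) F) * (Θ : Matrix (Fin n) (Fin n) F) =
      a • (Θ : Matrix (Fin n) (Fin n) F) + b • (1 : Matrix (Fin n) (Fin n) F) := by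
    have := congrArg (Subtype.val : ↥E → Matrix (Fin n) (Fin n) F) hrel
    simpa using this
  -- no roots
  have hirr : ∀ s : F, s * s + a * s + b ≠ 0 := by
    intro s hs
    set u : ↥E := Θ + s • 1 with hu
    set w : ↥E := Θ + (s + a) • 1 with hw
    have hu0 : u ≠ 0 := by
      intro h
      apply hΘs (-s)
      rw [neg_smul]
      exact (eq_neg_of_add_eq_zero_left h).symm
    have hw0 : w ≠ 0 := by
      intro h
      apply hΘs (-(s + a))
      rw [neg_smul]
      exact (eq_neg_of_add_eq_zero_left h).symm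
    have huw : u * w = 0 := by
      have e : u * w = (a + (s + a) + s) • Θ + (b + s * (s + a)) • (1 : ↥E) := by
        rw [hu, hw, add_mul, mul_add, mul_add, hrel]
        simp only [smul_mul_assoc, mul_smul_comm, one_mul, mul_one, smul_smul]
        module
      have e2 : a + (s + a) + s = 0 := by
        have : a + (s + a) + s = 2 * a + 2 * s := by ring
        rw [this, h2, zero_mul, zero_mul, add_zero]
      have e3 : b + s * (s + a) = 0 := by
        rw [← hs]; ring
      rw [e, e2, e3, zero_smul, zero_smul, add_zero]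
    have hu0' : (u : Matrix (Fin n) (Fin n) F) ≠ 0 := fun h => hu0 (Subtype.ext h)
    obtain ⟨u', hu'E, hu'⟩ := hE.inv (u : Matrix (Fin n) (Fin n) F) u.2 hu0'
    have huwM : (u : Matrix (Fin n) (Fin n) F) * (w : Matrix (Fin n) (Fin n) F) = 0 := by
      have := congrArg (Subtype.val : ↥E → Matrix (Fin n) (Fin n) F) huw
      simpa using this
    have hu'u : u' * (u : Matrix (Fin n) (Fin n) F) = 1 := by
      rw [hE.comm u' hu'E _ u.2]; exact hu'
    have : (w : Matrix (Fin n) (Fin n) F) = 0 := by
      calc (w : Matrix (Fin n) (Fin n) F) = (u' * (u : Matrix (Fin n) (Fin n) F)) * w := by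
            rw [hu'u, one_mul]
        _ = u' * ((u : Matrix (Fin n) (Fin n) F) * w) := by rw [mul_assoc]
        _ = 0 := by rw [huwM, mul_zero]
    exact hw0 (Subtype.ext this)
  have hb0' : b ≠ 0 := by
    have := hirr 0
    simpa using this
  have ha0 : a ≠ 0 := by
    intro ha
    obtain ⟨s, hs⟩ := FiniteField.isSquare_of_char_two (ringChar.eq F 2) b
    apply hirr s
    rw [ha, zero_mul, add_zero, ← hs, CharTwo.add_self_eq_zero]
  -- the linear map
  set θ : (Fin n → F) →ₗ[F] (Fin n → F) := Matrix.mulVecLin (Θ : Matrix (Fin n) (Fin n) F) with hθdef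
  have hθapp : ∀ x, θ x = (Θ : Matrix (Fin n) (Fin n) F).mulVec x := fun x => rfl
  have hsa' : ∀ x y, B (θ x) y = B x (θ y) := by
    intro x y
    rw [hB, hB, hθapp, hθapp]
    exact hsa _ Θ.2 x y
  have hθθ : ∀ x, θ (θ x) = a • θ x + b • x := by
    intro x
    rw [hθapp, hθapp, Matrix.mulVec_mulVec, hrelM, Matrix.add_mulVec, Matrix.smul_mulVec,
      Matrix.smul_mulVec, Matrix.one_mulVec]
  -- `ψ = 0`
  have hψ : ∀ x, B (θ x) x = 0 := by
    intro x
    set p := B (θ x) x with hp
    have k1 : B (θ (θ x)) (θ x) = b * p := by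
      rw [hθθ x, map_add, map_smul, map_smul, LinearMap.add_apply, LinearMap.smul_apply,
        LinearMap.smul_apply, hAlt.self_eq_zero, smul_zero, zero_add, smul_eq_mul, hsymm x (θ x)]
    have k2 : B (θ (θ (θ x))) (θ (θ x)) = b * (b * p) := by
      have := hθθ (θ x)
      rw [this, map_add, map_smul, map_smul, LinearMap.add_apply, LinearMap.smul_apply,
        LinearMap.smul_apply, hAlt.self_eq_zero, smul_zero, zero_add, smul_eq_mul,
        hsymm (θ x) (θ (θ x)), k1]
    have k3 : B (θ (θ x)) x = 0 := by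
      rw [hsa' (θ x) x]
      exact hAlt.self_eq_zero _
    have k4 : B (θ (θ (θ x))) (θ (θ x)) = a * a * (b * p) + b * b * p := by
      have e1 : θ (θ (θ x)) = a • θ (θ x) + b • θ x := hθθ (θ x)
      rw [e1]
      nth_rewrite 2 [hθθ x]
      simp only [map_add, map_smul, LinearMap.add_apply, LinearMap.smul_apply, smul_eq_mul,
        hAlt.self_eq_zero, k1, k3, mul_zero, add_zero, zero_add]
      rw [← hp]
      ring
    have k5 : a * a * (b * p) = 0 := by
      have := k2.symm.trans k4
      have h' : a * a * (b * p) + b * b * p = b * b * p + 0 := by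
        rw [add_zero, ← this]; ring
      rw [add_comm] at h'
      exact add_left_cancel h'
    rcases mul_eq_zero.mp k5 with h | h
    · exact absurd (mul_self_eq_zero.mp h) ha0
    · rcases mul_eq_zero.mp h with h | h
      · exact absurd h hb0'
      · exact h
  have := four_dvd_finrank_aux a b hirr (finrank F (Fin n → F)) (Fin n → F) B θ hAlt hN hsa' hθθ hψ rfl
  rwa [Module.finrank_fintype_fun_eq_card, Fintype.card_fin] at this

end main

end Cfsg.Agent.Lib.Helper80.OPlus10
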