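import Mathlib
import Cfsg.Prelude.Def_GeometricClasses
import Cfsg.Agent.Lib.Helper61.AschDefs
import Cfsg.Agent.Lib.Helper43.SpAschDefs
import Cfsg.Agent.Lib.Helper43.SpAschDefs2

/-!
# K-SpAsch-S4dt: transport of a coordinate quadratic form to `V`
-/

set_option autoImplicit false

namespace Cfsg.Agent.Lib.Helper80.SpAsch

open Cfsg Cfsg.Geo Cfsg.Agent.Lib.Helper61.Asch Cfsg.Agent.Lib.Helper43.SpAsch
open scoped Matrix Kronecker MatrixGroups

variable {F : Type*} [Field F] [Fintype F] {n : ℕ}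

local notation "V" => (Fin n → F)
local notation "Mat" => Matrix (Fin n) (Fin n) F
local notation "Z" => scalars (Fin n) F

/-- **K-SpAsch-S4dt**. Transport a coordinate quadratic form to `V`:
`Q' v := Q (fun p => (P⁻¹ *ᵥ v) (e.symm p))`. -/
theorem quadFor_of_coord_quad {f : V → V → F} (hf : IsSymplecticForm f) (K : Subgroup (GL (Fin n) F)) (a b : ℕ)
    (e : Fin n ≃ Fin a × Fin b) (P : GL (Fin n) F) (G₁ : Matrix (Fin a) (Fin a) F)
    (G₂ : Matrix (Fin b) (Fin b) F) (hform : IsKronForm f a b e P G₁ G₂)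
    (hfac : ∀ k ∈ K, KronSim a b e P G₁ G₂ k) (Q : (Fin a × Fin b → F) → F)
    (hQ1 : ∀ (c : F) x, Q (c • x) = c ^ 2 * Q x)
    (hQ2 : ∀ x y, Q (x + y) - Q x - Q y = formOfGram id (G₁ ⊗ₖ G₂) x y)
    (hQ3 : ∀ (k₁ : Matrix (Fin a) (Fin a) F) (k₂ : Matrix (Fin b) (Fin b) F) (c₁ c₂ : F),
        k₁ᵀ * G₁ * k₁ = c₁ • G₁ → k₂ᵀ * G₂ * k₂ = c₂ • G₂ → ∀ x, Q ((k₁ ⊗ₖ k₂) *ᵥ x) = c₁ * c₂ * Q x) :
    QuadFor f K := by
  classical
  -- coordinates
  let T : V → (Fin a × Fin b → F) := fun v p => (((P⁻¹ : GL (Fin n) F) : Mat) *ᵥ v) (e.symm p)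
  have hTdef : ∀ v, T v = (((P⁻¹ : GL (Fin n) F) : Mat) *ᵥ v) ∘ e.symm := fun _ => rfl
  have hTadd : ∀ u v, T (u + v) = T u + T v := by
    intro u v
    funext p
    simp only [T, Matrix.mulVec_add, Pi.add_apply]
  have hTsmul : ∀ (c : F) v, T (c • v) = c • T v := by
    intro c v
    funext p
    simp only [T, Matrix.mulVec_smul, Pi.smul_apply]
  have hTe : ∀ v, (T v) ∘ e = ((P⁻¹ : GL (Fin n) F) : Mat) *ᵥ v := by
    intro v
    funext i
    simp [T]
  have hPT : ∀ v, (P : Mat) *ᵥ ((T v) ∘ e) = v := by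
    intro v
    rw [hTe, Matrix.mulVec_mulVec, ← Units.val_mul, mul_inv_cancel, Units.val_one, Matrix.one_mulVec]
  have hfT : ∀ u v, f u v = formOfGram id (G₁ ⊗ₖ G₂) (T u) (T v) := by
    intro u v
    rw [← hform (T u) (T v), hPT, hPT]
  let Q' : V → F := fun v => Q (T v)
  have hQ'def : ∀ v, Q' v = Q (T v) := fun _ => rfl
  have hpol : ∀ u v, QuadraticMap.polar Q' u v = f u v := by
    intro u v
    simp only [QuadraticMap.polar, hQ'def]
    rw [hTadd, hQ2, hfT]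
  have hpolf : QuadraticMap.polar Q' = f := by
    funext u v
    exact hpol u v
  refine ⟨Q', ⟨?_, ?_, ?_⟩, hpol, ?_⟩
  · intro c v
    rw [hQ'def, hQ'def, hTsmul, hQ1]
  · rw [hpolf]
    exact hf.bilinear
  · rw [hpolf]
    exact hf.nondegenerate
  · intro k hk
    obtain ⟨k₁, k₂, g, c₁, c₂, hg, hkP, h1, h2⟩ := hfac k hk
    have hk' : ((P⁻¹ : GL (Fin n) F) : Mat) * (k : Mat) =
        ((glReindex e.symm g : GL (Fin n) F) : Mat) * ((P⁻¹ : GL (Fin n) F) : Mat) := by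
      have h : P⁻¹ * k = glReindex e.symm g * P⁻¹ := by
        rw [hkP]
        group
      have h' := congrArg (fun x : GL (Fin n) F => (x : Mat)) h
      simpa only [Units.val_mul] using h'
    have hTk : ∀ v, T ((k : Mat) *ᵥ v) =
        ((k₁ : Matrix (Fin a) (Fin a) F) ⊗ₖ (k₂ : Matrix (Fin b) (Fin b) F)) *ᵥ T v := by
      intro v
      rw [← hg, hTdef, hTdef, Matrix.mulVec_mulVec, hk', ← Matrix.mulVec_mulVec]
      have h3 := glMap_mulVec (F := F) e.symm g (((P⁻¹ : GL (Fin n) F) : Mat) *ᵥ v)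
      have h4 : ((glReindex e.symm g : GL (Fin n) F) : Mat) *ᵥ (((P⁻¹ : GL (Fin n) F) : Mat) *ᵥ v) =
          (((g : Matrix (Fin a × Fin b) (Fin a × Fin b) F) *ᵥ
            ((((P⁻¹ : GL (Fin n) F) : Mat) *ᵥ v) ∘ e.symm)) ∘ e) := h3
      rw [h4]
      funext p
      simp
    have hQk : ∀ v, Q' ((k : Mat) *ᵥ v) = c₁ * c₂ * Q' v := by
      intro v
      rw [hQ'def, hQ'def, hTk, hQ3 _ _ _ _ h1 h2]
    by_cases hc : c₁ * c₂ = 0
    · have hzero : ∀ w, Q' w = 0 := by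
        intro w
        have h := hQk (((k⁻¹ : GL (Fin n) F) : Mat) *ᵥ w)
        rw [Matrix.mulVec_mulVec, ← Units.val_mul, mul_inv_cancel, Units.val_one, Matrix.one_mulVec,
          hc, zero_mul] at h
        exact h
      refine ⟨1, fun v => ?_⟩
      rw [hzero, hzero]
      simp
    · refine ⟨Units.mk0 _ hc, fun v => ?_⟩
      rw [Units.val_mk0]
      exact hQk v

end Cfsg.Agent.Lib.Helper80.SpAsch
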