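import Mathlib
import Cfsg.Prelude.Def_GeometricClasses
import Cfsg.Agent.Lib.Helper61.AschDefs
import Cfsg.Agent.Lib.Helper43.SpAschDefs
import Cfsg.Agent.Lib.Helper43.SpAschDefs2

/-!
# K-SpAsch-T6: transport of the extraspecial constructor of `SGeom` along a bijection of index types
-/

set_option autoImplicit false

namespace Cfsg.Agent.Lib.Helper80.SpAsch

open Cfsg Cfsg.Geo Cfsg.Agent.Lib.Helper61.Asch Cfsg.Agent.Lib.Helper43.SpAsch
open scoped Matrix Kronecker MatrixGroups

section generic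

variable {X Y : Type*} [Group X] [Group Y]

/-- the centres of isomorphic groups have the same order -/
theorem t6_card_center_congr (ψ : X ≃* Y) :
    Nat.card (Subgroup.center Y) = Nat.card (Subgroup.center X) := by
  apply Nat.card_congr
  refine (Equiv.subtypeEquiv ψ.toEquiv ?_).symm
  intro a
  rw [Subgroup.mem_center_iff, Subgroup.mem_center_iff]
  constructor
  · intro h y
    obtain ⟨x, rfl⟩ := ψ.surjective y
    change ψ x * ψ a = ψ a * ψ x
    rw [← map_mul, ← map_mul, h]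
  · intro h x
    apply ψ.injective
    rw [map_mul, map_mul]
    exact h (ψ x)

/-- commutativity of a subgroup is transported by `Subgroup.map` of an isomorphism -/
theorem t6_comm_map (ψ : Y ≃* X) (A : Subgroup Y) (hA : IsMulCommutative A) :
    IsMulCommutative (A.map ψ.toMonoidHom) := by
  refine ⟨⟨fun a b => ?_⟩⟩
  obtain ⟨a, ha⟩ := a
  obtain ⟨b, hb⟩ := b
  obtain ⟨a', ha', rfl⟩ := ha
  obtain ⟨b', hb', rfl⟩ := hb
  apply Subtype.ext
  have h := hA.is_comm.comm ⟨a', ha'⟩ ⟨b', hb'⟩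
  have h' : a' * b' = b' * a' := congrArg Subtype.val h
  change ψ a' * ψ b' = ψ b' * ψ a'
  rw [← map_mul, ← map_mul, h']

/-- being characteristic is transported by `Subgroup.map` of an isomorphism -/
theorem t6_char_map (ψ : Y ≃* X) (A : Subgroup Y) (hA : A.Characteristic) :
    (A.map ψ.toMonoidHom).Characteristic := by
  rw [Subgroup.characteristic_iff_comap_le]
  intro α x hx
  rw [Subgroup.mem_comap] at hx
  rw [Subgroup.mem_map_equiv] at hx ⊢
  let β : Y ≃* Y := ψ.trans (α.trans ψ.symm)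
  have hβ := Subgroup.characteristic_iff_comap_eq.mp hA β
  have h1 : ψ.symm x ∈ A.comap β.toMonoidHom := by
    rw [Subgroup.mem_comap]
    have : β.toMonoidHom (ψ.symm x) = ψ.symm (α x) := by
      change ψ.symm (α (ψ (ψ.symm x))) = ψ.symm (α x)
      rw [MulEquiv.apply_symm_apply]
    rw [this]
    exact hx
  rw [hβ] at h1
  exact h1

theorem t6_cyclic_of_characteristic_congr (ψ : X ≃* Y)
    (h : ∀ A : Subgroup X, A.Characteristic → IsMulCommutative A → IsCyclic A) :
    ∀ A : Subgroup Y, A.Characteristic → IsMulCommutative A → IsCyclic A := by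
  intro A hchar hcomm
  have h1 := h (A.map ψ.symm.toMonoidHom) (t6_char_map ψ.symm A hchar) (t6_comm_map ψ.symm A hcomm)
  let θ : A ≃* A.map ψ.symm.toMonoidHom := ψ.symm.subgroupMap A
  exact isCyclic_of_surjective θ.symm θ.symm.surjective

theorem t6_minus_congr (ψ : X ≃* Y) (k : ℕ)
    (h : ∀ A : Subgroup X, IsMulCommutative A → (∀ x ∈ A, x * x = 1) → Nat.card A < 2 ^ (k + 1)) :
    ∀ A : Subgroup Y, IsMulCommutative A → (∀ x ∈ A, x * x = 1) → Nat.card A < 2 ^ (k + 1) := by
  intro A hcomm hsq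
  have h1 := h (A.map ψ.symm.toMonoidHom) (t6_comm_map ψ.symm A hcomm) (by
    intro x hx
    rw [Subgroup.mem_map_equiv] at hx
    have h2 := hsq _ hx
    apply ψ.symm.symm.injective
    rw [map_mul, map_one]
    exact h2)
  let θ : A ≃* A.map ψ.symm.toMonoidHom := ψ.symm.subgroupMap A
  rw [Nat.card_congr θ.toEquiv]
  exact h1

end generic

variable {ι κ : Type} [Fintype ι] [DecidableEq ι] [Fintype κ] [DecidableEq κ] {F : Type*} [Field F] [Fintype F]

omit [Fintype F] in
theorem t6_symm_val (e : ι ≃ κ) (g : GL κ F) :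
    (((glMap e).symm g : GL ι F) : Matrix ι ι F) = Matrix.reindex e.symm e.symm (g : Matrix κ κ F) := rfl

omit [Fintype F] in
theorem t6_symm_mulVec (e : ι ≃ κ) (g : GL κ F) (v : ι → F) :
    (((glMap e).symm g : GL ι F) : Matrix ι ι F) *ᵥ v =
      (((g : Matrix κ κ F) *ᵥ (v ∘ e.symm)) ∘ e) := by
  rw [t6_symm_val]
  funext i
  simp only [Matrix.mulVec, dotProduct, Matrix.reindex_apply, Matrix.submatrix_apply, Function.comp_apply]
  rw [← Equiv.sum_comp e.symm]
  simp

/-- **K-SpAsch-T6** (extraspecial). -/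
theorem sgeom_transport_extraspecial (e : ι ≃ κ) (f : (ι → F) → (ι → F) → F) (K : Subgroup (GL ι F))
    (R : Subgroup (GL κ F)) (p k : ℕ) (hR : IsSymplecticTypeGroup 2 R)
    (hirr : ActsAbsolutelyIrreducibly (matrixSet R)) (hRΔ : R ≤ similarityGroup (formMap e f)) (hp : p.Prime)
    (hpo : Odd p) (hc : Fintype.card F = p) (hcard : Nat.card R = 2 ^ (1 + 2 * k))
    (hcen : Nat.card (Subgroup.center R) = 2) (hminus : IsOfMinusType k R)
    (hK : K.map (glMap e).toMonoidHom ≤ subgroupNormalizer R) : SGeom f K := by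
  classical
  let φ : GL κ F ≃* GL ι F := (glMap e).symm
  let R' : Subgroup (GL ι F) := R.map φ.toMonoidHom
  let ψ : R ≃* R' := φ.subgroupMap R
  have hmemR' : ∀ h : GL ι F, h ∈ R' ↔ glMap e h ∈ R := by
    intro h
    exact Subgroup.mem_map_equiv
  have hφmem : ∀ g ∈ R, φ g ∈ R' := fun g hg => Subgroup.mem_map_of_mem _ hg
  refine SGeom.extraspecial R' p k ⟨hR.prime, ?_, ?_, ?_⟩ ⟨?_, ?_⟩ ?_ hp hpo hc ?_ ?_ ?_ ?_
  · -- p-group
    exact hR.pGroup.map φ.toMonoidHom
  · exact t6_cyclic_of_characteristic_congr ψ hR.cyclic_of_characteristic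
  · rw [← Monoid.exponent_eq_of_mulEquiv ψ]
    exact hR.exponent_eq
  · -- irreducible
    intro W hW
    let L : (ι → F) ≃ₗ[F] (κ → F) := LinearEquiv.funCongrLeft F F e.symm
    have hL : ∀ w : ι → F, L w = w ∘ e.symm := fun _ => rfl
    have h1 := hirr.1 (W.map (L : (ι → F) →ₗ[F] (κ → F))) (by
      rintro s ⟨g, hg, rfl⟩ x hx
      obtain ⟨x', hx', rfl⟩ := hx
      obtain ⟨w, hw, rfl⟩ := hx'
      have h2 : Matrix.toLin' ((φ g : GL ι F) : Matrix ι ι F) w ∈ W :=
        hW _ ⟨φ g, hφmem g hg, rfl⟩ ⟨w, hw, rfl⟩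
      refine ⟨_, h2, ?_⟩
      change L (Matrix.toLin' ((φ g : GL ι F) : Matrix ι ι F) w) = Matrix.toLin' (g : Matrix κ κ F) (L w)
      rw [hL, hL, Matrix.toLin'_apply, Matrix.toLin'_apply, t6_symm_mulVec]
      funext j
      simp)
    rcases h1 with h1 | h1
    · left
      exact Submodule.map_eq_bot_iff.mp h1
    · right
      exact Submodule.map_eq_top_iff.mp h1
  · -- commutant
    intro M hM
    let ρ : Matrix ι ι F ≃ₐ[F] Matrix κ κ F := Matrix.reindexAlgEquiv F F e
    have h1 := hirr.2 (ρ M) (by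
      rintro s ⟨g, hg, rfl⟩
      have h2 := hM _ ⟨φ g, hφmem g hg, rfl⟩
      have h3 : ρ ((φ g : GL ι F) : Matrix ι ι F) = (g : Matrix κ κ F) := by
        rw [t6_symm_val]
        ext i j
        simp [ρ]
      have h4 := congrArg ρ h2
      rw [map_mul, map_mul, h3] at h4
      exact h4)
    obtain ⟨c, hc'⟩ := h1
    refine ⟨c, ?_⟩
    apply ρ.injective
    rw [hc', map_smul, map_one]
  · -- similarity group
    intro h hh
    obtain ⟨g, hg, rfl⟩ := hh
    obtain ⟨c, hcg⟩ := hRΔ hg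
    refine ⟨c, fun u v => ?_⟩
    have h1 := hcg (u ∘ e.symm) (v ∘ e.symm)
    simp only [formMap] at h1
    have h2 : ∀ w : ι → F, (w ∘ e.symm) ∘ e = w := by
      intro w
      funext i
      simp
    rw [h2, h2] at h1
    change f (((φ g : GL ι F) : Matrix ι ι F) *ᵥ u) (((φ g : GL ι F) : Matrix ι ι F) *ᵥ v) = _
    rw [t6_symm_mulVec, t6_symm_mulVec]
    exact h1
  · rw [← Nat.card_congr ψ.toEquiv]
    exact hcard
  · rw [t6_card_center_congr ψ]
    exact hcen
  · exact t6_minus_congr ψ k hminus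
  · intro x hx
    have h1 : glMap e x ∈ subgroupNormalizer R := hK (Subgroup.mem_map_of_mem _ hx)
    unfold subgroupNormalizer at h1 ⊢
    rw [Subgroup.mem_normalizer_iff] at h1 ⊢
    intro h
    rw [hmemR', hmemR', map_mul, map_mul, map_inv]
    exact h1 _

end Cfsg.Agent.Lib.Helper80.SpAsch
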