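import Mathlib
import Cfsg.Agent.Lib.Helper48.StODefs
import Cfsg.Agent.Lib.Helper61.StOR0c

/-!
# Keystone 254724 (K-StO-O3) `mem_T_of_commute` (pack S2547, architect helper48)

An isometry commuting with all root elements `xZ k t`, `yZ k t` is diagonal (`2 ≠ 0`).
-/

set_option autoImplicit false
set_option linter.unusedSectionVars false

namespace Cfsg.Agent.Lib.Helper80.StO

open Cfsg Cfsg.Agent.Lib.Helper48.StO Matrix

variable {m : ℕ} {F : Type*} [Field F]

/-- a matrix commuting with `single a b 1` has column `a` and row `b` diagonal-like -/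
theorem o3_of_commute_single (M : Matrix (OI m) (OI m) F) (a b : OI m)
    (h : M * Matrix.single a b (1 : F) = Matrix.single a b (1 : F) * M) :
    (∀ c, c ≠ a → M c a = 0) ∧ (∀ c, c ≠ b → M b c = 0) := by
  constructor
  · intro c hc
    have := congrFun (congrFun h c) b
    rw [Matrix.mul_single_apply_same, Matrix.single_mul_apply_of_ne (c := (1 : F)) a b c b hc] at this
    simpa using this
  · intro c hc
    have := congrFun (congrFun h a) c
    rw [Matrix.single_mul_apply_same, Matrix.mul_single_apply_of_ne (c := (1 : F)) a b a c hc] at this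
    simpa using this.symm

theorem o3_xZMat_sum (k : Fin m) :
    xZMat m F k 1 + xZMat m F k (-1) = 2 - (2 : F) • Matrix.single (eI k) (fI k) (1 : F) := by
  unfold xZMat
  ext a b
  simp only [Matrix.add_apply, Matrix.sub_apply, Matrix.smul_apply, Matrix.single_apply,
    smul_eq_mul]
  have h2 : ((2 : Matrix (OI m) (OI m) F)) a b = (1 : Matrix (OI m) (OI m) F) a b +
      (1 : Matrix (OI m) (OI m) F) a b := by
    rw [← one_add_one_eq_two]; rfl
  rw [h2]
  split_ifs <;> ring

theorem o3_yZMat_sum (k : Fin m) :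
    yZMat m F k 1 + yZMat m F k (-1) = 2 - (2 : F) • Matrix.single (fI k) (eI k) (1 : F) := by
  unfold yZMat
  ext a b
  simp only [Matrix.add_apply, Matrix.sub_apply, Matrix.smul_apply, Matrix.single_apply,
    smul_eq_mul]
  have h2 : ((2 : Matrix (OI m) (OI m) F)) a b = (1 : Matrix (OI m) (OI m) F) a b +
      (1 : Matrix (OI m) (OI m) F) a b := by
    rw [← one_add_one_eq_two]; rfl
  rw [h2]
  split_ifs <;> ring

/-- commuting with `X 1` and `X (-1)` whose sum is `2 - 2 • single a b 1` forces commuting with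
`single a b 1` -/
theorem o3_commute_single (h2 : (2 : F) ≠ 0) (M X Y : Matrix (OI m) (OI m) F) (a b : OI m)
    (hX : M * X = X * M) (hY : M * Y = Y * M)
    (hsum : X + Y = 2 - (2 : F) • Matrix.single a b (1 : F)) :
    M * Matrix.single a b (1 : F) = Matrix.single a b (1 : F) * M := by
  have h1 : M * (X + Y) = (X + Y) * M := by rw [mul_add, add_mul, hX, hY]
  rw [hsum, mul_sub, sub_mul, Matrix.mul_smul, Matrix.smul_mul] at h1
  have h3 : M * (2 : Matrix (OI m) (OI m) F) = (2 : Matrix (OI m) (OI m) F) * M := by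
    rw [mul_two, two_mul]
  rw [h3] at h1
  have h4 : (2 : F) • (M * Matrix.single a b (1 : F)) =
      (2 : F) • (Matrix.single a b (1 : F) * M) := sub_right_injective h1
  have := congrArg (fun N => (2 : F)⁻¹ • N) h4
  simpa [smul_smul, inv_mul_cancel₀ h2] using this

/-- K-StO-O3 -/
theorem mem_T_of_commute (h2 : (2 : F) ≠ 0) (g : OG m F)
    (hx : ∀ (k : Fin m) (t : F), g * xZ m F k t = xZ m F k t * g)
    (hy : ∀ (k : Fin m) (t : F), g * yZ m F k t = yZ m F k t * g) : g ∈ Tsub m F := by
  have hxM : ∀ (k : Fin m) (t : F), mat g * xZMat m F k t = xZMat m F k t * mat g := by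
    intro k t
    have := congrArg mat (hx k t)
    rwa [mat_mul, mat_mul, Cfsg.Agent.Lib.Helper61.StO.mat_xZ] at this
  have hyM : ∀ (k : Fin m) (t : F), mat g * yZMat m F k t = yZMat m F k t * mat g := by
    intro k t
    have := congrArg mat (hy k t)
    rwa [mat_mul, mat_mul, Cfsg.Agent.Lib.Helper61.StO.mat_yZ] at this
  have hE : ∀ k : Fin m, (∀ c, c ≠ eI k → mat g c (eI k) = 0) ∧
      (∀ c, c ≠ fI k → mat g (fI k) c = 0) := fun k =>
    o3_of_commute_single (mat g) (eI k) (fI k)
      (o3_commute_single h2 (mat g) _ _ _ _ (hxM k 1) (hxM k (-1)) (o3_xZMat_sum k))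
  have hF : ∀ k : Fin m, (∀ c, c ≠ fI k → mat g c (fI k) = 0) ∧
      (∀ c, c ≠ eI k → mat g (eI k) c = 0) := fun k =>
    o3_of_commute_single (mat g) (fI k) (eI k)
      (o3_commute_single h2 (mat g) _ _ _ _ (hyM k 1) (hyM k (-1)) (o3_yZMat_sum k))
  rw [mem_Tsub_iff]
  intro a b hab
  rcases b with b | b | b
  · -- column `z`: use the row of `a ≠ z`
    rcases a with a | a | a
    · exact absurd rfl hab
    · exact (hF a).2 _ (Ne.symm hab)
    · exact (hE a).2 _ (Ne.symm hab)
  · exact (hE b).1 a hab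
  · exact (hF b).1 a hab

end Cfsg.Agent.Lib.Helper80.StO
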