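import Mathlib
import Cfsg.Agent.Lib.Helper49.OInvDefs
import Cfsg.Agent.Lib.Helper43.OrthModels
import Cfsg.Agent.Lib.Helper43.OrthFrames
import Cfsg.Agent.Lib.Helper43.WittQuad

/-!
# Shared transport lemmas for the K-OInv frame counts (keystones 268301 / 268302, architect helper49)

For a singular `k`-frame `v` of the hyperbolic space `F^(2m)` (pairwise polar `0`, all `Q`-values `0`,
linearly independent) there is a linear `Q`-isometry `g` of the whole space with `g (e_i) = v_i`,
`e_i = vE m (emb i)` the standard singular frame.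
-/

set_option autoImplicit false
set_option linter.style.haveILetI false
set_option linter.unusedSectionVars false

namespace Cfsg.Agent.Lib.Helper80.OInv

open Matrix Cfsg.Agent.Lib.Helper49.OInv Cfsg.Agent.Lib.Helper43

variable {F : Type*} [Field F]

/-- the polar form of `quadFormPlus`, as `polarBilin` of helper43's `qfPlus`. -/
lemma polar_eq_polarBilin (m : ℕ) (x y : Fin m ⊕ Fin m → F) :
    QuadraticMap.polar (Cfsg.quadFormPlus m F) x y = QuadraticMap.polarBilin (qfPlus m F) x y := by
  rw [QuadraticMap.polarBilin_apply_apply]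
  rfl

/-- the polar form vanishes on the span of pairwise orthogonal vectors. -/
lemma polar_span_eq_zero {m : ℕ} {κ : Type*} (v : κ → (Fin m ⊕ Fin m → F))
    (hp : ∀ i j, QuadraticMap.polar (Cfsg.quadFormPlus m F) (v i) (v j) = 0) :
    ∀ x ∈ Submodule.span F (Set.range v), ∀ y ∈ Submodule.span F (Set.range v),
      QuadraticMap.polar (Cfsg.quadFormPlus m F) x y = 0 := by
  set B := QuadraticMap.polarBilin (qfPlus m F) with hB
  have h1 : ∀ j, Submodule.span F (Set.range v) ≤ LinearMap.ker (B.flip (v j)) := by
    intro j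
    rw [Submodule.span_le]
    rintro _ ⟨i, rfl⟩
    rw [SetLike.mem_coe, LinearMap.mem_ker]
    show B (v i) (v j) = 0
    rw [hB, ← polar_eq_polarBilin]
    exact hp i j
  intro x hx y hy
  have h2 : Submodule.span F (Set.range v) ≤ LinearMap.ker (B x) := by
    rw [Submodule.span_le]
    rintro _ ⟨j, rfl⟩
    rw [SetLike.mem_coe, LinearMap.mem_ker]
    have := h1 j hx
    rw [LinearMap.mem_ker] at this
    exact this
  have := h2 hy
  rw [LinearMap.mem_ker] at this
  rw [polar_eq_polarBilin]
  exact this

/-- `Q` vanishes on the span of pairwise orthogonal singular vectors. -/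
lemma quad_span_eq_zero {m : ℕ} {κ : Type*} (v : κ → (Fin m ⊕ Fin m → F))
    (hq : ∀ i, Cfsg.quadFormPlus m F (v i) = 0)
    (hp : ∀ i j, QuadraticMap.polar (Cfsg.quadFormPlus m F) (v i) (v j) = 0) :
    ∀ x ∈ Submodule.span F (Set.range v), Cfsg.quadFormPlus m F x = 0 := by
  have hpol := polar_span_eq_zero v hp
  intro x hx
  induction hx using Submodule.span_induction with
  | mem x hx =>
    obtain ⟨i, rfl⟩ := hx
    exact hq i
  | zero =>
    have := QuadraticMap.map_zero (qfPlus m F)
    rw [qfPlus_coe] at this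
    exact this
  | add x y hx hy ihx ihy =>
    have h := hpol x hx y hy
    rw [QuadraticMap.polar, ihx, ihy, sub_zero, sub_zero] at h
    exact h
  | smul a x hx ihx =>
    have := QuadraticMap.map_smul (qfPlus m F) a x
    rw [qfPlus_coe] at this
    rw [this, ihx, smul_zero]

/-- **Witt transport**: every singular frame is the image of the standard singular frame
`i ↦ vE m (emb i)` under a linear isometry of the whole hyperbolic space. -/
theorem exists_isometry_of_singular_frame {m : ℕ} {κ : Type*} [Finite κ] (emb : κ → Fin m)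
    (hemb : Function.Injective emb) (v : κ → (Fin m ⊕ Fin m → F)) (hli : LinearIndependent F v)
    (hq : ∀ i, Cfsg.quadFormPlus m F (v i) = 0)
    (hp : ∀ i j, QuadraticMap.polar (Cfsg.quadFormPlus m F) (v i) (v j) = 0) :
    ∃ g : (Fin m ⊕ Fin m → F) ≃ₗ[F] (Fin m ⊕ Fin m → F),
      (∀ x, Cfsg.quadFormPlus m F (g x) = Cfsg.quadFormPlus m F x) ∧
        ∀ i, g (vE m (emb i)) = v i := by
  classical
  set e : κ → (Fin m ⊕ Fin m → F) := fun i => vE m (emb i) with he
  have heli : LinearIndependent F e := linearIndependent_vE m emb hemb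
  have heq : ∀ i, Cfsg.quadFormPlus m F (e i) = 0 := fun i => by
    have := plus_vE (F := F) m (emb i)
    rw [qfPlus_coe] at this
    exact this
  have hep : ∀ i j, QuadraticMap.polar (Cfsg.quadFormPlus m F) (e i) (e j) = 0 := fun i j => by
    rw [polar_eq_polarBilin]
    exact polar_plus_vE_vE m (emb i) (emb j)
  set X := Submodule.span F (Set.range e) with hX
  set Y := Submodule.span F (Set.range v) with hY
  let bX : Module.Basis κ F X := Module.Basis.span heli
  let bY : Module.Basis κ F Y := Module.Basis.span hli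
  let φ : X ≃ₗ[F] Y := bX.equiv bY (Equiv.refl κ)
  have hφ : ∀ x : X, qfPlus m F (φ x : Fin m ⊕ Fin m → F) = qfPlus m F (x : Fin m ⊕ Fin m → F) := by
    intro x
    rw [qfPlus_coe, quad_span_eq_zero v hq hp _ (φ x).2, quad_span_eq_zero e heq hep _ x.2]
  obtain ⟨g, hg1, hg2⟩ := witt_quad (qfPlus m F) (qfPlus_nondegenerate m F) X Y φ hφ
  refine ⟨g, fun x => ?_, fun i => ?_⟩
  · have := hg1 x
    rw [qfPlus_coe] at this
    exact this
  · have h1 : (bX i : Fin m ⊕ Fin m → F) = e i :=
      congrArg Subtype.val (Module.Basis.span_apply heli i)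
    have h2 : (bY i : Fin m ⊕ Fin m → F) = v i :=
      congrArg Subtype.val (Module.Basis.span_apply hli i)
    have h3 : φ (bX i) = bY i := by
      show bX.equiv bY (Equiv.refl κ) (bX i) = bY i
      rw [Module.Basis.equiv_apply]
      rfl
    have := hg2 (bX i)
    rw [h1, h3, h2] at this
    exact this

/-- a linear `Q`-isometry preserves the polar form. -/
lemma polar_isometry {m : ℕ} (g : (Fin m ⊕ Fin m → F) ≃ₗ[F] (Fin m ⊕ Fin m → F))
    (hg : ∀ x, Cfsg.quadFormPlus m F (g x) = Cfsg.quadFormPlus m F x) (x y : Fin m ⊕ Fin m → F) :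
    QuadraticMap.polar (Cfsg.quadFormPlus m F) (g x) (g y) =
      QuadraticMap.polar (Cfsg.quadFormPlus m F) x y := by
  unfold QuadraticMap.polar
  rw [← map_add, hg, hg, hg]

/-- polar against a standard singular vector reads off the opposite coordinate. -/
lemma polar_vE_left {m : ℕ} (a : Fin m) (u : Fin m ⊕ Fin m → F) :
    QuadraticMap.polar (Cfsg.quadFormPlus m F) (vE m a) u = u (Sum.inr a) := by
  rw [QuadraticMap.polar_comm, polar_eq_polarBilin, polar_plus_vE]

end Cfsg.Agent.Lib.Helper80.OInv
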