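import Mathlib
import Cfsg.Agent.Lib.Helper49.OInvDefs
import Cfsg.Agent.Lib.Helper43.OrthModels
import Cfsg.Agent.Lib.Helper43.OrthFrames
import Cfsg.Agent.Lib.Helper50.ElusiveCount
import Cfsg.Agent.Lib.Helper80.OInvWitt

/-!
# K-OInv-1b (keystone 268302, architect helper49): the number of mixed frames
`(v_0, …, v_(k-1), u)` of the hyperbolic space `F^(2m)`, `q` even.
-/

set_option autoImplicit false
set_option linter.style.haveILetI false
set_option linter.unusedSectionVars false

namespace Cfsg.Agent.Lib.Helper80.OInv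

open Matrix Cfsg.Agent.Lib.Helper49.SpInv Cfsg.Agent.Lib.Helper49.OInv Cfsg.Agent.Lib.Helper43

variable {F : Type*} [Field F] [Fintype F] [CharP F 2]

/-! ### vectors of value `1` -/

/-- all nonzero values of the hyperbolic form are taken equally often (characteristic two: every
element is a square). -/
lemma card_level_eq (d : ℕ) (a : F) (ha : a ≠ 0) :
    Nat.card {w : Fin d ⊕ Fin d → F // Cfsg.quadFormPlus d F w = a} =
      Nat.card {w : Fin d ⊕ Fin d → F // Cfsg.quadFormPlus d F w = 1} := by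
  obtain ⟨s, hs⟩ := FiniteField.isSquare_of_char_two (ringChar.eq F 2) a
  have hs0 : s ≠ 0 := by
    rintro rfl
    apply ha
    rw [hs, mul_zero]
  symm
  refine Nat.card_congr (Equiv.subtypeEquiv
    (LinearEquiv.smulOfNeZero F (Fin d ⊕ Fin d → F) s hs0).toEquiv (fun w => ?_))
  have h := QuadraticMap.map_smul (qfPlus d F) s w
  rw [qfPlus_coe] at h
  show Cfsg.quadFormPlus d F w = 1 ↔ Cfsg.quadFormPlus d F (s • w) = a
  rw [h, smul_eq_mul, hs]
  constructor
  · intro h1
    rw [h1, mul_one]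
  · intro h1
    have h2 : s * s ≠ 0 := mul_ne_zero hs0 hs0
    have h3 : s * s * Cfsg.quadFormPlus d F w = s * s * 1 := by rw [h1, mul_one]
    exact mul_left_cancel₀ h2 h3

/-- the number of vectors of value `1` of the hyperbolic form of dimension `2d`, `d ≥ 1`. -/
lemma card_level_one {q : ℕ} (hF : Fintype.card F = q) (d : ℕ) (hd : 1 ≤ d) :
    Nat.card {w : Fin d ⊕ Fin d → F // Cfsg.quadFormPlus d F w = 1} =
      q ^ (d - 1) * (q ^ d - 1) := by
  classical
  set N1 := Nat.card {w : Fin d ⊕ Fin d → F // Cfsg.quadFormPlus d F w = 1} with hN1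
  have hq1 : 1 < q := by rw [← hF]; exact Fintype.one_lt_card
  have htot : Nat.card (Fin d ⊕ Fin d → F) = q ^ d * q ^ d := by
    rw [Nat.card_eq_fintype_card, Fintype.card_fun, hF, Fintype.card_sum, Fintype.card_fin, pow_add]
  have hz := Cfsg.Agent.Lib.Helper50.card_zeros_plus (F := F) d
  rw [hF] at hz
  have hsum : Nat.card (Fin d ⊕ Fin d → F) =
      ∑ a : F, Nat.card {w : Fin d ⊕ Fin d → F // Cfsg.quadFormPlus d F w = a} := by
    rw [← Nat.card_sigma]
    exact Nat.card_congr (Equiv.sigmaFiberEquiv (Cfsg.quadFormPlus d F)).symm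
  rw [← Finset.add_sum_erase Finset.univ _ (Finset.mem_univ (0 : F)),
    Finset.sum_congr rfl (fun x hx => card_level_eq d x (Finset.ne_of_mem_erase hx)),
    Finset.sum_const, Finset.card_erase_of_mem (Finset.mem_univ _), Finset.card_univ, hF,
    smul_eq_mul, hz, htot] at hsum
  -- arithmetic
  obtain ⟨p, rfl⟩ : ∃ p, q = p + 1 := ⟨q - 1, by omega⟩
  have hp : 0 < p := by omega
  set Q := (p + 1) ^ (d - 1) with hQ
  have hqd : (p + 1) ^ d = (p + 1) * Q := by
    rw [hQ, ← pow_succ']
    congr 1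
    omega
  have hpos : 0 < (p + 1) * Q := by positivity
  obtain ⟨B, hB⟩ : ∃ B, (p + 1) * Q = B + 1 := ⟨(p + 1) * Q - 1, by omega⟩
  rw [hqd, hB] at hsum ⊢
  rw [Nat.add_sub_cancel] at hsum ⊢
  have e1 : (B + 1) * (B + 1) = (B + 1) + B * Q + p * (Q * B) := by
    calc (B + 1) * (B + 1) = (B + 1) + B * (B + 1) := by ring
      _ = (B + 1) + B * ((p + 1) * Q) := by rw [hB]
      _ = _ := by ring
  have e2 : p * N1 = p * (Q * B) := by
    rw [Nat.add_sub_cancel] at hsum
    linarith
  exact Nat.eq_of_mul_eq_mul_left hp e2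

/-! ### the fibre over the standard frame -/

/-- the last `2d` coordinates of a vector of `F^(2(k+d))`. -/
def tailVec (k d : ℕ) (u : Fin (k + d) ⊕ Fin (k + d) → F) : Fin d ⊕ Fin d → F :=
  fun s => Sum.elim (fun j => u (Sum.inl (Fin.natAdd k j))) (fun j => u (Sum.inr (Fin.natAdd k j))) s

/-- glue `a` (the first `k` `inl`-coordinates) and `w` (the last `2d` coordinates), with zeros at the first
`k` `inr`-coordinates. -/
def glueVec (k d : ℕ) (a : Fin k → F) (w : Fin d ⊕ Fin d → F) : Fin (k + d) ⊕ Fin (k + d) → F :=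
  fun s => Sum.elim
    (fun i => Fin.addCases (motive := fun _ => F) (fun i' => a i') (fun j => w (Sum.inl j)) i)
    (fun i => Fin.addCases (motive := fun _ => F) (fun _ => 0) (fun j => w (Sum.inr j)) i) s

omit [Fintype F] [CharP F 2] in
lemma quad_eq_tail (k d : ℕ) (u : Fin (k + d) ⊕ Fin (k + d) → F)
    (hu : ∀ i : Fin k, u (Sum.inr (Fin.castAdd d i)) = 0) :
    Cfsg.quadFormPlus (k + d) F u = Cfsg.quadFormPlus d F (tailVec k d u) := by
  unfold Cfsg.quadFormPlus
  rw [Fin.sum_univ_add]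
  have h0 : ∑ i : Fin k, u (Sum.inl (Fin.castAdd d i)) * u (Sum.inr (Fin.castAdd d i)) = 0 := by
    apply Finset.sum_eq_zero
    intro i _
    rw [hu i, mul_zero]
  rw [h0, zero_add]
  rfl

omit [Fintype F] [CharP F 2] in
lemma tail_glue (k d : ℕ) (a : Fin k → F) (w : Fin d ⊕ Fin d → F) :
    tailVec k d (glueVec k d a w) = w := by
  funext s
  cases s with
  | inl j => simp [tailVec, glueVec]
  | inr j => simp [tailVec, glueVec]

omit [Fintype F] [CharP F 2] in
lemma glue_inr_castAdd (k d : ℕ) (a : Fin k → F) (w : Fin d ⊕ Fin d → F) (i : Fin k) :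
    glueVec k d a w (Sum.inr (Fin.castAdd d i)) = 0 := by
  simp [glueVec]

omit [Fintype F] [CharP F 2] in
lemma glue_inl_castAdd (k d : ℕ) (a : Fin k → F) (w : Fin d ⊕ Fin d → F) (i : Fin k) :
    glueVec k d a w (Sum.inl (Fin.castAdd d i)) = a i := by
  simp [glueVec]

omit [Fintype F] [CharP F 2] in
lemma glue_tail (k d : ℕ) (u : Fin (k + d) ⊕ Fin (k + d) → F)
    (hu : ∀ i : Fin k, u (Sum.inr (Fin.castAdd d i)) = 0) :
    glueVec k d (fun i => u (Sum.inl (Fin.castAdd d i))) (tailVec k d u) = u := by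
  funext s
  cases s with
  | inl i =>
    induction i using Fin.addCases with
    | left i => simp [glueVec]
    | right j => simp [glueVec, tailVec]
  | inr i =>
    induction i using Fin.addCases with
    | left i => simp [glueVec, hu i]
    | right j => simp [glueVec, tailVec]

/-- the coordinate description of the fibre over the standard frame. -/
noncomputable def stdFibEquiv (k d : ℕ) :
    {u : Fin (k + d) ⊕ Fin (k + d) → F // Cfsg.quadFormPlus (k + d) F u = 1 ∧
      ∀ i : Fin k, u (Sum.inr (Fin.castAdd d i)) = 0} ≃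
    (Fin k → F) × {w : Fin d ⊕ Fin d → F // Cfsg.quadFormPlus d F w = 1} where
  toFun u := (fun i => u.1 (Sum.inl (Fin.castAdd d i)),
    ⟨tailVec k d u.1, by rw [← quad_eq_tail k d u.1 u.2.2]; exact u.2.1⟩)
  invFun x := ⟨glueVec k d x.1 x.2.1, by
    rw [quad_eq_tail k d _ (glue_inr_castAdd k d x.1 x.2.1), tail_glue]; exact x.2.2,
    glue_inr_castAdd k d x.1 x.2.1⟩
  left_inv u := Subtype.ext (glue_tail k d u.1 u.2.2)
  right_inv x := by
    apply Prod.ext
    · funext i
      exact glue_inl_castAdd k d x.1 x.2.1 i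
    · apply Subtype.ext
      exact tail_glue k d x.1 x.2.1

omit [CharP F 2] in
lemma card_std_fib_aux {q : ℕ} (hF : Fintype.card F = q) (k d : ℕ) (N : ℕ)
    (hN : Nat.card {w : Fin d ⊕ Fin d → F // Cfsg.quadFormPlus d F w = 1} = N) :
    Nat.card {u : Fin (k + d) ⊕ Fin (k + d) → F // Cfsg.quadFormPlus (k + d) F u = 1 ∧
      ∀ i : Fin k, u (Sum.inr (Fin.castAdd d i)) = 0} = q ^ k * N := by
  rw [Nat.card_congr (stdFibEquiv k d), Nat.card_prod, hN, Nat.card_eq_fintype_card,
    Fintype.card_fun, hF, Fintype.card_fin]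

/-! ### the fibre over an arbitrary singular frame -/

omit [Fintype F] [CharP F 2] in
/-- the fibre over a singular frame `v` has the size of the fibre over the standard frame. -/
lemma card_fib_eq_std (k d : ℕ) (v : Fin k → (Fin (k + d) ⊕ Fin (k + d) → F))
    (hli : LinearIndependent F v) (hq : ∀ i, Cfsg.quadFormPlus (k + d) F (v i) = 0)
    (hp : ∀ i j, QuadraticMap.polar (Cfsg.quadFormPlus (k + d) F) (v i) (v j) = 0) :
    Nat.card {u : Fin (k + d) ⊕ Fin (k + d) → F // Cfsg.quadFormPlus (k + d) F u = 1 ∧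
      ∀ i, QuadraticMap.polar (Cfsg.quadFormPlus (k + d) F) (v i) u = 0} =
    Nat.card {u : Fin (k + d) ⊕ Fin (k + d) → F // Cfsg.quadFormPlus (k + d) F u = 1 ∧
      ∀ i : Fin k, u (Sum.inr (Fin.castAdd d i)) = 0} := by
  obtain ⟨g, hg1, hg2⟩ := exists_isometry_of_singular_frame (F := F) (Fin.castAdd d)
    (Fin.castAdd_injective k d) v hli hq hp
  symm
  refine Nat.card_congr (Equiv.subtypeEquiv g.toEquiv (fun u => ?_))
  show _ ↔ Cfsg.quadFormPlus (k + d) F (g u) = 1 ∧
      ∀ i, QuadraticMap.polar (Cfsg.quadFormPlus (k + d) F) (v i) (g u) = 0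
  rw [hg1]
  refine and_congr Iff.rfl (forall_congr' fun i => ?_)
  rw [← hg2 i, polar_isometry g hg1, polar_vE_left]

/-! ### splitting off the last vector -/

instance instFiniteQFrame (m : ℕ) {n : ℕ} (c : Fin n → F) : Finite (QFrame m F c) := by
  unfold QFrame; infer_instance

omit [Fintype F] [CharP F 2] in
lemma init_li' {s : ℕ} {V : Type*} [AddCommGroup V] [Module F V] (u : Fin (s + 1) → V)
    (hu : LinearIndependent F u) :
    LinearIndependent F (Fin.init u : Fin s → V) ∧
      u (Fin.last s) ∉ Submodule.span F (Set.range (Fin.init u : Fin s → V)) := by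
  have := linearIndependent_finSnoc (K := F) (v := (Fin.init u : Fin s → V))
    (x := u (Fin.last s))
  rw [Fin.snoc_init_self] at this
  exact this.mp hu

omit [Fintype F] [CharP F 2] in
lemma mixVal_castSucc (k : ℕ) (i : Fin k) : mixVal F k i.castSucc = 0 := by
  unfold mixVal
  rw [if_neg]
  rw [Fin.val_castSucc]
  exact Nat.ne_of_lt i.2

omit [Fintype F] [CharP F 2] in
lemma mixVal_last (k : ℕ) : mixVal F k (Fin.last k) = 1 := by
  unfold mixVal
  rw [if_pos]
  exact Fin.val_last k

omit [Fintype F] in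
lemma polar_self {m : ℕ} (u : Fin m ⊕ Fin m → F) :
    QuadraticMap.polar (Cfsg.quadFormPlus m F) u u = 0 := by
  unfold QuadraticMap.polar
  have h0 : Cfsg.quadFormPlus m F 0 = 0 := by
    have := QuadraticMap.map_zero (qfPlus m F)
    rw [qfPlus_coe] at this
    exact this
  have huu : u + u = 0 := by
    funext i
    exact CharTwo.add_self_eq_zero (u i)
  rw [huu, h0, zero_sub, sub_eq_add_neg, ← neg_add,
    CharTwo.add_self_eq_zero, neg_zero]

omit [Fintype F] in
lemma snoc_props {m k : ℕ} (v : Fin k → (Fin m ⊕ Fin m → F)) (u : Fin m ⊕ Fin m → F)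
    (hli : LinearIndependent F v) (hq : ∀ i, Cfsg.quadFormPlus m F (v i) = 0)
    (hp : ∀ i j, QuadraticMap.polar (Cfsg.quadFormPlus m F) (v i) (v j) = 0)
    (hu1 : Cfsg.quadFormPlus m F u = 1)
    (hu : ∀ i, QuadraticMap.polar (Cfsg.quadFormPlus m F) (v i) u = 0) :
    LinearIndependent F (Fin.snoc v u : Fin (k + 1) → (Fin m ⊕ Fin m → F)) ∧
      (∀ i, Cfsg.quadFormPlus m F ((Fin.snoc v u : Fin (k + 1) → (Fin m ⊕ Fin m → F)) i) =
        mixVal F k i) ∧
      ∀ i j, QuadraticMap.polar (Cfsg.quadFormPlus m F)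
        ((Fin.snoc v u : Fin (k + 1) → (Fin m ⊕ Fin m → F)) i)
        ((Fin.snoc v u : Fin (k + 1) → (Fin m ⊕ Fin m → F)) j) = 0 := by
  refine ⟨?_, ?_, ?_⟩
  · rw [linearIndependent_finSnoc]
    refine ⟨hli, fun hmem => ?_⟩
    have := quad_span_eq_zero v hq hp u hmem
    rw [hu1] at this
    exact one_ne_zero this
  · intro i
    induction i using Fin.lastCases with
    | last => rw [Fin.snoc_last, mixVal_last]; exact hu1
    | cast i => rw [Fin.snoc_castSucc, mixVal_castSucc]; exact hq i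
  · intro i j
    induction i using Fin.lastCases with
    | last =>
      induction j using Fin.lastCases with
      | last => rw [Fin.snoc_last]; exact polar_self u
      | cast j =>
        rw [Fin.snoc_last, Fin.snoc_castSucc, QuadraticMap.polar_comm]; exact hu j
    | cast i =>
      induction j using Fin.lastCases with
      | last => rw [Fin.snoc_last, Fin.snoc_castSucc]; exact hu i
      | cast j => rw [Fin.snoc_castSucc, Fin.snoc_castSucc]; exact hp i j

omit [Fintype F] in
/-- splitting off the last vector of a mixed frame. -/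
noncomputable def mixSplitEquiv (m k : ℕ) : QFrame m F (mixVal F k) ≃
    {x : QFrame m F (0 : Fin k → F) × (Fin m ⊕ Fin m → F) //
      Cfsg.quadFormPlus m F x.2 = 1 ∧
        ∀ i, QuadraticMap.polar (Cfsg.quadFormPlus m F) (x.1.1 i) x.2 = 0} where
  toFun w := ⟨((Subtype.mk (Fin.init w.1 : Fin k → (Fin m ⊕ Fin m → F))
      ⟨(init_li' w.1 w.2.1).1,
        fun i => by
          show Cfsg.quadFormPlus m F (w.1 i.castSucc) = 0
          rw [w.2.2.1, mixVal_castSucc],
        fun i j => w.2.2.2 i.castSucc j.castSucc⟩ : QFrame m F (0 : Fin k → F)),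
      w.1 (Fin.last k)),
    by
      show Cfsg.quadFormPlus m F (w.1 (Fin.last k)) = 1
      rw [w.2.2.1, mixVal_last],
    fun i => w.2.2.2 i.castSucc (Fin.last k)⟩
  invFun x := (Subtype.mk (Fin.snoc x.1.1.1 x.1.2 : Fin (k + 1) → (Fin m ⊕ Fin m → F))
      (snoc_props x.1.1.1 x.1.2 x.1.1.2.1 x.1.1.2.2.1 x.1.1.2.2.2 x.2.1 x.2.2) :
        QFrame m F (mixVal F k))
  left_inv w := Subtype.ext (Fin.snoc_init_self w.1)
  right_inv x := by
    apply Subtype.ext
    apply Prod.ext
    · apply Subtype.ext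
      exact Fin.init_snoc (α := fun _ => Fin m ⊕ Fin m → F) x.1.2 x.1.1.1
    · exact Fin.snoc_last (α := fun _ => Fin m ⊕ Fin m → F) x.1.2 x.1.1.1

/-- **K-OInv-1b** (keystone 268302). -/
theorem card_mFrame {q : ℕ} (hF : Fintype.card F = q) (m k : ℕ) (hk : k < m)
    (h1a : Nat.card (QFrame m F (0 : Fin k → F)) = sFrameCount q m k) :
    Nat.card (QFrame m F (mixVal F k)) =
      sFrameCount q m k * (q ^ k * (q ^ (m - k - 1) * (q ^ (m - k) - 1))) := by
  obtain ⟨d, rfl⟩ : ∃ d, m = k + d := ⟨m - k, by omega⟩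
  have hd : 1 ≤ d := by omega
  rw [Nat.add_sub_cancel_left]
  haveI := Fintype.ofFinite (QFrame (k + d) F (0 : Fin k → F))
  rw [Nat.card_congr (mixSplitEquiv (k + d) k),
    Nat.card_congr (Equiv.subtypeProdEquivSigmaSubtype
      (fun (a : QFrame (k + d) F (0 : Fin k → F)) (b : Fin (k + d) ⊕ Fin (k + d) → F) =>
        Cfsg.quadFormPlus (k + d) F b = 1 ∧
          ∀ i, QuadraticMap.polar (Cfsg.quadFormPlus (k + d) F) (a.1 i) b = 0)),
    Nat.card_sigma]
  rw [Finset.sum_congr rfl (fun a _ =>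
    (card_fib_eq_std k d a.1 a.2.1 a.2.2.1 a.2.2.2).trans
      (card_std_fib_aux hF k d _ (card_level_one hF d hd)))]
  rw [Finset.sum_const, Finset.card_univ, smul_eq_mul, ← Nat.card_eq_fintype_card, h1a]

end Cfsg.Agent.Lib.Helper80.OInv
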