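import Mathlib
import Cfsg.Prelude.Def_Classical
import Cfsg.Prelude.Def_LieClassical
import Cfsg.Agent.Lib.Helper19.Unitary
import Cfsg.Agent.Lib.Helper99.HermONB
import Cfsg.Agent.Lib.Helper80.AschUONB

/-!
# K-SLU-8 (keystone 598208, pack S5982, architect helper49)

An element `y ∈ GU_n(q₀)` of prime order `r ≠ p` with `dim [V, y] = i` forces `r ∣ |GU_i(q₀)|`.
-/

set_option autoImplicit false
set_option linter.style.haveILetI false

namespace Cfsg.Agent.Lib.Helper80.SLU

open Matrix
open Cfsg.Agent.Lib.Helper99.HermONB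
open Cfsg.Agent.Lib.Helper19 (pow_q_pow_q add_pow_q sum_pow_q q_pos one_lt_q hermForm_add_left
  hermForm_smul_left hermForm_conj hermForm_add_right hermForm_smul_right)

variable {F : Type*} [Field F] [Fintype F]

/-- left non-degeneracy of the standard hermitian form -/
theorem slu8_hermForm_nondeg {q₀ : ℕ} (hF : Fintype.card F = q₀ ^ 2) (n : ℕ) (x : Fin n → F)
    (hx : ∀ y, Cfsg.hermForm n F q₀ x y = 0) : x = 0 := by
  classical
  funext i
  have := hx (Pi.single i 1)
  unfold Cfsg.hermForm at this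
  rw [Finset.sum_eq_single i] at this
  · simpa using this
  · intro j _ hj
    simp [hj, (q_pos hF).ne']
  · intro h; exact absurd (Finset.mem_univ i) h

/-- an isometry of order `r` of an abstract hermitian space of dimension `i` gives an element of
order `r` of `GU_i` -/
theorem slu8_dvd_of_isometry {q₀ : ℕ} (hF : Fintype.card F = q₀ ^ 2)
    {V : Type*} [AddCommGroup V] [Module F V] [FiniteDimensional F V] (i : ℕ)
    (hV : Module.finrank F V = i) (h : V → V → F) (hh : HForm q₀ h) (T : V →ₗ[F] V)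
    (hT : ∀ x y, h (T x) (T y) = h x y) (r : ℕ) [hr : Fact r.Prime] (hTr : T ^ r = 1)
    (hT1 : T ≠ 1) : r ∣ Nat.card (Cfsg.GU i F q₀) := by
  classical
  have hi0 : 0 < i := by
    rcases Nat.eq_zero_or_pos i with h0 | h0
    · exfalso
      apply hT1
      rw [h0] at hV
      haveI : Subsingleton V := Module.finrank_zero_iff.mp hV
      ext x
      exact Subsingleton.elim _ _
    · exact h0
  haveI : Nonempty (Fin i) := ⟨⟨0, hi0⟩⟩
  obtain ⟨e, he⟩ := Cfsg.Agent.Lib.Helper80.AschU.exists_orthonormal' hF i V h hh hV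
  have hli : LinearIndependent F e := by
    rw [linearIndependent_iff']
    intro s c hc j hj
    have h1 := hh.sum_left s c e (e j)
    rw [hc, hh.zero_left] at h1
    simp only [he, mul_ite, mul_one, mul_zero] at h1
    rw [Finset.sum_ite_eq' s j] at h1
    simpa [hj] using h1.symm
  obtain ⟨b, hb⟩ : ∃ b : Module.Basis (Fin i) F V, ∀ j k, h (b j) (b k) = if j = k then 1 else 0 := by
    refine ⟨basisOfLinearIndependentOfCardEqFinrank hli (by rw [Fintype.card_fin, hV]), ?_⟩
    intro j k
    rw [coe_basisOfLinearIndependentOfCardEqFinrank]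
    exact he j k
  obtain ⟨M, hM⟩ : ∃ M, M = LinearMap.toMatrixAlgEquiv b T := ⟨_, rfl⟩
  have hM' : M = LinearMap.toMatrix b b T := hM
  have hmem : ∀ u v : Fin i → F, Cfsg.hermForm i F q₀ (M *ᵥ u) (M *ᵥ v) =
      Cfsg.hermForm i F q₀ u v := by
    intro u v
    have hu : ⇑(b.repr (b.equivFun.symm u)) = u := by
      rw [← Module.Basis.equivFun_apply]; exact b.equivFun.apply_symm_apply u
    have hv : ⇑(b.repr (b.equivFun.symm v)) = v := by
      rw [← Module.Basis.equivFun_apply]; exact b.equivFun.apply_symm_apply v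
    rw [← hu, ← hv, hM', LinearMap.toMatrix_mulVec_repr, LinearMap.toMatrix_mulVec_repr,
      ← form_eq_hermForm hh b hb, ← form_eq_hermForm hh b hb, hT]
  have hMr : M ^ r = 1 := by
    rw [hM, ← map_pow, hTr, map_one]
  have hM1 : M ≠ 1 := by
    intro h1
    apply hT1
    apply (LinearMap.toMatrixAlgEquiv b).injective
    rw [← hM, h1, map_one]
  have hr1 : 1 ≤ r := hr.out.one_lt.le
  have hMinv : M * M ^ (r - 1) = 1 := by
    rw [← pow_succ', Nat.sub_add_cancel hr1, hMr]
  have hMinv' : M ^ (r - 1) * M = 1 := by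
    rw [← pow_succ, Nat.sub_add_cancel hr1, hMr]
  let U : GL (Fin i) F := ⟨M, M ^ (r - 1), hMinv, hMinv'⟩
  have hU : U ∈ Cfsg.GU i F q₀ := by
    intro u v
    exact hmem u v
  have hUr : U ^ r = 1 := by
    apply Units.ext
    rw [Units.val_pow_eq_pow_val, Units.val_one]
    exact hMr
  have hU1 : U ≠ 1 := by
    intro h1
    apply hM1
    have := congrArg Units.val h1
    exact this
  have hord : orderOf (⟨U, hU⟩ : Cfsg.GU i F q₀) = r := by
    apply orderOf_eq_prime
    · apply Subtype.ext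
      rw [SubgroupClass.coe_pow]
      exact hUr
    · intro h1
      apply hU1
      exact congrArg Subtype.val h1
  rw [← hord]
  exact orderOf_dvd_natCard _

/-- **598208 K-SLU-8.** -/
theorem dvd_card_GU_of_block {p : ℕ} [Fact p.Prime] [CharP F p] {q₀ : ℕ}
    (hF : Fintype.card F = q₀ ^ 2) (n : ℕ) (y : GL (Fin n) F) (hy : y ∈ Cfsg.GU n F q₀) (r : ℕ)
    [Fact r.Prime] (hrp : r ≠ p) (hyr : y ^ r = 1) (hy1 : y ≠ 1) (i : ℕ)
    (hi : Module.finrank F (LinearMap.range
      (Matrix.toLin' ((y : Matrix (Fin n) (Fin n) F) - 1))) = i) :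
    r ∣ Nat.card (Cfsg.GU i F q₀) := by
  classical
  set Y : Matrix (Fin n) (Fin n) F := (y : Matrix (Fin n) (Fin n) F) with hY
  set W : Submodule F (Fin n → F) := LinearMap.range (Matrix.toLin' (Y - 1)) with hW
  have hYr : Y ^ r = 1 := by
    have := congrArg Units.val hyr
    rwa [Units.val_pow_eq_pow_val, Units.val_one] at this
  have hiso : ∀ u v : Fin n → F, Cfsg.hermForm n F q₀ (Y *ᵥ u) (Y *ᵥ v) =
      Cfsg.hermForm n F q₀ u v := fun u v => hy u v
  have hr0 : ((r : ℕ) : F) ≠ 0 := by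
    intro h0
    have hdvd : p ∣ r := (CharP.cast_eq_zero_iff F p r).mp h0
    rcases (Nat.dvd_prime (Fact.out : r.Prime)).mp hdvd with h1 | h1
    · exact (Fact.out : p.Prime).one_lt.ne' h1
    · exact hrp h1.symm
  have hmemW : ∀ x : Fin n → F, x ∈ W ↔ ∃ u, (Y - 1) *ᵥ u = x := by
    intro x
    rw [hW, LinearMap.mem_range]
    simp only [Matrix.toLin'_apply]
  -- fixed vectors inside `W` vanish
  have hfix : ∀ x ∈ W, Y *ᵥ x = x → x = 0 := by
    intro x hx hfx
    obtain ⟨u, rfl⟩ := (hmemW x).mp hx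
    set x := (Y - 1) *ᵥ u with hxdef
    have hpow : ∀ k : ℕ, Y ^ k *ᵥ x = x := by
      intro k
      induction k with
      | zero => rw [pow_zero, Matrix.one_mulVec]
      | succ k ih => rw [pow_succ, ← Matrix.mulVec_mulVec, hfx, ih]
    have hS : (∑ k ∈ Finset.range r, Y ^ k) * (Y - 1) = 0 := by
      rw [geom_sum_mul, hYr, sub_self]
    have h1 : (∑ k ∈ Finset.range r, Y ^ k) *ᵥ x = 0 := by
      rw [hxdef, Matrix.mulVec_mulVec, hS, Matrix.zero_mulVec]
    have h2 : (∑ k ∈ Finset.range r, Y ^ k) *ᵥ x = (r : F) • x := by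
      rw [Matrix.sum_mulVec]
      simp only [hpow]
      rw [Finset.sum_const, Finset.card_range, Nat.cast_smul_eq_nsmul]
    rw [h1] at h2
    rcases smul_eq_zero.mp h2.symm with h3 | h3
    · exact absurd h3 hr0
    · exact h3
  have hYW : ∀ x ∈ W, Y *ᵥ x ∈ W := by
    intro x hx
    obtain ⟨u, rfl⟩ := (hmemW x).mp hx
    refine (hmemW _).mpr ⟨Y *ᵥ u, ?_⟩
    rw [Matrix.mulVec_mulVec, Matrix.mulVec_mulVec]
    congr 1
    rw [Matrix.sub_mul, Matrix.mul_sub, Matrix.one_mul, Matrix.mul_one]
  -- `Y` is surjective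
  have hYsurj : ∀ v : Fin n → F, ∃ u, Y *ᵥ u = v := by
    intro v
    refine ⟨((y⁻¹ : GL (Fin n) F) : Matrix (Fin n) (Fin n) F) *ᵥ v, ?_⟩
    rw [Matrix.mulVec_mulVec, hY, ← Units.val_mul, mul_inv_cancel, Units.val_one,
      Matrix.one_mulVec]
  -- the restricted form
  let hWf : W → W → F := fun a b => Cfsg.hermForm n F q₀ (a : Fin n → F) (b : Fin n → F)
  have hh : HForm q₀ hWf := by
    refine ⟨?_, ?_, ?_, ?_⟩
    · intro a a' b
      exact hermForm_add_left _ _ _
    · intro c a b
      exact hermForm_smul_left _ _ _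
    · intro a b
      exact (hermForm_conj hF _ _).symm
    · intro a ha
      apply Subtype.ext
      rw [Submodule.coe_zero]
      apply hfix _ a.2
      -- `(Y - 1) a = 0`
      have hz : (Y - 1) *ᵥ (a : Fin n → F) = 0 := by
        apply slu8_hermForm_nondeg hF
        intro v
        obtain ⟨u, rfl⟩ := hYsurj v
        have h1 := ha ⟨(Y - 1) *ᵥ u, (hmemW _).mpr ⟨u, rfl⟩⟩
        have h2 : Cfsg.hermForm n F q₀ (a : Fin n → F) ((Y - 1) *ᵥ u) = 0 := h1
        rw [Matrix.sub_mulVec, Matrix.one_mulVec] at h2 ⊢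
        have h3 : Cfsg.hermForm n F q₀ (a : Fin n → F) (Y *ᵥ u - u) =
            Cfsg.hermForm n F q₀ (a : Fin n → F) (Y *ᵥ u) -
              Cfsg.hermForm n F q₀ (Y *ᵥ (a : Fin n → F)) (Y *ᵥ u) := by
          rw [hiso, sub_eq_add_neg, hermForm_add_right hF, ← neg_one_smul F u,
            hermForm_smul_right, sub_eq_add_neg]
          congr 1
          have hq : ((-1 : F)) ^ q₀ = -1 := by
            have := add_pow_q hF (1 : F) (-1)
            rw [add_neg_cancel, zero_pow (q_pos hF).ne', one_pow] at this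
            exact (eq_neg_of_add_eq_zero_right this.symm)
          rw [hq, neg_one_mul]
        rw [h3] at h2
        have h4 : Cfsg.hermForm n F q₀ (Y *ᵥ (a : Fin n → F) - (a : Fin n → F)) (Y *ᵥ u) =
            Cfsg.hermForm n F q₀ (Y *ᵥ (a : Fin n → F)) (Y *ᵥ u) -
              Cfsg.hermForm n F q₀ (a : Fin n → F) (Y *ᵥ u) := by
          rw [sub_eq_add_neg, hermForm_add_left, ← neg_one_smul F (a : Fin n → F),
            hermForm_smul_left, neg_one_mul, ← sub_eq_add_neg]
        rw [h4]
        rw [← neg_sub, h2, neg_zero]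
      rw [Matrix.sub_mulVec, Matrix.one_mulVec, sub_eq_zero] at hz
      exact hz
  -- the restricted isometry
  let T : W →ₗ[F] W := (Matrix.toLin' Y).restrict (fun x hx => by
    rw [Matrix.toLin'_apply]; exact hYW x hx)
  have hTval : ∀ a : W, ((T a : W) : Fin n → F) = Y *ᵥ (a : Fin n → F) := by
    intro a
    simp [T, LinearMap.restrict_apply]
  have hTiso : ∀ a b, hWf (T a) (T b) = hWf a b := by
    intro a b
    show Cfsg.hermForm n F q₀ ((T a : W) : Fin n → F) ((T b : W) : Fin n → F) = _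
    rw [hTval, hTval, hiso]
  have hTpow : ∀ (k : ℕ) (a : W), (((T ^ k) a : W) : Fin n → F) = Y ^ k *ᵥ (a : Fin n → F) := by
    intro k
    induction k with
    | zero => intro a; simp
    | succ k ih =>
      intro a
      rw [pow_succ', Module.End.mul_apply, hTval, ih, Matrix.mulVec_mulVec, ← pow_succ']
  have hTr : T ^ r = 1 := by
    ext a : 1
    apply Subtype.ext
    rw [hTpow, hYr, Matrix.one_mulVec]
    rfl
  have hT1 : T ≠ 1 := by
    intro h1
    apply hy1
    -- every vector of `W` is fixed, so `W = 0`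
    have hW0 : ∀ x ∈ W, x = 0 := by
      intro x hx
      apply hfix x hx
      have := hTval ⟨x, hx⟩
      rw [h1] at this
      exact this.symm
    apply Units.ext
    rw [Units.val_one]
    have hz : Y - 1 = 0 := by
      apply Matrix.toLin'.injective
      apply LinearMap.ext
      intro u
      rw [map_zero, LinearMap.zero_apply]
      apply hW0
      exact LinearMap.mem_range_self _ u
    exact sub_eq_zero.mp hz
  exact slu8_dvd_of_isometry hF i hi hWf hh T hTiso r hTr hT1

end Cfsg.Agent.Lib.Helper80.SLU
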