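import Cfsg.Agent.Lib.Helper53.StOmDefs
import Cfsg.Agent.Lib.Helper08.StSpF3S

/-!
# K-StOm leaf F3P (keystone 254909, S2549 pack of helper53): the rank one identity for the simple
roots `ε_i - ε_{i+1}` of `O⁻_{2m+2}(F)`  (port of Lib/Helper27/StOF3P.lean)

All matrices involved are block diagonal `(A ⊕ D) ⊕ 1` for the decomposition
`MI m = (Fin m ⊕ Fin m) ⊕ Fin 2`; the identity is then the `GL_m` identity
`Helper08.StSp.perm_mul_transvection` on both blocks.  The file is self-contained: it proves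
the instances of the R0 leaves (`mat_sPerm`, `mat_xPerm`) it needs.
-/

set_option autoImplicit false
set_option linter.unusedSectionVars false
set_option linter.unusedVariables false
set_option linter.unusedSimpArgs false

namespace Cfsg.Agent.Lib.Helper80.StOm

open Cfsg Cfsg.Agent.Lib.Helper53.StOm Matrix

variable {m : ℕ} {F : Type*} [Field F] {a b : F}

/-- the block diagonal matrix `(A ⊕ D) ⊕ 1` -/
def blk3 (A D : Matrix (Fin m) (Fin m) F) : Matrix (MI m) (MI m) F :=
  Matrix.fromBlocks (Matrix.fromBlocks A 0 0 D) 0 0 (1 : Matrix (Fin 2) (Fin 2) F)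

theorem blk3_mul (A D A' D' : Matrix (Fin m) (Fin m) F) :
    blk3 A D * blk3 A' D' = blk3 (A * A') (D * D') := by
  unfold blk3
  simp only [Matrix.fromBlocks_multiply, Matrix.mul_zero, Matrix.zero_mul, add_zero, zero_add,
    Matrix.mul_one]

theorem blk3_zz (A D : Matrix (Fin m) (Fin m) F) (j k : Fin 2) :
    blk3 A D (zI j) (zI k) = (1 : Matrix (Fin 2) (Fin 2) F) j k := by
  unfold blk3; simp

theorem blk3_ze (A D : Matrix (Fin m) (Fin m) F) (j : Fin 2) (y : Fin m) :
    blk3 A D (zI j) (eI y) = 0 := by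
  unfold blk3; simp

theorem blk3_zf (A D : Matrix (Fin m) (Fin m) F) (j : Fin 2) (y : Fin m) :
    blk3 A D (zI j) (fI y) = 0 := by
  unfold blk3; simp

theorem blk3_ez (A D : Matrix (Fin m) (Fin m) F) (x : Fin m) (j : Fin 2) :
    blk3 A D (eI x) (zI j) = 0 := by
  unfold blk3; simp

theorem blk3_fz (A D : Matrix (Fin m) (Fin m) F) (x : Fin m) (j : Fin 2) :
    blk3 A D (fI x) (zI j) = 0 := by
  unfold blk3; simp

theorem blk3_ee (A D : Matrix (Fin m) (Fin m) F) (x y : Fin m) :
    blk3 A D (eI x) (eI y) = A x y := by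
  unfold blk3; simp

theorem blk3_ef (A D : Matrix (Fin m) (Fin m) F) (x y : Fin m) :
    blk3 A D (eI x) (fI y) = 0 := by
  unfold blk3; simp

theorem blk3_fe (A D : Matrix (Fin m) (Fin m) F) (x y : Fin m) :
    blk3 A D (fI x) (eI y) = 0 := by
  unfold blk3; simp

theorem blk3_ff (A D : Matrix (Fin m) (Fin m) F) (x y : Fin m) :
    blk3 A D (fI x) (fI y) = D x y := by
  unfold blk3; simp

/-- the action of a block diagonal matrix on a vector -/
theorem blk3_mulVec (A D : Matrix (Fin m) (Fin m) F) (u : MI m → F) :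
    (∀ j, (blk3 A D *ᵥ u) (zI j) = u (zI j)) ∧
    (∀ x, (blk3 A D *ᵥ u) (eI x) = ∑ y, A x y * u (eI y)) ∧
    (∀ x, (blk3 A D *ᵥ u) (fI x) = ∑ y, D x y * u (fI y)) := by
  refine ⟨?_, ?_, ?_⟩
  · intro j
    unfold blk3
    simp [Matrix.mulVec, dotProduct, Fintype.sum_sum_type, Matrix.one_apply]
  · intro x
    unfold blk3
    simp [Matrix.mulVec, dotProduct, Fintype.sum_sum_type]
  · intro x
    unfold blk3
    simp [Matrix.mulVec, dotProduct, Fintype.sum_sum_type]

/-- a block diagonal matrix `(A ⊕ D) ⊕ 1` with `Dᵀ A = 1` preserves `Q` -/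
theorem quad_blk3 (A D : Matrix (Fin m) (Fin m) F) (h : Dᵀ * A = 1) (u : MI m → F) :
    Cfsg.quadFormMinus m F a b (blk3 A D *ᵥ u) = Cfsg.quadFormMinus m F a b u := by
  obtain ⟨hz, he, hf⟩ := blk3_mulVec A D u
  unfold Cfsg.quadFormMinus
  have hz0 : (blk3 A D *ᵥ u) (Sum.inr 0) = u (Sum.inr 0) := hz 0
  have hz1 : (blk3 A D *ᵥ u) (Sum.inr 1) = u (Sum.inr 1) := hz 1
  rw [hz0, hz1]
  congr 1
  have e1 : ∀ x : Fin m, (blk3 A D *ᵥ u) (Sum.inl (Sum.inl x)) = ∑ y, A x y * u (eI y) := he
  have e2 : ∀ x : Fin m, (blk3 A D *ᵥ u) (Sum.inl (Sum.inr x)) = ∑ y, D x y * u (fI y) := hf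
  simp only [e1, e2]
  -- `∑_x (A u_e)_x (D u_f)_x = u_eᵀ Aᵀ D u_f = u_eᵀ u_f`
  have key : ∑ x : Fin m, (∑ y, A x y * u (eI y)) * (∑ y, D x y * u (fI y)) =
      ∑ y, ∑ y', (Dᵀ * A) y' y * (u (eI y) * u (fI y')) := by
    have hL : ∀ x : Fin m, (∑ y, A x y * u (eI y)) * (∑ y, D x y * u (fI y)) =
        ∑ y, ∑ y', A x y * u (eI y) * (D x y' * u (fI y')) := fun x => Finset.sum_mul_sum _ _ _ _
    have hR : ∀ y y' : Fin m, (Dᵀ * A) y' y * (u (eI y) * u (fI y')) =
        ∑ x, D x y' * A x y * (u (eI y) * u (fI y')) := fun y y' => by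
      rw [Matrix.mul_apply, Finset.sum_mul]
      rfl
    simp only [hL, hR]
    rw [Finset.sum_comm]
    refine Finset.sum_congr rfl fun y _ => ?_
    rw [Finset.sum_comm]
    refine Finset.sum_congr rfl fun y' _ => ?_
    refine Finset.sum_congr rfl fun x _ => ?_
    ring
  rw [key, h]
  simp [Matrix.one_apply]

/-- the permutation matrix `sPermMat i j` in block form -/
theorem sPermMat_eq_blk3 (i j : Fin m) :
    sPermMat m F i j = blk3 ((Equiv.swap i j).permMatrix F) ((Equiv.swap i j).permMatrix F) := by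
  ext x y
  unfold sPermMat swapE
  rcases x with (x | x) | x <;> rcases y with (y | y) | y
  · rw [blk3_ee]; simp [Equiv.Perm.permMatrix, PEquiv.toMatrix_apply]
  · rw [blk3_ef]; simp [Equiv.Perm.permMatrix, PEquiv.toMatrix_apply]
  · rw [blk3_ez]; simp [Equiv.Perm.permMatrix, PEquiv.toMatrix_apply]
  · rw [blk3_fe]; simp [Equiv.Perm.permMatrix, PEquiv.toMatrix_apply]
  · rw [blk3_ff]; simp [Equiv.Perm.permMatrix, PEquiv.toMatrix_apply]
  · rw [blk3_fz]; simp [Equiv.Perm.permMatrix, PEquiv.toMatrix_apply]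
  · rw [blk3_ze]; simp [Equiv.Perm.permMatrix, PEquiv.toMatrix_apply]
  · rw [blk3_zf]; simp [Equiv.Perm.permMatrix, PEquiv.toMatrix_apply]
  · rw [blk3_zz]; simp [Equiv.Perm.permMatrix, PEquiv.toMatrix_apply, Matrix.one_apply]

/-- the root matrix `xPermMat i j t` in block form -/
theorem xPermMat_eq_blk3 (i j : Fin m) (t : F) :
    xPermMat m F i j t = blk3 (Matrix.transvection i j t) (Matrix.transvection j i (-t)) := by
  ext x y
  unfold xPermMat Matrix.transvection
  rcases x with (x | x) | x <;> rcases y with (y | y) | y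
  · rw [blk3_ee]; simp [Matrix.one_apply, Matrix.single_apply]
  · rw [blk3_ef]; simp [Matrix.one_apply, Matrix.single_apply]
  · rw [blk3_ez]; simp [Matrix.one_apply, Matrix.single_apply]
  · rw [blk3_fe]; simp [Matrix.one_apply, Matrix.single_apply]
  · rw [blk3_ff]; simp [Matrix.one_apply, Matrix.single_apply, sub_eq_add_neg]
    split_ifs <;> simp
  · rw [blk3_fz]; simp [Matrix.one_apply, Matrix.single_apply]
  · rw [blk3_ze]; simp [Matrix.one_apply, Matrix.single_apply]
  · rw [blk3_zf]; simp [Matrix.one_apply, Matrix.single_apply]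
  · rw [blk3_zz]; simp [Matrix.one_apply, Matrix.single_apply]

theorem blk3_one : blk3 (1 : Matrix (Fin m) (Fin m) F) 1 = 1 := by
  unfold blk3
  rw [Matrix.fromBlocks_one, Matrix.fromBlocks_one]

/-- block diagonal matrices with invertible blocks and `Dᵀ A = 1` are matrices of isometries -/
theorem exists_blk3 (A D A' D' : Matrix (Fin m) (Fin m) F) (hA : A * A' = 1) (hA' : A' * A = 1)
    (hD : D * D' = 1) (hD' : D' * D = 1) (h : Dᵀ * A = 1) :
    ∃ g : OG m F a b, mat g = blk3 A D := by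
  refine exists_of_isometry (blk3 A D) (blk3 A' D') ?_ ?_ (quad_blk3 A D h)
  · rw [blk3_mul, hA, hD, blk3_one]
  · rw [blk3_mul, hA', hD', blk3_one]

/-- instance of leaf R0a: the matrix of `sPerm i j` -/
theorem f3p_mat_sPerm (i j : Fin m) : mat (sPerm m F a b i j) = sPermMat m F i j := by
  unfold sPerm
  refine mat_ofMat _ ?_
  rw [sPermMat_eq_blk3]
  have h1 : (Equiv.swap i j).permMatrix F * (Equiv.swap i j).permMatrix F = 1 := by
    rw [← Matrix.permMatrix_mul]
    simp
  refine exists_blk3 _ _ ((Equiv.swap i j).permMatrix F) ((Equiv.swap i j).permMatrix F)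
    h1 h1 h1 h1 ?_
  rw [Matrix.transpose_permMatrix]
  simpa using h1

/-- instance of leaf R0b: the matrix of `xPerm i j t`, `i ≠ j` -/
theorem f3p_mat_xPerm (i j : Fin m) (hij : i ≠ j) (t : F) :
    mat (xPerm m F a b i j t) = xPermMat m F i j t := by
  unfold xPerm
  refine mat_ofMat _ ?_
  rw [xPermMat_eq_blk3]
  have hji : j ≠ i := hij.symm
  have h1 : Matrix.transvection i j t * Matrix.transvection i j (-t) = 1 := by
    rw [Matrix.transvection_mul_transvection_same i j hij]; simp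
  have h2 : Matrix.transvection i j (-t) * Matrix.transvection i j t = 1 := by
    rw [Matrix.transvection_mul_transvection_same i j hij]; simp
  have h3 : Matrix.transvection j i (-t) * Matrix.transvection j i t = 1 := by
    rw [Matrix.transvection_mul_transvection_same j i hji]; simp
  have h4 : Matrix.transvection j i t * Matrix.transvection j i (-t) = 1 := by
    rw [Matrix.transvection_mul_transvection_same j i hji]; simp
  refine exists_blk3 _ _ (Matrix.transvection i j (-t)) (Matrix.transvection j i t) h1 h2 h3 h4 ?_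
  have h5 : (Matrix.transvection j i (-t))ᵀ = Matrix.transvection i j (-t) := by
    unfold Matrix.transvection
    rw [Matrix.transpose_add, Matrix.transpose_one, Matrix.transpose_single]
  rw [h5]
  exact h2

open Cfsg.Agent.Lib.Helper08.StSp in
/-- the matrix of the torus element -/
def hPermMat (i j : Fin m) (t : F) : Matrix (MI m) (MI m) F :=
  blk3 (Matrix.diagonal (dShort i j t)) (Matrix.diagonal (dShort j i (-t)))

open Cfsg.Agent.Lib.Helper08.StSp in
/-- the matrix identity -/
theorem sPermMat_mul_xPermMat (i j : Fin m) (hij : i ≠ j) (t : F) (ht : t ≠ 0) :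
    sPermMat m F i j * xPermMat m F i j t =
      xPermMat m F i j t⁻¹ * hPermMat i j t * xPermMat m F j i t⁻¹ := by
  rw [sPermMat_eq_blk3, xPermMat_eq_blk3, xPermMat_eq_blk3, xPermMat_eq_blk3]
  unfold hPermMat
  rw [blk3_mul, blk3_mul, blk3_mul]
  have h1 := perm_mul_transvection i j hij t ht
  have h2 := perm_mul_transvection j i hij.symm (-t) (neg_ne_zero.mpr ht)
  rw [Equiv.swap_comm j i, inv_neg] at h2
  rw [h1, h2]

open Cfsg.Agent.Lib.Helper08.StSp in
theorem exists_hPerm (i j : Fin m) (hij : i ≠ j) (t : F) (ht : t ≠ 0) :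
    ∃ g : OG m F a b, mat g = hPermMat i j t := by
  unfold hPermMat
  have e1 : (fun x => dShort i j t x * dShort j i (-t) x) = fun _ => (1 : F) :=
    funext fun x => dShort_mul i j hij t ht x
  have e2 : (fun x => dShort j i (-t) x * dShort i j t x) = fun _ => (1 : F) :=
    funext fun x => by rw [mul_comm]; exact dShort_mul i j hij t ht x
  have h1 : Matrix.diagonal (dShort i j t) * Matrix.diagonal (dShort j i (-t)) = 1 := by
    rw [Matrix.diagonal_mul_diagonal, e1, ← Matrix.diagonal_one]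
  have h2 : Matrix.diagonal (dShort j i (-t)) * Matrix.diagonal (dShort i j t) = 1 := by
    rw [Matrix.diagonal_mul_diagonal, e2, ← Matrix.diagonal_one]
  refine exists_blk3 _ _ (Matrix.diagonal (dShort j i (-t))) (Matrix.diagonal (dShort i j t))
    h1 h2 h2 h1 ?_
  rw [Matrix.diagonal_transpose]
  exact h2

/-- the torus element -/
noncomputable def hPerm (i j : Fin m) (t : F) : OG m F a b := ofMat a b (hPermMat i j t)

theorem mat_hPerm (i j : Fin m) (hij : i ≠ j) (t : F) (ht : t ≠ 0) :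
    mat (hPerm (F := F) (a := a) (b := b) i j t) = hPermMat i j t :=
  mat_ofMat _ (exists_hPerm i j hij t ht)

theorem hPerm_mem_T (i j : Fin m) (hij : i ≠ j) (t : F) (ht : t ≠ 0) :
    hPerm (F := F) (a := a) (b := b) i j t ∈ Tsub m F a b := by
  rw [mem_Tsub_iff]
  intro x y hxy
  rw [mat_hPerm i j hij t ht]
  unfold hPermMat
  rcases x with (x | x) | x <;> rcases y with (y | y) | y
  · have : x ≠ y := fun h => hxy (by rw [h])
    rw [blk3_ee, Matrix.diagonal_apply_ne _ this]
  · rw [blk3_ef]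
  · rw [blk3_ez]
  · rw [blk3_fe]
  · have : x ≠ y := fun h => hxy (by rw [h])
    rw [blk3_ff, Matrix.diagonal_apply_ne _ this]
  · rw [blk3_fz]
  · rw [blk3_ze]
  · rw [blk3_zf]
  · exact absurd rfl hxy

theorem rank_one_perm_aux (i j : Fin m) (hij : i ≠ j) (t : F) (ht : t ≠ 0) :
    sPerm m F a b i j * xPerm m F a b i j t =
      xPerm m F a b i j t⁻¹ * hPerm i j t * xPerm m F a b j i t⁻¹ := by
  apply mat_injective
  rw [mat_mul, mat_mul, mat_mul, f3p_mat_sPerm, f3p_mat_xPerm i j hij, f3p_mat_xPerm i j hij,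
    f3p_mat_xPerm j i hij.symm, mat_hPerm i j hij t ht]
  exact sPermMat_mul_xPermMat i j hij t ht

/-- LEAF F3P (keystone 254909): the rank one identity, roots `ε_i - ε_{i+1}`. -/
theorem rank_one_perm (i : Fin m) (hi : i.val + 1 < m) (t : F) (ht : t ≠ 0) :
    ∃ t' t'' : F, ∃ h ∈ Tsub m F a b,
      sPerm m F a b i (nxt i hi) * xPerm m F a b i (nxt i hi) t =
        xPerm m F a b i (nxt i hi) t' * h * xPerm m F a b (nxt i hi) i t'' :=
  ⟨t⁻¹, t⁻¹, hPerm i (nxt i hi) t, hPerm_mem_T i (nxt i hi) (ne_nxt i hi) t ht,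
    rank_one_perm_aux i (nxt i hi) (ne_nxt i hi) t ht⟩

end Cfsg.Agent.Lib.Helper80.StOm
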