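import Cfsg.Agent.Lib.Helper53.StOmDefs
import Cfsg.Agent.Lib.Helper80.StOmF3P

/-!
# K-StOm leaf R0b (keystone 254902, S2549 pack of helper53): the matrix of `xPerm i j t`, `i ≠ j`
(parallel hand; the proof is `f3p_mat_xPerm` of `StOmF3P`)
-/

set_option autoImplicit false
set_option linter.unusedSectionVars false

namespace Cfsg.Agent.Lib.Helper80.StOm

open Cfsg Cfsg.Agent.Lib.Helper53.StOm

variable {m : ℕ} {F : Type*} [Field F] {a b : F}

/-- LEAF R0b -/
theorem mat_xPerm (i j : Fin m) (hij : i ≠ j) (t : F) :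
    mat (xPerm m F a b i j t) = xPermMat m F i j t :=
  f3p_mat_xPerm i j hij t

end Cfsg.Agent.Lib.Helper80.StOm
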