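import Mathlib

/-!
# K-NSE3 leaf 399606 L05b `sum_pair` (helper80): abstract double pairing sum
-/

set_option autoImplicit false

namespace Cfsg.Agent.Lib.Helper80.NSE3

/-- L05b abstract double pairing sum. -/
theorem sum_pair (N p q : ℕ) (hp : p.Prime) (hq : q.Prime) (hpq : p ≠ q) (hpN : p ∣ N)
    (hqN : q ∣ N) (hN : N ≠ 0) (f : ℕ → ℕ) (c : ℕ)
    (hsqp : ∀ k, p * p ∣ k → f k = 0) (hsqq : ∀ k, q * q ∣ k → f k = 0)
    (hpair : ∀ k, k ∣ N → ¬ p ∣ k → ¬ q ∣ k →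
      f (p * k) + f (p * q * k) = if f k = 0 then 0 else c) :
    ∑ k ∈ N.divisors.filter (fun k => p ∣ k), f k =
      c * ((N.divisors.filter (fun k => ¬ p ∣ k ∧ ¬ q ∣ k ∧ f k ≠ 0)).card) := by
  classical
  set K := N.divisors.filter (fun k => ¬ p ∣ k ∧ ¬ q ∣ k) with hK
  have hKmem : ∀ k, k ∈ K ↔ k ∣ N ∧ ¬ p ∣ k ∧ ¬ q ∣ k := by
    intro k
    rw [hK, Finset.mem_filter, Nat.mem_divisors]
    constructor
    · rintro ⟨⟨h1, _⟩, h2⟩; exact ⟨h1, h2⟩
    · rintro ⟨h1, h2⟩; exact ⟨⟨h1, hN⟩, h2⟩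
  have hcpq : Nat.Coprime p q := (Nat.coprime_primes hp hq).mpr hpq
  have hp0 : 0 < p := hp.pos
  have hq0 : 0 < q := hq.pos
  have hpqN : p * q ∣ N := Nat.Coprime.mul_dvd_of_dvd_of_dvd hcpq hpN hqN
  set A := K.image (fun k => p * k) with hA
  set B := K.image (fun k => p * q * k) with hB
  have hcop : ∀ k, ¬ p ∣ k → Nat.Coprime p k := fun k hk => (Nat.Prime.coprime_iff_not_dvd hp).mpr hk
  have hcoq : ∀ k, ¬ q ∣ k → Nat.Coprime q k := fun k hk => (Nat.Prime.coprime_iff_not_dvd hq).mpr hk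
  have hsub : A ∪ B ⊆ N.divisors.filter (fun k => p ∣ k) := by
    intro d hd
    rw [Finset.mem_filter, Nat.mem_divisors]
    rcases Finset.mem_union.mp hd with h | h
    · obtain ⟨k, hk, rfl⟩ := Finset.mem_image.mp h
      obtain ⟨h1, h2, _⟩ := (hKmem k).mp hk
      exact ⟨⟨Nat.Coprime.mul_dvd_of_dvd_of_dvd (hcop k h2) hpN h1, hN⟩, Dvd.intro _ rfl⟩
    · obtain ⟨k, hk, rfl⟩ := Finset.mem_image.mp h
      obtain ⟨h1, h2, h3⟩ := (hKmem k).mp hk
      have hc : Nat.Coprime (p * q) k := Nat.Coprime.mul_left (hcop k h2) (hcoq k h3)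
      exact ⟨⟨Nat.Coprime.mul_dvd_of_dvd_of_dvd hc hpqN h1, hN⟩, by
        rw [mul_assoc]; exact Dvd.intro _ rfl⟩
  have hzero : ∀ d ∈ N.divisors.filter (fun k => p ∣ k), d ∉ A ∪ B → f d = 0 := by
    intro d hd hnd
    rw [Finset.mem_filter, Nat.mem_divisors] at hd
    obtain ⟨⟨hdN, _⟩, k, rfl⟩ := hd
    by_cases hpk : p ∣ k
    · exact hsqp _ (Nat.mul_dvd_mul_left p hpk)
    have hkN : k ∣ N := (Dvd.intro_left p rfl).trans hdN
    by_cases hqk : q ∣ k
    · obtain ⟨k', rfl⟩ := hqk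
      by_cases hqk' : q ∣ k'
      · apply hsqq
        obtain ⟨k'', rfl⟩ := hqk'
        exact ⟨p * k'', by ring⟩
      · exfalso
        apply hnd
        apply Finset.mem_union_right
        rw [hB, Finset.mem_image]
        refine ⟨k', (hKmem k').mpr ⟨(Dvd.intro_left q rfl).trans hkN, ?_, hqk'⟩, by ring⟩
        intro hpk'
        exact hpk (hpk'.mul_left q)
    · exfalso
      apply hnd
      apply Finset.mem_union_left
      rw [hA, Finset.mem_image]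
      exact ⟨k, (hKmem k).mpr ⟨hkN, hpk, hqk⟩, rfl⟩
  have hdisj : Disjoint A B := by
    rw [Finset.disjoint_left]
    intro d hdA hdB
    obtain ⟨k, hk, rfl⟩ := Finset.mem_image.mp hdA
    obtain ⟨k', _, hk'⟩ := Finset.mem_image.mp hdB
    obtain ⟨_, _, h3⟩ := (hKmem k).mp hk
    apply h3
    have : q * k' = k := by
      have h4 : p * (q * k') = p * k := by rw [← mul_assoc]; exact hk'
      exact Nat.eq_of_mul_eq_mul_left hp0 h4
    rw [← this]
    exact Dvd.intro _ rfl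
  have hinjA : ∀ x ∈ K, ∀ y ∈ K, p * x = p * y → x = y :=
    fun x _ y _ h => Nat.eq_of_mul_eq_mul_left hp0 h
  have hinjB : ∀ x ∈ K, ∀ y ∈ K, p * q * x = p * q * y → x = y :=
    fun x _ y _ h => Nat.eq_of_mul_eq_mul_left (Nat.mul_pos hp0 hq0) h
  rw [← Finset.sum_subset hsub hzero, Finset.sum_union hdisj, hA, hB,
    Finset.sum_image hinjA, Finset.sum_image hinjB, ← Finset.sum_add_distrib]
  have h5 : ∀ k ∈ K, f (p * k) + f (p * q * k) = if f k = 0 then 0 else c := by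
    intro k hk
    obtain ⟨h1, h2, h3⟩ := (hKmem k).mp hk
    exact hpair k h1 h2 h3
  rw [Finset.sum_congr rfl h5, Finset.sum_ite, Finset.sum_const_zero, zero_add, Finset.sum_const,
    smul_eq_mul, mul_comm]
  congr 2
  rw [hK, Finset.filter_filter]
  apply Finset.filter_congr
  intro k _
  constructor
  · rintro ⟨⟨h1, h2⟩, h3⟩; exact ⟨h1, h2, h3⟩
  · rintro ⟨h1, h2, h3⟩; exact ⟨⟨h1, h2⟩, h3⟩

end Cfsg.Agent.Lib.Helper80.NSE3
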