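import Mathlib
import Cfsg.Prelude.Def_GeometricClasses
import Cfsg.Agent.Lib.Helper69.SLTDefs
import Cfsg.Agent.Lib.Helper49.SemisimpleConj

/-!
# K-SLT-P2 (keystone 597909, pack S5979, architect helper69)

`q` odd, `x ∈ GL(Fin 2 × Fin b)`, `x² = z` a nonsquare: `x` is conjugate to `!![0, z; 1, 0] ⊗ₖ 1` by
matrices of every determinant.
-/

set_option autoImplicit false
set_option linter.style.haveILetI false

namespace Cfsg.Agent.Lib.Helper80.SLT

open Matrix Cfsg.Agent.Lib.Helper69.SLT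
open scoped Kronecker

variable {F : Type*} [Field F]

/-- a matrix with `A * A = z • 1` is killed by `X² - z` -/
theorem sltp2_aeval_sq_sub {ι : Type*} [Fintype ι] [DecidableEq ι] (A : Matrix ι ι F) (z : F)
    (hA : A * A = z • (1 : Matrix ι ι F)) :
    Polynomial.aeval (Matrix.toLin' A) (Polynomial.X ^ 2 - Polynomial.C z : Polynomial F) = 0 := by
  rw [map_sub, map_pow, Polynomial.aeval_X, Polynomial.aeval_C, pow_two, Module.End.mul_eq_comp,
    ← Matrix.toLin'_mul, hA, Algebra.algebraMap_eq_smul_one, map_smul, Matrix.toLin'_one]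
  exact sub_self _

/-- the model matrix -/
def sltp2N (z : F) : Matrix (Fin 2) (Fin 2) F := !![0, z; 1, 0]

theorem sltp2N_mul_self (z : F) : sltp2N z * sltp2N z = z • (1 : Matrix (Fin 2) (Fin 2) F) := by
  ext i j
  fin_cases i <;> fin_cases j <;> simp [sltp2N, Matrix.mul_apply, Fin.sum_univ_two]

theorem sltp2N_det (z : F) : (sltp2N z).det = -z := by
  simp [sltp2N, Matrix.det_fin_two]

/-- **597909 K-SLT-P2.** -/
theorem allDetKronConj_of_nonsq [Fintype F] (hodd : Odd (Fintype.card F)) (b : ℕ) (hb : 1 ≤ b)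
    (x : GL (Fin 2 × Fin b) F) (z : F) (hz : ¬ IsSquare z)
    (hx : ((x ^ 2 : GL (Fin 2 × Fin b) F) : Matrix (Fin 2 × Fin b) (Fin 2 × Fin b) F) =
      z • (1 : Matrix (Fin 2 × Fin b) (Fin 2 × Fin b) F)) :
    AllDetKronConj 2 b x := by
  classical
  intro δ
  set X : Matrix (Fin 2 × Fin b) (Fin 2 × Fin b) F := (x : Matrix (Fin 2 × Fin b) (Fin 2 × Fin b) F)
    with hXdef
  have hX2 : X * X = z • (1 : Matrix (Fin 2 × Fin b) (Fin 2 × Fin b) F) := by
    rw [← hx, Units.val_pow_eq_pow_val, pow_two]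
  have hz0 : z ≠ 0 := by
    rintro rfl; exact hz ⟨0, by simp⟩
  set N : Matrix (Fin 2) (Fin 2) F := sltp2N z with hN
  set X₀ : Matrix (Fin 2 × Fin b) (Fin 2 × Fin b) F := N ⊗ₖ (1 : Matrix (Fin b) (Fin b) F) with hX₀
  have hX₀2 : X₀ * X₀ = z • (1 : Matrix (Fin 2 × Fin b) (Fin 2 × Fin b) F) := by
    rw [hX₀, ← Matrix.mul_kronecker_mul, hN, sltp2N_mul_self, Matrix.one_mul, Matrix.smul_kronecker,
      Matrix.one_kronecker_one]
  have hirr : Irreducible (Polynomial.X ^ 2 - Polynomial.C z : Polynomial F) := by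
    apply X_pow_sub_C_irreducible_of_prime Nat.prime_two
    intro c hc
    exact hz ⟨c, by rw [← hc, pow_two]⟩
  obtain ⟨φ, hφ⟩ := Cfsg.Agent.Lib.Helper49.exists_equiv_of_irreducible
    (Matrix.toLin' X) (Matrix.toLin' X₀) _ hirr (sltp2_aeval_sq_sub _ z hX2)
    (sltp2_aeval_sq_sub _ z hX₀2) rfl
  let G : Matrix (Fin 2 × Fin b) (Fin 2 × Fin b) F :=
    LinearMap.toMatrix' (φ : (Fin 2 × Fin b → F) →ₗ[F] (Fin 2 × Fin b → F))
  let G' : Matrix (Fin 2 × Fin b) (Fin 2 × Fin b) F :=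
    LinearMap.toMatrix' (φ.symm : (Fin 2 × Fin b → F) →ₗ[F] (Fin 2 × Fin b → F))
  have hGG' : G * G' = 1 := by
    rw [← LinearMap.toMatrix'_comp]; simp
  have hG'G : G' * G = 1 := by
    rw [← LinearMap.toMatrix'_comp]; simp
  have hGx : G * X = X₀ * G := by
    apply Matrix.toLin'.injective
    apply LinearMap.ext
    intro v
    rw [Matrix.toLin'_mul, Matrix.toLin'_mul, LinearMap.comp_apply, LinearMap.comp_apply]
    have e1 : Matrix.toLin' G = (φ : (Fin 2 × Fin b → F) →ₗ[F] (Fin 2 × Fin b → F)) :=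
      Matrix.toLin'_toMatrix' _
    rw [e1]
    exact hφ v
  -- the first conjugating matrix
  let h₀ : GL (Fin 2 × Fin b) F := ⟨G', G, hG'G, hGG'⟩
  have hh₀val : (h₀ : Matrix (Fin 2 × Fin b) (Fin 2 × Fin b) F) = G' := rfl
  have hh₀inv : ((h₀⁻¹ : GL (Fin 2 × Fin b) F) : Matrix (Fin 2 × Fin b) (Fin 2 × Fin b) F) = G := rfl
  -- the determinant we still need
  obtain ⟨δ', hδ'⟩ : ∃ δ' : Fˣ, δ' = δ * (Matrix.GeneralLinearGroup.det h₀)⁻¹ := ⟨_, rfl⟩
  -- the norm form is surjective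
  have hodd' : Fintype.card F % 2 = 1 := Nat.odd_iff.mp hodd
  obtain ⟨a₀, b₀, hab⟩ := FiniteField.exists_root_sum_quadratic
    (f := (Polynomial.X ^ 2 : Polynomial F))
    (g := Polynomial.C (-z) * Polynomial.X ^ 2 + Polynomial.C (-(δ' : F)))
    (Polynomial.degree_X_pow 2)
    (by
      rw [Polynomial.degree_add_C, Polynomial.degree_C_mul_X_pow 2 (neg_ne_zero.mpr hz0)]
      · rfl
      · rw [Polynomial.degree_C_mul_X_pow 2 (neg_ne_zero.mpr hz0)]; norm_num)
    hodd'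
  simp only [Polynomial.eval_pow, Polynomial.eval_X, Polynomial.eval_add, Polynomial.eval_mul,
    Polynomial.eval_C] at hab
  have hab' : a₀ ^ 2 - z * b₀ ^ 2 = (δ' : F) := by linear_combination hab
  -- the centralising matrix
  let j₀ : Fin b := ⟨0, hb⟩
  let A₀ : Matrix (Fin 2) (Fin 2) F := a₀ • (1 : Matrix (Fin 2) (Fin 2) F) + b₀ • N
  have hA₀det : A₀.det = (δ' : F) := by
    rw [← hab']
    simp [A₀, hN, sltp2N, Matrix.det_fin_two]
    ring
  have hA₀N : A₀ * N = N * A₀ := by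
    simp only [A₀, Matrix.add_mul, Matrix.mul_add, Matrix.smul_mul, Matrix.mul_smul, Matrix.one_mul,
      Matrix.mul_one]
  let Cf : Fin b → Matrix (Fin 2) (Fin 2) F := fun j => if j = j₀ then A₀ else 1
  have hCfN : ∀ j, Cf j * N = N * Cf j := by
    intro j
    by_cases hj : j = j₀
    · simp only [Cf, if_pos hj]; exact hA₀N
    · simp only [Cf, if_neg hj, Matrix.one_mul, Matrix.mul_one]
  set C : Matrix (Fin 2 × Fin b) (Fin 2 × Fin b) F := Matrix.blockDiagonal Cf with hC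
  have hCdet : C.det = (δ' : F) := by
    rw [hC, Matrix.det_blockDiagonal, Finset.prod_eq_single j₀]
    · simp only [Cf, if_pos rfl]; exact hA₀det
    · intro j _ hj
      simp only [Cf, if_neg hj, Matrix.det_one]
    · intro h; exact absurd (Finset.mem_univ _) h
  have hCX₀ : C * X₀ = X₀ * C := by
    rw [hX₀, Matrix.kronecker_one, hC, ← Matrix.blockDiagonal_mul, ← Matrix.blockDiagonal_mul]
    congr 1
    funext j
    exact hCfN j
  let c : GL (Fin 2 × Fin b) F := Matrix.GeneralLinearGroup.mkOfDetNeZero C (by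
    rw [hCdet]; exact Units.ne_zero _)
  have hcval : (c : Matrix (Fin 2 × Fin b) (Fin 2 × Fin b) F) = C := rfl
  have hcdet : Matrix.GeneralLinearGroup.det c = δ' := by
    apply Units.ext
    rw [Matrix.GeneralLinearGroup.val_det_apply, hcval, hCdet]
  -- the model element
  let nG : GL (Fin 2) F := Matrix.GeneralLinearGroup.mkOfDetNeZero N (by
    rw [hN, sltp2N_det]; exact neg_ne_zero.mpr hz0)
  have hnGval : (nG : Matrix (Fin 2) (Fin 2) F) = N := rfl
  refine ⟨h₀ * c, ?_, ?_⟩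
  · rw [map_mul, hcdet, hδ']
    rw [mul_comm, mul_assoc, inv_mul_cancel, mul_one]
  · refine ⟨nG, 1, ?_⟩
    rw [hnGval, Units.val_one, ← hX₀]
    -- `(h₀ c)⁻¹ x (h₀ c) = X₀`
    have h1 : ((h₀ * c)⁻¹ * x * (h₀ * c) : GL (Fin 2 × Fin b) F) = c⁻¹ * (h₀⁻¹ * x * h₀) * c := by
      group
    rw [h1]
    have h2 : ((h₀⁻¹ * x * h₀ : GL (Fin 2 × Fin b) F) :
        Matrix (Fin 2 × Fin b) (Fin 2 × Fin b) F) = X₀ := by
      rw [Units.val_mul, Units.val_mul, hh₀inv, hh₀val, ← hXdef, hGx, Matrix.mul_assoc, hGG',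
        Matrix.mul_one]
    have h3 : ((c⁻¹ : GL (Fin 2 × Fin b) F) : Matrix (Fin 2 × Fin b) (Fin 2 × Fin b) F) * C = 1 := by
      rw [← hcval, ← Units.val_mul, inv_mul_cancel, Units.val_one]
    rw [Units.val_mul, Units.val_mul, h2, hcval, Matrix.mul_assoc, ← hCX₀, ← Matrix.mul_assoc, h3,
      Matrix.one_mul]

end Cfsg.Agent.Lib.Helper80.SLT
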