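import Mathlib
import Cfsg.Agent.Lib.Helper69.StNDefs
import Cfsg.Agent.Lib.Helper07.SteinbergLift

set_option autoImplicit false

/-! K-StN-C1 (keystone 240107, S2401): multiplicativity of the torus elements `hh X i j u`,
by transport from `SL₂(K)` along `Helper07.StData.slHom`. -/

namespace Cfsg.Agent.Lib.Helper80.StN

open Cfsg.Agent.Lib.Helper69.StN Matrix Cfsg.Agent.Lib.Helper07

variable {n : ℕ} {K : Type*} [Field K] {S : Type*} [Group S] {X : Fin n → Fin n → K → S}

/-- the monomial element of `SL₂(K)`. -/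
def c1W (u : K) : SpecialLinearGroup (Fin 2) K := upSL u * loSL (-u⁻¹) * upSL u

lemma c1W_val {u : K} (hu : u ≠ 0) :
    ((c1W u : SpecialLinearGroup (Fin 2) K) : Matrix (Fin 2) (Fin 2) K) = !![0, u; -u⁻¹, 0] := by
  unfold c1W
  ext a b
  fin_cases a <;> fin_cases b <;>
    simp [upT, loT, Matrix.mul_apply, Fin.sum_univ_two, hu]

lemma c1_diag_val {u : K} (hu : u ≠ 0) :
    ((c1W u * c1W (-1) : SpecialLinearGroup (Fin 2) K) : Matrix (Fin 2) (Fin 2) K) =
      !![u, 0; 0, u⁻¹] := by
  have h1 := c1W_val hu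
  have h2 := c1W_val (K := K) (u := -1) (neg_ne_zero.mpr one_ne_zero)
  change (c1W u).val * (c1W (-1 : K)).val = _
  rw [h1, h2]
  ext a b
  fin_cases a <;> fin_cases b <;>
    simp [Matrix.mul_apply, Fin.sum_univ_two]

lemma c1_diag_mul {u v : K} (hu : u ≠ 0) (hv : v ≠ 0) :
    (c1W (u * v) * c1W (-1) : SpecialLinearGroup (Fin 2) K) =
      (c1W u * c1W (-1)) * (c1W v * c1W (-1)) := by
  apply Subtype.ext
  have h1 := c1_diag_val (mul_ne_zero hu hv)
  have h2 := c1_diag_val hu
  have h3 := c1_diag_val hv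
  change (c1W (u * v) * c1W (-1 : K)).val = (c1W u * c1W (-1 : K)).val * (c1W v * c1W (-1 : K)).val
  rw [h1, h2, h3]
  ext a b
  fin_cases a <;> fin_cases b <;>
    simp [Matrix.mul_apply, Fin.sum_univ_two, mul_comm]

/-- the rank one Steinberg data attached to a pair of opposite roots. -/
def c1Data (hX : IsSt X) (hA : HasActsW X) {i j : Fin n} (hij : i ≠ j) : StData K S where
  x := X i j
  y := X j i
  x_add := hX.add i j hij
  y_add := hX.add j i hij.symm
  rel1 := by
    intro t u ht
    have h := (hA i j hij t ht).2 i j hij u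
    simp only [Equiv.swap_apply_left, Equiv.swap_apply_right, dW, if_true, if_neg hij.symm] at h
    unfold w at h
    rw [h]
    congr 1
    field_simp
  rel2 := by
    intro t u ht
    have h := (hA j i hij.symm t ht).2 j i hij.symm u
    simp only [Equiv.swap_apply_left, Equiv.swap_apply_right, dW, if_true, if_neg hij] at h
    unfold w at h
    rw [h]
    congr 1
    field_simp

theorem hasHhMul [Finite K] (hX : IsSt X) (hA : HasActsW X) : HasHhMul X := by
  intro i j hij u v hu hv
  let D : StData K S := c1Data hX hA hij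
  have hw : ∀ t : K, w X i j t = D.slHom (c1W t) := by
    intro t
    unfold w c1W
    rw [map_mul, map_mul, D.slHom_upSL, D.slHom_loSL]
    rfl
  have hhh : ∀ t : K, hh X i j t = D.slHom (c1W t * c1W (-1)) := by
    intro t
    unfold hh
    rw [map_mul, hw, hw]
  rw [hhh, hhh, hhh, ← map_mul, c1_diag_mul hu hv]

end Cfsg.Agent.Lib.Helper80.StN
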