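import Mathlib
import Cfsg.Agent.Lib.Helper70.BQSDefs
import Cfsg.Agent.Lib.Helper13.MinNormalSolvable

/-!
# K-BQS leaf 391204 B4 `exists_normal_elementary_abelian_le` (helper80)

A minimal normal subgroup of `G` inside `M` (`Helper13.exists_isMinNormal_le`) is an elementary
abelian `r`-group (`Helper13.IsMinNormal.exists_prime`).
-/

set_option autoImplicit false

namespace Cfsg.Agent.Lib.Helper80.BQS

open Cfsg Cfsg.Agent.Lib.Helper70.BQS

/-- B4 (MEDIUM). -/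
theorem exists_normal_elementary_abelian_le {G : Type*} [Group G] [Finite G] (hsol : Group.IsSolvable G)
    (M : Subgroup G) [M.Normal] (hM : M ≠ ⊥) :
    ∃ M₁ : Subgroup G, M₁ ≤ M ∧ M₁.Normal ∧ M₁ ≠ ⊥ ∧
      ∃ r t : ℕ, r.Prime ∧ Nat.card ↥M₁ = r ^ t ∧ Cfsg.IsElementaryAbelian r M₁ := by
  haveI := hsol
  obtain ⟨M₁, hle, hmin⟩ := Cfsg.Agent.Lib.Helper13.exists_isMinNormal_le M inferInstance hM
  obtain ⟨r, hr, _, hexp, hpg⟩ := hmin.exists_prime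
  haveI : Fact r.Prime := ⟨hr⟩
  obtain ⟨t, ht⟩ := hpg.exists_card_eq
  refine ⟨M₁, hle, hmin.1, hmin.2.1, r, t, hr, ht, ⟨⟨?_⟩⟩, hexp⟩
  intro a b
  exact Subtype.ext (hmin.mul_comm_of_mem a.2 b.2)

end Cfsg.Agent.Lib.Helper80.BQS
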