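import Mathlib
import Cfsg.Agent.Lib.Helper70.BQSDefs

/-!
# K-BQS leaves 391208 B9 `smallComm_of_isCyclic` and 391209 B10 `card_dvd_eight_of_elementary`
(helper80)
-/

set_option autoImplicit false

namespace Cfsg.Agent.Lib.Helper80.BQS

open Cfsg Cfsg.Agent.Lib.Helper70.BQS

/-- B9 (EASY-MEDIUM). -/
theorem smallComm_of_isCyclic {G : Type*} [Group G] [Finite G] (S : Sylow 2 G)
    (h : IsCyclic ↥(S : Subgroup G)) : SmallComm S := by
  intro T hT _
  haveI : Fact (Nat.Prime 2) := ⟨Nat.prime_two⟩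
  obtain ⟨Q, hTQ⟩ := hT.exists_le_sylow
  obtain ⟨g, hg⟩ := MulAction.exists_smul_eq G S Q
  haveI := h
  haveI hQc : IsCyclic ↥(Q : Subgroup G) := by
    rw [← hg]
    exact isCyclic_of_surjective (Sylow.equivSMul S g) (Sylow.equivSMul S g).surjective
  haveI : IsCyclic ↥(T.subgroupOf (Q : Subgroup G)) := Subgroup.isCyclic _
  haveI hTc : IsCyclic ↥T :=
    isCyclic_of_surjective (Subgroup.subgroupOfEquivOfLe hTQ)
      (Subgroup.subgroupOfEquivOfLe hTQ).surjective
  refine ⟨⟨fun a b => ?_⟩⟩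
  letI := IsCyclic.commGroup (α := ↥T)
  exact mul_comm a b

/-- B10 (EASY-MEDIUM). -/
theorem card_dvd_eight_of_elementary {G : Type*} [Group G] [Finite G] (M : Subgroup G) [M.Normal]
    (hM2 : Nat.card ↥M = 2) (h9 : ∀ a : G, (∃ m ∈ M, orderOf m = orderOf a) → a ∈ M)
    (S : Sylow 2 G) (hS : Cfsg.IsElementaryAbelian 2 (S : Subgroup G)) :
    Nat.card ↥(S : Subgroup G) ∣ 8 := by
  -- an element of order 2 in M
  have hne : M ≠ ⊥ := by
    intro h
    rw [h, Subgroup.card_bot] at hM2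
    omega
  obtain ⟨m, hm1⟩ := (Subgroup.ne_bot_iff_exists_ne_one (H := M)).mp hne
  have hm1' : (m : G) ≠ 1 := fun h => hm1 (Subtype.ext h)
  have hmo : orderOf (m : G) = 2 := by
    have h1 : orderOf (m : G) ∣ 2 := by
      rw [Subgroup.orderOf_coe, ← hM2]
      exact orderOf_dvd_natCard m
    rcases (Nat.dvd_prime Nat.prime_two).mp h1 with h | h
    · exact absurd (orderOf_eq_one_iff.mp h) hm1'
    · exact h
  have hSM : (S : Subgroup G) ≤ M := by
    intro s hs
    by_cases hs1 : s = 1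
    · rw [hs1]; exact M.one_mem
    · apply h9 s
      refine ⟨(m : G), m.2, ?_⟩
      rw [hmo]
      have h2 : s ^ 2 = 1 := hS.2 s hs
      have h3 : orderOf s ∣ 2 := orderOf_dvd_of_pow_eq_one h2
      rcases (Nat.dvd_prime Nat.prime_two).mp h3 with h | h
      · exact absurd (orderOf_eq_one_iff.mp h) hs1
      · exact h.symm
  have h4 : Nat.card ↥(S : Subgroup G) ∣ Nat.card ↥M := Subgroup.card_dvd_of_le hSM
  rw [hM2] at h4
  exact h4.trans (by norm_num)

end Cfsg.Agent.Lib.Helper80.BQS
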