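import Mathlib
import Cfsg.Prelude.Def_GeometricClasses
import Cfsg.Prelude.Def_ClassicalGeometry
import Cfsg.Agent.Lib.Helper72.OQFDefs
import Cfsg.Agent.Lib.Helper72.OQFDefs2
import Cfsg.Agent.Lib.Helper14.SpUA0
import Cfsg.Agent.Lib.Helper50.GramMinus

/-!
# K-OQF-TL (keystone 597722, architect helper72, pack S5978)

Minus type forces the last norm `c = ⟨β, 2a⟩` of a normal frame to be a non-square of `LL δ` when `d` is even.
Proof by discriminants: the Gram determinant of the polar form in the frame basis `b k, θ b k` is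
`∏ k, (4 δ Q(b k)² - B(b k, θ b k)²) = (-1)^(d-1) (4 δ a² - β²) = N(c)` (`d` even), and it is `D² (a₀² - 4 b₀)` where
`a₀² - 4 b₀` is a non-square; `c = γ²` would make `N(c) = N(γ)²` a square.
-/

set_option autoImplicit false

namespace Cfsg.Agent.Lib.Helper80.OQF

open Cfsg Cfsg.Geo Cfsg.Agent.Lib.Helper72.OQF
open Cfsg.Agent.Lib.Helper14.SpU (LL)
open scoped Matrix MatrixGroups

variable {F : Type*} [Field F] {ι : Type} [Fintype ι] [DecidableEq ι]

/-- Gram determinant of a family of `card ι` vectors -/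
theorem det_gram_fam (M : Matrix ι ι F) (e : ι → ι → F) :
    (Matrix.of fun j j' => e j ⬝ᵥ M *ᵥ e j').det = (Matrix.of e).det ^ 2 * M.det := by
  have h : (Matrix.of fun j j' => e j ⬝ᵥ M *ᵥ e j') = Matrix.of e * M * (Matrix.of e)ᵀ := by
    ext j j'
    simp only [Matrix.of_apply, Matrix.mul_apply, Matrix.transpose_apply, dotProduct, Matrix.mulVec,
      Finset.sum_mul, Finset.mul_sum]
    rw [Finset.sum_comm]
    refine Finset.sum_congr rfl fun k _ => Finset.sum_congr rfl fun i _ => ?_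
    ring
  rw [h, Matrix.det_mul, Matrix.det_mul, Matrix.det_transpose]
  ring

/-- determinant of a matrix which is block diagonal with `2 × 2` blocks -/
theorem det_blocks {d : ℕ} (G : Matrix (Fin d × Fin 2) (Fin d × Fin 2) F)
    (Bk : Fin d → Matrix (Fin 2) (Fin 2) F)
    (h : ∀ k i l j, G (k, i) (l, j) = if k = l then Bk k i j else 0) : G.det = ∏ k, (Bk k).det := by
  have h' : G = (Matrix.blockDiagonal Bk).submatrix (Equiv.prodComm _ _) (Equiv.prodComm _ _) := by
    ext ⟨k, i⟩ ⟨l, j⟩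
    simp [Matrix.blockDiagonal_apply, h]
  rw [h', Matrix.det_submatrix_equiv_self, Matrix.det_blockDiagonal]

/-- the Gram determinant of a normal frame -/
theorem gram_nframe (Q : (ι → F) → F) (M : Matrix ι ι F)
    (hM : ∀ u v, QuadraticMap.polar Q u v = u ⬝ᵥ M *ᵥ v)
    (hQ2 : ∀ u, QuadraticMap.polar Q u u = 2 * Q u)
    (δ : F) (θ : Matrix ι ι F) (hθ : θ * θ = δ • (1 : Matrix ι ι F)) (hsa : IsSAMat Q θ)
    (m : ℕ) (b : Fin (m + 1) → ι → F) (a β : F) (hfr : IsNFrame Q θ (m + 1) b a β) :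
    ∃ D : F, (-1) ^ m * (4 * δ * a ^ 2 - β ^ 2) = D ^ 2 * M.det := by
  classical
  set e : Fin (m + 1) × Fin 2 → ι → F := fun p => if p.2 = 0 then b p.1 else θ *ᵥ b p.1 with he
  have hcard : Fintype.card ι = Fintype.card (Fin (m + 1) × Fin 2) := by
    rw [hfr.card, Fintype.card_prod, Fintype.card_fin, Fintype.card_fin, mul_comm]
  let σ : ι ≃ Fin (m + 1) × Fin 2 := Fintype.equivOfCardEq hcard
  refine ⟨(Matrix.of fun j => e (σ j)).det, ?_⟩
  rw [← det_gram_fam M (fun j => e (σ j))]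
  set G : Matrix (Fin (m + 1) × Fin 2) (Fin (m + 1) × Fin 2) F :=
    Matrix.of fun p p' => QuadraticMap.polar Q (e p) (e p') with hG
  have h1 : (Matrix.of fun j j' => e (σ j) ⬝ᵥ M *ᵥ e (σ j')) = G.submatrix σ σ := by
    ext j j'
    simp [hG, hM]
  rw [h1, Matrix.det_submatrix_equiv_self]
  have hθθ : ∀ u, θ *ᵥ (θ *ᵥ u) = δ • u := by
    intro u
    rw [Matrix.mulVec_mulVec, hθ, Matrix.smul_mulVec, Matrix.one_mulVec]
  have hsmul : ∀ u v, QuadraticMap.polar Q u (δ • v) = δ * QuadraticMap.polar Q u v := by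
    intro u v
    rw [hM, hM, Matrix.mulVec_smul, dotProduct_smul, smul_eq_mul]
  have hθθB : ∀ u v, QuadraticMap.polar Q (θ *ᵥ u) (θ *ᵥ v) = δ * QuadraticMap.polar Q u v := by
    intro u v
    rw [hsa, hθθ, hsmul]
  set Bk : Fin (m + 1) → Matrix (Fin 2) (Fin 2) F := fun k =>
    !![2 * Q (b k), QuadraticMap.polar Q (b k) (θ *ᵥ b k);
       QuadraticMap.polar Q (b k) (θ *ᵥ b k), 2 * δ * Q (b k)] with hBk
  have h2 : G.det = ∏ k, (Bk k).det := by
    apply det_blocks
    intro k i l j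
    by_cases hkl : k = l
    · subst hkl
      rw [if_pos rfl]
      fin_cases i <;> fin_cases j
      · simp [hG, he, hBk, hQ2]
      · simp [hG, he, hBk]
      · simp [hG, he, hBk, hsa _ _]
      · simp [hG, he, hBk, hθθB, hQ2]; ring
    · rw [if_neg hkl]
      obtain ⟨o1, o2⟩ := hfr.orth k l hkl
      fin_cases i <;> fin_cases j
      · simp [hG, he, o1]
      · simp [hG, he, o2]
      · simp [hG, he, hsa _ _, o2]
      · simp [hG, he, hθθB, o1]
  rw [h2, Fin.prod_univ_castSucc]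
  have h3 : ∀ k : Fin m, (Bk k.castSucc).det = -1 := by
    intro k
    obtain ⟨n1, n2⟩ := hfr.norm k.castSucc (by simp)
    simp [hBk, Matrix.det_fin_two_of, n1, n2]
  have h4 : (Bk (Fin.last m)).det = 4 * δ * a ^ 2 - β ^ 2 := by
    obtain ⟨n1, n2⟩ := hfr.last (Fin.last m) (by simp)
    simp [hBk, Matrix.det_fin_two_of, n1, n2]; ring
  rw [Finset.prod_congr rfl (fun k _ => h3 k), h4]
  simp

/-- K-OQF-TL (597722).  Minus type forces a non-square. -/
theorem not_isSquare_of_nframe_minus [Fintype F] (hodd : Odd (Fintype.card F)) (m : ℕ) (a₀ b₀ : F)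
    (hab : ∀ x y : F, x ^ 2 + a₀ * x * y + b₀ * y ^ 2 = 0 → x = 0 ∧ y = 0) (δ : F) [Fact (∀ r : F, r ^ 2 ≠ δ + 0 * r)]
    (θ : Matrix ((Fin m ⊕ Fin m) ⊕ Fin 2) ((Fin m ⊕ Fin m) ⊕ Fin 2) F)
    (hθ : θ * θ = δ • (1 : Matrix ((Fin m ⊕ Fin m) ⊕ Fin 2) ((Fin m ⊕ Fin m) ⊕ Fin 2) F))
    (hsa : IsSAMat (quadFormMinus m F a₀ b₀) θ) (d : ℕ) (hd : d = m + 1) (heven : Even d)
    (b : Fin d → (Fin m ⊕ Fin m) ⊕ Fin 2 → F) (a β : F) (hfr : IsNFrame (quadFormMinus m F a₀ b₀) θ d b a β) :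
    ¬ IsSquare (⟨β, 2 * a⟩ : LL δ) := by
  subst hd
  rintro ⟨γ, hγ⟩
  have h2 : (2 : F) ≠ 0 := by
    intro h2
    have hchar : CharP F 2 := CharTwo.of_one_ne_zero_of_two_eq_zero one_ne_zero h2
    obtain ⟨n, _, hn⟩ := FiniteField.card F 2
    rw [hn] at hodd
    have heven' : Even (2 ^ (n : ℕ)) := by
      rw [Nat.even_pow]
      exact ⟨even_two, n.pos.ne'⟩
    exact (Nat.not_even_iff_odd.2 hodd) heven'
  have hQ2 : ∀ u, QuadraticMap.polar (quadFormMinus m F a₀ b₀) u u = 2 * quadFormMinus m F a₀ b₀ u := by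
    intro u
    have h4 : quadFormMinus m F a₀ b₀ (u + u) = 4 * quadFormMinus m F a₀ b₀ u := by
      simp only [quadFormMinus, Pi.add_apply, mul_add, Finset.mul_sum]
      congr 1
      · refine Finset.sum_congr rfl fun i _ => by ring
      · ring
    rw [QuadraticMap.polar, h4]; ring
  obtain ⟨D, hD⟩ := gram_nframe (quadFormMinus m F a₀ b₀) _
    (fun u v => by rw [Cfsg.Agent.Lib.Helper50.polar_quadFormMinus, Matrix.toBilin'_apply'])
    hQ2 δ θ hθ hsa m b a β hfr
  rw [Cfsg.Agent.Lib.Helper50.det_minus_gram] at hD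
  have hm : Odd m := by
    rcases Nat.even_or_odd m with h | h
    · exact absurd heven (by rw [Nat.not_even_iff_odd]; exact h.add_one)
    · exact h
  rw [hm.neg_one_pow, heven.neg_one_pow, one_mul] at hD
  have hre := congrArg QuadraticAlgebra.re hγ
  have him := congrArg QuadraticAlgebra.im hγ
  simp only [QuadraticAlgebra.re_mul, QuadraticAlgebra.im_mul] at hre him
  -- `N(c) = N(γ)²`
  have hN : (γ.re ^ 2 - δ * γ.im ^ 2) ^ 2 = D ^ 2 * (a₀ ^ 2 - 4 * b₀) := by
    rw [← hD, hre]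
    linear_combination δ * (2 * a + 2 * γ.re * γ.im) * him
  by_cases hD0 : D = 0
  · rw [hD0] at hN
    have h0 : γ.re ^ 2 - δ * γ.im ^ 2 = 0 := by
      have : (γ.re ^ 2 - δ * γ.im ^ 2) ^ 2 = 0 := by rw [hN]; ring
      exact pow_eq_zero_iff (two_ne_zero) |>.mp this
    have hi : γ.im = 0 := by
      by_contra hi
      apply (Fact.out : ∀ r : F, r ^ 2 ≠ δ + 0 * r) (γ.re / γ.im)
      field_simp
      linear_combination h0
    have hr : γ.re = 0 := by
      rw [hi] at h0
      have : γ.re ^ 2 = 0 := by linear_combination h0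
      exact pow_eq_zero_iff (two_ne_zero) |>.mp this
    rw [hi, hr] at hre him
    have hβ : β = 0 := by rw [hre]; ring
    have ha : a = 0 := by
      have : 2 * a = 0 := by rw [him]; ring
      exact (mul_eq_zero.mp this).resolve_left h2
    rcases hfr.ne with h | h
    · exact h ha
    · exact h hβ
  · have := hab ((γ.re ^ 2 - δ * γ.im ^ 2) / D - a₀) 2 (by
      field_simp
      linear_combination hN)
    exact h2 this.2

end Cfsg.Agent.Lib.Helper80.OQF
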