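import Mathlib
import Cfsg.Prelude.Def_JordanBlocks
import Cfsg.Agent.Lib.Helper73.UCDefs
import Cfsg.Agent.Lib.Helper73.SPCDefs

set_option autoImplicit false

/-!
# K-SPC leaf B1c (keystone 267606): same set + same relation ⇒ same orbit count
-/

namespace Cfsg.Agent.Lib.Helper80.SPC

open Matrix Cfsg.Agent.Lib.Helper73.UC Cfsg.Agent.Lib.Helper73.SPC

variable {F : Type*} [Field F]

/-- two matrices with the same commutant define the same congruence setoid -/
theorem congSetoid_eq_of_commute_iff {ι : Type*} [Fintype ι] [DecidableEq ι] (A A' : Matrix ι ι F)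
    (h : ∀ x : Matrix ι ι F, x * A = A * x ↔ x * A' = A' * x) :
    congSetoid A = congSetoid A' := by
  ext B B'
  constructor
  · rintro ⟨x, hx, hc, hB⟩
    exact ⟨x, hx, (h x).1 hc, hB⟩
  · rintro ⟨x, hx, hc, hB⟩
    exact ⟨x, hx, (h x).2 hc, hB⟩

/-- same commutant ⇒ same orbit count on every set -/
theorem orbCount_eq_of_commute_iff {ι : Type*} [Fintype ι] [DecidableEq ι] (A A' : Matrix ι ι F)
    (h : ∀ x : Matrix ι ι F, x * A = A * x ↔ x * A' = A' * x) (S : Set (Matrix ι ι F)) :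
    orbCount A S = orbCount A' S := by
  unfold orbCount
  rw [congSetoid_eq_of_commute_iff A A' h]

/-- LEAF B1c (from the statements `h1` of B1a and `h2'` of B1b: same set, same relation). -/
theorem orbCount_cayley_of {ι : Type*} [Fintype ι] [DecidableEq ι] (N : Matrix ι ι F)
    (h1 : AltInv (1 + N) = AltSkew (N * (1 + (2 : F)⁻¹ • N)⁻¹))
    (h2' : ∀ x : Matrix ι ι F, x * (1 + N) = (1 + N) * x ↔
      x * (N * (1 + (2 : F)⁻¹ • N)⁻¹) = (N * (1 + (2 : F)⁻¹ • N)⁻¹) * x) :
    orbCount (1 + N) (AltInv (1 + N)) =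
      orbCount (N * (1 + (2 : F)⁻¹ • N)⁻¹) (AltSkew (N * (1 + (2 : F)⁻¹ • N)⁻¹)) := by
  rw [h1]
  exact orbCount_eq_of_commute_iff _ _ h2' _

end Cfsg.Agent.Lib.Helper80.SPC
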