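import Mathlib
import Cfsg.Prelude.Def_JordanBlocks
import Cfsg.Agent.Lib.Helper73.UCDefs
import Cfsg.Agent.Lib.Helper73.SPCDefs

set_option autoImplicit false

/-!
# K-SPC leaf C13 (keystone 267622): assembly of the classification of `AltSkew (nilM d F)` orbits
-/

namespace Cfsg.Agent.Lib.Helper80.SPC

open Matrix Cfsg.Agent.Lib.Helper73.UC Cfsg.Agent.Lib.Helper73.SPC

variable {F : Type*} [Field F]

theorem c13_isEmpty {t : ℕ} (d : Fin t → ℕ) (i : ℕ) (hi : ¬ i < Finset.univ.sup d + 1) :
    IsEmpty {k : Fin t // d k = i} :=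
  ⟨fun k => hi (by
    have := Finset.le_sup (f := d) (Finset.mem_univ k.1)
    have h2 := k.2
    omega)⟩

/-- LEAF C13 (assembly of the classification, hypothesis form: `H1 .. H8` are the statements of
C1, C2, C3, C3b, C7, C8, C11, C12). -/
theorem orbCount_altSkew_nilM_of {t : ℕ} (d : Fin t → ℕ) (hd : ∀ k, 1 ≤ d k)
    (H1 : ∀ B : Matrix (JI d) (JI d) F,
      (Bᵀ = -B ∧ (nilM d F)ᵀ * B = -(B * nilM d F)) ↔ ∃ c ∈ AC d, shankel d c = B)
    (H2 : ∀ c : CIdx d → F, IsUnit (shankel d c).det ↔ IsUnit (topC d hd c).det)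
    (H3 : ∀ c : CIdx d → F, c ∈ AC d → ∀ i : ℕ,
      (topBlock d hd c i)ᵀ = (-1 : F) ^ i • topBlock d hd c i)
    (H4 : ∀ c : CIdx d → F, IsUnit (topC d hd c).det ↔ ∀ i : ℕ, IsUnit (topBlock d hd c i).det)
    (H5 : ∀ c c' : CIdx d → F, CongRel (nilM d F) (shankel d c) (shankel d c') → ∀ i : ℕ,
      CongRel (1 : Matrix {k : Fin t // d k = i} {k : Fin t // d k = i} F)
        (topBlock d hd c i) (topBlock d hd c' i))
    (H6 : ∀ c : CIdx d → F, c ∈ AC d →
      ∀ y : (∀ i : ℕ, Matrix {k : Fin t // d k = i} {k : Fin t // d k = i} F),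
      (∀ i, IsUnit (y i).det) →
      ∃ c' ∈ AC d, CongRel (nilM d F) (shankel d c) (shankel d c') ∧
        ∀ i, topBlock d hd c' i = (y i)ᵀ * topBlock d hd c i * y i)
    (H7 : ∀ c c' : CIdx d → F, c ∈ AC d → c' ∈ AC d → IsUnit (shankel d c).det →
      IsUnit (shankel d c').det → (∀ i, topBlock d hd c i = topBlock d hd c' i) →
      CongRel (nilM d F) (shankel d c) (shankel d c'))
    (H8 : ∀ T : (∀ i : ℕ, Matrix {k : Fin t // d k = i} {k : Fin t // d k = i} F),
      (∀ i, (T i)ᵀ = (-1 : F) ^ i • T i) → ∃ c ∈ AC d, ∀ i, topBlock d hd c i = T i) :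
    orbCount (nilM d F) (AltSkew (nilM d F)) =
      ∏ i ∈ Finset.range (Finset.univ.sup d + 1),
        orbCount (1 : Matrix {k : Fin t // d k = i} {k : Fin t // d k = i} F)
          (SymND {k : Fin t // d k = i} i) := by
  classical
  -- the setoids
  let sN : Setoid ↥(AltSkew (nilM d F)) := (congSetoid (nilM d F)).comap Subtype.val
  let sI : ∀ i : ℕ, Setoid ↥(SymND (F := F) {k : Fin t // d k = i} i) :=
    fun i => (congSetoid (1 : Matrix {k : Fin t // d k = i} {k : Fin t // d k = i} F)).comap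
      Subtype.val
  -- choice of the coefficient system
  have hc : ∀ B : ↥(AltSkew (nilM d F)), ∃ c ∈ AC d, shankel d c = B.1 :=
    fun B => (H1 B.1).1 ⟨B.2.1, B.2.2.2⟩
  choose cB hcB_AC hcB using hc
  have hunit : ∀ B : ↥(AltSkew (nilM d F)), IsUnit (shankel d (cB B)).det := by
    intro B; rw [hcB B]; exact B.2.2.1
  have htop_mem : ∀ (c : CIdx d → F), c ∈ AC d → IsUnit (shankel d c).det → ∀ i,
      topBlock d hd c i ∈ SymND (F := F) {k : Fin t // d k = i} i :=
    fun c hcA hu i => ⟨H3 c hcA i, (H4 c).1 ((H2 c).1 hu) i⟩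
  -- the map on representatives
  let f0 : ↥(AltSkew (nilM d F)) →
      (∀ i : Fin (Finset.univ.sup d + 1), Quotient (sI i.1)) :=
    fun B i => Quotient.mk (sI i.1)
      ⟨topBlock d hd (cB B) i.1, htop_mem (cB B) (hcB_AC B) (hunit B) i.1⟩
  have hf0 : ∀ B B' : ↥(AltSkew (nilM d F)), sN.r B B' → f0 B = f0 B' := by
    intro B B' h
    funext i
    apply Quotient.sound
    show CongRel 1 (topBlock d hd (cB B) i.1) (topBlock d hd (cB B') i.1)
    apply H5
    rw [hcB B, hcB B']
    exact h
  let f : Quotient sN → (∀ i : Fin (Finset.univ.sup d + 1), Quotient (sI i.1)) :=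
    Quotient.lift f0 hf0
  have inj : Function.Injective f := by
    intro q q'
    induction q using Quotient.inductionOn with | _ B =>
    induction q' using Quotient.inductionOn with | _ B' =>
    intro h
    apply Quotient.sound
    show CongRel (nilM d F) B.1 B'.1
    have h' : ∀ i : Fin (Finset.univ.sup d + 1),
        CongRel 1 (topBlock d hd (cB B) i.1) (topBlock d hd (cB B') i.1) := by
      intro i
      have h1 : f0 B i = f0 B' i := congrFun h i
      exact Quotient.exact h1
    have hy : ∀ i : ℕ, ∃ y : Matrix {k : Fin t // d k = i} {k : Fin t // d k = i} F,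
        IsUnit y.det ∧ yᵀ * topBlock d hd (cB B) i * y = topBlock d hd (cB B') i := by
      intro i
      by_cases hi : i < Finset.univ.sup d + 1
      · obtain ⟨y, hy1, _, hy3⟩ := h' ⟨i, hi⟩
        exact ⟨y, hy1, hy3⟩
      · have := c13_isEmpty d i hi
        exact ⟨1, by simp, Subsingleton.elim _ _⟩
    choose y hy1 hy2 using hy
    obtain ⟨c'', hc''A, hcong, htops⟩ := H6 (cB B) (hcB_AC B) y hy1
    have hu' : IsUnit (shankel d (cB B')).det := hunit B'
    have hu'' : IsUnit (shankel d c'').det := by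
      rw [H2, H4]
      intro i
      rw [htops i, hy2 i]
      exact ((H4 _).1 ((H2 _).1 hu')) i
    have h7 := H7 c'' (cB B') hc''A (hcB_AC B') hu'' hu' (fun i => by rw [htops i, hy2 i])
    have h8 := congRel_trans hcong h7
    rwa [hcB B, hcB B'] at h8
  have surj : Function.Surjective f := by
    intro q
    have hrep : ∀ i : Fin (Finset.univ.sup d + 1),
        ∃ T : ↥(SymND (F := F) {k : Fin t // d k = i.1} i.1), Quotient.mk (sI i.1) T = q i :=
      fun i => Quotient.exists_rep (q i)
    choose T hT using hrep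
    let T' : ∀ i : ℕ, Matrix {k : Fin t // d k = i} {k : Fin t // d k = i} F :=
      fun i => if hi : i < Finset.univ.sup d + 1 then (T ⟨i, hi⟩).1 else 0
    have hT'1 : ∀ i, (T' i)ᵀ = (-1 : F) ^ i • T' i := by
      intro i
      by_cases hi : i < Finset.univ.sup d + 1
      · simp only [T', dif_pos hi]
        exact (T ⟨i, hi⟩).2.1
      · have := c13_isEmpty d i hi
        exact Subsingleton.elim _ _
    have hT'2 : ∀ i, IsUnit (T' i).det := by
      intro i
      by_cases hi : i < Finset.univ.sup d + 1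
      · simp only [T', dif_pos hi]
        exact (T ⟨i, hi⟩).2.2
      · have := c13_isEmpty d i hi
        simp [Matrix.det_isEmpty]
    obtain ⟨c, hcA, hctop⟩ := H8 T' hT'1
    have hsk := (H1 (shankel d c)).2 ⟨c, hcA, rfl⟩
    have hu : IsUnit (shankel d c).det := by
      rw [H2, H4]
      intro i
      rw [hctop i]
      exact hT'2 i
    let B : ↥(AltSkew (nilM d F)) := ⟨shankel d c, hsk.1, hu, hsk.2⟩
    refine ⟨Quotient.mk sN B, ?_⟩
    funext i
    show f0 B i = q i
    rw [← hT i]
    apply Quotient.sound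
    show CongRel 1 (topBlock d hd (cB B) i.1) (T i).1
    have h5 := H5 (cB B) c (by rw [hcB B]; exact congRel_refl _ _) i.1
    rw [hctop i.1] at h5
    have hTi : T' i.1 = (T i).1 := by
      simp only [T', dif_pos i.2, Fin.eta]
    rwa [hTi] at h5
  have hcard := Nat.card_congr (Equiv.ofBijective f ⟨inj, surj⟩)
  unfold orbCount
  rw [Finset.prod_range]
  rw [← Nat.card_pi]
  exact hcard

end Cfsg.Agent.Lib.Helper80.SPC
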