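import Mathlib
import Cfsg.Prelude.Def_JordanBlocks
import Cfsg.Prelude.Def_LieClassical
import Cfsg.Agent.Lib.Helper73.UCDefs

/-!
# K-UC-K4b (keystone 264605, architect helper73, pack S2646): `nilM d K = jordanTypeMatrix d K - 1` is nilpotent
-/

set_option autoImplicit false

namespace Cfsg.Agent.Lib.Helper80.UC

open Matrix Cfsg.Agent.Lib.Helper73.UC

variable {K : Type*} [Field K]

/-- entries of the nilpotent part of a Jordan block -/
theorem jordanBlock_sub_one_apply (n : ℕ) (l j : Fin n) :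
    (Cfsg.jordanBlock n K - 1) l j = if (l : ℕ) = (j : ℕ) + 1 then 1 else 0 := by
  rw [Matrix.sub_apply, Matrix.one_apply]
  simp only [Cfsg.jordanBlock, Matrix.of_apply]
  by_cases h : l = j
  · subst h
    simp
  · have h' : (l : ℕ) ≠ (j : ℕ) := fun hh => h (Fin.ext hh)
    simp [h, h']

/-- powers of the nilpotent part of a Jordan block vanish above the `s`-th subdiagonal -/
theorem jordanBlock_sub_one_pow_apply (n s : ℕ) (i j : Fin n) (h : (i : ℕ) < (j : ℕ) + s) :
    ((Cfsg.jordanBlock n K - 1) ^ s) i j = 0 := by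
  induction s generalizing i j with
  | zero =>
    rw [pow_zero, Matrix.one_apply, if_neg]
    intro hij
    rw [hij] at h
    omega
  | succ s ih =>
    rw [pow_succ, Matrix.mul_apply]
    apply Finset.sum_eq_zero
    intro l _
    rw [jordanBlock_sub_one_apply]
    by_cases hl : (l : ℕ) = (j : ℕ) + 1
    · rw [ih i l (by omega), zero_mul]
    · rw [if_neg hl, mul_zero]

theorem jordanBlock_sub_one_pow_eq_zero (n s : ℕ) (h : n ≤ s) :
    (Cfsg.jordanBlock n K - 1) ^ s = 0 := by
  ext i j
  rw [jordanBlock_sub_one_pow_apply n s i j (by have := i.isLt; omega)]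
  rfl

/-- LEAF K4b. -/
theorem isNilpotent_nilM {t : ℕ} (d : Fin t → ℕ) : IsNilpotent (nilM d K) := by
  refine ⟨Finset.univ.sup d, ?_⟩
  have h1 : nilM d K = Matrix.blockDiagonal' fun k => (Cfsg.jordanBlock (d k) K - 1) := by
    unfold nilM Cfsg.jordanTypeMatrix
    rw [← Matrix.blockDiagonal'_one, ← Matrix.blockDiagonal'_sub]
    rfl
  rw [h1, ← Matrix.blockDiagonal'_pow]
  have h2 : (fun k => (Cfsg.jordanBlock (d k) K - 1)) ^ (Finset.univ.sup d) = 0 := by
    funext k
    rw [Pi.pow_apply]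
    exact jordanBlock_sub_one_pow_eq_zero (d k) _ (Finset.le_sup (f := d) (Finset.mem_univ k))
  rw [h2]
  exact Matrix.blockDiagonal'_zero

end Cfsg.Agent.Lib.Helper80.UC
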