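/-
K-UNd-EA (keystone 595432, architect helper73, pack S5954): the unit vectors of a nondegenerate
`k`-dimensional subspace of a hermitian space number `(hAZ q k).1`.
-/
import Cfsg.Agent.Lib.Helper73.UNdDefs
import Cfsg.Agent.Lib.Helper65.UNdBA1
import Cfsg.Agent.Lib.Helper99.HermCount

set_option autoImplicit false
set_option linter.unusedVariables false
set_option linter.unusedSectionVars false
set_option linter.style.haveILetI false

namespace Cfsg.Agent.Lib.Helper80.UNd

open Module Cfsg.Agent.Lib.Helper99.HermONB Cfsg.Agent.Lib.Helper98.Elus Cfsg.Agent.Lib.Helper73.UNd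
  Cfsg.Agent.Lib.Helper65.UNd

universe u
variable {F : Type u} [Field F] {V : Type u} [AddCommGroup V] [Module F V]
variable {q : ℕ} {h : V → V → F}

/-- an orthonormal basis of a nondegenerate subspace, as a basis of the subtype -/
theorem exists_onb_basis_sub [Fintype F] [FiniteDimensional F V] (hF : Fintype.card F = q ^ 2)
    (hh : HForm q h) (U : Submodule F V) (hU : ND h U) (k : ℕ) (hk : finrank F U = k) :
    ∃ b : Module.Basis (Fin k) F U,
      ∀ i j, h ((b i : U) : V) ((b j : U) : V) = if i = j then 1 else 0 := by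
  classical
  have hU' := hform_restrict' hh U hU
  obtain ⟨e, he⟩ := Cfsg.Agent.Lib.Helper80.AschU.exists_orthonormal' hF k U
    (fun a b : U => h (a : V) (b : V)) hU' hk
  have hli : LinearIndependent F e := by
    rw [linearIndependent_iff']
    intro s c hc i hi
    have h1 := hU'.sum_left s c e (e i)
    rw [hc, hU'.zero_left] at h1
    simp only [he, mul_ite, mul_one, mul_zero] at h1
    rw [Finset.sum_ite_eq' s i] at h1
    simpa [hi] using h1.symm
  have hsp : ⊤ ≤ Submodule.span F (Set.range e) :=
    (hli.span_eq_top_of_card_eq_finrank' (by rw [Fintype.card_fin, hk])).ge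
  refine ⟨Module.Basis.mk hli hsp, ?_⟩
  intro i j
  rw [Module.Basis.mk_apply, Module.Basis.mk_apply]
  exact he i j

/-- **K-UNd-EA.** -/
theorem card_norm_one_u [Fintype F] [FiniteDimensional F V] (hF : Fintype.card F = q ^ 2)
    (hh : HForm q h) (U : Submodule F V) (hU : ND h U) (k : ℕ) (hk : finrank F U = k) :
    Nat.card {v : V // v ∈ U ∧ h v v = 1} = (Cfsg.Agent.Lib.Helper99.hAZ q k).1 := by
  classical
  have hU' := hform_restrict' hh U hU
  obtain ⟨b, hb⟩ := exists_onb_basis_sub hF hh U hU k hk
  have hform : ∀ x y : U, h (x : V) (y : V) =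
      Cfsg.hermForm k F q (b.equivFun x) (b.equivFun y) := by
    intro x y
    exact form_eq_hermForm hU' b hb x y
  rw [← (Cfsg.Agent.Lib.Helper99.hcnt_eq hF k).2 1 one_ne_zero (one_pow q)]
  unfold Cfsg.Agent.Lib.Helper99.hcnt
  apply Nat.card_congr
  exact
    { toFun := fun v => ⟨b.equivFun ⟨v.1, v.2.1⟩, by
        rw [← hform]; exact v.2.2⟩
      invFun := fun x => ⟨(b.equivFun.symm x.1 : U), (b.equivFun.symm x.1).2, by
        rw [hform, LinearEquiv.apply_symm_apply]; exact x.2⟩
      left_inv := fun v => by
        apply Subtype.ext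
        simp
      right_inv := fun x => by
        apply Subtype.ext
        show b.equivFun ⟨((b.equivFun.symm x.1 : U) : V), _⟩ = x.1
        rw [Subtype.coe_eta, LinearEquiv.apply_symm_apply] }

end Cfsg.Agent.Lib.Helper80.UNd
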