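/-
K-UNd-IC (keystone 595421, architect helper73, pack S5954): an anti-isometric involution of a hermitian
space fixes nondegenerate subspaces of every even dimension.
-/
import Cfsg.Agent.Lib.Helper73.UNdDefs
import Cfsg.Agent.Lib.Helper65.UNdBA1

set_option autoImplicit false
set_option linter.unusedVariables false
set_option linter.unusedSectionVars false
set_option linter.style.haveILetI false

namespace Cfsg.Agent.Lib.Helper80.UNd

open Module Cfsg.Agent.Lib.Helper99.HermONB Cfsg.Agent.Lib.Helper98.Elus Cfsg.Agent.Lib.Helper73.UNd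
  Cfsg.Agent.Lib.Helper65.UNd

universe u
variable {F : Type u} [Field F] {V : Type u} [AddCommGroup V] [Module F V]
variable {q : ℕ} {h : V → V → F}

theorem invol_apply (g : V →ₗ[F] V) (hg : g ^ 2 = 1) (w : V) : g (g w) = w := by
  have := congrArg (fun f : V →ₗ[F] V => f w) hg
  simpa [pow_two, Module.End.mul_apply] using this

/-- the orthogonal complement of an invariant subspace is invariant (anti-isometric involution) -/
theorem inv_perp_anti (hh : HForm q h) (g : V →ₗ[F] V) (hg : g ^ 2 = 1)
    (hanti : ∀ u v, h (g u) (g v) = - h u v) (W : Submodule F V) (hW : Inv g W) :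
    Inv g (perp hh W) := by
  intro v hv w hw
  have h1 : h (g v) w = - h v (g w) := by
    rw [← hanti, invol_apply g hg]
  rw [h1, hv (g w) (hW w hw), neg_zero]

theorem h_neg_right [Fintype F] (hF : Fintype.card F = q ^ 2) (hh : HForm q h) (u w : V) :
    h u (-w) = - h u w := by
  have := hh.add_right hF u w (-w)
  rw [add_neg_cancel, hh.zero_right hF] at this
  exact eq_neg_of_add_eq_zero_right this.symm

theorem h_neg_left (hh : HForm q h) (u w : V) : h (-u) w = - h u w := by
  have := hh.smul_left (-1) u w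
  rwa [neg_one_smul, neg_one_mul] at this

theorem h_sub_right [Fintype F] (hF : Fintype.card F = q ^ 2) (hh : HForm q h) (u w w' : V) :
    h u (w - w') = h u w - h u w' := by
  rw [sub_eq_add_neg, hh.add_right hF, h_neg_right hF hh, ← sub_eq_add_neg]

/-- an invariant nondegenerate nonzero subspace contains an invariant nondegenerate plane -/
theorem exists_plane_anti [Fintype F] [FiniteDimensional F V] (hF : Fintype.card F = q ^ 2)
    (hh : HForm q h) (h2 : (2 : F) ≠ 0) (g : V →ₗ[F] V) (hg : g ^ 2 = 1)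
    (hanti : ∀ u v, h (g u) (g v) = - h u v) (U : Submodule F V) (hU : Inv g U) (hUnd : ND h U)
    (hne : U ≠ ⊥) :
    ∃ P : Submodule F V, P ≤ U ∧ Inv g P ∧ ND h P ∧ finrank F P = 2 := by
  classical
  have hq0 : q ≠ 0 := (Cfsg.Agent.Lib.Helper19.q_pos hF).ne'
  -- a nonzero fixed vector
  have hfix : ∃ v ∈ U, v ≠ 0 ∧ g v = v := by
    by_contra hcon
    push Not at hcon
    have hneg : ∀ u ∈ U, g u = -u := by
      intro u hu
      have h1 : g (u + g u) = u + g u := by
        rw [map_add, invol_apply g hg, add_comm]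
      have h3 : u + g u = 0 := by
        by_contra h0
        exact hcon (u + g u) (U.add_mem hu (hU u hu)) h0 h1
      exact (eq_neg_of_add_eq_zero_right h3)
    have hzero : ∀ u ∈ U, ∀ w ∈ U, h u w = 0 := by
      intro u hu w hw
      have h1 := hanti u w
      rw [hneg u hu, hneg w hw, h_neg_left hh, h_neg_right hF hh, neg_neg] at h1
      have h3 : (2 : F) * h u w = 0 := by linear_combination h1
      exact (mul_eq_zero.mp h3).resolve_left h2
    apply hne
    rw [eq_bot_iff]
    intro u hu
    rw [Submodule.mem_bot]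
    exact hUnd u hu (hzero u hu)
  obtain ⟨v, hvU, hv0, hgv⟩ := hfix
  obtain ⟨w, hwU, hvw⟩ : ∃ w ∈ U, h v w ≠ 0 := by
    by_contra hcon
    push Not at hcon
    exact hv0 (hUnd v hvU hcon)
  set w1 : V := w - g w with hw1def
  have hw1U : w1 ∈ U := U.sub_mem hwU (hU w hwU)
  have hgw1 : g w1 = -w1 := by
    rw [hw1def, map_sub, invol_apply g hg]; abel
  have hvgw : h v (g w) = - h v w := by
    have := hanti v w
    rwa [hgv] at this
  set a0 : F := h v w1 with ha0def
  have ha0 : a0 = 2 * h v w := by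
    rw [ha0def, hw1def, h_sub_right hF hh, hvgw]; ring
  have ha0ne : a0 ≠ 0 := by
    rw [ha0]; exact mul_ne_zero h2 hvw
  have hvv : h v v = 0 := by
    have h1 := hanti v v
    rw [hgv] at h1
    have h3 : (2 : F) * h v v = 0 := by linear_combination h1
    exact (mul_eq_zero.mp h3).resolve_left h2
  have hw1w1 : h w1 w1 = 0 := by
    have h1 := hanti w1 w1
    rw [hgw1, h_neg_left hh, h_neg_right hF hh, neg_neg] at h1
    have h3 : (2 : F) * h w1 w1 = 0 := by linear_combination h1
    exact (mul_eq_zero.mp h3).resolve_left h2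
  have hw1v : h w1 v = a0 ^ q := hh.conj v w1
  have hw1vne : h w1 v ≠ 0 := by rw [hw1v]; exact pow_ne_zero _ ha0ne
  -- the key computation
  have key : ∀ a b : F, h (a • v + b • w1) w1 = 0 → h (a • v + b • w1) v = 0 → a = 0 ∧ b = 0 := by
    intro a b e1 e2
    rw [hh.add_left, hh.smul_left, hh.smul_left, hw1w1, mul_zero, add_zero] at e1
    rw [hh.add_left, hh.smul_left, hh.smul_left, hvv, mul_zero, zero_add] at e2
    exact ⟨(mul_eq_zero.mp e1).resolve_right ha0ne, (mul_eq_zero.mp e2).resolve_right hw1vne⟩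
  have hli : LinearIndependent F ![v, w1] := by
    rw [LinearIndependent.pair_iff]
    intro a b hab
    apply key a b
    · rw [hab, hh.zero_left]
    · rw [hab, hh.zero_left]
  refine ⟨Submodule.span F (Set.range ![v, w1]), ?_, ?_, ?_, ?_⟩
  · rw [Submodule.span_le]
    rintro _ ⟨i, rfl⟩
    fin_cases i
    · exact hvU
    · exact hw1U
  · intro x hx
    obtain ⟨c, rfl⟩ := (Submodule.mem_span_range_iff_exists_fun F).1 hx
    rw [Fin.sum_univ_two, map_add, map_smul, map_smul]
    simp only [Matrix.cons_val_zero, Matrix.cons_val_one]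
    rw [hgv, hgw1]
    apply Submodule.add_mem
    · exact Submodule.smul_mem _ _ (Submodule.subset_span ⟨0, rfl⟩)
    · exact Submodule.smul_mem _ _ (Submodule.neg_mem _ (Submodule.subset_span ⟨1, rfl⟩))
  · intro x hx hx0
    obtain ⟨c, rfl⟩ := (Submodule.mem_span_range_iff_exists_fun F).1 hx
    rw [Fin.sum_univ_two] at hx0 ⊢
    simp only [Matrix.cons_val_zero, Matrix.cons_val_one] at hx0 ⊢
    obtain ⟨hc0, hc1⟩ := key (c 0) (c 1)
      (hx0 w1 (Submodule.subset_span ⟨1, rfl⟩)) (hx0 v (Submodule.subset_span ⟨0, rfl⟩))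
    rw [hc0, hc1, zero_smul, zero_smul, add_zero]
  · rw [finrank_span_eq_card hli, Fintype.card_fin]

/-- invariant nondegenerate subspaces of every even dimension inside an invariant nondegenerate
subspace -/
theorem exists_even_sub_anti [Fintype F] [FiniteDimensional F V] (hF : Fintype.card F = q ^ 2)
    (hh : HForm q h) (h2 : (2 : F) ≠ 0) (g : V →ₗ[F] V) (hg : g ^ 2 = 1)
    (hanti : ∀ u v, h (g u) (g v) = - h u v) :
    ∀ k : ℕ, ∀ U : Submodule F V, Inv g U → ND h U → 2 * k ≤ finrank F U →
      ∃ W : Submodule F V, W ≤ U ∧ Inv g W ∧ ND h W ∧ finrank F W = 2 * k := by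
  intro k
  induction k with
  | zero =>
    intro U hU hUnd _
    refine ⟨⊥, bot_le, ?_, nd_bot hh, by simp⟩
    intro v hv
    rw [Submodule.mem_bot] at hv
    rw [hv, map_zero]
    exact Submodule.zero_mem _
  | succ k ih =>
    intro U hU hUnd hk
    have hne : U ≠ ⊥ := by
      rintro rfl
      rw [finrank_bot] at hk
      omega
    obtain ⟨P, hPU, hPinv, hPnd, hP2⟩ := exists_plane_anti hF hh h2 g hg hanti U hU hUnd hne
    obtain ⟨-, -, hU'nd, hU'dim⟩ := compl_props hF hh P U hPnd hPU hUnd
    have hU'inv : Inv g (perp hh P ⊓ U) := by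
      intro x hx
      exact ⟨inv_perp_anti hh g hg hanti P hPinv x hx.1, hU x hx.2⟩
    obtain ⟨W', hW'U, hW'inv, hW'nd, hW'dim⟩ := ih (perp hh P ⊓ U) hU'inv hU'nd (by omega)
    have hort : Ort h P W' := by
      intro u hu w hw
      exact eq_zero_symm hF hh ((hW'U hw).1 u hu)
    refine ⟨P ⊔ W', sup_le hPU (hW'U.trans inf_le_right), ?_, (nd_sup hF hh P W' hPnd hW'nd hort).1, ?_⟩
    · intro x hx
      obtain ⟨a, ha, b, hb, rfl⟩ := Submodule.mem_sup.mp hx
      rw [map_add]
      exact Submodule.add_mem _ (Submodule.mem_sup_left (hPinv a ha))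
        (Submodule.mem_sup_right (hW'inv b hb))
    · rw [finrank_sup_of_ort hF hh P W' hPnd hW'nd hort, hP2, hW'dim]
      ring

/-- **K-UNd-IC.** -/
theorem exists_fixed_anti [Fintype F] [FiniteDimensional F V] (hF : Fintype.card F = q ^ 2)
    (hh : HForm q h) (h2 : (2 : F) ≠ 0) (g : V →ₗ[F] V) (hg : g ^ 2 = 1)
    (hanti : ∀ u v, h (g u) (g v) = - h u v) (m : ℕ) (hme : Even m) (hm : m ≤ finrank F V) :
    Fixes h g m := by
  obtain ⟨k, rfl⟩ := hme
  obtain ⟨W, -, hWinv, hWnd, hWdim⟩ := exists_even_sub_anti hF hh h2 g hg hanti k ⊤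
    (fun v _ => Submodule.mem_top) (nd_top hh) (by rw [finrank_top]; omega)
  exact ⟨W, hWinv, hWnd, by rw [hWdim]; ring⟩

end Cfsg.Agent.Lib.Helper80.UNd
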