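import Mathlib
import Cfsg.Agent.S1448
import Cfsg.Agent.Lib.Helper01.BGNarrow
import Cfsg.Agent.Lib.Helper70.Abelian

/-!
# Keystone 138301 (K-1383-A) `exists_elemAb_sq_of_not_isCyclic` (pack S1383, architect helper78)

A commutative noncyclic subgroup of a finite group contains an elementary abelian subgroup of
order `t ^ 2` for some prime `t`.
-/

set_option autoImplicit false

namespace Cfsg.Agent.Lib.Helper80.BG1383

open Cfsg

/-- K-1383-A -/
theorem exists_elemAb_sq_of_not_isCyclic {G : Type*} [Group G] [Finite G] (A : Subgroup G)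
    (hA : IsMulCommutative A) (hnc : ¬ IsCyclic A) :
    ∃ (t : ℕ) (B : Subgroup G), t.Prime ∧ B ≤ A ∧ IsElementaryAbelian t B ∧ Nat.card B = t ^ 2 := by
  classical
  letI : CommGroup ↥A := { (inferInstance : Group ↥A) with mul_comm := fun a b => mul_comm' a b }
  obtain ⟨t, ht, hlt⟩ := Cfsg.Agent.Lib.Helper70.exists_prime_lt_card_tors (G := ↥A) hnc
  have : Fact t.Prime := ⟨ht⟩
  -- the `t`-torsion subgroup is a `t`-group of order `> t`
  have hpg : IsPGroup t ↥(Cfsg.Agent.Lib.Helper70.tors ↥A t) := by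
    intro g
    refine ⟨1, ?_⟩
    rw [pow_one]
    apply Subtype.ext
    rw [SubmonoidClass.coe_pow]
    exact (Cfsg.Agent.Lib.Helper70.mem_tors t (g : ↥A)).1 g.2
  obtain ⟨n, hn⟩ := IsPGroup.iff_card.1 hpg
  have hn2 : 2 ≤ n := by
    by_contra hcon
    push Not at hcon
    rw [hn] at hlt
    have : t ^ n ≤ t ^ 1 := Nat.pow_le_pow_right ht.pos (by omega)
    rw [pow_one] at this
    omega
  have hdvd : t ^ 2 ∣ Nat.card ↥(Cfsg.Agent.Lib.Helper70.tors ↥A t) := by
    rw [hn]; exact pow_dvd_pow t hn2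
  obtain ⟨K, hK⟩ := Sylow.exists_subgroup_card_pow_prime t hdvd
  refine ⟨t, (K.map (Cfsg.Agent.Lib.Helper70.tors ↥A t).subtype).map A.subtype, ht,
    Subgroup.map_subtype_le _, ⟨?_, ?_⟩, ?_⟩
  · -- commutative
    rw [isMulCommutative_iff]
    intro a b
    apply Subtype.ext
    rw [Subgroup.coe_mul, Subgroup.coe_mul]
    have ha : (a : G) ∈ A := Subgroup.map_subtype_le _ a.2
    have hb : (b : G) ∈ A := Subgroup.map_subtype_le _ b.2
    exact congrArg Subtype.val (mul_comm' (⟨a, ha⟩ : ↥A) ⟨b, hb⟩)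
  · -- exponent `t`
    rintro _ ⟨y, ⟨k, _, rfl⟩, rfl⟩
    have h1 : ((k : ↥A)) ^ t = 1 := (Cfsg.Agent.Lib.Helper70.mem_tors t (k : ↥A)).1 k.2
    have h2 := congrArg Subtype.val h1
    simpa using h2
  · rw [Subgroup.card_map_of_injective A.subtype_injective,
      Subgroup.card_map_of_injective (Subgroup.subtype_injective _), hK]

end Cfsg.Agent.Lib.Helper80.BG1383
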