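import Mathlib
import Cfsg.Prelude.Def_Transfer

/-! S4081: bridge between automorphisms of a group `P ⋊ ⟨c⟩` and twisted linear automorphisms. -/

set_option autoImplicit false

namespace Cfsg.Agent.Lib.Helper80.AutOrbit

section Lin

variable {W : Type*} [CommGroup W] (p : ℕ) [Module (ZMod p) (Additive W)]

/-- the linear map attached to a group endomorphism -/
def linOf (f : W →* W) : Additive W →ₗ[ZMod p] Additive W :=
  (MonoidHom.toAdditive f).toZModLinearMap p

@[simp] theorem linOf_apply (f : W →* W) (v : Additive W) :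
    linOf p f v = Additive.ofMul (f v.toMul) := rfl

/-- the linear equivalence attached to a group automorphism -/
def linEquivOf (f : W ≃* W) : Additive W ≃ₗ[ZMod p] Additive W :=
  { MulEquiv.toAdditive f with
    map_smul' := fun c x => ZMod.map_smul (MulEquiv.toAdditive f) c x }

@[simp] theorem linEquivOf_apply (f : W ≃* W) (v : Additive W) :
    linEquivOf p f v = Additive.ofMul (f v.toMul) := rfl

theorem linOf_pow_apply (f : W →* W) (k : ℕ) (v : Additive W) :
    (linOf p f ^ k) v = Additive.ofMul ((f : W → W)^[k] v.toMul) := by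
  induction k generalizing v with
  | zero => simp
  | succ k ih =>
    rw [pow_succ, Module.End.mul_apply, ih, Function.iterate_succ_apply]
    rfl

/-- a linear equivalence gives a group automorphism -/
def mulEquivOfLin (σ : Additive W ≃ₗ[ZMod p] Additive W) : W ≃* W :=
  { toFun := fun w => (σ (Additive.ofMul w)).toMul
    invFun := fun w => (σ.symm (Additive.ofMul w)).toMul
    left_inv := fun w => by simp
    right_inv := fun w => by simp
    map_mul' := fun a b => by
      change (σ (Additive.ofMul a + Additive.ofMul b)).toMul = _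
      rw [map_add]; rfl }

@[simp] theorem mulEquivOfLin_apply (σ : Additive W ≃ₗ[ZMod p] Additive W) (w : W) :
    mulEquivOfLin p σ w = (σ (Additive.ofMul w)).toMul := rfl

end Lin

section Grp

variable {G : Type*} [Group G]

/-- restriction of an automorphism to a characteristic subgroup -/
def resAut (P : Subgroup G) [hc : P.Characteristic] (α : MulAut G) : P ≃* P where
  toFun x := ⟨α x, by
    have : (x : G) ∈ P.comap α.toMonoidHom := by rw [hc.fixed]; exact x.2
    exact this⟩
  invFun x := ⟨α.symm x, by
    have : (x : G) ∈ P.comap α.symm.toMonoidHom := by rw [hc.fixed]; exact x.2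
    exact this⟩
  left_inv x := Subtype.ext (by simp)
  right_inv x := Subtype.ext (by simp)
  map_mul' x y := Subtype.ext (by simp)

@[simp] theorem resAut_coe (P : Subgroup G) [P.Characteristic] (α : MulAut G) (x : P) :
    ((resAut P α x : P) : G) = α x := rfl

/-- every element is `u * c^k` -/
theorem exists_decomp [Finite G] (P : Subgroup G) (c : G) (q : ℕ) (hq : q.Prime)
    (hc : orderOf c = q) (hcard : Nat.card G = Nat.card P * q) (hcop : (Nat.card P).Coprime q)
    (g : G) : ∃ u ∈ P, ∃ k : ℕ, k < q ∧ g = u * c ^ k := by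
  have hcz : Nat.card (Subgroup.zpowers c) = q := by rw [Nat.card_zpowers, hc]
  have hcompl : Subgroup.IsComplement' P (Subgroup.zpowers c) := by
    apply Subgroup.isComplement'_of_coprime
    · rw [hcz, hcard]
    · rw [hcz]; exact hcop
  obtain ⟨⟨u, d⟩, hud⟩ := hcompl.2 g
  obtain ⟨m, hm⟩ := Subgroup.mem_zpowers_iff.mp d.2
  have hqpos : (0 : ℤ) < q := by exact_mod_cast hq.pos
  refine ⟨u, u.2, (m % q).toNat, ?_, ?_⟩
  · have h1 : (m % q) < q := Int.emod_lt_of_pos m hqpos
    have h0 : 0 ≤ m % q := Int.emod_nonneg m hqpos.ne'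
    omega
  · have h0 : 0 ≤ m % (q : ℤ) := Int.emod_nonneg m hqpos.ne'
    have h2 : c ^ ((m % (q : ℤ)).toNat) = c ^ m := by
      rw [← zpow_natCast, Int.toNat_of_nonneg h0, ← hc, zpow_mod_orderOf]
    rw [h2, hm]
    exact hud.symm

end Grp

end Cfsg.Agent.Lib.Helper80.AutOrbit
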