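import Cfsg.Agent.Lib.Helper80.AutOrbitB
import Cfsg.Agent.Lib.Helper33.Twisted

/-! S4081, forward direction, second part: the primitive-root condition. -/

set_option autoImplicit false
set_option linter.style.haveILetI false

namespace Cfsg.Agent.Lib.Helper80.AutOrbit

theorem orderOf_eq_of_twisted_transitive {p q : ℕ} [Fact p.Prime] [Fact q.Prime] (hpq : p ≠ q)
    {V : Type*} [AddCommGroup V] [Module (ZMod p) V] [Finite V] [Nontrivial V]
    (T : V →ₗ[ZMod p] V) (hT : ∑ i ∈ Finset.range q, T ^ i = 0)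
    (hk : ∀ k : ℕ, 0 < k → k < q → ∃ σ : V ≃ₗ[ZMod p] V, ∀ v, σ (T v) = (T ^ k) (σ v))
    (htrans : ∀ v w : V, v ≠ 0 → w ≠ 0 →
      ∃ (σ : V ≃ₗ[ZMod p] V) (k : ℕ), ¬ q ∣ k ∧ (∀ u, σ (T u) = (T ^ k) (σ u)) ∧ σ v = w) :
    orderOf (p : ZMod q) = q - 1 :=
  Cfsg.Agent.Lib.Helper33.Twisted.orderOf_eq_of_twisted_transitive hpq T hT hk htrans

variable {G : Type*} [Group G]

/-- iterating conjugation -/
theorem conjNormal_iterate (P : Subgroup G) [P.Normal] (c : G) (k : ℕ) (y : P) :
    ((((MulAut.conjNormal c : P ≃* P).toMonoidHom : P → P)^[k] y : P) : G)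
      = c ^ k * y * (c ^ k)⁻¹ := by
  induction k generalizing y with
  | zero => simp
  | succ k ih =>
    rw [Function.iterate_succ_apply, ih]
    change c ^ k * (c * y * c⁻¹) * (c ^ k)⁻¹ = _
    rw [pow_succ]
    group

/-- the order of a normal Sylow `p`-subgroup when `|G| = p^n q` -/
theorem card_sylow_of_card [Finite G] {p q n : ℕ} [hp : Fact p.Prime] [hq : Fact q.Prime]
    (hpq : p ≠ q) (hcard : Nat.card G = p ^ n * q) (P : Sylow p G) :
    Nat.card (P : Subgroup G) = p ^ n := by
  rw [P.card_eq_multiplicity, hcard]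
  congr 1
  rw [Nat.factorization_mul (pow_ne_zero _ hp.out.ne_zero) hq.out.ne_zero,
    hp.out.factorization_pow, hq.out.factorization]
  simp [hpq]

/-- Forward direction, second part. -/
theorem primitive_root_of_transitive [Finite G] (p q n : ℕ) [hp : Fact p.Prime]
    [hq : Fact q.Prime] (hpq : p ≠ q) (hn : 1 ≤ n) (hcard : Nat.card G = p ^ n * q)
    (hS : ∀ P : Sylow p G, (P : Subgroup G).Normal ∧
      Cfsg.IsElementaryAbelian p (P : Subgroup G))
    (hfpf : ∀ x y : G, orderOf x = q → orderOf y = p → x * y * x⁻¹ ≠ y)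
    (htr : ∀ x y : G, x ≠ 1 → orderOf x = orderOf y → ∃ α : MulAut G, α x = y) :
    orderOf (p : ZMod q) = q - 1 := by
  obtain ⟨P⟩ : Nonempty (Sylow p G) := inferInstance
  obtain ⟨hPn, hPc, hPe⟩ := hS P
  have hPcard := card_sylow_of_card hpq hcard P
  haveI : (P : Subgroup G).Normal := hPn
  haveI : (P : Subgroup G).Characteristic := Sylow.characteristic_of_normal P hPn
  letI : CommGroup (P : Subgroup G) := { (inferInstance : Group (P : Subgroup G)) with
    mul_comm := fun a b => hPc.is_comm.comm a b }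
  have hz : ∀ x : Additive (P : Subgroup G), p • x = 0 := by
    intro x
    have h1 : (Additive.toMul x) ^ p = 1 := Subtype.ext (by simpa using hPe _ (Additive.toMul x).2)
    have : p • x = Additive.ofMul ((Additive.toMul x) ^ p) := rfl
    rw [this, h1]; rfl
  letI : Module (ZMod p) (Additive (P : Subgroup G)) := AddCommGroup.zmodModule (n := p) hz
  have hqd : q ∣ Nat.card G := by rw [hcard]; exact dvd_mul_left _ _
  obtain ⟨c, hc⟩ := exists_prime_orderOf_dvd_card' q hqd
  have hc1 : c ≠ 1 := by
    intro h; rw [h, orderOf_one] at hc; exact hq.out.one_lt.ne hc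
  -- orders of elements of P
  have hordP : ∀ y : (P : Subgroup G), y ≠ 1 → orderOf (y : G) = p := by
    intro y hy
    exact orderOf_eq_prime (hPe y y.2) (fun h => hy (Subtype.ext h))
  have hfix : ∀ (k : ℕ), ¬ q ∣ k → ∀ y : (P : Subgroup G),
      c ^ k * (y : G) * (c ^ k)⁻¹ = (y : G) → y = 1 := by
    intro k hk y hy
    by_contra hy1
    have hck : orderOf (c ^ k) = q := by
      rw [Nat.Coprime.orderOf_pow, hc]
      rw [hc]; exact (Nat.Prime.coprime_iff_not_dvd hq.out).mpr hk
    exact hfpf (c ^ k) y hck (hordP y hy1) hy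
  set κ : (P : Subgroup G) →* (P : Subgroup G) :=
    (MulAut.conjNormal c : (P : Subgroup G) ≃* (P : Subgroup G)).toMonoidHom with hκ
  set T : Additive (P : Subgroup G) →ₗ[ZMod p] Additive (P : Subgroup G) := linOf p κ with hTdef
  have hTpow : ∀ (k : ℕ) (v : Additive (P : Subgroup G)),
      (((T ^ k) v).toMul : G) = c ^ k * (v.toMul : G) * (c ^ k)⁻¹ := by
    intro k v
    rw [hTdef, linOf_pow_apply]
    exact conjNormal_iterate (P : Subgroup G) c k v.toMul
  have hTq : ∀ v : Additive (P : Subgroup G), (T ^ q) v = v := by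
    intro v
    have hcq : c ^ q = 1 := by rw [← hc]; exact pow_orderOf_eq_one c
    have := hTpow q v
    rw [hcq, one_mul, inv_one, mul_one] at this
    exact Additive.toMul.injective (Subtype.ext this)
  have hT : ∑ i ∈ Finset.range q, T ^ i = 0 := by
    refine LinearMap.ext fun v => ?_
    rw [LinearMap.sum_apply, LinearMap.zero_apply]
    set w := ∑ i ∈ Finset.range q, (T ^ i) v with hw
    have hTw : T w = w := by
      rw [hw, map_sum]
      have h1 : ∀ i ∈ Finset.range q, T ((T ^ i) v) = (T ^ (i + 1)) v := by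
        intro i _
        rw [pow_succ', Module.End.mul_apply]
      rw [Finset.sum_congr rfl h1]
      have h2 := Finset.sum_range_succ (fun i => (T ^ i) v) q
      have h3 := Finset.sum_range_succ' (fun i => (T ^ i) v) q
      rw [h2] at h3
      simp only [pow_zero, Module.End.one_apply] at h3
      rw [hTq] at h3
      exact (add_right_cancel h3).symm
    have h4 := hTpow 1 w
    rw [pow_one, hTw, pow_one] at h4
    have h5 := hfix 1 (by
      intro h; exact hq.out.one_lt.ne' (Nat.dvd_one.mp h)) w.toMul (by rw [pow_one]; exact h4.symm)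
    exact Additive.toMul.injective h5
  haveI : Finite (Additive (P : Subgroup G)) := inferInstanceAs (Finite (P : Subgroup G))
  haveI : Nontrivial (Additive (P : Subgroup G)) := by
    have : 1 < Nat.card (P : Subgroup G) := by
      rw [hPcard]; exact Nat.one_lt_pow (by omega) hp.out.one_lt
    exact (Finite.one_lt_card_iff_nontrivial (α := (P : Subgroup G))).mp this
  have hPq : Nat.card G = Nat.card (P : Subgroup G) * q := by rw [hPcard, hcard]
  have hcop : (Nat.card (P : Subgroup G)).Coprime q := by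
    rw [hPcard]
    exact Nat.Coprime.pow_left _ ((Nat.coprime_primes hp.out hq.out).mpr hpq)
  -- an automorphism `α` with `α c = u * c^k` twists `T` into `T^k`
  have hkey : ∀ (α : MulAut G) (u : G) (k : ℕ), u ∈ (P : Subgroup G) → α c = u * c ^ k →
      ∀ v, linEquivOf p (resAut (P : Subgroup G) α) (T v)
        = (T ^ k) (linEquivOf p (resAut (P : Subgroup G) α) v) := by
    intro α u k hu hα v
    apply Additive.toMul.injective
    apply Subtype.ext
    rw [hTpow k]
    have h1 := hTpow 1 v
    rw [pow_one, pow_one] at h1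
    rw [linEquivOf_apply, linEquivOf_apply, toMul_ofMul, toMul_ofMul, resAut_coe, resAut_coe, h1,
      map_mul, map_mul, map_inv, hα]
    -- u commutes with elements of P
    set z : G := c ^ k * α (v.toMul : G) * (c ^ k)⁻¹ with hz
    have hzP : z ∈ (P : Subgroup G) := by
      have : α (v.toMul : G) ∈ (P : Subgroup G) := (resAut (P : Subgroup G) α v.toMul).2
      exact hPn.conj_mem _ this _
    have hcomm : u * z = z * u := by
      have := hPc.is_comm.comm ⟨u, hu⟩ ⟨z, hzP⟩
      exact congrArg Subtype.val this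
    calc u * c ^ k * α (v.toMul : G) * (u * c ^ k)⁻¹ = u * z * u⁻¹ := by rw [hz]; group
      _ = z := by rw [hcomm]; group
  apply orderOf_eq_of_twisted_transitive hpq T hT
  · intro k hk0 hkq
    have hqk : ¬ q ∣ k := fun h => by
      have := Nat.le_of_dvd hk0 h; omega
    have hck : orderOf (c ^ k) = orderOf c := by
      rw [Nat.Coprime.orderOf_pow]
      rw [hc]; exact (Nat.Prime.coprime_iff_not_dvd hq.out).mpr hqk
    obtain ⟨α, hα⟩ := htr c (c ^ k) hc1 hck.symm
    refine ⟨linEquivOf p (resAut (P : Subgroup G) α), ?_⟩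
    exact hkey α 1 k (one_mem _) (by rw [hα, one_mul])
  · intro v w hv hw
    have hv1 : v.toMul ≠ 1 := fun h => hv (by
      have := congrArg Additive.ofMul h; simpa using this)
    have hw1 : w.toMul ≠ 1 := fun h => hw (by
      have := congrArg Additive.ofMul h; simpa using this)
    have hv1' : (v.toMul : G) ≠ 1 := fun h => hv1 (Subtype.ext h)
    obtain ⟨α, hα⟩ := htr (v.toMul : G) (w.toMul : G) hv1'
      (by rw [hordP _ hv1, hordP _ hw1])
    obtain ⟨u, hu, k, hkq, hdec⟩ :=
      exists_decomp (P : Subgroup G) c q hq.out hc hPq hcop (α c)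
    have hqk : ¬ q ∣ k := by
      intro h
      have hk0 : k = 0 := Nat.eq_zero_of_dvd_of_lt h hkq
      rw [hk0, pow_zero, mul_one] at hdec
      have h1 : orderOf (α c) = q := by rw [MulEquiv.orderOf_eq, hc]
      have h2 : (α c) ^ p = 1 := by rw [hdec]; exact hPe u hu
      have h3 : q ∣ p := by rw [← h1]; exact orderOf_dvd_of_pow_eq_one h2
      exact hpq ((Nat.prime_dvd_prime_iff_eq hq.out hp.out).mp h3).symm
    refine ⟨linEquivOf p (resAut (P : Subgroup G) α), k, hqk, hkey α u k hu hdec, ?_⟩
    apply Additive.toMul.injective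
    apply Subtype.ext
    rw [linEquivOf_apply, toMul_ofMul, resAut_coe, hα]

end Cfsg.Agent.Lib.Helper80.AutOrbit
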