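import Cfsg.Agent.Lib.Helper80.AutOrbitC
import Cfsg.Agent.Lib.Helper18.Twisted

/-! S4081, reverse direction. -/

set_option autoImplicit false
set_option linter.style.haveILetI false

namespace Cfsg.Agent.Lib.Helper80.AutOrbit

theorem exists_twisted_auts {p q : ℕ} [Fact p.Prime] [Fact q.Prime] (hpq : p ≠ q)
    (hprim : orderOf (p : ZMod q) = q - 1)
    {V : Type*} [AddCommGroup V] [Module (ZMod p) V] [Finite V]
    (T : V →ₗ[ZMod p] V) (hT : ∑ i ∈ Finset.range q, T ^ i = 0) :
    (∀ k : ℕ, ¬ q ∣ k → ∃ σ : V ≃ₗ[ZMod p] V, ∀ v, σ (T v) = (T ^ k) (σ v)) ∧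
    (∀ v w : V, v ≠ 0 → w ≠ 0 → ∃ σ : V ≃ₗ[ZMod p] V, (∀ u, σ (T u) = T (σ u)) ∧ σ v = w) :=
  Cfsg.Agent.Lib.Helper18.Twisted.exists_twisted_auts hpq hprim T hT

variable {G : Type*} [Group G]

/-- Group-level form of the twisted automorphisms of the kernel. -/
theorem exists_twisted_group_auts [Finite G] (p q : ℕ) [hp : Fact p.Prime]
    [hq : Fact q.Prime] (hpq : p ≠ q) (hprim : orderOf (p : ZMod q) = q - 1)
    (P : Subgroup G) [hPn : P.Normal] (hPc : IsMulCommutative P) (hPe : ∀ a ∈ P, a ^ p = 1)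
    (c : G) (hc : orderOf c = q)
    (hfix : ∀ y : P, c * (y : G) * c⁻¹ = (y : G) → y = 1) :
    (∀ k : ℕ, ¬ q ∣ k → ∃ fn : P ≃* P, ∀ y : P,
      ((fn ⟨c * y * c⁻¹, hPn.conj_mem y y.2 c⟩ : P) : G) = c ^ k * (fn y : G) * (c ^ k)⁻¹) ∧
    (∀ y1 y2 : P, y1 ≠ 1 → y2 ≠ 1 → ∃ fn : P ≃* P, (∀ y : P,
      ((fn ⟨c * y * c⁻¹, hPn.conj_mem y y.2 c⟩ : P) : G) = c * (fn y : G) * c⁻¹) ∧ fn y1 = y2) := by
  letI : CommGroup P := { (inferInstance : Group P) with
    mul_comm := fun a b => hPc.is_comm.comm a b }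
  have hz : ∀ x : Additive P, p • x = 0 := by
    intro x
    have h1 : (Additive.toMul x) ^ p = 1 := Subtype.ext (by simpa using hPe _ (Additive.toMul x).2)
    have : p • x = Additive.ofMul ((Additive.toMul x) ^ p) := rfl
    rw [this, h1]; rfl
  letI : Module (ZMod p) (Additive P) := AddCommGroup.zmodModule (n := p) hz
  set κ : P →* P := (MulAut.conjNormal c : P ≃* P).toMonoidHom with hκ
  set T : Additive P →ₗ[ZMod p] Additive P := linOf p κ with hTdef
  have hTpow : ∀ (k : ℕ) (v : Additive P),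
      (((T ^ k) v).toMul : G) = c ^ k * (v.toMul : G) * (c ^ k)⁻¹ := by
    intro k v
    rw [hTdef, linOf_pow_apply]
    exact conjNormal_iterate P c k v.toMul
  have hTq : ∀ v : Additive P, (T ^ q) v = v := by
    intro v
    have hcq : c ^ q = 1 := by rw [← hc]; exact pow_orderOf_eq_one c
    have := hTpow q v
    rw [hcq, one_mul, inv_one, mul_one] at this
    exact Additive.toMul.injective (Subtype.ext this)
  have hT : ∑ i ∈ Finset.range q, T ^ i = 0 := by
    refine LinearMap.ext fun v => ?_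
    rw [LinearMap.sum_apply, LinearMap.zero_apply]
    set w := ∑ i ∈ Finset.range q, (T ^ i) v with hw
    have hTw : T w = w := by
      rw [hw, map_sum]
      have h1 : ∀ i ∈ Finset.range q, T ((T ^ i) v) = (T ^ (i + 1)) v := by
        intro i _
        rw [pow_succ', Module.End.mul_apply]
      rw [Finset.sum_congr rfl h1]
      have h2 := Finset.sum_range_succ (fun i => (T ^ i) v) q
      have h3 := Finset.sum_range_succ' (fun i => (T ^ i) v) q
      rw [h2] at h3
      simp only [pow_zero, Module.End.one_apply] at h3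
      rw [hTq] at h3
      exact (add_right_cancel h3).symm
    have h4 := hTpow 1 w
    rw [pow_one, hTw, pow_one] at h4
    have h5 := hfix w.toMul h4.symm
    exact Additive.toMul.injective h5
  haveI : Finite (Additive P) := inferInstanceAs (Finite P)
  obtain ⟨hA1, hA2⟩ := exists_twisted_auts hpq hprim T hT
  have hT1 : ∀ v : Additive P, ((T v).toMul : G) = c * (v.toMul : G) * c⁻¹ := by
    intro v
    have := hTpow 1 v
    rwa [pow_one, pow_one] at this
  constructor
  · intro k hk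
    obtain ⟨σ, hσ⟩ := hA1 k hk
    refine ⟨mulEquivOfLin p σ, fun y => ?_⟩
    have h1 := hσ (Additive.ofMul y)
    have h2 : (Additive.ofMul (⟨c * y * c⁻¹, hPn.conj_mem y y.2 c⟩ : P)) = T (Additive.ofMul y) := by
      apply Additive.toMul.injective
      apply Subtype.ext
      rw [hT1]; rfl
    rw [mulEquivOfLin_apply, h2, h1, hTpow]
    rfl
  · intro y1 y2 hy1 hy2
    obtain ⟨σ, hσ, hσv⟩ := hA2 (Additive.ofMul y1) (Additive.ofMul y2)
      (fun h => hy1 (Additive.ofMul.injective h)) (fun h => hy2 (Additive.ofMul.injective h))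
    refine ⟨mulEquivOfLin p σ, fun y => ?_, ?_⟩
    · have h1 := hσ (Additive.ofMul y)
      have h2 : (Additive.ofMul (⟨c * y * c⁻¹, hPn.conj_mem y y.2 c⟩ : P))
          = T (Additive.ofMul y) := by
        apply Additive.toMul.injective
        apply Subtype.ext
        rw [hT1]; rfl
      rw [mulEquivOfLin_apply, h2, h1, hT1]
      rfl
    · rw [mulEquivOfLin_apply, hσv]; rfl

/-- iterating the twisting relation -/
theorem twisted_pow (P : Subgroup G) [hPn : P.Normal] (c : G) (k : ℕ) (fn : P ≃* P)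
    (hfn : ∀ y : P, ((fn ⟨c * y * c⁻¹, hPn.conj_mem y y.2 c⟩ : P) : G)
      = c ^ k * (fn y : G) * (c ^ k)⁻¹) (m : ℕ) (y : P) :
    ((fn ⟨c ^ m * y * (c ^ m)⁻¹, hPn.conj_mem y y.2 (c ^ m)⟩ : P) : G)
      = (c ^ m) ^ k * (fn y : G) * ((c ^ m) ^ k)⁻¹ := by
  induction m generalizing y with
  | zero => simp
  | succ m ih =>
    have h1 : (⟨c ^ (m + 1) * y * (c ^ (m + 1))⁻¹, hPn.conj_mem y y.2 (c ^ (m + 1))⟩ : P)
        = ⟨c * (⟨c ^ m * y * (c ^ m)⁻¹, hPn.conj_mem y y.2 (c ^ m)⟩ : P) * c⁻¹,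
            hPn.conj_mem _ (hPn.conj_mem y y.2 (c ^ m)) c⟩ := by
      apply Subtype.ext
      change c ^ (m + 1) * y * (c ^ (m + 1))⁻¹ = c * (c ^ m * y * (c ^ m)⁻¹) * c⁻¹
      rw [pow_succ']; group
    rw [h1, hfn, ih]
    have h2 : (c ^ (m + 1)) ^ k = c ^ k * (c ^ m) ^ k := by
      rw [← pow_mul, ← pow_mul, ← pow_add]; congr 1; ring
    rw [h2]; group

/-- extension of a twisted automorphism of the kernel to the whole group -/
theorem exists_aut_extension [Finite G] (P : Subgroup G) [hPn : P.Normal] (c : G) (q : ℕ)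
    (hq : q.Prime) (hc : orderOf c = q) (hcard : Nat.card G = Nat.card P * q)
    (hcop : (Nat.card P).Coprime q) (k : ℕ) (hk : ¬ q ∣ k) (fn : P ≃* P)
    (hfn : ∀ y : P, ((fn ⟨c * y * c⁻¹, hPn.conj_mem y y.2 c⟩ : P) : G)
      = c ^ k * (fn y : G) * (c ^ k)⁻¹) :
    ∃ α : MulAut G, (∀ y : P, α (y : G) = (fn y : G)) ∧ α c = c ^ k := by
  have hcz : Nat.card (Subgroup.zpowers c) = q := by rw [Nat.card_zpowers, hc]
  have hcompl : Subgroup.IsComplement' P (Subgroup.zpowers c) := by
    apply Subgroup.isComplement'_of_coprime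
    · rw [hcz, hcard]
    · rw [hcz]; exact hcop
  -- the power map on `⟨c⟩`
  have hcopk : (Nat.card (Subgroup.zpowers c)).Coprime k := by
    rw [hcz]; exact (Nat.Prime.coprime_iff_not_dvd hq).mpr hk
  let fg : Subgroup.zpowers c ≃* Subgroup.zpowers c :=
    { powCoprime hcopk with
      map_mul' := fun a b => by
        apply Subtype.ext
        change ((a * b : Subgroup.zpowers c) : G) ^ k = (a : G) ^ k * (b : G) ^ k
        have hab : Commute (a : G) (b : G) := by
          obtain ⟨i, hi⟩ := Subgroup.mem_zpowers_iff.mp a.2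
          obtain ⟨j, hj⟩ := Subgroup.mem_zpowers_iff.mp b.2
          rw [← hi, ← hj]
          exact (Commute.refl c).zpow_zpow i j
        exact hab.mul_pow k }
  have hfg : ∀ d : Subgroup.zpowers c, ((fg d : Subgroup.zpowers c) : G) = (d : G) ^ k :=
    fun d => rfl
  let e := SemidirectProduct.mulEquivSubgroup hcompl
  have he : ∀ x, e x = (x.left : G) * (x.right : G) := fun x => rfl
  let ψ := SemidirectProduct.congr (φ₁ := (P.normalizerMonoidHom).comp
      (Subgroup.inclusion (P.normalizer_eq_top ▸ le_top)))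
    (φ₂ := (P.normalizerMonoidHom).comp
      (Subgroup.inclusion (P.normalizer_eq_top ▸ le_top))) fn fg (by
    intro d
    ext y
    obtain ⟨m, hm⟩ := mem_powers_iff_mem_zpowers.mpr d.2
    have h1 := twisted_pow P c k fn hfn m y
    change ((fn ⟨(d : G) * y * (d : G)⁻¹, _⟩ : P) : G)
      = ((fg d : Subgroup.zpowers c) : G) * (fn y : G) * ((fg d : Subgroup.zpowers c) : G)⁻¹
    rw [hfg]
    have hm' : c ^ m = (d : G) := hm
    simp only [← hm']
    exact h1)
  refine ⟨(e.symm.trans ψ).trans e, fun y => ?_, ?_⟩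
  · have h1 : e.symm (y : G) = ⟨y, 1⟩ := by
      rw [MulEquiv.symm_apply_eq, he]; simp
    change e (ψ (e.symm (y : G))) = _
    rw [h1, he]
    change ((fn y : P) : G) * ((fg 1 : Subgroup.zpowers c) : G) = _
    rw [map_one]; simp
  · have h1 : e.symm c = ⟨1, ⟨c, Subgroup.mem_zpowers c⟩⟩ := by
      rw [MulEquiv.symm_apply_eq, he]; simp
    change e (ψ (e.symm c)) = _
    rw [h1, he]
    change ((fn 1 : P) : G) * ((fg ⟨c, Subgroup.mem_zpowers c⟩ : Subgroup.zpowers c) : G) = _
    rw [map_one, hfg]; simp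

open MulAction in
/-- Reverse direction. -/
theorem three_orbits_of_structure [Finite G] (p q n : ℕ) [hp : Fact p.Prime]
    [hq : Fact q.Prime] (hpq : p ≠ q) (hn : 1 ≤ n) (hcard : Nat.card G = p ^ n * q)
    (hS : ∀ P : Sylow p G, (P : Subgroup G).Normal ∧
      Cfsg.IsElementaryAbelian p (P : Subgroup G))
    (hprim : orderOf (p : ZMod q) = q - 1)
    (hfpf : ∀ x y : G, orderOf x = q → orderOf y = p → x * y * x⁻¹ ≠ y) :
    Nat.card (orbitRel.Quotient (MulAut G) G) = 3 := by
  classical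
  obtain ⟨P⟩ : Nonempty (Sylow p G) := inferInstance
  obtain ⟨hPn, hPc, hPe⟩ := hS P
  have hPcard := card_sylow_of_card hpq hcard P
  haveI : (P : Subgroup G).Normal := hPn
  haveI hPchar : (P : Subgroup G).Characteristic := Sylow.characteristic_of_normal P hPn
  have hqd : q ∣ Nat.card G := by rw [hcard]; exact dvd_mul_left _ _
  obtain ⟨c, hc⟩ := exists_prime_orderOf_dvd_card' q hqd
  have hc1 : c ≠ 1 := by
    intro h; rw [h, orderOf_one] at hc; exact hq.out.one_lt.ne hc
  have hordP : ∀ y : (P : Subgroup G), y ≠ 1 → orderOf (y : G) = p := by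
    intro y hy
    exact orderOf_eq_prime (hPe y y.2) (fun h => hy (Subtype.ext h))
  have hfix : ∀ (k : ℕ), ¬ q ∣ k → ∀ y : (P : Subgroup G),
      c ^ k * (y : G) * (c ^ k)⁻¹ = (y : G) → y = 1 := by
    intro k hk y hy
    by_contra hy1
    have hck : orderOf (c ^ k) = q := by
      rw [Nat.Coprime.orderOf_pow, hc]
      rw [hc]; exact (Nat.Prime.coprime_iff_not_dvd hq.out).mpr hk
    exact hfpf (c ^ k) y hck (hordP y hy1) hy
  have hfix1 : ∀ y : (P : Subgroup G), c * (y : G) * c⁻¹ = (y : G) → y = 1 := by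
    intro y hy
    apply hfix 1 (fun h => hq.out.one_lt.ne' (Nat.dvd_one.mp h)) y
    rw [pow_one]; exact hy
  have hPq : Nat.card G = Nat.card (P : Subgroup G) * q := by rw [hPcard, hcard]
  have hcop : (Nat.card (P : Subgroup G)).Coprime q := by
    rw [hPcard]
    exact Nat.Coprime.pow_left _ ((Nat.coprime_primes hp.out hq.out).mpr hpq)
  obtain ⟨hG1, hG2⟩ := exists_twisted_group_auts p q hpq hprim (P : Subgroup G) hPc hPe c hc hfix1
  -- automorphisms preserve P
  have hpres : ∀ (α : MulAut G) (g : G), α g ∈ (P : Subgroup G) ↔ g ∈ (P : Subgroup G) := by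
    intro α g
    have := hPchar.fixed α
    constructor
    · intro h
      have h2 : g ∈ (P : Subgroup G).comap α.toMonoidHom := h
      rwa [this] at h2
    · intro h
      have h2 : g ∈ (P : Subgroup G).comap α.toMonoidHom := by rwa [this]
      exact h2
  have hcP : c ∉ (P : Subgroup G) := by
    intro h
    have h2 : c ^ p = 1 := hPe c h
    have h3 : q ∣ p := by rw [← hc]; exact orderOf_dvd_of_pow_eq_one h2
    exact hpq ((Nat.prime_dvd_prime_iff_eq hq.out hp.out).mp h3).symm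
  -- every element outside P is in the orbit of c
  have horbc : ∀ g : G, g ∉ (P : Subgroup G) → ∃ α : MulAut G, α c = g := by
    intro g hg
    obtain ⟨u, hu, k, hkq, hdec⟩ :=
      exists_decomp (P : Subgroup G) c q hq.out hc hPq hcop g
    have hqk : ¬ q ∣ k := by
      intro h
      have hk0 : k = 0 := Nat.eq_zero_of_dvd_of_lt h hkq
      rw [hk0, pow_zero, mul_one] at hdec
      exact hg (hdec ▸ hu)
    obtain ⟨fn, hfn⟩ := hG1 k hqk
    obtain ⟨α, -, hαc⟩ := exists_aut_extension (P : Subgroup G) c q hq.out hc hPq hcop k hqk fn hfn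
    -- the map y ↦ y * (c^k y⁻¹ c^-k) on P is injective, hence surjective
    let ψ : ↥(P : Subgroup G) → ↥(P : Subgroup G) := fun y =>
      y * (⟨c ^ k * (y : G)⁻¹ * (c ^ k)⁻¹, hPn.conj_mem _ (inv_mem y.2) _⟩ : (P : Subgroup G))
    have hψinj : Function.Injective ψ := by
      intro y1 y2 h12
      have h1 : (y1 : G) * (c ^ k * (y1 : G)⁻¹ * (c ^ k)⁻¹)
          = (y2 : G) * (c ^ k * (y2 : G)⁻¹ * (c ^ k)⁻¹) := by
        have := congrArg (fun w : (P : Subgroup G) => (w : G)) h12
        simpa [ψ] using this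
      -- z = y2⁻¹ y1 is fixed by c^k
      have h2 : (y1 : G) * c ^ k * (y1 : G)⁻¹ = (y2 : G) * c ^ k * (y2 : G)⁻¹ := by
        calc (y1 : G) * c ^ k * (y1 : G)⁻¹
            = ((y1 : G) * (c ^ k * (y1 : G)⁻¹ * (c ^ k)⁻¹)) * c ^ k := by group
          _ = ((y2 : G) * (c ^ k * (y2 : G)⁻¹ * (c ^ k)⁻¹)) * c ^ k := by rw [h1]
          _ = (y2 : G) * c ^ k * (y2 : G)⁻¹ := by group
      have hz : c ^ k * ((y2⁻¹ * y1 : (P : Subgroup G)) : G) * (c ^ k)⁻¹
          = ((y2⁻¹ * y1 : (P : Subgroup G)) : G) := by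
        rw [Subgroup.coe_mul, Subgroup.coe_inv]
        calc c ^ k * ((y2 : G)⁻¹ * (y1 : G)) * (c ^ k)⁻¹
            = (y2 : G)⁻¹ * ((y2 : G) * c ^ k * (y2 : G)⁻¹) * (y1 : G) * (c ^ k)⁻¹ := by group
          _ = (y2 : G)⁻¹ * ((y1 : G) * c ^ k * (y1 : G)⁻¹) * (y1 : G) * (c ^ k)⁻¹ := by rw [h2]
          _ = (y2 : G)⁻¹ * (y1 : G) := by group
      have := hfix k hqk _ hz
      have h4 : y2⁻¹ * y1 = 1 := this
      exact (inv_mul_eq_one.mp h4).symm
    have hψsurj : Function.Surjective ψ := Finite.surjective_of_injective hψinj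
    obtain ⟨y, hy⟩ := hψsurj ⟨u, hu⟩
    refine ⟨MulAut.conj (y : G) * α, ?_⟩
    rw [MulAut.mul_apply, hαc, MulAut.conj_apply, hdec]
    have : (u : G) = (y : G) * (c ^ k * (y : G)⁻¹ * (c ^ k)⁻¹) := by
      have := congrArg (fun w : (P : Subgroup G) => (w : G)) hy
      simpa [ψ] using this.symm
    rw [this]; group
  -- elements of P ∖ 1 form one orbit
  have horbP : ∀ a b : G, a ∈ (P : Subgroup G) → b ∈ (P : Subgroup G) → a ≠ 1 → b ≠ 1 →
      ∃ α : MulAut G, α b = a := by
    intro a b ha hb ha1 hb1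
    obtain ⟨fn, hfn, hfnb⟩ := hG2 ⟨b, hb⟩ ⟨a, ha⟩ (fun h => hb1 (congrArg Subtype.val h))
      (fun h => ha1 (congrArg Subtype.val h))
    have h1 : ¬ q ∣ 1 := fun h => hq.out.one_lt.ne' (Nat.dvd_one.mp h)
    obtain ⟨α, hα, -⟩ := exists_aut_extension (P : Subgroup G) c q hq.out hc hPq hcop 1 h1 fn
      (by intro y; rw [pow_one]; exact hfn y)
    refine ⟨α, ?_⟩
    have := hα ⟨b, hb⟩
    rw [hfnb] at this
    exact this
  -- the invariant
  let ι : G → Fin 3 := fun g => if g = 1 then 0 else if g ∈ (P : Subgroup G) then 1 else 2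
  have hι : ∀ (α : MulAut G) (g : G), ι (α g) = ι g := by
    intro α g
    simp only [ι]
    rw [map_eq_one_iff α α.injective, hpres]
  have hresp : ∀ a b : G, (orbitRel (MulAut G) G) a b → ι a = ι b := by
    intro a b hab
    obtain ⟨α, rfl⟩ := hab
    exact hι α b
  let f : orbitRel.Quotient (MulAut G) G → Fin 3 := Quotient.lift ι hresp
  have hkey : ∀ a b : G, ι a = ι b → ∃ α : MulAut G, α b = a := by
    intro a b hab
    by_cases ha1 : a = 1
    · have hb1 : b = 1 := by
        by_contra hb1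
        by_cases hbP : b ∈ (P : Subgroup G) <;> simp [ι, ha1, hb1, hbP] at hab
      exact ⟨1, by rw [ha1, hb1]; rfl⟩
    · by_cases haP : a ∈ (P : Subgroup G)
      · have hb1 : b ≠ 1 := by
          intro hb1
          simp [ι, ha1, hb1, haP] at hab
        have hbP : b ∈ (P : Subgroup G) := by
          by_contra hbP
          simp [ι, ha1, hb1, haP, hbP] at hab
        exact horbP a b haP hbP ha1 hb1
      · have hb1 : b ≠ 1 := by
          intro hb1
          simp [ι, ha1, hb1, haP] at hab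
        have hbP : b ∉ (P : Subgroup G) := by
          intro hbP
          simp [ι, ha1, hb1, haP, hbP] at hab
        obtain ⟨α1, h1⟩ := horbc a haP
        obtain ⟨α2, h2⟩ := horbc b hbP
        refine ⟨α1 * α2⁻¹, ?_⟩
        rw [← h1, ← h2]
        simp
  have hfinj : Function.Injective f := by
    intro x y
    induction x using Quotient.inductionOn' with | _ a => ?_
    induction y using Quotient.inductionOn' with | _ b => ?_
    intro hxy
    have hab : ι a = ι b := hxy
    obtain ⟨α, hα⟩ := hkey a b hab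
    apply Quotient.sound'
    exact ⟨α, hα⟩
  have hfsurj : Function.Surjective f := by
    have hPnt : ∃ y : G, y ∈ (P : Subgroup G) ∧ y ≠ 1 := by
      have : 1 < Nat.card (P : Subgroup G) := by
        rw [hPcard]; exact Nat.one_lt_pow (by omega) hp.out.one_lt
      haveI := (Finite.one_lt_card_iff_nontrivial (α := (P : Subgroup G))).mp this
      obtain ⟨y, hy⟩ := exists_ne (1 : (P : Subgroup G))
      exact ⟨y, y.2, fun h => hy (Subtype.ext h)⟩
    obtain ⟨y, hyP, hy1⟩ := hPnt
    intro i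
    fin_cases i
    · exact ⟨Quotient.mk'' 1, by simp [f, ι]⟩
    · refine ⟨Quotient.mk'' y, ?_⟩
      change ι y = _
      simp [ι, hy1, hyP]
    · refine ⟨Quotient.mk'' c, ?_⟩
      change ι c = _
      simp [ι, hc1, hcP]
  rw [Nat.card_congr (Equiv.ofBijective f ⟨hfinj, hfsurj⟩)]
  simp

end Cfsg.Agent.Lib.Helper80.AutOrbit
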