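import Mathlib
import Cfsg.Agent.Lib.Helper70.BQSDefs

/-!
# K-BQS leaves 391202 B2 `propB_quot_of_lifts` and 391203 B3 `propB_quot_of_coprime` (helper80)
-/

set_option autoImplicit false

namespace Cfsg.Agent.Lib.Helper80.BQS

open Cfsg Cfsg.Agent.Lib.Helper70.BQS

theorem mk_comp_conj {G : Type*} [Group G] (M : Subgroup G) [M.Normal] (g : G) :
    (QuotientGroup.mk' M).comp (MulAut.conj g).toMonoidHom =
      (MulAut.conj (QuotientGroup.mk' M g)).toMonoidHom.comp (QuotientGroup.mk' M) := by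
  ext x
  simp

/-- B2 (EASY-MEDIUM). -/
theorem propB_quot_of_lifts {G : Type*} [Group G] [Finite G] (hB : PropB G) (M : Subgroup G) [M.Normal]
    (f : ℕ → ℕ)
    (hlift : ∀ A : Subgroup (G ⧸ M), IsMulCommutative ↥A →
      ∃ A0 : Subgroup G, IsMulCommutative ↥A0 ∧ A0.map (QuotientGroup.mk' M) = A ∧
        Nat.card ↥A0 = f (Nat.card ↥A)) : PropB (G ⧸ M) := by
  intro A B hA hB' hcard
  obtain ⟨A0, hA0c, hA0m, hA0card⟩ := hlift A hA
  obtain ⟨B0, hB0c, hB0m, hB0card⟩ := hlift B hB'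
  have h1 : Nat.card ↥A0 = Nat.card ↥B0 := by rw [hA0card, hB0card, hcard]
  obtain ⟨g, hg⟩ := hB A0 B0 hA0c hB0c h1
  refine ⟨QuotientGroup.mk' M g, ?_⟩
  rw [← hB0m, hg, Subgroup.map_map, mk_comp_conj, ← Subgroup.map_map, hA0m]

end Cfsg.Agent.Lib.Helper80.BQS

namespace Cfsg.Agent.Lib.Helper80.BQS

open Cfsg Cfsg.Agent.Lib.Helper70.BQS

/-- B3 (MEDIUM). -/
theorem propB_quot_of_coprime {G : Type*} [Group G] [Finite G] (hB : PropB G) (M : Subgroup G) [M.Normal]
    (hc : (Nat.card ↥M).Coprime M.index) : PropB (G ⧸ M) := by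
  classical
  apply propB_quot_of_lifts hB M id
  intro A hA
  set H : Subgroup G := A.comap (QuotientGroup.mk' M) with hH
  have hMH : M ≤ H := by
    intro m hm
    rw [hH, Subgroup.mem_comap]
    have : QuotientGroup.mk' M m = 1 := (QuotientGroup.eq_one_iff m).mpr hm
    rw [this]
    exact A.one_mem
  set N' : Subgroup H := M.subgroupOf H with hN'
  haveI : N'.Normal := Subgroup.Normal.subgroupOf inferInstance H
  -- the surjection H → A
  let φ : H →* A := ((QuotientGroup.mk' M).comp H.subtype).codRestrict A (fun h => h.2)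
  have hφsurj : Function.Surjective φ := by
    rintro ⟨a, ha⟩
    obtain ⟨g, rfl⟩ := QuotientGroup.mk'_surjective M a
    exact ⟨⟨g, ha⟩, rfl⟩
  have hφker : φ.ker = N' := by
    ext h
    rw [MonoidHom.mem_ker, hN', Subgroup.mem_subgroupOf]
    constructor
    · intro h1
      have h2 : QuotientGroup.mk' M (h : G) = 1 := congrArg Subtype.val h1
      exact (QuotientGroup.eq_one_iff _).mp h2
    · intro h1
      apply Subtype.ext
      exact (QuotientGroup.eq_one_iff _).mpr h1
  have hidx : N'.index = Nat.card A := by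
    rw [← hφker, Subgroup.index_ker, MonoidHom.range_eq_top.mpr hφsurj, Subgroup.card_top]
  have hcardN' : Nat.card N' = Nat.card M :=
    Nat.card_congr (Subgroup.subgroupOfEquivOfLe hMH).toEquiv
  have hAdvd : Nat.card A ∣ M.index := by
    rw [Subgroup.index_eq_card]
    exact Subgroup.card_subgroup_dvd_card A
  have hcop : (Nat.card N').Coprime N'.index := by
    rw [hcardN', hidx]
    exact Nat.Coprime.coprime_dvd_right hAdvd hc
  obtain ⟨K, hK⟩ := Subgroup.exists_right_complement'_of_coprime hcop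
  have hdisj : ∀ k : H, k ∈ N' → k ∈ K → k = 1 := by
    intro k h1 h2
    have : k ∈ N' ⊓ K := ⟨h1, h2⟩
    rw [hK.disjoint.eq_bot, Subgroup.mem_bot] at this
    exact this
  refine ⟨K.map H.subtype, ⟨⟨?_⟩⟩, ?_, ?_⟩
  · -- commutative
    rintro ⟨x, hx⟩ ⟨y, hy⟩
    obtain ⟨k1, hk1, rfl⟩ := Subgroup.mem_map.mp hx
    obtain ⟨k2, hk2, rfl⟩ := Subgroup.mem_map.mp hy
    apply Subtype.ext
    show (H.subtype k1) * (H.subtype k2) = (H.subtype k2) * (H.subtype k1)
    rw [← map_mul, ← map_mul]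
    congr 1
    have h1 : k1 * k2 * (k2 * k1)⁻¹ ∈ K :=
      K.mul_mem (K.mul_mem hk1 hk2) (K.inv_mem (K.mul_mem hk2 hk1))
    have h2 : k1 * k2 * (k2 * k1)⁻¹ ∈ N' := by
      rw [← hφker, MonoidHom.mem_ker, map_mul, map_inv, map_mul, map_mul]
      have := hA.is_comm.comm (φ k1) (φ k2)
      rw [this, mul_inv_cancel]
    exact mul_inv_eq_one.mp (hdisj _ h2 h1)
  · -- image
    ext a
    constructor
    · intro ha
      obtain ⟨x, hx, rfl⟩ := Subgroup.mem_map.mp ha
      obtain ⟨k, _, rfl⟩ := Subgroup.mem_map.mp hx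
      exact k.2
    · intro ha
      obtain ⟨g, rfl⟩ := QuotientGroup.mk'_surjective M a
      have hg : g ∈ H := ha
      obtain ⟨⟨n, k⟩, hnk⟩ := hK.2 ⟨g, hg⟩
      have hnk' : (n : H) * (k : H) = ⟨g, hg⟩ := hnk
      refine Subgroup.mem_map.mpr ⟨((k : H) : G), Subgroup.mem_map.mpr ⟨(k : H), k.2, rfl⟩, ?_⟩
      have h3 : g = ((n : H) : G) * ((k : H) : G) := by
        have := congrArg Subtype.val hnk'
        exact this.symm
      rw [h3, map_mul]
      have h4 : QuotientGroup.mk' M ((n : H) : G) = 1 :=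
        (QuotientGroup.eq_one_iff _).mpr (Subgroup.mem_subgroupOf.mp n.2)
      rw [h4, one_mul]
  · -- cardinality
    show Nat.card ↥(K.map H.subtype) = Nat.card ↥A
    rw [Nat.card_congr (K.equivMapOfInjective H.subtype H.subtype_injective).symm.toEquiv]
    have h5 := hK.card_mul_card
    have h6 := N'.card_mul_index
    rw [← h6, hidx] at h5
    have hpos : 0 < Nat.card N' := Nat.card_pos
    exact Nat.eq_of_mul_eq_mul_left hpos h5

end Cfsg.Agent.Lib.Helper80.BQS
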