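import Mathlib
import Cfsg.Agent.Lib.Helper80.BlichE
import Cfsg.Agent.Lib.Helper86.K69C
import Cfsg.Agent.Lib.Helper33.Constituent
import Cfsg.Agent.Lib.Helper04.IndFun
import Cfsg.Agent.S0176

/-!
# Jordan's explicit bound, part F (helper80): abelian subgroups of nilpotent linear groups

A finite nilpotent group with a faithful character of degree `n` has an abelian subgroup of
index dividing `n!` (the kernel of the permutation action on the lines of a monomial basis).
-/

set_option autoImplicit false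
set_option linter.style.haveILetI false

namespace Cfsg.Agent.Lib.Helper80.Blich

open Cfsg Nat

universe u

/-- A monomial character takes the value of its degree at commutators of elements of the
normal core of the inducing subgroup. -/
theorem indFun_commutator_core {P : Type u} [Group P] [Fintype P] (H : Subgroup P)
    (lam : H →* ℂˣ) {x y : P} (hx : x ∈ H.normalCore) (hy : y ∈ H.normalCore) :
    Cfsg.indFun H (fun h => ((lam h : ℂˣ) : ℂ)) (x * y * x⁻¹ * y⁻¹) =
      Cfsg.indFun H (fun h => ((lam h : ℂˣ) : ℂ)) 1 := by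
  rw [Cfsg.Agent.Lib.Helper04.indFun_apply, Cfsg.Agent.Lib.Helper04.indFun_apply]
  congr 1
  apply Finset.sum_congr rfl
  intro t _
  have hx' : t⁻¹ * x * t ∈ H := by
    have := hx t⁻¹
    rwa [inv_inv] at this
  have hy' : t⁻¹ * y * t ∈ H := by
    have := hy t⁻¹
    rwa [inv_inv] at this
  have h1 : t⁻¹ * (x * y * x⁻¹ * y⁻¹) * t =
      ((⟨t⁻¹ * x * t, hx'⟩ * ⟨t⁻¹ * y * t, hy'⟩ * ⟨t⁻¹ * x * t, hx'⟩⁻¹ *
        ⟨t⁻¹ * y * t, hy'⟩⁻¹ : H) : P) := by
    simp only [Subgroup.coe_mul, Subgroup.coe_inv]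
    group
  have h2 : t⁻¹ * 1 * t = ((1 : H) : P) := by simp
  rw [h1, h2, Cfsg.Agent.Lib.Helper04.extendByZero_apply_mem,
    Cfsg.Agent.Lib.Helper04.extendByZero_apply_mem]
  simp only [map_mul, map_inv, map_one]
  rw [mul_comm (lam ⟨t⁻¹ * x * t, hx'⟩) (lam ⟨t⁻¹ * y * t, hy'⟩), mul_assoc (lam _),
    mul_inv_cancel, mul_one, mul_inv_cancel]

/-- A finite nilpotent group with a faithful character of degree `n` has an abelian subgroup
of index dividing `n!`. -/
theorem exists_abelian_of_nilpotent {P : Type u} [Group P] [Finite P] [Group.IsNilpotent P]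
    {χ : P → ℂ} (hχ : IsCharacter P χ) (hfaith : ∀ g : P, χ g = χ 1 → g = 1) (n : ℕ)
    (hn : χ 1 = n) :
    ∃ B : Subgroup P, (∀ x ∈ B, ∀ y ∈ B, x * y = y * x) ∧ B.index ∣ n ! := by
  classical
  haveI : Fintype P := Fintype.ofFinite P
  haveI : Finite (IrrCharacter P) := Cfsg.Agent.Lib.Helper05.finite_irrCharacter
  haveI : Fintype (IrrCharacter P) := Fintype.ofFinite _
  obtain ⟨m, hm⟩ := Cfsg.Agent.Lib.Helper05.exists_nat_coeff hχ
  have happ : ∀ g, χ g = ∑ ψ : IrrCharacter P, (m ψ : ℂ) * (ψ : P → ℂ) g := by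
    intro g
    rw [hm, Finset.sum_apply]
    rfl
  have hdeg : ∀ ψ : IrrCharacter P, (ψ : P → ℂ) 1 = (charDegree (ψ : P → ℂ) : ℂ) := fun ψ =>
    (Cfsg.Agent.Lib.Helper83.charDegree_cast
      (Cfsg.Agent.Lib.Helper83.IrrCharacter_isCharacter ψ)).symm
  have hsumdeg : ∑ ψ : IrrCharacter P, m ψ * charDegree (ψ : P → ℂ) = n := by
    have h1 := happ 1
    rw [hn] at h1
    have h2 : ((∑ ψ : IrrCharacter P, m ψ * charDegree (ψ : P → ℂ) : ℕ) : ℂ) = (n : ℂ) := by
      rw [h1]
      push_cast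
      exact Finset.sum_congr rfl (fun ψ _ => by rw [hdeg ψ])
    exact_mod_cast h2
  -- monomial data
  have hmon : ∀ ψ : IrrCharacter P, ∃ (H : Subgroup P) (lam : H →* ℂˣ),
      (ψ : P → ℂ) = Cfsg.indFun H (fun h => ((lam h : ℂˣ) : ℂ)) := fun ψ =>
    Cfsg.Agent.S0176.result (ψ : P → ℂ) ψ.2
  choose Hs lam hlam using hmon
  have hidx : ∀ ψ : IrrCharacter P, (Hs ψ).index = charDegree (ψ : P → ℂ) := by
    intro ψ
    have h1 := congrFun (hlam ψ) 1
    rw [Cfsg.Agent.Lib.Helper33.indFun_one, map_one, Units.val_one, mul_one, hdeg ψ] at h1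
    exact_mod_cast h1.symm
  set s : Finset (IrrCharacter P) := Finset.univ.filter (fun ψ => m ψ ≠ 0) with hs
  set B : Subgroup P := ⨅ i : s, (Hs i.1).normalCore with hB
  refine ⟨B, ?_, ?_⟩
  · intro x hx y hy
    have hkey : χ (x * y * x⁻¹ * y⁻¹) = χ 1 := by
      rw [happ, happ 1]
      apply Finset.sum_congr rfl
      intro ψ _
      by_cases hψ : m ψ = 0
      · rw [hψ]; simp
      · have hψs : ψ ∈ s := by rw [hs, Finset.mem_filter]; exact ⟨Finset.mem_univ _, hψ⟩
        have hxc : x ∈ (Hs ψ).normalCore := by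
          have := (Subgroup.mem_iInf.1 hx) ⟨ψ, hψs⟩
          exact this
        have hyc : y ∈ (Hs ψ).normalCore := by
          have := (Subgroup.mem_iInf.1 hy) ⟨ψ, hψs⟩
          exact this
        rw [hlam ψ, indFun_commutator_core (Hs ψ) (lam ψ) hxc hyc]
    have h1 := hfaith _ hkey
    have h2 : x * y = (x * y * x⁻¹ * y⁻¹) * (y * x) := by group
    rw [h2, h1, one_mul]
  · have h1 := Cfsg.Agent.Lib.Helper86.K69C.index_iInf_normalCore_dvd_factorial
      (fun i : s => Hs i.1)
    have h2 : ∑ i : s, (Hs i.1).index ≤ n := by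
      rw [Finset.sum_coe_sort s (fun ψ => (Hs ψ).index)]
      calc ∑ ψ ∈ s, (Hs ψ).index = ∑ ψ ∈ s, charDegree (ψ : P → ℂ) :=
            Finset.sum_congr rfl (fun ψ _ => hidx ψ)
        _ ≤ ∑ ψ ∈ s, m ψ * charDegree (ψ : P → ℂ) := by
            apply Finset.sum_le_sum
            intro ψ hψ
            rw [hs, Finset.mem_filter] at hψ
            calc charDegree (ψ : P → ℂ) = 1 * charDegree (ψ : P → ℂ) := (one_mul _).symm
              _ ≤ m ψ * charDegree (ψ : P → ℂ) :=
                Nat.mul_le_mul_right _ (Nat.one_le_iff_ne_zero.2 hψ.2)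
        _ ≤ ∑ ψ : IrrCharacter P, m ψ * charDegree (ψ : P → ℂ) :=
            Finset.sum_le_sum_of_subset (Finset.subset_univ s)
        _ = n := hsumdeg
    exact h1.trans (Nat.factorial_dvd_factorial h2)

/-- Subgroup form: every nilpotent subgroup `P` of a group with a faithful character of degree
`n` has an abelian subgroup `B` with `[P : B] ∣ n!`. -/
theorem exists_abelian_le_of_nilpotent {G : Type u} [Group G] [Finite G] {χ : G → ℂ}
    (hχ : IsCharacter G χ) (hfaith : ∀ g : G, χ g = χ 1 → g = 1) (n : ℕ) (hn : χ 1 = n)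
    (P : Subgroup G) (hP : Group.IsNilpotent P) :
    ∃ B : Subgroup G, B ≤ P ∧ (∀ x ∈ B, ∀ y ∈ B, x * y = y * x) ∧ B.relIndex P ∣ n ! := by
  have hχP : IsCharacter P (fun h : P => χ (h : G)) :=
    Cfsg.Agent.Lib.Helper83.isCharacter_restrict P hχ
  have hfP : ∀ g : P, (fun h : P => χ (h : G)) g = (fun h : P => χ (h : G)) 1 → g = 1 := by
    intro g hg
    apply Subtype.ext
    exact hfaith _ (by simpa using hg)
  obtain ⟨B', hB'ab, hB'idx⟩ :=
    exists_abelian_of_nilpotent hχP hfP n (by simpa using hn)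
  refine ⟨B'.map P.subtype, Subgroup.map_subtype_le B', ?_, ?_⟩
  · rintro _ ⟨x, hx, rfl⟩ _ ⟨y, hy, rfl⟩
    have := hB'ab x hx y hy
    simpa using congrArg Subtype.val this
  · have h1 : (B'.map P.subtype).relIndex P = B'.index := by
      rw [Subgroup.relIndex]
      congr 1
      ext z
      simp [Subgroup.mem_subgroupOf]
    rw [h1]
    exact hB'idx

end Cfsg.Agent.Lib.Helper80.Blich
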