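import Mathlib
import Cfsg.Agent.Lib.Helper01.Fitting
import Cfsg.Agent.Lib.Helper13.Fitting
import Cfsg.Agent.Lib.Helper14.Frattini
import Cfsg.Agent.Lib.Helper14.MinNonNilp
import Cfsg.Agent.Lib.Helper57.SylowExtras

/-!
# Frattini subgroup and nilpotency (helper80)

* `isNilpotent_of_class_two_mod_frattini` : a normal subgroup `D` with `[[D,D],D] ≤ Φ(G)` is
  nilpotent (special case of Gaschütz: `D/(D ∩ Φ(G))` nilpotent implies `D` nilpotent).
* `commutator_fitting_le_frattini` : `[F(G),F(G)] ≤ Φ(G)`.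
* `mem_fitting_of_commutator_mem_frattini` : in a finite solvable group, an element `g` with
  `[g, F(G)] ⊆ Φ(G)` lies in `F(G)`  (`C_G(F/Φ) = F`).
-/

set_option autoImplicit false
set_option linter.style.haveILetI false

namespace Cfsg.Agent.Lib.Helper80

open scoped commutatorElement

universe u

section

variable {G : Type u} [Group G]

/-- A group in which all double commutators are trivial is nilpotent. -/
theorem isNilpotent_of_double_commutator {Y : Type*} [Group Y]
    (h : ∀ a b c : Y, ⁅⁅a, b⁆, c⁆ = 1) : Group.IsNilpotent Y := by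
  apply Subgroup.isNilpotent_of_ker_le_center (Abelianization.of : Y →* Abelianization Y)
  rw [Abelianization.ker_of, commutator_eq_closure, Subgroup.closure_le]
  rintro x ⟨a, b, rfl⟩
  rw [SetLike.mem_coe, Subgroup.mem_center_iff]
  intro c
  have := h a b c
  rw [commutatorElement_eq_one_iff_commute] at this
  exact this.eq.symm

/-- A normal subgroup `D` of a finite group with `[[D,D],D] ≤ Φ(G)` is nilpotent. -/
theorem isNilpotent_of_class_two_mod_frattini [Finite G] (D : Subgroup G) [hD : D.Normal]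
    (h : ⁅⁅D, D⁆, D⁆ ≤ frattini G) : Group.IsNilpotent D := by
  classical
  have hΦn : (frattini G).Normal := inferInstance
  set N : Subgroup D := (frattini G).subgroupOf D with hN
  have hNn : N.Normal := inferInstance
  have hY : Group.IsNilpotent (D ⧸ N) := by
    apply isNilpotent_of_double_commutator
    intro a b c
    obtain ⟨a', rfl⟩ := QuotientGroup.mk_surjective a
    obtain ⟨b', rfl⟩ := QuotientGroup.mk_surjective b
    obtain ⟨c', rfl⟩ := QuotientGroup.mk_surjective c
    have hmem : ⁅⁅a', b'⁆, c'⁆ ∈ N := by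
      rw [hN, Subgroup.mem_subgroupOf]
      apply h
      have e : ((⁅⁅a', b'⁆, c'⁆ : D) : G) = ⁅⁅(a' : G), (b' : G)⁆, (c' : G)⁆ := by
        simp [commutatorElement_def]
      rw [e]
      exact Subgroup.commutator_mem_commutator
        (Subgroup.commutator_mem_commutator a'.2 b'.2) c'.2
    have e2 : ⁅⁅(QuotientGroup.mk a' : D ⧸ N), (QuotientGroup.mk b' : D ⧸ N)⁆,
        (QuotientGroup.mk c' : D ⧸ N)⁆ = (QuotientGroup.mk ⁅⁅a', b'⁆, c'⁆ : D ⧸ N) := by
      simp [commutatorElement_def]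
    rw [e2, QuotientGroup.eq_one_iff]
    exact hmem
  have q := (Group.isNilpotent_of_finite_tfae (G := D)).out 0 3
  rw [q]; clear q
  intro p hp P
  have hpp : p.Prime := hp.out
  let π : D →* D ⧸ N := QuotientGroup.mk' N
  have hπ : Function.Surjective π := QuotientGroup.mk'_surjective N
  let Pb : Sylow p (D ⧸ N) := P.mapSurjective hπ
  have hPbn : (Pb : Subgroup (D ⧸ N)).Normal := by
    have q := (Group.isNilpotent_of_finite_tfae (G := D ⧸ N)).out 0 3
    exact (q.mp hY) p hp Pb
  set T : Subgroup D := (Pb : Subgroup (D ⧸ N)).comap π with hT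
  have hTsup : T = (P : Subgroup D) ⊔ N := by
    rw [hT, Sylow.coe_mapSurjective, Subgroup.comap_map_eq, QuotientGroup.ker_mk']
  have hTchar : ∀ d : D, d ∈ T ↔ ∃ k : ℕ, d ^ (p ^ k) ∈ N := by
    intro d
    constructor
    · intro hd
      have hd' : π d ∈ (Pb : Subgroup (D ⧸ N)) := hd
      obtain ⟨k, hk⟩ := Pb.2 ⟨π d, hd'⟩
      refine ⟨k, ?_⟩
      have hk' : (π d) ^ (p ^ k) = 1 := by
        have := congrArg Subtype.val hk
        simpa using this
      rw [← map_pow] at hk'
      exact (QuotientGroup.eq_one_iff _).mp hk'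
    · rintro ⟨k, hk⟩
      have hk' : (π d) ^ (p ^ k) = 1 := by
        rw [← map_pow]
        exact (QuotientGroup.eq_one_iff _).mpr hk
      have hord : orderOf (π d) ∣ p ^ k := orderOf_dvd_of_pow_eq_one hk'
      obtain ⟨j, _, hj⟩ := (Nat.dvd_prime_pow hpp).mp hord
      have hZ : IsPGroup p (Subgroup.zpowers (π d)) := by
        apply IsPGroup.of_card (n := j)
        rw [Nat.card_zpowers, hj]
      obtain ⟨Q, hQ⟩ := hZ.exists_le_sylow
      have := Sylow.unique_of_normal Pb hPbn
      have hQP : Q = Pb := Subsingleton.elim _ _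
      show π d ∈ (Pb : Subgroup (D ⧸ N))
      rw [← hQP]
      exact hQ (Subgroup.mem_zpowers _)
  set T₀ : Subgroup G := T.map D.subtype with hT₀
  have hT₀n : T₀.Normal := by
    constructor
    rintro _ ⟨d, hd, rfl⟩ g
    obtain ⟨k, hk⟩ := (hTchar d).mp hd
    refine ⟨⟨g * d * g⁻¹, hD.conj_mem d d.2 g⟩, ?_, rfl⟩
    rw [SetLike.mem_coe, hTchar]
    refine ⟨k, ?_⟩
    rw [hN, Subgroup.mem_subgroupOf] at hk ⊢
    have e : (((⟨g * d * g⁻¹, hD.conj_mem d d.2 g⟩ : D) ^ (p ^ k) : D) : G) =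
        g * ((d ^ (p ^ k) : D) : G) * g⁻¹ := by
      simp [conj_pow]
    rw [e]
    exact hΦn.conj_mem _ hk g
  set P' : Subgroup G := (P : Subgroup D).map D.subtype with hP'
  have hP'T : P' ≤ T₀ := by
    rw [hP', hT₀]
    apply Subgroup.map_mono
    rw [hTsup]
    exact le_sup_left
  have hP'p : IsPGroup p P' := P.2.map _
  have hT₀D : T₀ ≤ D := Subgroup.map_subtype_le _
  have hidx : ¬ p ∣ P'.relIndex T₀ := by
    intro hdvd
    have h1 : P'.relIndex T₀ * T₀.relIndex D = P'.relIndex D :=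
      Subgroup.relIndex_mul_relIndex _ _ _ hP'T hT₀D
    have h2 : P'.relIndex D = (P : Subgroup D).index := by
      unfold Subgroup.relIndex Subgroup.subgroupOf
      rw [hP', Subgroup.comap_map_eq_self_of_injective D.subtype_injective]
    have h3 : p ∣ (P : Subgroup D).index := by
      rw [← h2, ← h1]
      exact Dvd.dvd.mul_right hdvd _
    exact P.not_dvd_index h3
  have hsup : Subgroup.normalizer (P' : Set G) ⊔ frattini G = ⊤ := by
    rw [eq_top_iff]
    intro g _
    obtain ⟨l, hl, hlg⟩ := Helper57.exists_mul_mem_normalizer T₀ P' hP'T hP'p hidx g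
      (by rw [Subgroup.normalizer_eq_top_iff.mpr hT₀n]; trivial)
    have hT₀le : T₀ ≤ Subgroup.normalizer (P' : Set G) ⊔ frattini G := by
      rw [hT₀, hTsup, Subgroup.map_sup]
      apply sup_le_sup
      · exact Subgroup.le_normalizer
      · rw [hN, Subgroup.subgroupOf_map_subtype]
        exact inf_le_left
    have e : g = l⁻¹ * (l * g) := by group
    rw [e]
    exact Subgroup.mul_mem _ (Subgroup.inv_mem _ (hT₀le hl)) (Subgroup.mem_sup_left hlg)
  have htop : Subgroup.normalizer (P' : Set G) = ⊤ := frattini_nongenerating hsup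
  have hP'n : P'.Normal := Subgroup.normalizer_eq_top_iff.mp htop
  exact hP'n.of_map_subtype


/-- `[F(G), F(G)] ≤ Φ(G)`, elementwise. -/
theorem commutatorElement_fitting_mem_frattini [Finite G] {a b : G}
    (ha : a ∈ Cfsg.fittingSubgroup G) (hb : b ∈ Cfsg.fittingSubgroup G) :
    ⁅a, b⁆ ∈ frattini G := by
  have hFn : (Cfsg.fittingSubgroup G).Normal := Helper13.fittingSubgroup_normal
  have hFnil : Group.IsNilpotent (Cfsg.fittingSubgroup G) := Helper01.fitting_isNilpotent
  set F := Cfsg.fittingSubgroup G with hF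
  have h1 : commutator F ≤ frattini F := Helper14.commutator_le_frattini_of_nilpotent hFnil
  have hNn : ((frattini F).map F.subtype).Normal :=
    ConjAct.normal_of_characteristic_of_normal
  have h2 : (frattini F).map F.subtype ≤ frattini G :=
    Helper14.le_frattini_of_normal_of_le_map_frattini F _ le_rfl
  apply h2
  refine ⟨⁅(⟨a, ha⟩ : F), (⟨b, hb⟩ : F)⁆, h1 ?_, ?_⟩
  · rw [commutator_def]
    exact Subgroup.commutator_mem_commutator (Subgroup.mem_top _) (Subgroup.mem_top _)
  · simp [commutatorElement_def]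

/-- The subgroup of elements `c` with `[c, F] ⊆ Φ`, for normal `Φ`. -/
def commStabilizer (F Φ : Subgroup G) [hΦ : Φ.Normal] : Subgroup G where
  carrier := {c | ∀ x ∈ F, ⁅c, x⁆ ∈ Φ}
  one_mem' := by
    intro x _
    simp [commutatorElement_def, Φ.one_mem]
  mul_mem' := by
    intro a b ha hb x hx
    have e : ⁅a * b, x⁆ = a * ⁅b, x⁆ * a⁻¹ * ⁅a, x⁆ := by
      simp only [commutatorElement_def]; group
    rw [e]
    exact Φ.mul_mem (hΦ.conj_mem _ (hb x hx) a) (ha x hx)
  inv_mem' := by
    intro a ha x hx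
    have e : ⁅a⁻¹, x⁆ = a⁻¹ * (⁅a, x⁆)⁻¹ * a⁻¹⁻¹ := by
      simp only [commutatorElement_def]; group
    rw [e]
    exact hΦ.conj_mem _ (Φ.inv_mem (ha x hx)) a⁻¹

theorem mem_commStabilizer {F Φ : Subgroup G} [hΦ : Φ.Normal] {c : G} :
    c ∈ commStabilizer F Φ ↔ ∀ x ∈ F, ⁅c, x⁆ ∈ Φ := Iff.rfl

theorem commStabilizer_normal (F Φ : Subgroup G) [hF : F.Normal] [hΦ : Φ.Normal] :
    (commStabilizer F Φ).Normal := by
  constructor
  intro c hc y x hx
  have e : ⁅y * c * y⁻¹, x⁆ = y * ⁅c, y⁻¹ * x * y⁻¹⁻¹⁆ * y⁻¹ := by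
    simp only [commutatorElement_def]; group
  rw [e]
  exact hΦ.conj_mem _ (hc _ (hF.conj_mem x hx y⁻¹)) y

/-- In a finite solvable group, `C_G(F(G)/Φ(G)) ≤ F(G)`: an element whose commutators with
`F(G)` all lie in `Φ(G)` belongs to `F(G)`. -/
theorem mem_fitting_of_commutator_mem_frattini [Finite G] [Group.IsSolvable G] {g : G}
    (hg : ∀ x ∈ Cfsg.fittingSubgroup G, ⁅g, x⁆ ∈ frattini G) : g ∈ Cfsg.fittingSubgroup G := by
  have hFn : (Cfsg.fittingSubgroup G).Normal := Helper13.fittingSubgroup_normal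
  have hΦn : (frattini G).Normal := inferInstance
  set F := Cfsg.fittingSubgroup G with hF
  set C := commStabilizer F (frattini G) with hC
  have hCn : C.Normal := commStabilizer_normal F (frattini G)
  suffices hCF : C ≤ F from hCF hg
  by_contra hcon
  obtain ⟨A, hA, hAmin⟩ := exists_minimal_of_wellFoundedLT
    (fun A : Subgroup G => A.Normal ∧ A ≤ C ∧ ¬ A ≤ F) ⟨C, hCn, le_rfl, hcon⟩
  obtain ⟨hAn, hAC, hAF⟩ := hA
  have hAne : A ≠ ⊥ := by
    rintro rfl
    exact hAF bot_le
  have hlt : ⁅A, A⁆ < A := Group.IsSolvable.commutator_lt_of_ne_bot hAne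
  have hDn : (⁅A, A⁆).Normal := Subgroup.commutator_normal A A
  have hDF : ⁅A, A⁆ ≤ F := by
    by_contra hDF
    have := hAmin ⟨hDn, hlt.le.trans hAC, hDF⟩ hlt.le
    exact absurd (lt_of_lt_of_le hlt this) (lt_irrefl _)
  have hcc : ⁅⁅A, A⁆, A⁆ ≤ frattini G := by
    rw [Subgroup.commutator_le]
    intro x hx a ha
    have h1 : ⁅a, x⁆ ∈ frattini G := hAC ha x (hDF hx)
    have e : ⁅x, a⁆ = (⁅a, x⁆)⁻¹ := (commutatorElement_inv a x).symm
    rw [e]
    exact Subgroup.inv_mem _ h1
  have hnil : Group.IsNilpotent A := isNilpotent_of_class_two_mod_frattini A hcc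
  exact hAF (Helper13.le_fittingSubgroup A hAn hnil)

end

end Cfsg.Agent.Lib.Helper80
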