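import Mathlib
import Cfsg.Agent.Lib.Helper80.IndDegree
import Cfsg.Agent.Lib.Helper80.FrattiniNilp
import Cfsg.Agent.Lib.Helper03.PGroupFrattini
import Cfsg.Agent.Lib.Helper30.FStar
import Cfsg.Agent.Lib.Helper33.IrrComp
import Cfsg.Agent.Lib.Helper83.Quotient

/-!
# The Broline–Garrison theorem (Isaacs 12.19) (helper80)

`broline_garrison`: let `χ ∈ Irr(G)` with kernel `K`.  If `K` is not nilpotent, or `K = F(G)` with
`G/K` solvable and `K < G`, then some `ψ ∈ Irr(G)` has `ψ(1) > χ(1)` and `ker ψ < K`.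
-/

set_option autoImplicit false
set_option linter.style.haveILetI false

namespace Cfsg.Agent.Lib.Helper80

open Cfsg
open scoped ComplexConjugate commutatorElement Pointwise

universe u

section

variable {G : Type u} [Group G]

/-- If `N ≤ ker ψ` is normal and `N H = G` then `ψ` restricts irreducibly to `H`. -/
theorem restrict_irr_of_sup_eq_top [Finite G] (ψ : IrrCharacter G) (N : Subgroup G) [N.Normal]
    (hN : ∀ n ∈ N, (ψ : G → ℂ) n = (ψ : G → ℂ) 1) (H : Subgroup G) (hNH : N ⊔ H = ⊤) :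
    IsIrrCharacter H (fun h : H => (ψ : G → ℂ) h) := by
  obtain ⟨ψb, hψb, hval⟩ := Helper83.exists_isIrrCharacter_quotient N ψ.2 hN
  let f : H →* G ⧸ N := (QuotientGroup.mk' N).comp H.subtype
  have hf : Function.Surjective f := by
    intro q
    obtain ⟨g, rfl⟩ := QuotientGroup.mk_surjective q
    have hg : g ∈ N ⊔ H := by rw [hNH]; trivial
    rw [← SetLike.mem_coe, Subgroup.normal_mul] at hg
    obtain ⟨n, hn, h, hh, rfl⟩ := hg
    refine ⟨⟨h, hh⟩, ?_⟩
    show (QuotientGroup.mk h : G ⧸ N) = QuotientGroup.mk (n * h)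
    rw [QuotientGroup.eq]
    have e : h⁻¹ * (n * h) = h⁻¹ * n * h⁻¹⁻¹ := by group
    rw [e]
    exact ‹N.Normal›.conj_mem n hn h⁻¹
  have h1 := Helper33.isIrrCharacter_comp_of_surjective f hf hψb
  have e : (fun h : H => (ψ : G → ℂ) h) = fun h : H => ψb (f h) := by
    funext h
    exact (hval h).symm
  rw [e]
  exact h1

/-- Core of Isaacs 12.19: a maximal subgroup `H` not containing `K = ker χ`, and an element of
`H` outside the core of `H` at which `χ` does not vanish, produce `ψ` of larger degree and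
smaller kernel. -/
theorem exists_larger_degree_smaller_kernel [Finite G] (χ : IrrCharacter G) (K : Subgroup G)
    [hKn : K.Normal] (hK : ∀ g : G, g ∈ K ↔ (χ : G → ℂ) g = (χ : G → ℂ) 1)
    (H : Subgroup G) (hH : IsCoatom H) (hKH : ¬ K ≤ H) {h₀ : G} (h₀H : h₀ ∈ H)
    (hcore : h₀ ∉ H.normalCore) (hne : (χ : G → ℂ) h₀ ≠ 0) :
    ∃ ψ : IrrCharacter G, charDegree (χ : G → ℂ) < charDegree (ψ : G → ℂ) ∧
      ∃ L : Subgroup G, (∀ g : G, g ∈ L ↔ (ψ : G → ℂ) g = (ψ : G → ℂ) 1) ∧ L < K := by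
  classical
  have : Fintype G := Fintype.ofFinite G
  have : Fintype H := Fintype.ofFinite H
  have hsup : ∀ N : Subgroup G, ¬ N ≤ H → N ⊔ H = ⊤ := by
    intro N hN
    apply hH.2
    apply lt_of_le_of_ne le_sup_right
    intro h
    apply hN
    rw [h]
    exact le_sup_left
  have hχH : IsIrrCharacter H (fun h : H => (χ : G → ℂ) h) :=
    restrict_irr_of_sup_eq_top χ K (fun n hn => (hK n).mp hn) H (hsup K hKH)
  obtain ⟨ψ, hψin, hψdeg⟩ := exists_larger_constituent H χ hχH h₀H hcore hne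
  refine ⟨ψ, hψdeg, ?_⟩
  have hψc := Helper83.IrrCharacter_isCharacter ψ
  set L := Helper83.charKer hψc with hL
  have hLmem : ∀ g : G, g ∈ L ↔ (ψ : G → ℂ) g = (ψ : G → ℂ) 1 := fun g =>
    Helper83.mem_charKer hψc g
  have hLH : L ≤ H := by
    by_contra hLH
    have hψH : IsIrrCharacter H (fun h : H => (ψ : G → ℂ) h) :=
      restrict_irr_of_sup_eq_top ψ L (fun n hn => (hLmem n).mp hn) H (hsup L hLH)
    have heq : (fun h : H => (ψ : G → ℂ) h) = fun h : H => (χ : G → ℂ) h := by
      by_contra hne'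
      exact hψin (Helper05.classInner_irr_ne hψH hχH hne')
    have h1 := congrFun heq 1
    simp only [Subgroup.coe_one] at h1
    have d1 := Helper83.charDegree_cast hψc
    have d2 := Helper83.charDegree_cast (Helper83.IrrCharacter_isCharacter χ)
    have : (charDegree (ψ : G → ℂ) : ℂ) = (charDegree (χ : G → ℂ) : ℂ) := by
      rw [d1, d2, h1]
    have : charDegree (ψ : G → ℂ) = charDegree (χ : G → ℂ) := by exact_mod_cast this
    omega
  have hLK : L ≤ K := by
    intro l hl
    rw [hK]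
    have hlH : l ∈ H := hLH hl
    have h2 := constituent_ker (G := H) (φ := fun h : H => (ψ : G → ℂ) h)
      (θ := fun h : H => (χ : G → ℂ) h) (Helper83.isCharacter_restrict H hψc) hχH hψin
      (l := ⟨l, hlH⟩) (by
        show (ψ : G → ℂ) l = (ψ : G → ℂ) ((1 : H) : G)
        rw [Subgroup.coe_one]
        exact (hLmem l).mp hl)
    simpa using h2
  refine ⟨L, hLmem, lt_of_le_of_ne hLK ?_⟩
  intro hLKeq
  apply hKH
  rw [← hLKeq]
  exact hLH


/-- Case (a) of Isaacs 12.19: if `K = ker χ` is not nilpotent there is a maximal subgroup `H`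
not containing `K` and an element of `K ∩ H` outside the core of `H`. -/
theorem exists_coatom_of_not_nilpotent [Finite G] (χ : IrrCharacter G) (K : Subgroup G)
    [hKn : K.Normal] (hK : ∀ g : G, g ∈ K ↔ (χ : G → ℂ) g = (χ : G → ℂ) 1)
    (hnil : ¬ Group.IsNilpotent K) :
    ∃ H : Subgroup G, IsCoatom H ∧ ¬ K ≤ H ∧
      ∃ h₀ ∈ H, h₀ ∉ H.normalCore ∧ (χ : G → ℂ) h₀ ≠ 0 := by
  classical
  have q := (Group.isNilpotent_of_finite_tfae (G := K)).out 0 3
  rw [q] at hnil; clear q
  push Not at hnil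
  obtain ⟨p, hp, P, hPn⟩ := hnil
  set P' : Subgroup G := (P : Subgroup K).map K.subtype with hP'
  have hP'n : ¬ P'.Normal := fun h => hPn h.of_map_subtype
  have hNne : Subgroup.normalizer (P' : Set G) ≠ ⊤ := fun h =>
    hP'n (Subgroup.normalizer_eq_top_iff.mp h)
  have hfr : Subgroup.normalizer (P' : Set G) ⊔ K = ⊤ := Sylow.normalizer_sup_eq_top P
  obtain ⟨H, hH, hNH⟩ := (eq_top_or_exists_le_coatom _).resolve_left hNne
  have hKH : ¬ K ≤ H := fun h => hH.1 (by rw [eq_top_iff, ← hfr]; exact sup_le hNH h)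
  have hP'K : P' ≤ K := Subgroup.map_subtype_le _
  have hP'H : P' ≤ H := Subgroup.le_normalizer.trans hNH
  have hnot : ¬ K ⊓ H ≤ H.normalCore := by
    intro hle
    set T : Subgroup G := H.normalCore ⊓ K with hT
    have hTn : T.Normal := inferInstance
    have hP'T : P' ≤ T := le_inf (le_trans (le_inf hP'K hP'H) hle) hP'K
    have hP'p : IsPGroup p P' := P.2.map _
    have hidx : ¬ p ∣ P'.relIndex T := by
      intro hdvd
      have h1 : P'.relIndex T * T.relIndex K = P'.relIndex K :=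
        Subgroup.relIndex_mul_relIndex _ _ _ hP'T inf_le_right
      have h2 : P'.relIndex K = (P : Subgroup K).index := by
        unfold Subgroup.relIndex Subgroup.subgroupOf
        rw [hP', Subgroup.comap_map_eq_self_of_injective K.subtype_injective]
      have h3 : p ∣ (P : Subgroup K).index := by
        rw [← h2, ← h1]
        exact Dvd.dvd.mul_right hdvd _
      exact P.not_dvd_index h3
    apply hH.1
    rw [eq_top_iff]
    intro g _
    obtain ⟨l, hl, hlg⟩ := Helper57.exists_mul_mem_normalizer T P' hP'T hP'p hidx g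
      (by rw [Subgroup.normalizer_eq_top_iff.mpr hTn]; trivial)
    have e : g = l⁻¹ * (l * g) := by group
    rw [e]
    exact H.mul_mem (H.inv_mem (H.normalCore_le hl.1)) (hNH hlg)
  obtain ⟨k, hk, hkM⟩ := SetLike.not_le_iff_exists.mp hnot
  refine ⟨H, hH, hKH, k, hk.2, hkM, ?_⟩
  rw [(hK k).mp hk.1]
  exact Helper83.irr_degree_ne_zero χ

/-- An irreducible character with proper kernel `K` does not vanish identically off `K`. -/
theorem exists_ne_zero_off_kernel [Finite G] (χ : IrrCharacter G) (K : Subgroup G)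
    (hK : ∀ g : G, g ∈ K ↔ (χ : G → ℂ) g = (χ : G → ℂ) 1) (hKtop : K ≠ ⊤) :
    ∃ g : G, g ∉ K ∧ (χ : G → ℂ) g ≠ 0 := by
  classical
  have : Fintype G := Fintype.ofFinite G
  by_contra hcon
  push Not at hcon
  obtain ⟨g₁, hg₁⟩ : ∃ g : G, g ∉ K := by
    by_contra h
    push Not at h
    exact hKtop (eq_top_iff.mpr fun g _ => h g)
  have hne : χ ≠ Helper83.trivChar G := by
    intro h
    apply hg₁
    rw [hK, h]
    simp [Helper83.trivChar_apply]
  have h0 := Helper83.irr_inner_ne hne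
  rw [Helper83.classInner_def] at h0
  have hcard : (Nat.card G : ℂ) ≠ 0 := Helper83.card_ne_zero_complex
  have hsum : ∑ g : G, (χ : G → ℂ) g = 0 := by
    have := (mul_eq_zero.mp h0).resolve_left (inv_ne_zero hcard)
    simpa [Helper83.trivChar_apply] using this
  have hsum2 : ∑ g : G, (χ : G → ℂ) g =
      ((Finset.univ.filter (fun g : G => g ∈ K)).card : ℂ) * (χ : G → ℂ) 1 := by
    rw [Finset.card_filter, Nat.cast_sum, Finset.sum_mul]
    apply Finset.sum_congr rfl
    intro g _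
    by_cases hg : g ∈ K
    · rw [if_pos hg, (hK g).mp hg]; simp
    · rw [if_neg hg, hcon g hg]; simp
  rw [hsum] at hsum2
  have hχ1 := Helper83.irr_degree_ne_zero χ
  have hc : ((Finset.univ.filter (fun g : G => g ∈ K)).card : ℂ) ≠ 0 := by
    have : 0 < (Finset.univ.filter (fun g : G => g ∈ K)).card :=
      Finset.card_pos.mpr ⟨1, by simp [K.one_mem]⟩
    exact_mod_cast this.ne'
  exact (mul_ne_zero hc hχ1) hsum2.symm

/-- Case (b) of Isaacs 12.19: if `K = ker χ = F(G) < G` with `G/K` solvable there is a maximal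
subgroup `H` not containing `K` and an element of `H` outside the core of `H` at which `χ`
does not vanish. -/
theorem exists_coatom_of_eq_fitting [Finite G] (χ : IrrCharacter G) (K : Subgroup G)
    [hKn : K.Normal] (hK : ∀ g : G, g ∈ K ↔ (χ : G → ℂ) g = (χ : G → ℂ) 1)
    (hKF : K = Cfsg.fittingSubgroup G) (hsolv : Group.IsSolvable (G ⧸ K)) (hKtop : K ≠ ⊤) :
    ∃ H : Subgroup G, IsCoatom H ∧ ¬ K ≤ H ∧
      ∃ h₀ ∈ H, h₀ ∉ H.normalCore ∧ (χ : G → ℂ) h₀ ≠ 0 := by
  classical
  have hKsolv : Group.IsSolvable K := by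
    rw [hKF]; exact Helper30.fitting_isSolvable
  have hGsolv : Group.IsSolvable G :=
    solvable_of_ker_le_range K.subtype (QuotientGroup.mk' K) (by simp)
  obtain ⟨g₀, hg₀K, hg₀⟩ := exists_ne_zero_off_kernel χ K hK hKtop
  have hχc := Helper83.IrrCharacter_isCharacter χ
  by_contra hno
  push Not at hno
  apply hg₀K
  rw [hKF]
  apply mem_fitting_of_commutator_mem_frattini
  intro x hx
  have hxK : x ∈ K := by rw [hKF]; exact hx
  rw [Helper03.mem_frattini_iff]
  intro M hM
  by_cases hKM : K ≤ M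
  · apply hKM
    have e : ⁅g₀, x⁆ = g₀ * x * g₀⁻¹ * x⁻¹ := commutatorElement_def g₀ x
    rw [e]
    exact K.mul_mem (hKn.conj_mem x hxK g₀) (K.inv_mem hxK)
  · have hsup : K ⊔ M = ⊤ := by
      apply hM.2
      apply lt_of_le_of_ne le_sup_right
      intro h
      apply hKM
      rw [h]
      exact le_sup_left
    have hg : g₀ ∈ K ⊔ M := by rw [hsup]; trivial
    rw [← SetLike.mem_coe, Subgroup.normal_mul] at hg
    obtain ⟨f, hf, h, hh, hfh⟩ := hg
    have hχh : (χ : G → ℂ) h ≠ 0 := by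
      have e : h = f⁻¹ * g₀ := by rw [← hfh]; group
      rw [e, Helper83.char_mul_of_mem_ker hχc ((hK _).mp (K.inv_mem hf))]
      exact hg₀
    have hhcore : h ∈ M.normalCore := by
      by_contra hh'
      exact hχh (hno M hM hKM h hh hh')
    have hcn : M.normalCore.Normal := inferInstance
    have e : ⁅g₀, x⁆ = f * ⁅h, x⁆ * f⁻¹ * ⁅f, x⁆ := by
      rw [← hfh]
      simp only [commutatorElement_def]; group
    rw [e]
    apply M.mul_mem
    · apply M.normalCore_le
      apply hcn.conj_mem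
      have e2 : ⁅h, x⁆ = h * (x * h⁻¹ * x⁻¹) := by
        simp only [commutatorElement_def]; group
      rw [e2]
      exact Subgroup.mul_mem _ hhcore (hcn.conj_mem _ (Subgroup.inv_mem _ hhcore) x)
    · apply frattini_le_coatom hM
      apply commutatorElement_fitting_mem_frattini
      · rw [← hKF]; exact hf
      · exact hx

/-- **Broline–Garrison** (Isaacs 12.19). -/
theorem broline_garrison [Finite G] (χ : IrrCharacter G) (K : Subgroup G) [hKn : K.Normal]
    (hK : ∀ g : G, g ∈ K ↔ (χ : G → ℂ) g = (χ : G → ℂ) 1)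
    (h : ¬ K ≤ Cfsg.fittingSubgroup G ∨
      (K = Cfsg.fittingSubgroup G ∧ Group.IsSolvable (G ⧸ K) ∧ K ≠ ⊤)) :
    ∃ ψ : IrrCharacter G, charDegree (χ : G → ℂ) < charDegree (ψ : G → ℂ) ∧
      ∃ L : Subgroup G, (∀ g : G, g ∈ L ↔ (ψ : G → ℂ) g = (ψ : G → ℂ) 1) ∧ L < K := by
  have key : ∃ H : Subgroup G, IsCoatom H ∧ ¬ K ≤ H ∧
      ∃ h₀ ∈ H, h₀ ∉ H.normalCore ∧ (χ : G → ℂ) h₀ ≠ 0 := by
    rcases h with h | ⟨h1, h2, h3⟩
    · apply exists_coatom_of_not_nilpotent χ K hK
      intro hnil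
      exact h (Helper13.le_fittingSubgroup K hKn hnil)
    · exact exists_coatom_of_eq_fitting χ K hK h1 h2 h3
  obtain ⟨H, hH, hKH, h₀, h₀H, hcore, hne⟩ := key
  exact exists_larger_degree_smaller_kernel χ K hK H hH hKH h₀H hcore hne

end

end Cfsg.Agent.Lib.Helper80
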