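import Mathlib
import Cfsg.Agent.Lib.Helper83.Decompose
import Cfsg.Agent.Lib.Helper83.CharMisc
import Cfsg.Agent.Lib.Helper05.CharDecomp

/-!
# S4460 (three character degrees), KEY LEMMA (helper22's Burnside-Brauer argument)

`cd(G) ⊆ {1, m, n}`, `gcd(m, n) = 1`.  For `χ` of degree `m` and `ψ` of degree `n` the product `χ ψ` is PURE
(`cd3_pure`: all constituents have degree `m`, or all have degree `n`).  If `χ₀ ψ₀` is of type `m`, then the span `V` of
`B = {χ of degree m : χ ψ₀ of type m}` is stable under multiplication by the function `|ψ₀|²`, hence (Lagrange) by the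
indicator function of `Z(ψ₀)`; if `Z(ψ₀) = 1` this puts a nonzero multiple of the regular character into
`V ⊆ span(X_m)`, which is orthogonal to the trivial character: contradiction (`cd3_core`).
`key_lemma`: no pair `χ₀, ψ₀` of degrees `m, n` with `Z(χ₀) = Z(ψ₀) = 1` exists.
-/

set_option autoImplicit false
set_option linter.unusedVariables false
set_option linter.unusedSectionVars false

namespace Cfsg.Agent.Lib.Helper80.CD3

open scoped ComplexConjugate
open Cfsg Cfsg.Agent.Lib.Helper83

universe u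

section fin

variable {G : Type u} [Group G] [Fintype G]

/-- adjunction: `[χ ψ, φ] = [χ, φ conj ψ]` -/
theorem cd3_inner_mul_left (χ ψ φ : G → ℂ) :
    classInner (χ * ψ) φ = classInner χ (φ * fun g => conj (ψ g)) := by
  simp only [classInner_def, Pi.mul_apply, map_mul, Complex.conj_conj]
  congr 1
  apply Finset.sum_congr rfl
  intro g _
  ring

/-- `[a conj b, c] = conj [c b, a]` -/
theorem cd3_inner_swap (a b c : G → ℂ) :
    classInner (a * fun g => conj (b g)) c = conj (classInner (c * b) a) := by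
  rw [classInner_conj_symm]
  simp only [classInner_def, Pi.mul_apply, map_mul, Complex.conj_conj]
  congr 1
  apply Finset.sum_congr rfl
  intro g _
  ring

/-- all irreducible constituents of `χ ψ` have degree `d` -/
def TypeD (d : ℕ) (χ ψ : G → ℂ) : Prop :=
  ∀ φ : IrrCharacter G, classInner (χ * ψ) (φ : G → ℂ) ≠ 0 → charDegree (φ : G → ℂ) = d

theorem cd3_char_one {χ : G → ℂ} (hχ : IsCharacter G χ) {d : ℕ} (hd : charDegree χ = d) : χ 1 = (d : ℂ) := by
  rw [← hd]
  exact (charDegree_cast hχ).symm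

/-- `χ ψ` has no linear constituent when the degrees differ -/
theorem cd3_no_linear {m n : ℕ} (hmn : m ≠ n) {χ ψ : G → ℂ} (hχ : IsIrrCharacter G χ)
    (hψ : IsIrrCharacter G ψ) (hχm : charDegree χ = m) (hψn : charDegree ψ = n) (φ : IrrCharacter G)
    (hφ : charDegree (φ : G → ℂ) = 1) : classInner (χ * ψ) (φ : G → ℂ) = 0 := by
  rw [cd3_inner_mul_left]
  have hφ1 : (φ : G → ℂ) 1 = 1 := by
    have := cd3_char_one (IrrCharacter_isCharacter φ) hφ
    simpa using this
  have hψc : IsIrrCharacter G (fun g => conj (ψ g)) := Cfsg.Agent.Lib.Helper05.isIrrCharacter_conj hψ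
  have hirr : IsIrrCharacter G ((φ : G → ℂ) * fun g => conj (ψ g)) :=
    isIrrCharacter_mul_linear (IrrCharacter_isCharacter φ) hφ1 hψc
  have hne : (⟨χ, hχ⟩ : IrrCharacter G) ≠ ⟨_, hirr⟩ := by
    intro h
    have h1 : χ 1 = ((φ : G → ℂ) * fun g => conj (ψ g)) 1 := by
      have := congrArg (fun x : IrrCharacter G => (x : G → ℂ) 1) h
      simpa using this
    rw [Pi.mul_apply, hφ1, one_mul, cd3_char_one (isCharacter_of_irr hχ) hχm,
      cd3_char_one (isCharacter_of_irr hψ) hψn, Complex.conj_natCast] at h1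
    exact hmn (Nat.cast_injective h1)
  exact irr_inner_ne hne

variable [Fintype (IrrCharacter G)]

/-- PURITY: for coprime degrees `m, n` and `cd(G) ⊆ {1, m, n}` the product of a degree-`m` and a degree-`n`
irreducible character has all constituents of degree `m`, or all of degree `n`. -/
theorem cd3_pure {m n : ℕ} (hm : 1 < m) (hn : 1 < n) (hmn : Nat.Coprime m n)
    (hcd : ∀ φ : IrrCharacter G, charDegree (φ : G → ℂ) = 1 ∨ charDegree (φ : G → ℂ) = m ∨
      charDegree (φ : G → ℂ) = n)
    {χ ψ : G → ℂ} (hχ : IsIrrCharacter G χ) (hψ : IsIrrCharacter G ψ)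
    (hχm : charDegree χ = m) (hψn : charDegree ψ = n) : TypeD m χ ψ ∨ TypeD n χ ψ := by
  classical
  have hne : m ≠ n := by
    intro h
    subst h
    rw [Nat.coprime_self] at hmn
    omega
  have hchar : IsCharacter G (χ * ψ) := isCharacter_mul (isCharacter_of_irr hχ) (isCharacter_of_irr hψ)
  have hμ : ∀ φ : IrrCharacter G, (irrMult (χ * ψ) φ : ℂ) = classInner (χ * ψ) (φ : G → ℂ) :=
    fun φ => irrMult_cast hchar φ
  have hlin : ∀ φ : IrrCharacter G, charDegree (φ : G → ℂ) = 1 → irrMult (χ * ψ) φ = 0 := by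
    intro φ hφ
    have := hμ φ
    rw [cd3_no_linear hne hχ hψ hχm hψn φ hφ] at this
    exact_mod_cast this
  have hsum : m * n = ∑ φ : IrrCharacter G, irrMult (χ * ψ) φ * charDegree (φ : G → ℂ) := by
    have h1 := congrFun (char_eq_sum_irrMult hchar) 1
    rw [Pi.mul_apply, cd3_char_one (isCharacter_of_irr hχ) hχm, cd3_char_one (isCharacter_of_irr hψ) hψn,
      Finset.sum_apply] at h1
    have h2 : ∀ φ : IrrCharacter G, ((irrMult (χ * ψ) φ : ℂ) • (φ : G → ℂ)) 1 =
        ((irrMult (χ * ψ) φ * charDegree (φ : G → ℂ) : ℕ) : ℂ) := by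
      intro φ
      rw [Pi.smul_apply, smul_eq_mul, cd3_char_one (IrrCharacter_isCharacter φ) rfl, Nat.cast_mul]
    rw [Finset.sum_congr rfl (fun φ _ => h2 φ), ← Nat.cast_sum, ← Nat.cast_mul] at h1
    exact Nat.cast_injective h1
  set u := ∑ φ : IrrCharacter G, if charDegree (φ : G → ℂ) = m then irrMult (χ * ψ) φ else 0 with hu
  set v := ∑ φ : IrrCharacter G, if charDegree (φ : G → ℂ) = n then irrMult (χ * ψ) φ else 0 with hv
  have hsplit : ∑ φ : IrrCharacter G, irrMult (χ * ψ) φ * charDegree (φ : G → ℂ) = u * m + v * n := by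
    rw [hu, hv, Finset.sum_mul, Finset.sum_mul, ← Finset.sum_add_distrib]
    apply Finset.sum_congr rfl
    intro φ _
    rcases hcd φ with h | h | h
    · have h1m : (1 : ℕ) ≠ m := by omega
      have h1n : (1 : ℕ) ≠ n := by omega
      rw [hlin φ h, h]
      simp [h1m, h1n]
    · rw [h]
      simp [hne]
    · rw [h]
      simp [hne.symm]
  rw [hsplit] at hsum
  have hndvd : n ∣ u := by
    have : n ∣ u * m := by
      have h1 : n ∣ m * n := dvd_mul_left n m
      rw [hsum] at h1
      exact (Nat.dvd_add_left (dvd_mul_left n v)).mp h1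
    exact (Nat.Coprime.dvd_mul_right hmn.symm).mp this
  have hall : ∀ d : ℕ, (∑ φ : IrrCharacter G, if charDegree (φ : G → ℂ) = d then irrMult (χ * ψ) φ else 0) = 0 →
      ∀ φ : IrrCharacter G, charDegree (φ : G → ℂ) = d → irrMult (χ * ψ) φ = 0 := by
    intro d hd φ hφ
    have := (Finset.sum_eq_zero_iff.mp hd) φ (Finset.mem_univ φ)
    simpa [hφ] using this
  by_cases hu0 : u = 0
  · right
    intro φ hφ
    have hφ' : irrMult (χ * ψ) φ ≠ 0 := by
      intro h0
      apply hφ
      rw [← hμ φ, h0]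
      simp
    rcases hcd φ with h | h | h
    · exact absurd (hlin φ h) hφ'
    · exact absurd (hall m hu0 φ h) hφ'
    · exact h
  · left
    have hun : n ≤ u := Nat.le_of_dvd (Nat.pos_of_ne_zero hu0) hndvd
    have hv0 : v = 0 := by
      have h1 : n * m ≤ u * m := Nat.mul_le_mul_right m hun
      have h2 : v * n = 0 := by
        have : m * n = n * m := mul_comm m n
        omega
      rcases Nat.mul_eq_zero.mp h2 with h | h
      · exact h
      · omega
    intro φ hφ
    have hφ' : irrMult (χ * ψ) φ ≠ 0 := by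
      intro h0
      apply hφ
      rw [← hμ φ, h0]
      simp
    rcases hcd φ with h | h | h
    · exact absurd (hlin φ h) hφ'
    · exact h
    · exact absurd (hall n hv0 φ h) hφ'

/-- the set `B ψ` of the degree-`m` irreducibles `χ` with `χ ψ` of type `m` -/
def Bset (m : ℕ) (ψ : G → ℂ) : Set (IrrCharacter G) :=
  {χ | charDegree (χ : G → ℂ) = m ∧ TypeD m (χ : G → ℂ) ψ}

/-- the span of `B ψ` -/
def Vspan (m : ℕ) (ψ : G → ℂ) : Submodule ℂ (G → ℂ) :=
  Submodule.span ℂ ((fun χ : IrrCharacter G => (χ : G → ℂ)) '' Bset m ψ)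

/-- `ψ · span(B ψ) ⊆ span(B (conj ψ))` -/
theorem cd3_step {m n : ℕ} (hm : 1 < m) (hn : 1 < n) (hmn : Nat.Coprime m n)
    (hcd : ∀ φ : IrrCharacter G, charDegree (φ : G → ℂ) = 1 ∨ charDegree (φ : G → ℂ) = m ∨
      charDegree (φ : G → ℂ) = n)
    {ψ : G → ℂ} (hψ : IsIrrCharacter G ψ) (hψn : charDegree ψ = n) (v : G → ℂ) (hv : v ∈ Vspan m ψ) :
    ψ * v ∈ Vspan m (fun g => conj (ψ g)) := by
  have hne : m ≠ n := by
    intro h
    subst h
    rw [Nat.coprime_self] at hmn
    omega
  have hψc : IsIrrCharacter G (fun g => conj (ψ g)) := Cfsg.Agent.Lib.Helper05.isIrrCharacter_conj hψ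
  have hψcn : charDegree (fun g => conj (ψ g)) = n := by
    have h1 := cd3_char_one (isCharacter_of_irr hψ) hψn
    unfold charDegree
    show ⌊(conj (ψ 1)).re⌋₊ = n
    rw [h1, Complex.conj_natCast]
    simp
  unfold Vspan at hv
  induction hv using Submodule.span_induction with
  | mem x hx =>
    obtain ⟨χ', hχ', rfl⟩ := hx
    obtain ⟨hχ'm, hχ'T⟩ := hχ'
    have hchar : IsCharacter G ((χ' : G → ℂ) * ψ) :=
      isCharacter_mul (IrrCharacter_isCharacter χ') (isCharacter_of_irr hψ)
    show ψ * (χ' : G → ℂ) ∈ _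
    rw [mul_comm, char_eq_sum_irrMult hchar]
    apply Submodule.sum_mem
    intro φ _
    by_cases h0 : irrMult ((χ' : G → ℂ) * ψ) φ = 0
    · rw [h0]
      simp
    · apply Submodule.smul_mem
      apply Submodule.subset_span
      refine ⟨φ, ⟨?_, ?_⟩, rfl⟩
      · apply hχ'T φ
        rw [← irrMult_cast hchar φ]
        exact_mod_cast h0
      · have hφm : charDegree (φ : G → ℂ) = m := by
          apply hχ'T φ
          rw [← irrMult_cast hchar φ]
          exact_mod_cast h0
        rcases cd3_pure hm hn hmn hcd φ.2 hψc hφm hψcn with h | h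
        · exact h
        · exfalso
          have h1 : classInner ((φ : G → ℂ) * fun g => conj (ψ g)) (χ' : G → ℂ) ≠ 0 := by
            rw [cd3_inner_swap]
            intro h2
            have h3 : classInner ((χ' : G → ℂ) * ψ) (φ : G → ℂ) = 0 := by
              have := congrArg conj h2
              simpa using this
            rw [← irrMult_cast hchar φ] at h3
            exact h0 (by exact_mod_cast h3)
          have := h χ' h1
          omega
  | zero =>
    rw [mul_zero]
    exact Submodule.zero_mem _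
  | add x y hx hy ihx ihy =>
    rw [mul_add]
    exact Submodule.add_mem _ ihx ihy
  | smul a x hx ih =>
    rw [mul_smul_comm]
    exact Submodule.smul_mem _ a ih

/-- CORE: a pair of type `m` with `Z(ψ₀) = 1` does not exist -/
theorem cd3_core {m n : ℕ} (hm : 1 < m) (hn : 1 < n) (hmn : Nat.Coprime m n)
    (hcd : ∀ φ : IrrCharacter G, charDegree (φ : G → ℂ) = 1 ∨ charDegree (φ : G → ℂ) = m ∨
      charDegree (φ : G → ℂ) = n)
    {χ₀ ψ₀ : G → ℂ} (hχ₀ : IsIrrCharacter G χ₀) (hψ₀ : IsIrrCharacter G ψ₀)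
    (hχm : charDegree χ₀ = m) (hψn : charDegree ψ₀ = n) (htype : TypeD m χ₀ ψ₀)
    (hZψ : ∀ g : G, ψ₀ g * conj (ψ₀ g) = ψ₀ 1 * conj (ψ₀ 1) → g = 1) : False := by
  classical
  have hψc : IsIrrCharacter G (fun g => conj (ψ₀ g)) := Cfsg.Agent.Lib.Helper05.isIrrCharacter_conj hψ₀
  have hψcn : charDegree (fun g => conj (ψ₀ g)) = n := by
    have h1 := cd3_char_one (isCharacter_of_irr hψ₀) hψn
    unfold charDegree
    show ⌊(conj (ψ₀ 1)).re⌋₊ = n
    rw [h1, Complex.conj_natCast]
    simp
  have hcc : (fun g => conj ((fun g => conj (ψ₀ g)) g)) = ψ₀ := by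
    funext g
    simp
  set w : G → ℂ := fun g => ψ₀ g * conj (ψ₀ g) with hw
  -- `V` is stable under `w`
  have hwV : ∀ v ∈ Vspan m ψ₀, w * v ∈ Vspan m ψ₀ := by
    intro v hv
    have h1 := cd3_step hm hn hmn hcd hψ₀ hψn v hv
    have h2 := cd3_step hm hn hmn hcd hψc hψcn _ h1
    rw [hcc] at h2
    have : w * v = (fun g => conj (ψ₀ g)) * (ψ₀ * v) := by
      funext g
      simp only [hw, Pi.mul_apply]
      ring
    rw [this]
    exact h2
  -- hence under polynomials in `w`
  have hpoly : ∀ (S : Finset ℂ) (v : G → ℂ), v ∈ Vspan m ψ₀ →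
      (fun g => ∏ c ∈ S, (w g - c)) * v ∈ Vspan m ψ₀ := by
    intro S
    induction S using Finset.induction_on with
    | empty =>
      intro v hv
      have : (fun g : G => ∏ c ∈ (∅ : Finset ℂ), (w g - c)) * v = v := by
        funext g
        simp
      rw [this]
      exact hv
    | insert a S ha ih =>
      intro v hv
      have h1 := ih v hv
      have h2 : (fun g => ∏ c ∈ insert a S, (w g - c)) * v =
          w * ((fun g => ∏ c ∈ S, (w g - c)) * v) - a • ((fun g => ∏ c ∈ S, (w g - c)) * v) := by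
        funext g
        simp only [Pi.mul_apply, Pi.sub_apply, Pi.smul_apply, smul_eq_mul, Finset.prod_insert ha]
        ring
      rw [h2]
      exact Submodule.sub_mem _ (hwV _ h1) (Submodule.smul_mem _ a h1)
  set T : Finset ℂ := (Finset.univ.image w).erase (w 1) with hT
  set P : G → ℂ := fun g => ∏ c ∈ T, (w g - c) with hP
  have hP1 : P 1 ≠ 0 := by
    rw [hP]
    apply Finset.prod_ne_zero_iff.mpr
    intro c hc
    have : c ≠ w 1 := (Finset.mem_erase.mp hc).1
    exact sub_ne_zero.mpr (Ne.symm this)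
  have hPg : ∀ g : G, g ≠ 1 → P g = 0 := by
    intro g hg
    have hwg : w g ≠ w 1 := fun h => hg (hZψ g h)
    have hmem : w g ∈ T := Finset.mem_erase.mpr ⟨hwg, Finset.mem_image.mpr ⟨g, Finset.mem_univ g, rfl⟩⟩
    exact Finset.prod_eq_zero hmem (sub_self _)
  have hχV : χ₀ ∈ Vspan m ψ₀ := by
    apply Submodule.subset_span
    exact ⟨⟨χ₀, hχ₀⟩, ⟨hχm, htype⟩, rfl⟩
  have hfV : P * χ₀ ∈ Vspan m ψ₀ := hpoly T χ₀ hχV
  -- everything in `V` is orthogonal to the trivial character
  have horth : ∀ v ∈ Vspan m ψ₀, classInner v (fun _ : G => (1 : ℂ)) = 0 := by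
    intro v hv
    unfold Vspan at hv
    induction hv using Submodule.span_induction with
    | mem x hx =>
      obtain ⟨χ', hχ', rfl⟩ := hx
      have hne : χ' ≠ (⟨fun _ => (1 : ℂ), isIrrCharacter_one⟩ : IrrCharacter G) := by
        intro h
        have h1 : charDegree (χ' : G → ℂ) = 1 := by
          rw [h]
          simp [charDegree]
        rw [hχ'.1] at h1
        omega
      exact irr_inner_ne hne
    | zero => exact classInner_zero_left _
    | add x y hx hy ihx ihy => rw [classInner_add_left, ihx, ihy, add_zero]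
    | smul a x hx ih => rw [classInner_smul_left, ih, mul_zero]
  have h0 := horth _ hfV
  rw [classInner_def, Finset.sum_eq_single (1 : G)] at h0
  · have hχ1 : χ₀ 1 = (m : ℂ) := cd3_char_one (isCharacter_of_irr hχ₀) hχm
    have hm0 : (m : ℂ) ≠ 0 := by
      have : m ≠ 0 := by omega
      exact_mod_cast this
    have hcard : (Nat.card G : ℂ)⁻¹ ≠ 0 := inv_ne_zero card_ne_zero_complex
    simp only [Pi.mul_apply, map_one, mul_one, hχ1] at h0
    rcases mul_eq_zero.mp h0 with h | h
    · exact hcard h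
    · rcases mul_eq_zero.mp h with h | h
      · exact hP1 h
      · exact hm0 h
  · intro g _ hg
    simp only [Pi.mul_apply, hPg g hg, zero_mul]
  · intro h
    exact absurd (Finset.mem_univ (1 : G)) h

end fin

/-- KEY LEMMA: `cd(G) ⊆ {1, m, n}` with `gcd(m, n) = 1`: there are no irreducible characters `χ₀` of degree `m`
and `ψ₀` of degree `n` both with trivial centre (`|χ(g)| = χ(1) → g = 1`). -/
theorem key_lemma {G : Type u} [Group G] [Finite G] {m n : ℕ} (hm : 1 < m) (hn : 1 < n)
    (hmn : Nat.Coprime m n)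
    (hcd : ∀ φ : IrrCharacter G, charDegree (φ : G → ℂ) = 1 ∨ charDegree (φ : G → ℂ) = m ∨
      charDegree (φ : G → ℂ) = n)
    {χ₀ ψ₀ : G → ℂ} (hχ₀ : IsIrrCharacter G χ₀) (hψ₀ : IsIrrCharacter G ψ₀)
    (hχm : charDegree χ₀ = m) (hψn : charDegree ψ₀ = n)
    (hZχ : ∀ g : G, χ₀ g * conj (χ₀ g) = χ₀ 1 * conj (χ₀ 1) → g = 1)
    (hZψ : ∀ g : G, ψ₀ g * conj (ψ₀ g) = ψ₀ 1 * conj (ψ₀ 1) → g = 1) : False := by
  classical
  letI : Fintype G := Fintype.ofFinite G
  letI : Fintype (IrrCharacter G) := Fintype.ofFinite _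
  rcases cd3_pure hm hn hmn hcd hχ₀ hψ₀ hχm hψn with h | h
  · exact cd3_core hm hn hmn hcd hχ₀ hψ₀ hχm hψn h hZψ
  · have hcd' : ∀ φ : IrrCharacter G, charDegree (φ : G → ℂ) = 1 ∨ charDegree (φ : G → ℂ) = n ∨
        charDegree (φ : G → ℂ) = m := by
      intro φ
      rcases hcd φ with h1 | h1 | h1
      · exact Or.inl h1
      · exact Or.inr (Or.inr h1)
      · exact Or.inr (Or.inl h1)
    have h' : TypeD n ψ₀ χ₀ := by
      intro φ hφ
      rw [mul_comm] at hφ
      exact h φ hφ
    exact cd3_core hn hm hmn.symm hcd' hψ₀ hχ₀ hψn hχm h' hZχ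

end Cfsg.Agent.Lib.Helper80.CD3
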