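import Mathlib
import Cfsg.Prelude.Def_Blocks
import Cfsg.Agent.Lib.Helper01.CD3Defs
import Cfsg.Agent.Lib.Helper80.CD3Key

/-!
# S4460 pack K-CD3, leaf 446021 K-CD3-KEY `key_core` (and 446020 `mul_pure`), exact spec signatures,
wrappers around `Cfsg.Agent.Lib.Helper80.CD3.key_lemma` / `cd3_pure`.
-/

set_option autoImplicit false
set_option linter.unusedVariables false

namespace Cfsg.Agent.Lib.Helper80.CD3

open scoped ComplexConjugate
open Cfsg Cfsg.Agent.Lib.Helper01.CD3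

universe u

/-- bridge: the spec's centre hypothesis gives the one of `key_lemma` -/
theorem cd3_center_bridge {G : Type u} [Group G] [Finite G] {d : ℕ} {χ : G → ℂ} (hχ : IsIrrCharacter G χ)
    (hχd : charDegree χ = d) (hχZ : ∀ g : G, ‖χ g‖ = (d : ℝ) → g = 1) :
    ∀ g : G, χ g * conj (χ g) = χ 1 * conj (χ 1) → g = 1 := by
  intro g hg
  apply hχZ g
  rw [Complex.mul_conj, Complex.mul_conj] at hg
  have h1 : Complex.normSq (χ g) = Complex.normSq (χ 1) := by exact_mod_cast hg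
  have hχ1 : χ 1 = (d : ℂ) := by
    rw [← hχd]
    exact (Cfsg.Agent.Lib.Helper83.charDegree_cast (Cfsg.Agent.Lib.Helper83.isCharacter_of_irr hχ)).symm
  rw [hχ1, Complex.normSq_natCast, Complex.normSq_eq_norm_sq] at h1
  have h2 : ‖χ g‖ ^ 2 = (d : ℝ) ^ 2 := by
    rw [h1]
    ring
  have h3 : (0 : ℝ) ≤ ‖χ g‖ := norm_nonneg _
  have h4 : (0 : ℝ) ≤ (d : ℝ) := Nat.cast_nonneg d
  nlinarith [sq_nonneg (‖χ g‖ - d), sq_nonneg (‖χ g‖ + d)]

/-- 446021 K-CD3-KEY. -/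
theorem key_core {G : Type u} [Group G] [Fintype G] {m n : ℕ} (hm : 1 < m) (hn : 1 < n)
    (hmn : Nat.Coprime m n) (hcd : ThreeDeg G m n) {χ ψ : G → ℂ}
    (hχ : IsIrrCharacter G χ) (hψ : IsIrrCharacter G ψ)
    (hχm : charDegree χ = m) (hψn : charDegree ψ = n)
    (hχZ : ∀ g : G, ‖χ g‖ = (m : ℝ) → g = 1) (hψZ : ∀ g : G, ‖ψ g‖ = (n : ℝ) → g = 1) : False :=
  key_lemma hm hn hmn (fun φ => hcd φ.1 φ.2) hχ hψ hχm hψn
    (cd3_center_bridge hχ hχm hχZ) (cd3_center_bridge hψ hψn hψZ)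

/-- 446020 K-CD3-PURE (spare copy). -/
theorem mul_pure {G : Type u} [Group G] [Fintype G] {m n : ℕ} (hm : 1 < m) (hn : 1 < n)
    (hmn : Nat.Coprime m n) (hcd : ThreeDeg G m n) {χ ψ : G → ℂ}
    (hχ : IsIrrCharacter G χ) (hψ : IsIrrCharacter G ψ)
    (hχm : charDegree χ = m) (hψn : charDegree ψ = n) :
    (∀ φ : G → ℂ, IsIrrCharacter G φ → classInner (χ * ψ) φ ≠ 0 → charDegree φ = m) ∨
    (∀ φ : G → ℂ, IsIrrCharacter G φ → classInner (χ * ψ) φ ≠ 0 → charDegree φ = n) := by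
  classical
  letI : Fintype (IrrCharacter G) := Fintype.ofFinite _
  rcases cd3_pure hm hn hmn (fun φ => hcd φ.1 φ.2) hχ hψ hχm hψn with h | h
  · exact Or.inl (fun φ hφ h0 => h ⟨φ, hφ⟩ h0)
  · exact Or.inr (fun φ hφ h0 => h ⟨φ, hφ⟩ h0)

end Cfsg.Agent.Lib.Helper80.CD3
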