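import Mathlib
import Cfsg.Agent.Lib.Helper83.LinearCount
import Cfsg.Agent.Lib.Helper83.Linear
import Cfsg.Agent.Lib.Helper83.Orthogonality
import Cfsg.Agent.Lib.Helper04.GlaubInt

/-!
# Central characters relative to a pair of subgroups (helper80)

`A ≤ M` subgroups of `X` with `A` central in `M`.  For `χ ∈ Irr(M)` we define the linear
character `cHom χ : A →* ℂˣ`, `a ↦ χ(a)/χ(1)`, and show that `χ` lies over `θ' ∈ Irr(A)` iff
`θ' = cHom χ`.
-/

set_option autoImplicit false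
set_option linter.style.haveILetI false

namespace Cfsg.Agent.Lib.Helper80

open Cfsg
open scoped ComplexConjugate

section

variable {X : Type*} [Group X] {M A : Subgroup X} [Fintype M] [Fintype A]

theorem mem_center_of_central (hAM : A ≤ M) (hcent : ∀ a ∈ A, ∀ u ∈ M, a * u = u * a) (a : A) :
    (⟨(a : X), hAM a.2⟩ : M) ∈ Subgroup.center M := by
  rw [Subgroup.mem_center_iff]
  intro u
  apply Subtype.ext
  exact (hcent a a.2 u u.2).symm

/-- `χ (u a) = χ u · χ a / χ 1`. -/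
theorem irr_mul_central_pair (hAM : A ≤ M) (hcent : ∀ a ∈ A, ∀ u ∈ M, a * u = u * a)
    (χ : IrrCharacter M) (u : M) (a : A) :
    (χ : M → ℂ) (u * ⟨(a : X), hAM a.2⟩) =
      (χ : M → ℂ) u * ((χ : M → ℂ) ⟨(a : X), hAM a.2⟩ / (χ : M → ℂ) 1) := by
  rw [Helper83.irr_mul_central χ (mem_center_of_central hAM hcent a) u]
  ring

/-- The central character of `χ` on `A`, as a homomorphism to `ℂ`. -/
noncomputable def cHom0 (hAM : A ≤ M) (hcent : ∀ a ∈ A, ∀ u ∈ M, a * u = u * a)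
    (χ : IrrCharacter M) : A →* ℂ where
  toFun a := (χ : M → ℂ) ⟨(a : X), hAM a.2⟩ / (χ : M → ℂ) 1
  map_one' := by
    have h1 : (χ : M → ℂ) 1 ≠ 0 := Helper83.irr_degree_ne_zero χ
    have : (⟨((1 : A) : X), hAM (1 : A).2⟩ : M) = 1 := rfl
    rw [this, div_self h1]
  map_mul' a b := by
    have h1 : (χ : M → ℂ) 1 ≠ 0 := Helper83.irr_degree_ne_zero χ
    have : (⟨((a * b : A) : X), hAM (a * b).2⟩ : M) =
        (⟨(a : X), hAM a.2⟩ : M) * ⟨(b : X), hAM b.2⟩ := rfl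
    rw [this, irr_mul_central_pair hAM hcent χ _ b]
    ring

/-- The central character of `χ` on `A`. -/
noncomputable def cHom (hAM : A ≤ M) (hcent : ∀ a ∈ A, ∀ u ∈ M, a * u = u * a)
    (χ : IrrCharacter M) : A →* ℂˣ := (cHom0 hAM hcent χ).toHomUnits

theorem cHom_apply (hAM : A ≤ M) (hcent : ∀ a ∈ A, ∀ u ∈ M, a * u = u * a)
    (χ : IrrCharacter M) (a : A) :
    ((cHom hAM hcent χ a : ℂˣ) : ℂ) = (χ : M → ℂ) ⟨(a : X), hAM a.2⟩ / (χ : M → ℂ) 1 := rfl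

theorem irr_apply_central (hAM : A ≤ M) (hcent : ∀ a ∈ A, ∀ u ∈ M, a * u = u * a)
    (χ : IrrCharacter M) (a : A) :
    (χ : M → ℂ) ⟨(a : X), hAM a.2⟩ = (χ : M → ℂ) 1 * ((cHom hAM hcent χ a : ℂˣ) : ℂ) := by
  have h1 : (χ : M → ℂ) 1 ≠ 0 := Helper83.irr_degree_ne_zero χ
  rw [cHom_apply]
  field_simp

theorem irr_mul_cHom (hAM : A ≤ M) (hcent : ∀ a ∈ A, ∀ u ∈ M, a * u = u * a)
    (χ : IrrCharacter M) (u : M) (a : A) :
    (χ : M → ℂ) (u * ⟨(a : X), hAM a.2⟩) =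
      (χ : M → ℂ) u * ((cHom hAM hcent χ a : ℂˣ) : ℂ) := by
  rw [irr_mul_central_pair hAM hcent χ u a, cHom_apply]

/-- The central character as an irreducible character of `A`. -/
noncomputable def cIrr (hAM : A ≤ M) (hcent : ∀ a ∈ A, ∀ u ∈ M, a * u = u * a)
    (χ : IrrCharacter M) : IrrCharacter A :=
  ⟨fun a => ((cHom hAM hcent χ a : ℂˣ) : ℂ), Helper83.isIrrCharacter_of_hom _⟩

theorem cIrr_apply (hAM : A ≤ M) (hcent : ∀ a ∈ A, ∀ u ∈ M, a * u = u * a)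
    (χ : IrrCharacter M) (a : A) :
    (cIrr hAM hcent χ : A → ℂ) a = ((cHom hAM hcent χ a : ℂˣ) : ℂ) := rfl

theorem restrict_eq_smul_cIrr (hAM : A ≤ M) (hcent : ∀ a ∈ A, ∀ u ∈ M, a * u = u * a)
    (χ : IrrCharacter M) :
    (fun a : A => (χ : M → ℂ) ⟨(a : X), hAM a.2⟩) =
      ((χ : M → ℂ) 1) • (cIrr hAM hcent χ : A → ℂ) := by
  funext a
  rw [Pi.smul_apply, smul_eq_mul, cIrr_apply, ← irr_apply_central]

/-- `χ` lies over `θ'` iff `θ'` is the central character. -/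
theorem eq_cIrr_of_over (hAM : A ≤ M) (hcent : ∀ a ∈ A, ∀ u ∈ M, a * u = u * a)
    (χ : IrrCharacter M) (θ' : IrrCharacter A)
    (h : classInner (fun a : A => (χ : M → ℂ) ⟨(a : X), hAM a.2⟩) (θ' : A → ℂ) ≠ 0) :
    θ' = cIrr hAM hcent χ := by
  by_contra hne
  apply h
  rw [restrict_eq_smul_cIrr hAM hcent χ, Helper83.classInner_smul_left,
    Helper83.irr_inner_ne (Ne.symm hne), mul_zero]

theorem over_cIrr (hAM : A ≤ M) (hcent : ∀ a ∈ A, ∀ u ∈ M, a * u = u * a)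
    (χ : IrrCharacter M) :
    classInner (fun a : A => (χ : M → ℂ) ⟨(a : X), hAM a.2⟩) (cIrr hAM hcent χ : A → ℂ) ≠ 0 := by
  rw [restrict_eq_smul_cIrr hAM hcent χ, Helper83.classInner_smul_left,
    Helper83.irr_inner_self, mul_one]
  exact Helper83.irr_degree_ne_zero χ

end

end Cfsg.Agent.Lib.Helper80
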