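import Mathlib
import Cfsg.Agent.Lib.Helper80.GlaubermanAction

/-!
# The `k'`-part of a central subgroup (helper80)

For a central subgroup `Z` of `X` and a natural number `k`, `coprimePart Z hZ k` is the subgroup of
elements of `Z` of order prime to `k`.
-/

set_option autoImplicit false
set_option linter.style.haveILetI false

namespace Cfsg.Agent.Lib.Helper80

variable {X : Type*} [Group X]

/-- The elements of the central subgroup `Z` of order prime to `k`. -/
def coprimePart (Z : Subgroup X) (hZ : Z ≤ Subgroup.center X) (k : ℕ) : Subgroup X where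
  carrier := {z | z ∈ Z ∧ (orderOf z).Coprime k}
  one_mem' := ⟨Z.one_mem, by simp⟩
  mul_mem' := by
    rintro a b ⟨ha, ha'⟩ ⟨hb, hb'⟩
    refine ⟨Z.mul_mem ha hb, ?_⟩
    have hcomm : Commute a b := Subgroup.mem_center_iff.mp (hZ hb) a
    exact Nat.Coprime.coprime_dvd_left
      (hcomm.orderOf_mul_dvd_lcm.trans (Nat.lcm_dvd_mul _ _)) (Nat.Coprime.mul_left ha' hb')
  inv_mem' := by
    rintro a ⟨ha, ha'⟩
    exact ⟨Z.inv_mem ha, by rwa [orderOf_inv]⟩

theorem mem_coprimePart {Z : Subgroup X} {hZ : Z ≤ Subgroup.center X} {k : ℕ} {z : X} :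
    z ∈ coprimePart Z hZ k ↔ z ∈ Z ∧ (orderOf z).Coprime k := Iff.rfl

theorem coprimePart_le (Z : Subgroup X) (hZ : Z ≤ Subgroup.center X) (k : ℕ) :
    coprimePart Z hZ k ≤ Z := fun _ h => h.1

variable [Finite X]

/-- The order of the `k'`-part is prime to `k`. -/
theorem card_coprimePart_coprime (Z : Subgroup X) (hZ : Z ≤ Subgroup.center X) (k : ℕ) :
    (Nat.card (coprimePart Z hZ k)).Coprime k := by
  by_contra hcon
  obtain ⟨p, hp, hp1, hp2⟩ := Nat.Prime.not_coprime_iff_dvd.mp hcon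
  have : Fact p.Prime := ⟨hp⟩
  obtain ⟨x, hx⟩ := exists_prime_orderOf_dvd_card' p hp1
  have h1 : (orderOf (x : X)).Coprime k := x.2.2
  rw [Subgroup.orderOf_coe, hx] at h1
  exact (Nat.Prime.coprime_iff_not_dvd hp).mp h1 hp2

/-- Every prime dividing the index of the `k'`-part in `Z` divides `k`. -/
theorem dvd_of_dvd_relIndex_coprimePart (Z : Subgroup X) (hZ : Z ≤ Subgroup.center X) (k : ℕ)
    {p : ℕ} (hp : p.Prime) (h : p ∣ (coprimePart Z hZ k).relIndex Z) : p ∣ k := by
  by_contra hpk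
  have : Fact p.Prime := ⟨hp⟩
  set A := coprimePart Z hZ k with hA
  have hAn : (A.subgroupOf Z).Normal := by
    constructor
    intro a ha z
    have h1 : (z : X) * (a : X) * (z : X)⁻¹ = (a : X) := by
      have := Subgroup.mem_center_iff.mp (hZ a.2) (z : X)
      rw [this, mul_inv_cancel_right]
    rw [Subgroup.mem_subgroupOf] at ha ⊢
    rw [Subgroup.coe_mul, Subgroup.coe_mul, Subgroup.coe_inv, h1]
    exact ha
  rw [Subgroup.relIndex, Subgroup.index_eq_card] at h
  obtain ⟨q, hq⟩ := exists_prime_orderOf_dvd_card' p h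
  obtain ⟨z, rfl⟩ := QuotientGroup.mk_surjective q
  have hzp : z ^ p ∈ A.subgroupOf Z := by
    rw [← QuotientGroup.eq_one_iff, QuotientGroup.mk_pow, ← hq, pow_orderOf_eq_one]
  have hzA : z ∉ A.subgroupOf Z := by
    intro hz
    rw [← QuotientGroup.eq_one_iff] at hz
    rw [hz, orderOf_one] at hq
    exact hp.one_lt.ne hq
  apply hzA
  rw [Subgroup.mem_subgroupOf]
  refine ⟨z.2, ?_⟩
  have h1 : (orderOf ((z : X) ^ p)).Coprime k := by
    have := (Subgroup.mem_subgroupOf.mp hzp).2
    rwa [Subgroup.coe_pow] at this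
  have h2 : orderOf (z : X) ∣ p * orderOf ((z : X) ^ p) := by
    apply orderOf_dvd_of_pow_eq_one
    rw [pow_mul, pow_orderOf_eq_one]
  exact Nat.Coprime.coprime_dvd_left h2
    (Nat.Coprime.mul_left ((Nat.Prime.coprime_iff_not_dvd hp).mpr hpk) h1)

end Cfsg.Agent.Lib.Helper80
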