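import Mathlib

/-!
# The derived series of a subgroup, inside the ambient group (helper80)

`dser K n` is the `n`-th derived subgroup of `K`, as a subgroup of the ambient group.
-/

set_option autoImplicit false

namespace Cfsg.Agent.Lib.Helper80

variable {X : Type*} [Group X]

/-- The derived series of a subgroup, as subgroups of the ambient group. -/
def dser (K : Subgroup X) : ℕ → Subgroup X
  | 0 => K
  | n + 1 => ⁅dser K n, dser K n⁆

@[simp] theorem dser_zero (K : Subgroup X) : dser K 0 = K := rfl

theorem dser_succ (K : Subgroup X) (n : ℕ) : dser K (n + 1) = ⁅dser K n, dser K n⁆ := rfl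

theorem dser_mono {K L : Subgroup X} (h : K ≤ L) (n : ℕ) : dser K n ≤ dser L n := by
  induction n with
  | zero => exact h
  | succ n ih => exact Subgroup.commutator_mono ih ih

theorem commutator_self_le (K : Subgroup X) : ⁅K, K⁆ ≤ K := by
  rw [Subgroup.commutator_le]
  intro a ha b hb
  exact K.mul_mem (K.mul_mem (K.mul_mem ha hb) (K.inv_mem ha)) (K.inv_mem hb)

theorem dser_succ_le (K : Subgroup X) (n : ℕ) : dser K (n + 1) ≤ dser K n :=
  commutator_self_le _

theorem dser_le (K : Subgroup X) (n : ℕ) : dser K n ≤ K := by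
  induction n with
  | zero => exact le_rfl
  | succ n ih => exact (dser_succ_le K n).trans ih

theorem map_dser {Y : Type*} [Group Y] (f : X →* Y) (K : Subgroup X) (n : ℕ) :
    (dser K n).map f = dser (K.map f) n := by
  induction n with
  | zero => rfl
  | succ n ih => rw [dser_succ, Subgroup.map_commutator, ih, dser_succ]

theorem dser_top (n : ℕ) : dser (⊤ : Subgroup X) n = derivedSeries X n := by
  induction n with
  | zero => rfl
  | succ n ih => rw [dser_succ, ih, derivedSeries_succ]

instance dser_normal (K : Subgroup X) [K.Normal] (n : ℕ) : (dser K n).Normal := by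
  induction n with
  | zero => exact (inferInstance : K.Normal)
  | succ n ih =>
    rw [dser_succ]
    infer_instance

/-- Solvability of `G / N` gives a term of the derived series of `G` inside `N`. -/
theorem exists_dser_le_of_isSolvable_quotient (G N : Subgroup X) [hN : (N.subgroupOf G).Normal]
    (h : Group.IsSolvable (G ⧸ N.subgroupOf G)) : ∃ n, dser G n ≤ N := by
  obtain ⟨n, hn⟩ := (Group.isSolvable_def _).mp h
  refine ⟨n, ?_⟩
  have h1 : (derivedSeries G n).map (QuotientGroup.mk' (N.subgroupOf G)) = ⊥ := by
    rw [map_derivedSeries_eq (QuotientGroup.mk'_surjective _), hn]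
  have h2 : derivedSeries G n ≤ N.subgroupOf G := by
    rw [← QuotientGroup.ker_mk' (N.subgroupOf G), ← Subgroup.map_eq_bot_iff]
    exact h1
  have h3 : dser G n = (derivedSeries G n).map G.subtype := by
    rw [← dser_top, map_dser, ← MonoidHom.range_eq_map, Subgroup.range_subtype]
  rw [h3]
  intro x hx
  obtain ⟨y, hy, rfl⟩ := hx
  exact h2 hy

/-- Solvability of `X / G` gives a term of the derived series of `X` inside `G`. -/
theorem exists_dser_top_le_of_isSolvable_quotient (G : Subgroup X) [hG : G.Normal]
    (h : Group.IsSolvable (X ⧸ G)) : ∃ n, dser (⊤ : Subgroup X) n ≤ G := by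
  obtain ⟨n, hn⟩ := (Group.isSolvable_def _).mp h
  refine ⟨n, ?_⟩
  rw [dser_top]
  have h1 : (derivedSeries X n).map (QuotientGroup.mk' G) = ⊥ := by
    rw [map_derivedSeries_eq (QuotientGroup.mk'_surjective _), hn]
  rw [← QuotientGroup.ker_mk' G, ← Subgroup.map_eq_bot_iff]
  exact h1

/-- Conversely, the quotient is solvable. -/
theorem isSolvable_quotient_of_dser_top_le (G : Subgroup X) [hG : G.Normal] {n : ℕ}
    (h : dser (⊤ : Subgroup X) n ≤ G) : Group.IsSolvable (X ⧸ G) := by
  rw [Group.isSolvable_def]
  refine ⟨n, ?_⟩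
  rw [← map_derivedSeries_eq (QuotientGroup.mk'_surjective G), Subgroup.map_eq_bot_iff,
    QuotientGroup.ker_mk', ← dser_top]
  exact h

end Cfsg.Agent.Lib.Helper80
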