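import Mathlib
import Cfsg.Agent.Lib.Helper84.LinearTwist
import Cfsg.Agent.Lib.Helper80.GlaubermanAction

set_option autoImplicit false

namespace Cfsg.Agent.Lib.Helper80

open Cfsg
open scoped ComplexConjugate

section Twist

universe u

variable {G : Type u} [Group G] [Fintype G]

/-- Two characters sharing an irreducible constituent have nonzero inner product. -/
theorem classInner_ne_zero_of_common {A B : G → ℂ} (hA : IsCharacter G A) (hB : IsCharacter G B)
    (θ : IrrCharacter G) (h1 : classInner A (θ : G → ℂ) ≠ 0)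
    (h2 : classInner B (θ : G → ℂ) ≠ 0) : classInner A B ≠ 0 := by
  classical
  have : Fintype (IrrCharacter G) := Fintype.ofFinite _
  have hdec := Cfsg.Agent.Lib.Helper83.char_eq_sum_irrMult hA
  have key : classInner A B = ((∑ φ : IrrCharacter G,
      Cfsg.Agent.Lib.Helper83.irrMult A φ * Cfsg.Agent.Lib.Helper83.irrMult B φ : ℕ) : ℂ) := by
    conv_lhs => rw [hdec]
    rw [Cfsg.Agent.Lib.Helper83.classInner_sum_left, Nat.cast_sum]
    refine Finset.sum_congr rfl fun φ _ => ?_
    rw [Cfsg.Agent.Lib.Helper83.classInner_smul_left, Nat.cast_mul,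
      ← Cfsg.Agent.Lib.Helper83.classInner_conj_symm,
      ← Cfsg.Agent.Lib.Helper83.irrMult_cast hB φ, Complex.conj_natCast]
  rw [key]
  have hm1 : Cfsg.Agent.Lib.Helper83.irrMult A θ ≠ 0 := by
    intro h
    apply h1
    rw [← Cfsg.Agent.Lib.Helper83.irrMult_cast hA θ, h, Nat.cast_zero]
  have hm2 : Cfsg.Agent.Lib.Helper83.irrMult B θ ≠ 0 := by
    intro h
    apply h2
    rw [← Cfsg.Agent.Lib.Helper83.irrMult_cast hB θ, h, Nat.cast_zero]
  have hpos : 0 < ∑ φ : IrrCharacter G,
      Cfsg.Agent.Lib.Helper83.irrMult A φ * Cfsg.Agent.Lib.Helper83.irrMult B φ := by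
    apply Finset.sum_pos'
    · intro φ _
      exact Nat.zero_le _
    · exact ⟨θ, Finset.mem_univ _, Nat.mul_pos (Nat.pos_of_ne_zero hm1) (Nat.pos_of_ne_zero hm2)⟩
  exact_mod_cast hpos.ne'

variable (N : Subgroup G) [hN : N.Normal] [Fintype N]

/-- If `G/N` is abelian, any two irreducible characters of `G` lying over the same
`θ ∈ Irr(N)` differ by a linear character that is trivial on `N` (no invariance assumed). -/
theorem exists_linear_twist' (hab : ∀ x y : G, x * y * x⁻¹ * y⁻¹ ∈ N) {θ : N → ℂ}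
    (hθ : IsIrrCharacter N θ) {ψ ψ' : G → ℂ}
    (hψ : IsIrrCharacter G ψ) (hψ' : IsIrrCharacter G ψ')
    (h1 : classInner (fun n : N => ψ n) θ ≠ 0) (h2 : classInner (fun n : N => ψ' n) θ ≠ 0) :
    ∃ lam : G → ℂ, IsCharacter G lam ∧ lam 1 = 1 ∧ (∀ n ∈ N, lam n = 1) ∧ ψ' = ψ * lam := by
  classical
  have : Fintype (IrrCharacter G) := Fintype.ofFinite _
  have hψc := Cfsg.Agent.Lib.Helper83.isCharacter_of_irr hψ
  have hψ'c := Cfsg.Agent.Lib.Helper83.isCharacter_of_irr hψ'
  have hψcl := Cfsg.Agent.Lib.Helper83.char_isClassFunction hψc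
  have hψ'cl := Cfsg.Agent.Lib.Helper83.char_isClassFunction hψ'c
  -- ind (ψ|_N) = ind 1 * ψ
  have hR : IsCharacter G (indFun N (fun _ : N => (1 : ℂ))) :=
    Cfsg.Agent.Lib.Helper34.isCharacter_indFun N Cfsg.Agent.Lib.Helper83.isCharacter_one
  have e1 : indFun N (fun n : N => ψ n) = indFun N (fun _ : N => (1 : ℂ)) * ψ := by
    rw [← Cfsg.Agent.Lib.Helper84.indFun_mul_restrict N _ hψcl]
    congr 1
    funext n
    simp
  have e2 : classInner (indFun N (fun n : N => ψ n)) ψ' ≠ 0 := by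
    rw [Cfsg.Agent.Lib.Helper34.classInner_indFun_left N _ ψ' hψ'cl]
    exact classInner_ne_zero_of_common (Cfsg.Agent.Lib.Helper83.isCharacter_restrict N hψc)
      (Cfsg.Agent.Lib.Helper83.isCharacter_restrict N hψ'c) ⟨θ, hθ⟩ h1 h2
  rw [e1] at e2
  have hdec := Cfsg.Agent.Lib.Helper83.char_eq_sum_irrMult hR
  rw [hdec, Finset.sum_mul, Cfsg.Agent.Lib.Helper83.classInner_sum_left] at e2
  obtain ⟨lam, -, hlam⟩ := Finset.exists_ne_zero_of_sum_ne_zero e2
  rw [smul_mul_assoc, Cfsg.Agent.Lib.Helper83.classInner_smul_left] at hlam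
  have hm : (Cfsg.Agent.Lib.Helper83.irrMult (indFun N (fun _ : N => (1 : ℂ))) lam : ℂ) ≠ 0 :=
    left_ne_zero_of_mul hlam
  have hne : classInner ((lam : G → ℂ) * ψ) ψ' ≠ 0 := right_ne_zero_of_mul hlam
  have hlc := Cfsg.Agent.Lib.Helper83.IrrCharacter_isCharacter lam
  -- lam is trivial on N
  have hconst : ∀ n ∈ N, (lam : G → ℂ) n = (lam : G → ℂ) 1 := by
    apply Cfsg.Agent.Lib.Helper84.irr_const_of_classInner_one_ne_zero N lam.2
    rw [Cfsg.Agent.Lib.Helper83.irrMult_cast hR,
      Cfsg.Agent.Lib.Helper34.classInner_indFun_left N _ _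
        (Cfsg.Agent.Lib.Helper83.isClassFunction_irr lam)] at hm
    rw [← Cfsg.Agent.Lib.Helper83.classInner_conj_symm]
    exact (map_ne_zero _).mpr hm
  -- lam is linear
  have hlin : (lam : G → ℂ) 1 = 1 := by
    apply Cfsg.Agent.Lib.Helper83.irr_linear_of_commutator_le lam
    intro x hx
    have hle : commutator G ≤ N := by
      rw [commutator_def, Subgroup.commutator_le]
      intro a _ b _
      rw [commutatorElement_def]
      exact hab a b
    exact hconst x (hle hx)
  refine ⟨lam, hlc, hlin, fun n hn => by rw [hconst n hn, hlin], ?_⟩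
  have hirr : IsIrrCharacter G (ψ * (lam : G → ℂ)) :=
    Cfsg.Agent.Lib.Helper84.isIrrCharacter_mul_linear hlc hlin hψ
  rw [mul_comm] at hne
  exact (Cfsg.Agent.Lib.Helper84.irr_eq_of_classInner_ne_zero hirr hψ' hne).symm

/-- The group of linear characters `G →* ℂˣ` acts on `Irr(G)` by multiplication. -/
noncomputable def twistPerm : (G →* ℂˣ) →* Equiv.Perm (IrrCharacter G) where
  toFun φ :=
    { toFun := fun χ => ⟨(χ : G → ℂ) * fun g => ((φ g : ℂˣ) : ℂ),
        Cfsg.Agent.Lib.Helper84.isIrrCharacter_mul_linear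
          (Cfsg.Agent.Lib.Helper83.isCharacter_of_hom φ) (by simp) χ.2⟩
      invFun := fun χ => ⟨(χ : G → ℂ) * fun g => ((φ⁻¹ g : ℂˣ) : ℂ),
        Cfsg.Agent.Lib.Helper84.isIrrCharacter_mul_linear
          (Cfsg.Agent.Lib.Helper83.isCharacter_of_hom φ⁻¹) (by simp) χ.2⟩
      left_inv := by
        intro χ
        apply Subtype.ext
        funext g
        simp [mul_assoc]
      right_inv := by
        intro χ
        apply Subtype.ext
        funext g
        simp [mul_assoc] }
  map_one' := by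
    ext χ g
    simp
  map_mul' := by
    intro φ φ'
    ext χ g
    simp only [Equiv.coe_fn_mk, Pi.mul_apply, MonoidHom.mul_apply, Units.val_mul,
      Equiv.Perm.coe_mul, Function.comp_apply]
    ring

@[simp]
theorem twistPerm_apply (φ : G →* ℂˣ) (χ : IrrCharacter G) (g : G) :
    (twistPerm φ χ : G → ℂ) g = (χ : G → ℂ) g * ((φ g : ℂˣ) : ℂ) := rfl

end Twist

end Cfsg.Agent.Lib.Helper80
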