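import Mathlib
import Cfsg.Agent.Lib.Helper80.LinTwistAct
import Cfsg.Agent.Lib.Helper22.BlockRegular

set_option autoImplicit false

namespace Cfsg.Agent.Lib.Helper80

open Cfsg
open scoped ComplexConjugate

section Core

universe u v

variable {G : Type u} [Group G] [Fintype G] (N : Subgroup G) [hN : N.Normal] [Fintype N]

/-- Restriction of an automorphism stabilising `N` to an equivalence of `N`. -/
def restrictEquiv (α : MulAut G) (h : ∀ n ∈ N, α n ∈ N) (h' : ∀ n ∈ N, α⁻¹ n ∈ N) : N ≃ N where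
  toFun n := ⟨α n, h n n.2⟩
  invFun n := ⟨α⁻¹ n, h' n n.2⟩
  left_inv n := by
    apply Subtype.ext
    simp
  right_inv n := by
    apply Subtype.ext
    simp

/-- **Isaacs 13.28, abelian quotient, abstract action.** A group `S` acts on `G` stabilising
`N ⊴ G` with `G/N` abelian and `|G : N|` coprime to `|S|`. An `S`-invariant `θ ∈ Irr(N)` lies
under an `S`-invariant `χ ∈ Irr(G)`. -/
theorem exists_invariant_above_of_abelian {S : Type v} [Group S] [Finite S] (act : S →* MulAut G)
    (hNact : ∀ (s : S) (n : G), n ∈ N → act s n ∈ N)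
    (hab : ∀ x y : G, x * y * x⁻¹ * y⁻¹ ∈ N) (hcop : (N.index).Coprime (Nat.card S))
    (θ : N → ℂ) (hθ : IsIrrCharacter N θ)
    (hinv : ∀ (s : S) (n m : N), (m : G) = act s n → θ m = θ n) :
    ∃ χ : IrrCharacter G, classInner (fun n : N => (χ : G → ℂ) n) θ ≠ 0 ∧
      ∀ (s : S) (g : G), (χ : G → ℂ) (act s g) = (χ : G → ℂ) g := by
  classical
  have hNact' : ∀ (s : S) (n : G), n ∈ N → (act s)⁻¹ n ∈ N := by
    intro s n hn
    rw [← map_inv]
    exact hNact s⁻¹ n hn
  -- the two permutation groups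
  set Lam : Subgroup (G →* ℂˣ) :=
    { carrier := {φ | ∀ n ∈ N, φ n = 1}
      mul_mem' := by
        intro a b ha hb n hn
        rw [MonoidHom.mul_apply, ha n hn, hb n hn, one_mul]
      one_mem' := by
        intro n _
        rfl
      inv_mem' := by
        intro a ha n hn
        rw [MonoidHom.inv_apply, ha n hn, inv_one] } with hLam
  set Khat : Subgroup (Equiv.Perm (IrrCharacter G)) := Lam.map twistPerm with hKhat
  set ψS : S →* Equiv.Perm (IrrCharacter G) := (autPerm G).comp act with hψS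
  set Ahat : Subgroup (Equiv.Perm (IrrCharacter G)) := ψS.range with hAhat
  have hAK : Ahat ≤ Subgroup.normalizer (Khat : Set (Equiv.Perm (IrrCharacter G))) := by
    intro a ha
    obtain ⟨s, rfl⟩ := ha
    rw [Subgroup.mem_normalizer_iff]
    have key : ∀ (t : S) (k : Equiv.Perm (IrrCharacter G)), k ∈ Khat →
        ψS t * k * (ψS t)⁻¹ ∈ Khat := by
      rintro t _ ⟨φ, hφ, rfl⟩
      refine ⟨φ.comp ((act t)⁻¹ : MulAut G).toMonoidHom, ?_, ?_⟩
      · intro n hn
        exact hφ _ (hNact' t n hn)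
      · ext χ g
        simp only [hψS, MonoidHom.comp_apply, twistPerm_apply, MulEquiv.coe_toMonoidHom,
          Equiv.Perm.coe_mul, Function.comp_apply, ← map_inv, autPerm_apply, inv_inv]
        simp
    intro k
    refine ⟨key s k, fun h => ?_⟩
    have := key s⁻¹ _ h
    rw [map_inv] at this
    simpa [mul_assoc] using this
  have hexpK : ∀ x : Khat, x ^ N.index = 1 := by
    rintro ⟨_, φ, hφ, rfl⟩
    apply Subtype.ext
    rw [Subgroup.coe_pow, Subgroup.coe_one]
    simp only
    rw [← map_pow]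
    have : φ ^ N.index = 1 := by
      ext g
      rw [MonoidHom.pow_apply, ← map_pow, hφ _ (Subgroup.pow_index_mem N g)]
      rfl
    rw [this, map_one]
  have hcardA : Nat.card Ahat ∣ Nat.card S := by
    rw [hAhat, ← Subgroup.index_ker]
    exact Subgroup.index_dvd_card _
  have hcopAK : (Nat.card Ahat).Coprime (Nat.card Khat) :=
    Nat.Coprime.coprime_dvd_left hcardA
      (coprime_card_of_forall_pow_eq_one N.index (Nat.card S) hcop hexpK).symm
  have hsolvAK : Group.IsSolvable Ahat ∨ Group.IsSolvable Khat := by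
    right
    apply isSolvable_of_comm
    rintro ⟨_, φ, hφ, rfl⟩ ⟨_, φ', hφ', rfl⟩
    apply Subtype.ext
    simp only [Subgroup.coe_mul]
    rw [← map_mul, ← map_mul, mul_comm φ φ']
  -- a character over θ
  obtain ⟨χ₀, hχ₀⟩ := Cfsg.Agent.Lib.Helper22.exists_irr_over N ⟨θ, hθ⟩
  simp only at hχ₀
  -- lying over θ is preserved by the action
  have hover : ∀ (s : S) (χ : IrrCharacter G),
      classInner (fun n : N => (ψS s χ : G → ℂ) n) θ = classInner (fun n : N => (χ : G → ℂ) n) θ := by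
    intro s χ
    rw [classInner, classInner]
    congr 1
    let e : N ≃ N := restrictEquiv N ((act s)⁻¹) (hNact' s) (by
      intro n hn
      rw [inv_inv]
      exact hNact s n hn)
    apply Fintype.sum_equiv e
    intro n
    have h1 : (ψS s χ : G → ℂ) n = (χ : G → ℂ) (e n) := rfl
    have h2 : θ (e n) = θ n := by
      apply hinv s⁻¹
      rw [map_inv]
      rfl
    rw [h1, h2]
  have horbit : ∀ a ∈ Ahat, ∃ k ∈ Khat, k • χ₀ = a • χ₀ := by
    rintro _ ⟨s, rfl⟩
    have h2 : classInner (fun n : N => (ψS s χ₀ : G → ℂ) n) θ ≠ 0 := by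
      rw [hover]
      exact hχ₀
    obtain ⟨lam, hlc, hlin, hlN, hle⟩ := exists_linear_twist' N hab hθ χ₀.2 (ψS s χ₀).2 hχ₀ h2
    set φ : G →* ℂˣ := (Cfsg.Agent.Lib.Helper83.linCharHom hlc hlin).toHomUnits with hφ
    have hφv : ∀ g, ((φ g : ℂˣ) : ℂ) = lam g := fun g => rfl
    refine ⟨twistPerm φ, ⟨φ, ?_, rfl⟩, ?_⟩
    · intro n hn
      apply Units.ext
      rw [hφv, hlN n hn]
      rfl
    · apply Subtype.ext
      funext g
      rw [Equiv.Perm.smul_def, Equiv.Perm.smul_def, twistPerm_apply, hφv, hle]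
      rfl
  obtain ⟨k, hk, hfix⟩ := exists_fixed_of_orbit_stable hAK hcopAK hsolvAK χ₀ horbit
  obtain ⟨φ, hφ, rfl⟩ := hk
  refine ⟨twistPerm φ χ₀, ?_, ?_⟩
  · have : (fun n : N => (twistPerm φ χ₀ : G → ℂ) n) = fun n : N => (χ₀ : G → ℂ) n := by
      funext n
      rw [twistPerm_apply, hφ n n.2]
      simp
    rw [this]
    exact hχ₀
  · intro s g
    have h1 := hfix (ψS s⁻¹) ⟨_, rfl⟩
    rw [Equiv.Perm.smul_def, Equiv.Perm.smul_def] at h1
    have h2 : ((ψS s⁻¹) (twistPerm φ χ₀) : G → ℂ) g = (twistPerm φ χ₀ : G → ℂ) g :=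
      congrArg (fun χ : IrrCharacter G => (χ : G → ℂ) g) h1
    rw [← h2, hψS, MonoidHom.comp_apply, autPerm_apply, map_inv, inv_inv]

end Core

end Cfsg.Agent.Lib.Helper80
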