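import Mathlib
import Cfsg.Agent.Lib.Helper80.CoprimePart
import Cfsg.Agent.Lib.Helper80.CentralOver
import Cfsg.Agent.Lib.Helper80.DerSub
import Cfsg.Agent.Lib.Helper80.LinTwistAct
import Cfsg.Agent.Lib.Helper33.IrrComp
import Cfsg.Agent.S4448
import Cfsg.Agent.S4449

/-!
# Isaacs 13.31, the central case (helper80)

`Z ≤ G ⊴ X` with `Z` central in `X`, `|X : G|` prime to `|G : Z|`, and `X / G` or `G / Z`
solvable: every irreducible character of `G` has the same central character on `Z` as some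
`X`-invariant irreducible character of `G`.
-/

set_option autoImplicit false
set_option linter.style.haveILetI false

namespace Cfsg.Agent.Lib.Helper80

open Cfsg
open scoped ComplexConjugate

section

variable {X : Type*} [Group X] [Finite X]

theorem coprime_of_prime_dvd {a r k : ℕ} (h : ∀ p, p.Prime → p ∣ r → p ∣ k) (hak : a.Coprime k) :
    a.Coprime r := by
  by_contra hcon
  obtain ⟨p, hp, hp1, hp2⟩ := Nat.Prime.not_coprime_iff_dvd.mp hcon
  have h1 : p.Coprime k := Nat.Coprime.coprime_dvd_left hp1 hak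
  have h2 := Nat.Coprime.eq_one_of_dvd h1 (h p hp hp2)
  exact hp.one_lt.ne' h2

/-- **Power retraction onto a central Hall subgroup.** If `A ≤ G` is central of order prime to
its index `n` in `G`, then some power map `g ↦ g ^ E`, `E` a positive power of `n`, is a
homomorphic retraction of `G` onto `A`. -/
theorem exists_power_retraction (G A : Subgroup X) (hAG : A ≤ G)
    (hAc : ∀ z ∈ A, ∀ g ∈ G, z * g = g * z)
    (hcop : (Nat.card A).Coprime (A.relIndex G)) :
    ∃ t : ℕ, 0 < t ∧ (∀ z ∈ A, z ^ ((A.relIndex G) ^ t) = z) ∧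
      (∀ g ∈ G, g ^ ((A.relIndex G) ^ t) ∈ A) ∧
      (∀ g ∈ G, ∀ h ∈ G, (g * h) ^ ((A.relIndex G) ^ t) =
        g ^ ((A.relIndex G) ^ t) * h ^ ((A.relIndex G) ^ t)) := by
  classical
  set n := A.relIndex G with hn
  set a := Nat.card A with ha
  have ha0 : 0 < a := Nat.card_pos
  set t := a.totient with ht
  have ht0 : 0 < t := Nat.totient_pos.mpr ha0
  set E := n ^ t with hE
  have hn0 : n ≠ 0 := by
    rw [hn, Subgroup.relIndex]
    exact Subgroup.index_ne_zero_of_finite
  have hE0 : 1 ≤ E := Nat.one_le_pow _ _ (Nat.pos_of_ne_zero hn0)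
  have hmod : E ≡ 1 [MOD a] := Nat.ModEq.pow_totient hcop.symm
  obtain ⟨c, hc⟩ : a ∣ E - 1 := (Nat.modEq_iff_dvd' hE0).mp hmod.symm
  have hEc : E = 1 + a * c := by omega
  set AG : Subgroup G := A.subgroupOf G with hAGdef
  have hAGc : AG ≤ Subgroup.center G := by
    intro z hz
    rw [Subgroup.mem_center_iff]
    intro g
    apply Subtype.ext
    exact (hAc z hz g g.2).symm
  have hAGn : AG.Normal := by
    constructor
    intro z hz g
    have := Subgroup.mem_center_iff.mp (hAGc hz) g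
    rw [this, mul_inv_cancel_right]
    exact hz
  have hn0' : (Subgroup.center G).index ∣ n := Subgroup.index_dvd_of_le hAGc
  obtain ⟨e₁, he₁⟩ : (Subgroup.center G).index ∣ E := hn0'.trans (dvd_pow_self n ht0.ne')
  have hτ₀ : ∀ g h : G, (g * h) ^ (Subgroup.center G).index =
      g ^ (Subgroup.center G).index * h ^ (Subgroup.center G).index := by
    intro g h
    have h1 : ((MonoidHom.transferCenterPow G (g * h) : Subgroup.center G) : G) =
        (MonoidHom.transferCenterPow G g : G) * (MonoidHom.transferCenterPow G h : G) := by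
      rw [map_mul]; rfl
    simpa only [MonoidHom.transferCenterPow_apply] using h1
  have hτ : ∀ g h : G, (g * h) ^ E = g ^ E * h ^ E := by
    intro g h
    have hc : Commute (g ^ (Subgroup.center G).index) (h ^ (Subgroup.center G).index) := by
      have := (Subgroup.center G).pow_index_mem g
      exact (Subgroup.mem_center_iff.mp this _).symm
    rw [he₁, pow_mul, pow_mul, pow_mul, hτ₀, hc.mul_pow]
  refine ⟨t, ht0, ?_, ?_, ?_⟩
  · intro z hz
    have h1 : z ^ a = 1 := by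
      have : (⟨z, hz⟩ : A) ^ Nat.card A = 1 := pow_card_eq_one'
      have h2 := Subtype.ext_iff.mp this
      simpa only [Subgroup.coe_pow, Subgroup.coe_one] using h2
    change z ^ E = z
    rw [hEc, pow_add, pow_one, pow_mul, h1, one_pow, mul_one]
  · intro g hg
    have h1 : (⟨g, hg⟩ : G) ^ n ∈ AG := Subgroup.pow_index_mem AG _
    have h2 : g ^ n ∈ A := by
      have := Subgroup.mem_subgroupOf.mp h1
      simpa only [Subgroup.coe_pow] using this
    have h3 : E = n * n ^ (t - 1) := by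
      rw [hE, ← pow_succ', Nat.sub_add_cancel ht0]
    change g ^ E ∈ A
    rw [h3, pow_mul]
    exact A.pow_mem h2 _
  · intro g hg h hh
    have h1 := Subtype.ext_iff.mp (hτ ⟨g, hg⟩ ⟨h, hh⟩)
    simpa only [Subgroup.coe_pow, Subgroup.coe_mul] using h1

end

section

variable {X : Type*} [Group X] [Fintype X]

/-- quotient solvable from the subgroup derived series -/
theorem isSolvable_quotient_of_dser_le (K L : Subgroup X) [hn : (L.subgroupOf K).Normal] {j : ℕ}
    (h : dser K j ≤ L) : Group.IsSolvable (K ⧸ L.subgroupOf K) := by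
  rw [Group.isSolvable_def]
  refine ⟨j, ?_⟩
  rw [← map_derivedSeries_eq (QuotientGroup.mk'_surjective (L.subgroupOf K)),
    Subgroup.map_eq_bot_iff, QuotientGroup.ker_mk']
  intro x hx
  rw [Subgroup.mem_subgroupOf]
  apply h
  have h3 : dser K j = (derivedSeries K j).map K.subtype := by
    rw [← dser_top, map_dser, ← MonoidHom.range_eq_map, Subgroup.range_subtype]
  rw [h3]
  exact ⟨x, hx, rfl⟩

/-- **Isaacs 13.31, central case.** -/
theorem central_case (G Z : Subgroup X) [hG : G.Normal] [Fintype G] (hZG : Z ≤ G)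
    (hZc : Z ≤ Subgroup.center X) (hcop : (G.index).Coprime (Z.relIndex G))
    (hsolv : (∃ j, dser (⊤ : Subgroup X) j ≤ G) ∨ (∃ j, dser G j ≤ Z))
    (ψ₀ : IrrCharacter G) :
    ∃ β : IrrCharacter G,
      (∀ z : Z, (β : G → ℂ) ⟨z, hZG z.2⟩ * (ψ₀ : G → ℂ) 1 =
        (ψ₀ : G → ℂ) ⟨z, hZG z.2⟩ * (β : G → ℂ) 1) ∧
      ∀ (x : X) (g : G), (β : G → ℂ) ⟨x * g * x⁻¹, hG.conj_mem g g.2 x⟩ = (β : G → ℂ) g := by
  classical
  set m := G.index with hm
  set k := Z.relIndex G with hk
  set A : Subgroup X := coprimePart Z hZc k with hA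
  have hAZ : A ≤ Z := coprimePart_le _ _ _
  have hAG : A ≤ G := hAZ.trans hZG
  have hAc : A ≤ Subgroup.center X := hAZ.trans hZc
  have hcomm : ∀ z ∈ Subgroup.center X, ∀ g : X, z * g = g * z := by
    intro z hz g
    exact (Subgroup.mem_center_iff.mp hz g).symm
  set a := Nat.card A with ha
  set r := A.relIndex Z with hr
  set n := A.relIndex G with hn
  have hnkr : r * k = n := Subgroup.relIndex_mul_relIndex A Z G hAZ hZG
  have hak : a.Coprime k := card_coprimePart_coprime Z hZc k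
  have hrk : ∀ p, p.Prime → p ∣ r → p ∣ k :=
    fun p hp h => dvd_of_dvd_relIndex_coprimePart Z hZc k hp h
  have har : a.Coprime r := coprime_of_prime_dvd hrk hak
  have han : a.Coprime n := by
    rw [← hnkr]
    exact Nat.Coprime.mul_right har hak
  have hmr : m.Coprime r := coprime_of_prime_dvd hrk hcop
  have hmn : m.Coprime n := by
    rw [← hnkr]
    exact Nat.Coprime.mul_right hmr hcop
  obtain ⟨t, ht0, hid, hmemA, hmul⟩ := exists_power_retraction G A hAG
    (fun z hz g _ => hcomm z (hAc hz) g) han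
  set E := n ^ t with hE
  have hEa : E.Coprime a := Nat.Coprime.pow_left t han.symm
  have hEm : E.Coprime m := Nat.Coprime.pow_left t hmn.symm
  -- the complement `M` of `A` in `G`
  let M : Subgroup X :=
    { carrier := {g | g ∈ G ∧ g ^ E = 1}
      one_mem' := ⟨G.one_mem, one_pow _⟩
      mul_mem' := by
        rintro g h ⟨hg, hg'⟩ ⟨hh, hh'⟩
        exact ⟨G.mul_mem hg hh, by rw [hmul g hg h hh, hg', hh', one_mul]⟩
      inv_mem' := by
        rintro g ⟨hg, hg'⟩
        exact ⟨G.inv_mem hg, by rw [inv_pow, hg', inv_one]⟩ }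
  have hMmem : ∀ g : X, g ∈ M ↔ g ∈ G ∧ g ^ E = 1 := fun g => Iff.rfl
  have hMG : M ≤ G := fun g hg => hg.1
  have hMn : M.Normal := by
    constructor
    intro g hg x
    refine ⟨hG.conj_mem g hg.1 x, ?_⟩
    rw [conj_pow, hg.2, mul_one, mul_inv_cancel]
  have hMpow : ∀ u : M, u ^ E = 1 := by
    intro u
    apply Subtype.ext
    rw [Subgroup.coe_pow]
    exact u.2.2
  have hMa : (Nat.card M).Coprime a := coprime_card_of_forall_pow_eq_one E a hEa hMpow
  have hMm : (Nat.card M).Coprime m := coprime_card_of_forall_pow_eq_one E m hEm hMpow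
  -- the retraction as a homomorphism
  let f : G →* A := MonoidHom.mk' (fun g => ⟨(g : X) ^ E, hmemA g g.2⟩) (by
    intro g h
    apply Subtype.ext
    exact hmul g g.2 h h.2)
  have hfker : f.ker = M.subgroupOf G := by
    ext g
    rw [MonoidHom.mem_ker, Subgroup.mem_subgroupOf, hMmem]
    constructor
    · intro h
      exact ⟨g.2, congrArg (fun w : A => (w : X)) h⟩
    · intro h
      apply Subtype.ext
      exact h.2
  have hMidx : (Nat.card M).Coprime M.index := by
    rw [← Subgroup.relIndex_mul_index hMG]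
    apply Nat.Coprime.mul_right _ hMm
    have h1 : M.relIndex G = Nat.card f.range := by
      rw [Subgroup.relIndex, ← hfker, Subgroup.index_ker]
    rw [h1]
    apply Nat.Coprime.symm
    apply coprime_card_of_forall_pow_eq_one a (Nat.card M) hMa.symm
    intro y
    apply Subtype.ext
    rw [Subgroup.coe_pow, Subgroup.coe_one]
    exact pow_card_eq_one'
  -- the Schur-Zassenhaus complement
  obtain ⟨S, hS⟩ := Subgroup.exists_right_complement'_of_coprime hMidx
  have hScard : M.index = Nat.card S := hS.symm.index_eq_card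
  have hMS : (Nat.card M).Coprime (Nat.card S) := by rw [← hScard]; exact hMidx
  have hXMS : ∀ x : X, ∃ u ∈ M, ∃ s ∈ S, x = u * s := by
    intro x
    have h1 : x ∈ ((M ⊔ S : Subgroup X) : Set X) := by
      rw [hS.sup_eq_top]
      trivial
    rw [Subgroup.normal_mul] at h1
    obtain ⟨u, hu, s, hs, rfl⟩ := h1
    exact ⟨u, hu, s, hs, rfl⟩
  -- the central subgroup of `M`
  set N' : Subgroup X := Z ⊓ M with hN'
  have hN'M : N' ≤ M := inf_le_right
  have hN'Z : N' ≤ Z := inf_le_left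
  have hN'G : N' ≤ G := hN'Z.trans hZG
  have hN'c : N' ≤ Subgroup.center X := hN'Z.trans hZc
  have : Fintype N' := Fintype.ofFinite _
  have : Fintype M := Fintype.ofFinite _
  have : Fintype A := Fintype.ofFinite _
  have hcG : ∀ z ∈ N', ∀ u ∈ G, z * u = u * z := fun z hz u _ => hcomm z (hN'c hz) u
  have hcM : ∀ z ∈ N', ∀ u ∈ M, z * u = u * z := fun z hz u _ => hcomm z (hN'c hz) u
  have hcA : ∀ z ∈ A, ∀ u ∈ G, z * u = u * z := fun z hz u _ => hcomm z (hAc hz) u
  set θ' : IrrCharacter N' := cIrr hN'G hcG ψ₀ with hθ'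
  have hnorm : ∀ s ∈ S, ∀ g ∈ M, s * g * s⁻¹ ∈ M := fun s _ g hg => hMn.conj_mem g hg s
  have hcconj : ∀ (x : X) (z : X), z ∈ Subgroup.center X → x * z * x⁻¹ = z := by
    intro x z hz
    rw [← hcomm z hz x, mul_inv_cancel_right]
  have hNS : ∀ s ∈ S, ∀ n ∈ N', s * n * s⁻¹ ∈ N' := by
    intro s _ n hn
    rw [hcconj s n (hN'c hn)]
    exact hn
  have hθinv : ∀ s ∈ S, ∀ g g' : N', (g' : X) = s * g * s⁻¹ →
      (θ' : N' → ℂ) g' = (θ' : N' → ℂ) g := by
    intro s _ g g' h
    rw [hcconj s g (hN'c g.2)] at h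
    rw [Subtype.ext h]
  -- the invariant character of `M`
  obtain ⟨χ, hχ1, hχ2⟩ : ∃ χ : IrrCharacter M,
      classInner (fun n : N' => (χ : M → ℂ) ⟨n, hN'M n.2⟩) (θ' : N' → ℂ) ≠ 0 ∧
      (∀ s ∈ S, ∀ g g' : M, (g' : X) = s * g * s⁻¹ → (χ : M → ℂ) g' = (χ : M → ℂ) g) := by
    rcases hsolv with ⟨j, hj⟩ | ⟨j, hj⟩
    · -- `S` is solvable
      have hGM : ⁅G, G⁆ ≤ M := by
        rw [Subgroup.commutator_le]
        intro g hg h hh
        refine ⟨?_, ?_⟩
        · exact G.mul_mem (G.mul_mem (G.mul_mem hg hh) (G.inv_mem hg)) (G.inv_mem hh)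
        · rw [commutatorElement_def, hmul _ (G.mul_mem (G.mul_mem hg hh) (G.inv_mem hg)) _
            (G.inv_mem hh), hmul _ (G.mul_mem hg hh) _ (G.inv_mem hg), hmul g hg h hh,
            inv_pow, inv_pow]
          have := hcomm _ (hAc (hmemA g hg)) (h ^ E)
          rw [this, mul_assoc (h ^ E), mul_inv_cancel, mul_one, mul_inv_cancel]
      have hXM : Group.IsSolvable (X ⧸ M) := by
        apply isSolvable_quotient_of_dser_top_le M (n := j + 1)
        rw [dser_succ]
        exact (Subgroup.commutator_mono hj hj).trans hGM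
      have hSsolv : Group.IsSolvable S := by
        let φ : S →* X ⧸ M := (QuotientGroup.mk' M).comp S.subtype
        have hφ : Function.Injective φ := by
          rw [injective_iff_map_eq_one]
          intro s hs
          have h1 : (s : X) ∈ M := (QuotientGroup.eq_one_iff (s : X)).mp hs
          have h2 : (s : X) ∈ M ⊓ S := ⟨h1, s.2⟩
          rw [hS.disjoint.eq_bot, Subgroup.mem_bot] at h2
          exact Subtype.ext h2
        exact Group.isSolvable_of_isSolvable_injective hφ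
      exact Cfsg.Agent.S4449.result M S N' hnorm hN'M
        (fun g _ n hn => by rw [hcconj g n (hN'c hn)]; exact hn) hNS hMS hSsolv θ' hθinv
    · -- `M / N'` is solvable
      have hNn : (N'.subgroupOf M).Normal := by
        constructor
        intro z hz u
        rw [Subgroup.mem_subgroupOf] at hz ⊢
        have : ((u * z * u⁻¹ : M) : X) = (u : X) * (z : X) * (u : X)⁻¹ := rfl
        rw [this, hcconj _ _ (hN'c hz)]
        exact hz
      have hsol : Group.IsSolvable (M ⧸ N'.subgroupOf M) := by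
        apply isSolvable_quotient_of_dser_le M N' (j := j)
        exact le_inf ((dser_mono hMG j).trans hj) (dser_le M j)
      have hc : (N'.relIndex M).Coprime (Nat.card S) :=
        Nat.Coprime.coprime_dvd_left (Subgroup.relIndex_dvd_card N' M) hMS
      exact Cfsg.Agent.S4448.result M S N' hnorm hN'M hNS hc hsol θ' hθinv
  -- central characters agree on `N'`
  have hθeq : θ' = cIrr hN'M hcM χ := eq_cIrr_of_over hN'M hcM χ θ' hχ1
  have hcent : ∀ n : N', ((cHom hN'G hcG ψ₀ n : ℂˣ) : ℂ) = ((cHom hN'M hcM χ n : ℂˣ) : ℂ) := by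
    intro n
    have := congrArg (fun φ : IrrCharacter N' => (φ : N' → ℂ) n) hθeq
    exact this
  -- the projection onto `M`
  have hρmem : ∀ g : G, ((g : X) ^ E)⁻¹ * (g : X) ∈ M := by
    intro g
    have hgE : (g : X) ^ E ∈ A := hmemA g g.2
    refine ⟨G.mul_mem (G.inv_mem (hAG hgE)) g.2, ?_⟩
    rw [hmul _ (G.inv_mem (hAG hgE)) _ g.2, inv_pow, hid _ hgE, inv_mul_cancel]
  let ρ : G →* M := MonoidHom.mk' (fun g => ⟨((g : X) ^ E)⁻¹ * (g : X), hρmem g⟩) (by
    intro g h
    apply Subtype.ext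
    have hgE : (g : X) ^ E ∈ A := hmemA g g.2
    have hhE : (h : X) ^ E ∈ A := hmemA h h.2
    change (((g * h : G) : X) ^ E)⁻¹ * ((g * h : G) : X) =
      (((g : X) ^ E)⁻¹ * (g : X)) * (((h : X) ^ E)⁻¹ * (h : X))
    rw [Subgroup.coe_mul, hmul g g.2 h h.2, mul_inv_rev]
    have h1 := hcomm _ (hAc (A.inv_mem hhE)) ((g : X))
    have h2 := hcomm _ (hAc (A.inv_mem hhE)) (((g : X) ^ E)⁻¹)
    calc ((h : X) ^ E)⁻¹ * ((g : X) ^ E)⁻¹ * ((g : X) * (h : X))
        = ((g : X) ^ E)⁻¹ * (((h : X) ^ E)⁻¹ * (g : X)) * (h : X) := by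
          rw [h2]; group
      _ = ((g : X) ^ E)⁻¹ * ((g : X) * ((h : X) ^ E)⁻¹) * (h : X) := by rw [h1]
      _ = _ := by group)
  have hρM : ∀ u : M, ρ ⟨(u : X), hMG u.2⟩ = u := by
    intro u
    apply Subtype.ext
    change ((u : X) ^ E)⁻¹ * (u : X) = (u : X)
    rw [u.2.2, inv_one, one_mul]
  have hρsurj : Function.Surjective ρ := fun u => ⟨⟨(u : X), hMG u.2⟩, hρM u⟩
  have hχρ : IsIrrCharacter G (fun g => (χ : M → ℂ) (ρ g)) :=
    Helper33.isIrrCharacter_comp_of_surjective ρ hρsurj χ.2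
  let ν₀ : G →* ℂˣ := (cHom hAG hcA ψ₀).comp f
  set β : IrrCharacter G := twistPerm ν₀ ⟨_, hχρ⟩ with hβ
  have hβv : ∀ g : G, (β : G → ℂ) g = (χ : M → ℂ) (ρ g) * ((cHom hAG hcA ψ₀ (f g) : ℂˣ) : ℂ) :=
    fun g => rfl
  have hψ1 : (ψ₀ : G → ℂ) 1 ≠ 0 := Helper83.irr_degree_ne_zero ψ₀
  have hχ10 : (χ : M → ℂ) 1 ≠ 0 := Helper83.irr_degree_ne_zero χ
  refine ⟨β, ?_, ?_⟩
  · intro z
    set zG : G := ⟨z, hZG z.2⟩ with hzG
    have hfz : ((f zG : A) : X) = (z : X) ^ E := rfl
    have hρz : ((ρ zG : M) : X) = ((z : X) ^ E)⁻¹ * (z : X) := rfl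
    have hρzN : ((ρ zG : M) : X) ∈ N' := by
      refine ⟨?_, (ρ zG).2⟩
      rw [hρz]
      exact Z.mul_mem (Z.inv_mem (hAZ (hmemA z (hZG z.2)))) z.2
    -- β 1
    have hβ1 : (β : G → ℂ) 1 = (χ : M → ℂ) 1 := by
      rw [hβv, map_one, map_one, map_one]
      simp
    -- χ at ρ z
    have h1 : (χ : M → ℂ) (ρ zG) = (χ : M → ℂ) 1 *
        ((ψ₀ : G → ℂ) ⟨((ρ zG : M) : X), hN'G hρzN⟩ / (ψ₀ : G → ℂ) 1) := by
      have e1 := irr_apply_central hN'M hcM χ ⟨((ρ zG : M) : X), hρzN⟩
      have e2 := hcent ⟨((ρ zG : M) : X), hρzN⟩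
      rw [← e2, cHom_apply] at e1
      exact e1
    -- ψ₀ at z
    have h2 : (ψ₀ : G → ℂ) zG = (ψ₀ : G → ℂ) ⟨((ρ zG : M) : X), hN'G hρzN⟩ *
        ((ψ₀ : G → ℂ) ⟨((f zG : A) : X), hAG (f zG).2⟩ / (ψ₀ : G → ℂ) 1) := by
      have e1 := irr_mul_central_pair hAG hcA ψ₀ ⟨((ρ zG : M) : X), hN'G hρzN⟩ (f zG)
      rw [← e1]
      refine congrArg (ψ₀ : G → ℂ) (Subtype.ext ?_)
      change (z : X) = ((ρ zG : M) : X) * ((f zG : A) : X)
      rw [hρz, hfz]
      have := hcomm _ (hAc (A.inv_mem (hmemA z (hZG z.2)))) (z : X)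
      rw [this, mul_assoc, inv_mul_cancel, mul_one]
    rw [hβv, hβ1, h1, h2, cHom_apply]
    field_simp
  · intro x g
    rw [hβv, hβv]
    have hgE : (g : X) ^ E ∈ A := hmemA g g.2
    have hfx : f ⟨x * g * x⁻¹, hG.conj_mem g g.2 x⟩ = f g := by
      apply Subtype.ext
      change (x * (g : X) * x⁻¹) ^ E = (g : X) ^ E
      rw [conj_pow, hcconj x _ (hAc hgE)]
    have hρx : ((ρ ⟨x * g * x⁻¹, hG.conj_mem g g.2 x⟩ : M) : X) = x * ((ρ g : M) : X) * x⁻¹ := by
      change ((x * (g : X) * x⁻¹) ^ E)⁻¹ * (x * (g : X) * x⁻¹) =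
        x * (((g : X) ^ E)⁻¹ * (g : X)) * x⁻¹
      rw [conj_pow]
      group
    rw [hfx]
    congr 1
    -- χ is invariant under `X = M S`
    obtain ⟨u₀, hu₀, s, hs, rfl⟩ := hXMS x
    set w : M := ⟨s * ((ρ g : M) : X) * s⁻¹, hnorm s hs _ (ρ g).2⟩ with hw
    have h1 : (χ : M → ℂ) w = (χ : M → ℂ) (ρ g) := hχ2 s hs (ρ g) w rfl
    have h2 : ρ ⟨u₀ * s * g * (u₀ * s)⁻¹, hG.conj_mem g g.2 (u₀ * s)⟩ =
        (⟨u₀, hu₀⟩ : M) * w * (⟨u₀, hu₀⟩ : M)⁻¹ := by
      apply Subtype.ext
      rw [hρx]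
      change u₀ * s * ((ρ g : M) : X) * (u₀ * s)⁻¹ = u₀ * (s * ((ρ g : M) : X) * s⁻¹) * u₀⁻¹
      group
    rw [h2, Helper83.char_conj_eq (Helper83.IrrCharacter_isCharacter χ), h1]

end

end Cfsg.Agent.Lib.Helper80
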