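import Mathlib
import Cfsg.Prelude.Def_Solvable
import Cfsg.Prelude.Def_Transfer
import Cfsg.Prelude.Def_CaseTheorems

/-!
# K-GS AS3 (S4840): a normal subgroup of `p`-power index without nontrivial `p`-elements is a
normal `p`-complement.
-/

set_option autoImplicit false

namespace Cfsg.Agent.Lib.Helper80.GS

universe u

variable {Γ : Type u} [Group Γ] [Finite Γ]

theorem hasNormalPComplement_of (p : ℕ) [Fact p.Prime] (K : Subgroup Γ) [K.Normal]
    (hidx : ∃ a : ℕ, K.index = p ^ a)
    (hK : ∀ x ∈ K, (∃ k : ℕ, x ^ (p ^ k) = 1) → x = 1) : Cfsg.HasNormalPComplement p Γ := by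
  classical
  have hp : p.Prime := Fact.out
  obtain ⟨a, ha⟩ := hidx
  obtain ⟨P⟩ : Nonempty (Sylow p Γ) := inferInstance
  refine ⟨P, K, inferInstance, ?_⟩
  -- `K ⊓ P = ⊥`
  have hdisj : Disjoint K (P : Subgroup Γ) := by
    rw [Subgroup.disjoint_def]
    intro x hxK hxP
    apply hK x hxK
    obtain ⟨k, hk⟩ := P.isPGroup' ⟨x, hxP⟩
    refine ⟨k, ?_⟩
    have := congrArg Subtype.val hk
    simpa using this
  -- `p ∤ |K|`
  have hcop : ¬ p ∣ Nat.card K := by
    intro hdvd
    have _ : Fintype K := Fintype.ofFinite K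
    rw [Nat.card_eq_fintype_card] at hdvd
    obtain ⟨x, hx⟩ := exists_prime_orderOf_dvd_card p hdvd
    have hx1 : (x : Γ) = 1 := by
      apply hK x x.2
      refine ⟨1, ?_⟩
      have : x ^ p = 1 := by rw [← hx]; exact pow_orderOf_eq_one x
      have := congrArg Subtype.val this
      simpa using this
    have : x = 1 := Subtype.ext hx1
    rw [this, orderOf_one] at hx
    exact hp.one_lt.ne hx
  -- cardinalities
  have hcard : Nat.card K * Nat.card (P : Subgroup Γ) = Nat.card Γ := by
    have h1 : Nat.card K * K.index = Nat.card Γ := K.card_mul_index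
    have h2 : Nat.card (P : Subgroup Γ) = p ^ (Nat.card Γ).factorization p := P.card_eq_multiplicity
    rw [h2, ← h1, ha]
    congr 1
    rw [Nat.factorization_mul (Nat.card_pos).ne' (pow_ne_zero _ hp.pos.ne')]
    rw [Finsupp.add_apply, Nat.factorization_eq_zero_of_not_dvd hcop]
    simp [hp.factorization_pow]
  exact Subgroup.isComplement'_of_card_mul_and_disjoint hcard hdisj

end Cfsg.Agent.Lib.Helper80.GS
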