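import Mathlib

/-!
# K-GAG leaf 483904 G04a `comm_of_conj` (helper80)
-/

set_option autoImplicit false

namespace Cfsg.Agent.Lib.Helper80.Gag

variable {G : Type*} [Group G] [Finite G]

/-- G04a (MEDIUM): `N` is abelian. -/
theorem comm_of_conj {p : ℕ} [Fact p.Prime] (N : Subgroup G) [N.Normal] (hNp : IsPGroup p N)
    (hconj : ∀ x ∈ N, ∀ y ∈ N, x ≠ 1 → y ≠ 1 → IsConj x y) :
    ∀ a ∈ N, ∀ b ∈ N, a * b = b * a := by
  intro a ha b hb
  by_cases ha1 : a = 1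
  · rw [ha1, one_mul, mul_one]
  haveI : Nontrivial N := ⟨⟨⟨a, ha⟩, 1, fun h => ha1 (congrArg Subtype.val h)⟩⟩
  haveI := hNp.center_nontrivial
  obtain ⟨z, hz1⟩ := exists_ne (1 : Subgroup.center N)
  have hzc : ∀ y : N, y * (z : N) = (z : N) * y := fun y => Subgroup.mem_center_iff.mp z.2 y
  have hzN : ((z : N) : G) ∈ N := (z : N).2
  have hz1' : ((z : N) : G) ≠ 1 := by
    intro h
    apply hz1
    apply Subtype.ext
    apply Subtype.ext
    exact h
  obtain ⟨g, hg⟩ := isConj_iff.mp (hconj _ hzN a ha hz1' ha1)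
  -- b' = g⁻¹ b g ∈ N commutes with z
  have hb' : g⁻¹ * b * g ∈ N := by
    have := Subgroup.Normal.conj_mem (inferInstance : N.Normal) b hb g⁻¹
    simpa using this
  have h1 := hzc ⟨g⁻¹ * b * g, hb'⟩
  have h2 : (g⁻¹ * b * g) * ((z : N) : G) = ((z : N) : G) * (g⁻¹ * b * g) :=
    congrArg Subtype.val h1
  rw [← hg]
  calc g * ((z : N) : G) * g⁻¹ * b = g * (((z : N) : G) * (g⁻¹ * b * g)) * g⁻¹ := by group
    _ = g * ((g⁻¹ * b * g) * ((z : N) : G)) * g⁻¹ := by rw [h2]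
    _ = b * (g * ((z : N) : G) * g⁻¹) := by group

end Cfsg.Agent.Lib.Helper80.Gag
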