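import Mathlib
import Cfsg.Agent.Lib.Helper80.BrolineGarrison

/-!
# Garrison's theorem (Isaacs 12.21) (helper80)

The upper Fitting series `fitSeries G k` of a group and, for a finite solvable group, the bound
`nilpotent length ≤ |cd(G)|`: `fitSeries G n = ⊤` as soon as `G` has at most `n` character degrees.
-/

set_option autoImplicit false
set_option linter.style.haveILetI false

namespace Cfsg.Agent.Lib.Helper80

open Cfsg

universe u

section

variable (G : Type u) [Group G]

/-- The upper Fitting series, bundled with normality. -/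
noncomputable def fitSeriesAux : ℕ → {H : Subgroup G // H.Normal}
  | 0 => ⟨⊥, inferInstance⟩
  | k + 1 =>
    haveI := (fitSeriesAux k).2
    ⟨(Cfsg.fittingSubgroup (G ⧸ (fitSeriesAux k).1)).comap (QuotientGroup.mk' (fitSeriesAux k).1),
      (Helper13.fittingSubgroup_normal).comap _⟩

/-- The upper Fitting series: `F₀ = 1`, `F_{k+1}/F_k = F(G/F_k)`. -/
noncomputable def fitSeries (k : ℕ) : Subgroup G := (fitSeriesAux G k).1

instance fitSeries_normal (k : ℕ) : (fitSeries G k).Normal := (fitSeriesAux G k).2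

theorem fitSeries_zero : fitSeries G 0 = ⊥ := rfl

theorem fitSeries_succ (k : ℕ) : fitSeries G (k + 1) =
    (Cfsg.fittingSubgroup (G ⧸ fitSeries G k)).comap (QuotientGroup.mk' (fitSeries G k)) := rfl

theorem fitSeries_le_succ (k : ℕ) : fitSeries G k ≤ fitSeries G (k + 1) := by
  rw [fitSeries_succ]
  intro x hx
  rw [Subgroup.mem_comap]
  have : (QuotientGroup.mk' (fitSeries G k)) x = 1 := by
    rw [QuotientGroup.mk'_apply, QuotientGroup.eq_one_iff]; exact hx
  rw [this]
  exact Subgroup.one_mem _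

theorem fitSeries_mono : Monotone (fitSeries G) := monotone_nat_of_le_succ (fitSeries_le_succ G)

variable {G}

/-- The quotients of the upper Fitting series are nilpotent. -/
theorem fitSeries_quotient_nilpotent [Finite G] (k : ℕ)
    (h : ((fitSeries G k).subgroupOf (fitSeries G (k + 1))).Normal) :
    Group.IsNilpotent (↥(fitSeries G (k + 1)) ⧸ (fitSeries G k).subgroupOf (fitSeries G (k + 1))) := by
  set B := fitSeries G k with hB
  set A := fitSeries G (k + 1) with hA
  have hFnil : Group.IsNilpotent (Cfsg.fittingSubgroup (G ⧸ B)) := Helper01.fitting_isNilpotent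
  -- the map `A → F(G/B)`
  let φ : A →* Cfsg.fittingSubgroup (G ⧸ B) :=
    ((QuotientGroup.mk' B).comp A.subtype).codRestrict _ (fun a => by
      have ha : (a : G) ∈ (Cfsg.fittingSubgroup (G ⧸ B)).comap (QuotientGroup.mk' B) := a.2
      exact ha)
  have hφ : ∀ x ∈ B.subgroupOf A, φ x = 1 := by
    intro x hx
    rw [Subgroup.mem_subgroupOf] at hx
    apply Subtype.ext
    show (QuotientGroup.mk' B) (x : G) = 1
    rw [QuotientGroup.mk'_apply, QuotientGroup.eq_one_iff]; exact hx
  let ψ : (A ⧸ B.subgroupOf A) →* Cfsg.fittingSubgroup (G ⧸ B) :=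
    QuotientGroup.lift (B.subgroupOf A) φ hφ
  have hψ : Function.Injective ψ := by
    rw [injective_iff_map_eq_one]
    intro q hq
    obtain ⟨a, rfl⟩ := QuotientGroup.mk_surjective q
    rw [QuotientGroup.eq_one_iff, Subgroup.mem_subgroupOf]
    have h1 : φ a = 1 := hq
    have h2 := congrArg Subtype.val h1
    have h3 : (QuotientGroup.mk' B) (a : G) = 1 := h2
    rw [QuotientGroup.mk'_apply, QuotientGroup.eq_one_iff] at h3
    exact h3
  have e : (A ⧸ B.subgroupOf A) ≃* ψ.range := MonoidHom.ofInjective hψ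
  have hr : Group.IsNilpotent ψ.range := inferInstance
  exact Group.nilpotent_of_mulEquiv e.symm

/-- A nontrivial finite solvable group has nontrivial Fitting subgroup. -/
theorem fitting_ne_bot [Finite G] [Group.IsSolvable G] [Nontrivial G] :
    Cfsg.fittingSubgroup G ≠ ⊥ := by
  intro h
  have h1 := Helper13.centralizer_fittingSubgroup_le (G := G)
  rw [h] at h1
  have h2 : (⊤ : Subgroup G) ≤ ⊥ := by
    refine le_trans ?_ h1
    intro x _
    rw [Subgroup.mem_centralizer_iff]
    intro y hy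
    have : y = 1 := by simpa using hy
    rw [this]; simp
  obtain ⟨x, hx⟩ := exists_ne (1 : G)
  exact hx (by simpa using h2 (Subgroup.mem_top x))

end

section

variable {G : Type u} [Group G]

/-- Key step of Garrison's theorem: if `F_{k+1} ≠ G`, then for every irreducible `χ` with
`F_{k+1} ≤ ker χ` there is an irreducible `ψ` of larger degree with `F_k ≤ ker ψ`. -/
theorem exists_larger_degree_of_fitSeries [Finite G] [Group.IsSolvable G] (k : ℕ)
    (hk : fitSeries G (k + 1) ≠ ⊤) (χ : IrrCharacter G)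
    (hχ : ∀ g ∈ fitSeries G (k + 1), (χ : G → ℂ) g = (χ : G → ℂ) 1) :
    ∃ ψ : IrrCharacter G, (∀ g ∈ fitSeries G k, (ψ : G → ℂ) g = (ψ : G → ℂ) 1) ∧
      charDegree (χ : G → ℂ) < charDegree (ψ : G → ℂ) := by
  classical
  set B := fitSeries G k with hB
  have hχB : ∀ g ∈ B, (χ : G → ℂ) g = (χ : G → ℂ) 1 := fun g hg =>
    hχ g (fitSeries_le_succ G k hg)
  set χb : IrrCharacter (G ⧸ B) := Helper83.irrDeflate B ⟨χ, hχB⟩ with hχb
  have hχbval : ∀ g : G, (χb : G ⧸ B → ℂ) (QuotientGroup.mk g) = (χ : G → ℂ) g := fun g =>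
    Helper83.irrDeflate_apply B ⟨χ, hχB⟩ g
  have hχbc := Helper83.IrrCharacter_isCharacter χb
  set Kb := Helper83.charKer hχbc with hKb
  have hKbmem : ∀ q : G ⧸ B, q ∈ Kb ↔ (χb : G ⧸ B → ℂ) q = (χb : G ⧸ B → ℂ) 1 := fun q =>
    Helper83.mem_charKer hχbc q
  have hFK : Cfsg.fittingSubgroup (G ⧸ B) ≤ Kb := by
    intro q hq
    obtain ⟨g, rfl⟩ := QuotientGroup.mk_surjective q
    rw [hKbmem]
    have hg : g ∈ fitSeries G (k + 1) := by
      rw [fitSeries_succ, Subgroup.mem_comap]; exact hq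
    have h1 : (1 : G ⧸ B) = QuotientGroup.mk (1 : G) := rfl
    rw [h1, hχbval, hχbval]
    exact hχ g hg
  have hFtop : Cfsg.fittingSubgroup (G ⧸ B) ≠ ⊤ := by
    intro h
    apply hk
    rw [fitSeries_succ, h]
    exact Subgroup.comap_top _
  have hcond : ¬ Kb ≤ Cfsg.fittingSubgroup (G ⧸ B) ∨
      (Kb = Cfsg.fittingSubgroup (G ⧸ B) ∧ Group.IsSolvable ((G ⧸ B) ⧸ Kb) ∧ Kb ≠ ⊤) := by
    by_cases hle : Kb ≤ Cfsg.fittingSubgroup (G ⧸ B)
    · right
      have heq : Kb = Cfsg.fittingSubgroup (G ⧸ B) := le_antisymm hle hFK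
      refine ⟨heq, inferInstance, ?_⟩
      rw [heq]; exact hFtop
    · left; exact hle
  obtain ⟨ψb, hdeg, -⟩ := broline_garrison χb Kb hKbmem hcond
  set ψ := Helper83.irrInflate B ψb with hψ
  have hψval : ∀ g : G, ((ψ.1 : IrrCharacter G) : G → ℂ) g = (ψb : G ⧸ B → ℂ) (QuotientGroup.mk g) :=
    fun g => Helper83.irrInflate_apply B ψb g
  refine ⟨ψ.1, ψ.2, ?_⟩
  have d1 : charDegree ((ψ.1 : IrrCharacter G) : G → ℂ) = charDegree (ψb : G ⧸ B → ℂ) := by
    unfold charDegree
    rw [hψval]; rfl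
  have d2 : charDegree (χb : G ⧸ B → ℂ) = charDegree (χ : G → ℂ) := by
    unfold charDegree
    have h1 : (1 : G ⧸ B) = QuotientGroup.mk (1 : G) := rfl
    rw [h1, hχbval]
  rw [d1, ← d2]
  exact hdeg

/-- **Garrison** (Isaacs 12.21): a finite solvable group with at most `n` irreducible character
degrees has nilpotent length at most `n`: the `n`-th term of the upper Fitting series is `G`. -/
theorem fitSeries_eq_top_of_card_degrees [Finite G] [Group.IsSolvable G] (n : ℕ)
    (hcd : Nat.card {d : ℕ // ∃ χ : IrrCharacter G, charDegree (χ : G → ℂ) = d} = n) :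
    fitSeries G n = ⊤ := by
  classical
  have : Fintype (IrrCharacter G) := Fintype.ofFinite _
  by_contra hn
  have hne : ∀ k ≤ n, fitSeries G k ≠ ⊤ := by
    intro k hk h
    apply hn
    rw [eq_top_iff, ← h]
    exact fitSeries_mono G hk
  -- the maximal degree over `F_k`
  let S : ℕ → Finset (IrrCharacter G) := fun k =>
    Finset.univ.filter (fun χ : IrrCharacter G =>
      ∀ g ∈ fitSeries G k, (χ : G → ℂ) g = (χ : G → ℂ) 1)
  have hSne : ∀ k, (S k).Nonempty := by
    intro k
    refine ⟨Helper83.trivChar G, ?_⟩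
    simp [S, Helper83.trivChar_apply]
  let d : ℕ → ℕ := fun k => (S k).sup' (hSne k) (fun χ => charDegree (χ : G → ℂ))
  have hdlt : ∀ k, k + 1 ≤ n → d (k + 1) < d k := by
    intro k hk
    obtain ⟨χ, hχS, hχd⟩ := Finset.exists_mem_eq_sup' (hSne (k + 1))
      (fun χ : IrrCharacter G => charDegree (χ : G → ℂ))
    have hχker : ∀ g ∈ fitSeries G (k + 1), (χ : G → ℂ) g = (χ : G → ℂ) 1 :=
      (Finset.mem_filter.mp hχS).2
    obtain ⟨ψ, hψker, hψdeg⟩ := exists_larger_degree_of_fitSeries k (hne (k + 1) hk) χ hχker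
    have hψS : ψ ∈ S k := Finset.mem_filter.mpr ⟨Finset.mem_univ _, hψker⟩
    have h1 : charDegree (ψ : G → ℂ) ≤ d k :=
      Finset.le_sup' (fun χ : IrrCharacter G => charDegree (χ : G → ℂ)) hψS
    show d (k + 1) < d k
    calc d (k + 1) = charDegree (χ : G → ℂ) := hχd
      _ < charDegree (ψ : G → ℂ) := hψdeg
      _ ≤ d k := h1
  have hdmem : ∀ k, ∃ χ : IrrCharacter G, charDegree (χ : G → ℂ) = d k := by
    intro k
    obtain ⟨χ, -, hχd⟩ := Finset.exists_mem_eq_sup' (hSne k)
      (fun χ : IrrCharacter G => charDegree (χ : G → ℂ))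
    exact ⟨χ, hχd.symm⟩
  let f : Fin (n + 1) → {d : ℕ // ∃ χ : IrrCharacter G, charDegree (χ : G → ℂ) = d} :=
    fun i => ⟨d i, hdmem i⟩
  have hanti : StrictAnti (fun i : Fin (n + 1) => d i) := by
    rw [Fin.strictAnti_iff_succ_lt]
    intro i
    have := hdlt i (by omega)
    simpa using this
  have hf : Function.Injective f := by
    intro i j hij
    apply hanti.injective
    exact congrArg Subtype.val hij
  have hfin : Finite {d : ℕ // ∃ χ : IrrCharacter G, charDegree (χ : G → ℂ) = d} := by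
    apply Finite.of_surjective
      (fun χ : IrrCharacter G =>
        (⟨charDegree (χ : G → ℂ), χ, rfl⟩ :
          {d : ℕ // ∃ χ : IrrCharacter G, charDegree (χ : G → ℂ) = d}))
    rintro ⟨d, χ, rfl⟩
    exact ⟨χ, rfl⟩
  have := Nat.card_le_card_of_injective f hf
  rw [hcd, Nat.card_fin] at this
  omega

end

end Cfsg.Agent.Lib.Helper80
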