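import Mathlib
import Cfsg.Agent.Lib.Helper18.Jordan
import Cfsg.Agent.Lib.Helper71.JordanBox
import Cfsg.Agent.Lib.Helper75.JordanDual

/-! Jordan's theorem (S4470): the pigeonhole step for abelian groups of unitary matrices. -/

set_option autoImplicit false
open scoped Matrix.Norms.L2Operator ComplexOrder
open Matrix

namespace Cfsg.Agent.Lib.Helper80.JordanAb

universe u

/-- square matrices -/
abbrev Mat (n : ℕ) := Matrix (Fin n) (Fin n) ℂ

variable {n : ℕ}

theorem norm_sum_smul_le {ι : Type*} [Fintype ι] [DecidableEq ι] {n : ℕ}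
    (e : ι → Matrix (Fin n) (Fin n) ℂ) (hherm : ∀ i, (e i)ᴴ = e i)
    (horth : ∀ i j, e i * e j = if i = j then e i else 0) (hsum : ∑ i, e i = 1)
    (c : ι → ℂ) (r : ℝ) (hr : 0 ≤ r) (hc : ∀ i, e i ≠ 0 → ‖c i‖ ≤ r) :
    ‖∑ i, c i • e i‖ ≤ r :=
  Cfsg.Agent.Lib.Helper18.Jordan.norm_sum_smul_le e hherm horth hsum c r hr hc

theorem exists_box : ∃ box : ℂ → Fin 12, ∀ z w : ℂ, ‖z‖ = 1 → ‖w‖ = 1 → box z = box w →
    ‖1 - w / z‖ ^ 2 < 2 - Real.sqrt 3 :=
  Cfsg.Agent.Lib.Helper71.Jordan.exists_box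

theorem dual_orthogonality {H : Type*} [CommGroup H] [Fintype H] [Fintype (H →* ℂˣ)]
    [DecidableEq H] [DecidableEq (H →* ℂˣ)] :
    (∀ β γ : H →* ℂˣ, ∑ h : H, ((β h : ℂ))⁻¹ * (γ h : ℂ) = if β = γ then (Fintype.card H : ℂ) else 0) ∧
    (∀ h : H, ∑ β : H →* ℂˣ, (β h : ℂ) = if h = 1 then (Fintype.card H : ℂ) else 0) ∧
    (∀ (β : H →* ℂˣ) (h : H), ‖(β h : ℂ)‖ = 1) :=
  Cfsg.Agent.Lib.Helper75.Jordan.dual_orthogonality

section KC

variable {H : Type u} [CommGroup H] [Fintype H]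

/-- the projection onto the `β`-isotypic part -/
noncomputable def proj (U : H →* Mat n) (β : H →* ℂˣ) : Mat n :=
  ((Fintype.card H : ℂ))⁻¹ • ∑ h : H, ((β h : ℂ))⁻¹ • U h

theorem map_mul_proj (U : H →* Mat n) (β : H →* ℂˣ) (k : H) :
    U k * proj U β = (β k : ℂ) • proj U β := by
  unfold proj
  rw [mul_smul_comm, smul_comm ((β k : ℂˣ) : ℂ) ((Fintype.card H : ℂ))⁻¹]
  congr 1
  rw [Finset.mul_sum, Finset.smul_sum]
  refine Fintype.sum_equiv (Equiv.mulLeft k) _ _ (fun h => ?_)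
  simp only [Equiv.coe_mulLeft, mul_smul_comm, ← map_mul U, smul_smul]
  congr 1
  have : ((β k : ℂˣ) : ℂ) ≠ 0 := Units.ne_zero _
  rw [map_mul β, Units.val_mul]
  field_simp

omit [Fintype H] in
theorem conjTranspose_eq_map_inv (U : H →* Mat n)
    (hU : ∀ g, (U g)ᴴ * U g = 1) (g : H) : (U g)ᴴ = U g⁻¹ := by
  have h1 : U g * U g⁻¹ = 1 := by rw [← map_mul, mul_inv_cancel, map_one]
  calc (U g)ᴴ = (U g)ᴴ * (U g * U g⁻¹) := by rw [h1, mul_one]
    _ = U g⁻¹ := by rw [← mul_assoc, hU, one_mul]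

variable [Fintype (H →* ℂˣ)] [DecidableEq H] [DecidableEq (H →* ℂˣ)]

theorem proj_mul_proj (U : H →* Mat n) (β γ : H →* ℂˣ) :
    proj U β * proj U γ = if β = γ then proj U β else 0 := by
  have key : proj U β * proj U γ
      = ((Fintype.card H : ℂ))⁻¹ • ((∑ h : H, ((β h : ℂ))⁻¹ * (γ h : ℂ)) • proj U γ) := by
    have e1 : proj U β = ((Fintype.card H : ℂ))⁻¹ • ∑ h : H, ((β h : ℂ))⁻¹ • U h := rfl
    rw [e1, smul_mul_assoc, Finset.sum_mul, Finset.sum_smul]
    congr 1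
    refine Finset.sum_congr rfl (fun h _ => ?_)
    rw [smul_mul_assoc, map_mul_proj, smul_smul]
  rw [key, (dual_orthogonality (H := H)).1 β γ]
  have hcard : (Fintype.card H : ℂ) ≠ 0 := by
    exact_mod_cast Fintype.card_ne_zero
  split_ifs with h
  · subst h
    rw [smul_smul, inv_mul_cancel₀ hcard, one_smul]
  · rw [zero_smul, smul_zero]

theorem sum_proj (U : H →* Mat n) : ∑ β : H →* ℂˣ, proj U β = 1 := by
  have hcard : (Fintype.card H : ℂ) ≠ 0 := by
    exact_mod_cast Fintype.card_ne_zero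
  unfold proj
  rw [← Finset.smul_sum, Finset.sum_comm]
  have : ∀ h : H, ∑ β : H →* ℂˣ, ((β h : ℂ))⁻¹ • U h
      = (if h = 1 then (Fintype.card H : ℂ) else 0) • U h := by
    intro h
    rw [← Finset.sum_smul]
    congr 1
    have := (dual_orthogonality (H := H)).2.1 h⁻¹
    simp only [inv_eq_one] at this
    rw [← this]
    refine Finset.sum_congr rfl (fun β _ => ?_)
    rw [map_inv, Units.val_inv_eq_inv_val]
  rw [Finset.sum_congr rfl (fun h _ => this h)]
  simp only [ite_smul, zero_smul, Finset.sum_ite_eq', Finset.mem_univ, if_true, map_one]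
  rw [smul_smul, inv_mul_cancel₀ hcard, one_smul]

theorem proj_herm (U : H →* Mat n) (hU : ∀ g, (U g)ᴴ * U g = 1) (β : H →* ℂˣ) :
    (proj U β)ᴴ = proj U β := by
  unfold proj
  rw [conjTranspose_smul, conjTranspose_sum]
  congr 1
  · simp
  · refine Fintype.sum_equiv (Equiv.inv H) _ _ (fun h => ?_)
    rw [conjTranspose_smul, conjTranspose_eq_map_inv U hU, Equiv.inv_apply, map_inv β h,
      Units.val_inv_eq_inv_val, inv_inv]
    congr 1
    have h1 := (dual_orthogonality (H := H)).2.2 β h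
    rw [Complex.inv_eq_conj h1]
    simp

theorem map_eq_sum (U : H →* Mat n) (k : H) :
    U k = ∑ β : H →* ℂˣ, (β k : ℂ) • proj U β := by
  calc U k = U k * ∑ β : H →* ℂˣ, proj U β := by rw [sum_proj, mul_one]
    _ = ∑ β : H →* ℂˣ, (β k : ℂ) • proj U β := by
      rw [Finset.mul_sum]
      exact Finset.sum_congr rfl (fun β _ => map_mul_proj U β k)

theorem card_support_le (U : H →* Mat n) :
    Fintype.card {β : H →* ℂˣ // proj U β ≠ 0} ≤ n := by
  classical
  have hex : ∀ β : {β : H →* ℂˣ // proj U β ≠ 0}, ∃ j : Fin n,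
      (proj U β.1) *ᵥ (Pi.single j 1) ≠ 0 := by
    intro β
    by_contra hcon
    push Not at hcon
    apply β.2
    ext i j
    have := congrFun (hcon j) i
    simpa using this
  choose j hj using hex
  let v : {β : H →* ℂˣ // proj U β ≠ 0} → (Fin n → ℂ) :=
    fun β => (proj U β.1) *ᵥ (Pi.single (j β) 1)
  have hv : ∀ γ β : {β : H →* ℂˣ // proj U β ≠ 0},
      (proj U γ.1) *ᵥ (v β) = if γ = β then v β else 0 := by
    intro γ β
    change (proj U γ.1) *ᵥ ((proj U β.1) *ᵥ (Pi.single (j β) 1)) = _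
    rw [Matrix.mulVec_mulVec, proj_mul_proj]
    by_cases h : γ = β
    · subst h
      rw [if_pos rfl, if_pos rfl]
    · have : γ.1 ≠ β.1 := fun h' => h (Subtype.ext h')
      rw [if_neg this, if_neg h, Matrix.zero_mulVec]
  have hli : LinearIndependent ℂ v := by
    rw [linearIndependent_iff']
    intro s g hsum γ hγ
    have h1 := congrArg (fun w => (proj U γ.1) *ᵥ w) hsum
    simp only [Matrix.mulVec_sum, Matrix.mulVec_smul, hv, Matrix.mulVec_zero] at h1
    rw [Finset.sum_eq_single γ] at h1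
    · simp only [if_true] at h1
      rcases smul_eq_zero.mp h1 with h | h
      · exact h
      · exact absurd h (hj γ)
    · intro b _ hb
      simp [Ne.symm hb]
    · intro h; exact absurd hγ h
  have := hli.fintype_card_le_finrank
  simpa using this

/-- K-C -/
theorem abelian_box (U : H →* Mat n) (hU : ∀ h, (U h)ᴴ * U h = 1) :
    ∃ (ι : Type u) (_ : Fintype ι) (f : H → ι), Fintype.card ι ≤ 12 ^ n ∧
      ∀ h k, f h = f k → ‖1 - U (h⁻¹ * k)‖ ^ 2 < 2 - √3 := by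
  classical
  obtain ⟨box, hbox⟩ := exists_box
  refine ⟨{β : H →* ℂˣ // proj U β ≠ 0} → Fin 12, inferInstance,
    fun h β => box (β.1 h : ℂ), ?_, ?_⟩
  · rw [Fintype.card_fun, Fintype.card_fin]
    exact Nat.pow_le_pow_right (by norm_num) (card_support_le U)
  · intro h k hfk
    have h3 : (0:ℝ) < 2 - √3 := by
      have : √3 < 2 := by
        rw [show (2:ℝ) = √4 by
          rw [show (4:ℝ) = 2 ^ 2 by norm_num]; exact (Real.sqrt_sq (by norm_num)).symm]
        exact Real.sqrt_lt_sqrt (by norm_num) (by norm_num)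
      linarith
    have hnorm := (dual_orthogonality (H := H)).2.2
    have hβ : ∀ β : H →* ℂˣ, proj U β ≠ 0 → ‖1 - (β (h⁻¹ * k) : ℂ)‖ ^ 2 < 2 - √3 := by
      intro β hβ0
      have h1 := congrFun hfk ⟨β, hβ0⟩
      have h2 := hbox _ _ (hnorm β h) (hnorm β k) h1
      have : ((β (h⁻¹ * k) : ℂˣ) : ℂ) = (β k : ℂ) / (β h : ℂ) := by
        rw [map_mul, map_inv, Units.val_mul, Units.val_inv_eq_inv_val, div_eq_inv_mul]
      rw [this]; exact h2
    have hdecomp : 1 - U (h⁻¹ * k)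
        = ∑ β : H →* ℂˣ, (1 - (β (h⁻¹ * k) : ℂ)) • proj U β := by
      simp only [sub_smul, one_smul, Finset.sum_sub_distrib]
      rw [sum_proj, ← map_eq_sum]
    -- the bound r
    obtain ⟨r, hr0, hr2, hr⟩ : ∃ r : ℝ, 0 ≤ r ∧ r ^ 2 < 2 - √3 ∧
        ∀ β : H →* ℂˣ, proj U β ≠ 0 → ‖1 - (β (h⁻¹ * k) : ℂ)‖ ≤ r := by
      by_cases hne : (Finset.univ.filter (fun β : H →* ℂˣ => proj U β ≠ 0)).Nonempty
      · obtain ⟨β₀, hβ₀, hmax⟩ := Finset.exists_max_image _
          (fun β : H →* ℂˣ => ‖1 - (β (h⁻¹ * k) : ℂ)‖) hne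
        refine ⟨‖1 - (β₀ (h⁻¹ * k) : ℂ)‖, norm_nonneg _, hβ β₀ (Finset.mem_filter.mp hβ₀).2, ?_⟩
        intro β hβ0
        exact hmax β (Finset.mem_filter.mpr ⟨Finset.mem_univ _, hβ0⟩)
      · refine ⟨0, le_refl _, by simpa using h3, ?_⟩
        intro β hβ0
        exact absurd ⟨β, Finset.mem_filter.mpr ⟨Finset.mem_univ _, hβ0⟩⟩ hne
    have hKE := norm_sum_smul_le (fun β : H →* ℂˣ => proj U β) (proj_herm U hU)
      (proj_mul_proj U) (sum_proj U) (fun β => 1 - (β (h⁻¹ * k) : ℂ)) r hr0 hr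
    rw [hdecomp]
    calc ‖∑ β : H →* ℂˣ, (1 - (β (h⁻¹ * k) : ℂ)) • proj U β‖ ^ 2 ≤ r ^ 2 :=
          pow_le_pow_left₀ (norm_nonneg _) hKE 2
      _ < 2 - √3 := hr2

end KC

end Cfsg.Agent.Lib.Helper80.JordanAb
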