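import Mathlib
import Cfsg.Agent.Lib.Helper18.Jordan

/-! Core of Jordan's theorem (S4470): unitary matrices close to 1 in a finite group commute. -/

set_option autoImplicit false
open scoped Matrix.Norms.L2Operator ComplexOrder
open Matrix

namespace Cfsg.Agent.Lib.Helper80.Jordan

/-- square matrices -/
abbrev Mat (n : ℕ) := Matrix (Fin n) (Fin n) ℂ

variable {n : ℕ}

theorem norm_trace_conj_le (X W : Mat n) :
    ‖(Wᴴ * X * W).trace‖ ≤ ‖X‖ * (Wᴴ * W).trace.re :=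
  Cfsg.Agent.Lib.Helper18.Jordan.norm_trace_conj_le X W

theorem mem_unitary_of (A : Mat n) (h : Aᴴ * A = 1) : A ∈ unitary (Mat n) :=
  ⟨h, mul_eq_one_comm.mp h⟩

theorem norm_unitary_mul (A X : Mat n) (h : Aᴴ * A = 1) : ‖A * X‖ = ‖X‖ :=
  CStarRing.norm_mem_unitary_mul X (mem_unitary_of A h)

theorem norm_mul_unitary (A X : Mat n) (h : Aᴴ * A = 1) : ‖X * A‖ = ‖X‖ :=
  CStarRing.norm_mul_mem_unitary X (mem_unitary_of A h)

theorem norm_one_le_one : ‖(1 : Mat n)‖ ≤ 1 := by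
  rcases subsingleton_or_nontrivial (Mat n) with h | h
  · have : (1 : Mat n) = 0 := Subsingleton.elim _ _
    rw [this, norm_zero]; exact zero_le_one
  · exact le_of_eq CStarRing.norm_one

/-- (B2) -/
theorem norm_sub_scalar_sq_le (A : Mat n) (h : Aᴴ * A = 1) (s : ℝ) (hs0 : 0 ≤ s) :
    ‖A - (s : ℂ) • (1 : Mat n)‖ ^ 2 ≤ (1 - s) ^ 2 + s * ‖1 - A‖ ^ 2 := by
  have hid : (A - (s : ℂ) • (1 : Mat n))ᴴ * (A - (s : ℂ) • (1 : Mat n))
      = (((1 - s) ^ 2 : ℝ) : ℂ) • (1 : Mat n) + (s : ℂ) • ((1 - A)ᴴ * (1 - A)) := by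
    simp only [conjTranspose_sub, conjTranspose_smul, conjTranspose_one, sub_mul, mul_sub,
      smul_mul_assoc, mul_smul_comm, one_mul, mul_one, h, Complex.star_def, Complex.conj_ofReal]
    push_cast
    module
  have h1 : ‖A - (s : ℂ) • (1 : Mat n)‖ ^ 2
      = ‖(A - (s : ℂ) • (1 : Mat n))ᴴ * (A - (s : ℂ) • (1 : Mat n))‖ := by
    rw [l2_opNorm_conjTranspose_mul_self, sq]
  have h2 : ‖1 - A‖ ^ 2 = ‖(1 - A)ᴴ * (1 - A)‖ := by
    rw [l2_opNorm_conjTranspose_mul_self, sq]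
  rw [h1, hid, h2]
  refine (norm_add_le _ _).trans ?_
  rw [norm_smul, norm_smul, Complex.norm_real, Complex.norm_real, Real.norm_of_nonneg hs0,
    Real.norm_of_nonneg (sq_nonneg _)]
  have := norm_one_le_one (n := n)
  nlinarith [sq_nonneg (1 - s)]

/-- (B2) numeric form. -/
theorem norm_sub_half_lt (A : Mat n) (h : Aᴴ * A = 1) (hA : ‖1 - A‖ ^ 2 < 2 - √3) :
    ‖A - ((√3 / 2 : ℝ) : ℂ) • (1 : Mat n)‖ < 1 / 2 := by
  have h3 : (0:ℝ) < √3 := Real.sqrt_pos.mpr (by norm_num)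
  have h3' : √3 * √3 = 3 := Real.mul_self_sqrt (by norm_num)
  have hle := norm_sub_scalar_sq_le A h (√3 / 2) (by positivity)
  have hlt : ‖A - ((√3 / 2 : ℝ) : ℂ) • (1 : Mat n)‖ ^ 2 < (1 / 2) ^ 2 := by
    nlinarith
  exact lt_of_pow_lt_pow_left₀ 2 (by norm_num) hlt

/-- (B1) -/
theorem norm_comm_le {G : Type*} [Group G] (U : G →* Mat n) (hU : ∀ g, (U g)ᴴ * U g = 1)
    (a b : G) (s : ℂ) :
    ‖1 - U (a * b * a⁻¹ * b⁻¹)‖ ≤ 2 * ‖U a - s • (1 : Mat n)‖ * ‖1 - U b‖ := by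
  have h1 : ‖1 - U (a * b * a⁻¹ * b⁻¹)‖ = ‖(1 - U (a * b * a⁻¹ * b⁻¹)) * U (b * a)‖ :=
    (norm_mul_unitary _ _ (hU _)).symm
  have h2 : (1 - U (a * b * a⁻¹ * b⁻¹)) * U (b * a) = U b * U a - U a * U b := by
    rw [sub_mul, one_mul, ← map_mul, ← map_mul, ← map_mul]
    congr 2
    group
  have h3 : U b * U a - U a * U b
      = (U b - 1) * (U a - s • (1 : Mat n)) - (U a - s • (1 : Mat n)) * (U b - 1) := by
    simp only [sub_mul, mul_sub, smul_mul_assoc, mul_smul_comm, one_mul, mul_one]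
    module
  rw [h1, h2, h3]
  refine (norm_sub_le _ _).trans ?_
  have e1 := norm_mul_le (U b - 1) (U a - s • (1 : Mat n))
  have e2 := norm_mul_le (U a - s • (1 : Mat n)) (U b - 1)
  rw [norm_sub_rev (U b) 1] at e1 e2
  nlinarith

theorem conjTranspose_eq_map_inv {G : Type*} [Group G] (U : G →* Mat n)
    (hU : ∀ g, (U g)ᴴ * U g = 1) (g : G) : (U g)ᴴ = U g⁻¹ := by
  have h1 : U g * U g⁻¹ = 1 := by rw [← map_mul, mul_inv_cancel, map_one]
  calc (U g)ᴴ = (U g)ᴴ * (U g * U g⁻¹) := by rw [h1, mul_one]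
    _ = U g⁻¹ := by rw [← mul_assoc, hU, one_mul]

theorem trace_map_conj {G : Type*} [Group G] (U : G →* Mat n) (x g : G) :
    (U (x * g * x⁻¹)).trace = (U g).trace := by
  rw [map_mul, map_mul, Matrix.trace_mul_comm, ← mul_assoc, ← map_mul, inv_mul_cancel, map_one,
    one_mul]

/-- (B3) -/
theorem comm_eq_one_of_central {G : Type*} [Group G] (U : G →* Mat n)
    (hU : ∀ g, (U g)ᴴ * U g = 1) (hinj : Function.Injective U) (a b c : G)
    (hc : c = a * b * a⁻¹ * b⁻¹) (hca : c * a = a * c) (hcb : c * b = b * c)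
    (hA : ‖1 - U a‖ < 1) : c = 1 := by
  obtain ⟨W, hW⟩ : ∃ W : Mat n, W = 1 - U c := ⟨_, rfl⟩
  have hWH : Wᴴ = 1 - U c⁻¹ := by
    rw [hW, conjTranspose_sub, conjTranspose_one, conjTranspose_eq_map_inv U hU]
  -- traces
  have t1 : (U (a * c)).trace = (U a).trace := by
    have : a * c = b⁻¹ * a * b⁻¹⁻¹ := by
      calc a * c = c * a := hca.symm
        _ = b⁻¹ * (b * c) * a := by group
        _ = b⁻¹ * (c * b) * a := by rw [hcb]
        _ = b⁻¹ * a * b⁻¹⁻¹ := by rw [hc]; group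
    rw [this, trace_map_conj]
  have t2 : (U (a * c⁻¹)).trace = (U a).trace := by
    have : a * c⁻¹ = b * a * b⁻¹ := by
      calc a * c⁻¹ = c⁻¹ * (c * a) * c⁻¹ := by group
        _ = c⁻¹ * (a * c) * c⁻¹ := by rw [hca]
        _ = c⁻¹ * a := by group
        _ = b * a * b⁻¹ := by rw [hc]; group
    rw [this, trace_map_conj]
  have hWW : W * Wᴴ = 2 • (1 : Mat n) - U c - U c⁻¹ := by
    rw [hWH, hW, sub_mul, mul_sub, mul_sub, one_mul, mul_one, one_mul, ← map_mul, mul_inv_cancel,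
      map_one]
    abel
  have t3 : (Wᴴ * U a * W).trace = 0 := by
    rw [mul_assoc, Matrix.trace_mul_comm, mul_assoc, hWW, mul_sub, mul_sub, ← map_mul, ← map_mul,
      trace_sub, trace_sub, t1, t2, mul_smul_comm, mul_one, trace_smul]
    simp [two_smul]
  have t4 : (Wᴴ * W).trace = (Wᴴ * (1 - U a) * W).trace := by
    rw [mul_sub, sub_mul, trace_sub, t3, sub_zero, mul_one]
  have hpos : 0 ≤ (Wᴴ * W).trace := (Matrix.posSemidef_conjTranspose_mul_self W).trace_nonneg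
  rw [Complex.nonneg_iff] at hpos
  have hKD := norm_trace_conj_le (1 - U a) W
  rw [← t4] at hKD
  have hre : (Wᴴ * W).trace.re ≤ ‖(Wᴴ * W).trace‖ := Complex.re_le_norm _
  have hz : (Wᴴ * W).trace.re = 0 := by
    by_contra hne
    have hp : 0 < (Wᴴ * W).trace.re := lt_of_le_of_ne hpos.1 (Ne.symm hne)
    nlinarith
  have hW0 : W = 0 := by
    apply Matrix.trace_conjTranspose_mul_self_eq_zero_iff.mp
    apply Complex.ext
    · simpa using hz
    · simpa using hpos.2.symm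
  have : U c = U 1 := by
    rw [map_one]
    rw [hW] at hW0
    exact (sub_eq_zero.mp hW0).symm
  exact hinj this

/-- K-B: elements of a finite unitary group that are close to 1 commute. -/
theorem commute_of_small {G : Type*} [Group G] [Finite G] (U : G →* Mat n)
    (hU : ∀ g, (U g)ᴴ * U g = 1) (hinj : Function.Injective U) (a b : G)
    (ha : ‖1 - U a‖ ^ 2 < 2 - √3) (hb : ‖1 - U b‖ ^ 2 < 2 - √3) : a * b = b * a := by
  by_contra hab
  have h3 : (1:ℝ) < √3 := by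
    rw [show (1:ℝ) = √1 by simp]
    exact Real.sqrt_lt_sqrt (by norm_num) (by norm_num)
  let P : Set (G × G) :=
    {p | ‖1 - U p.1‖ ^ 2 < 2 - √3 ∧ ‖1 - U p.2‖ ^ 2 < 2 - √3 ∧ p.1 * p.2 ≠ p.2 * p.1}
  have hPne : P.Nonempty := ⟨(a, b), ha, hb, hab⟩
  obtain ⟨⟨a₀, b₀⟩, ⟨ha₀, hb₀, hab₀⟩, hmin⟩ :=
    Set.exists_min_image P (fun p => ‖1 - U p.2‖) (Set.toFinite P) hPne
  simp only at ha₀ hb₀ hab₀
  obtain ⟨c, hc⟩ : ∃ c : G, c = a₀ * b₀ * a₀⁻¹ * b₀⁻¹ := ⟨_, rfl⟩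
  have hbpos : 0 < ‖1 - U b₀‖ := by
    rw [norm_pos_iff]
    intro h0
    have h1 : U b₀ = U 1 := by rw [map_one]; exact (sub_eq_zero.mp h0).symm
    have h2 := hinj h1
    apply hab₀
    rw [h2, mul_one, one_mul]
  have hclt : ‖1 - U c‖ < ‖1 - U b₀‖ := by
    have h1 := norm_comm_le U hU a₀ b₀ ((√3 / 2 : ℝ) : ℂ)
    have h2 := norm_sub_half_lt (U a₀) (hU a₀) ha₀
    rw [← hc] at h1
    nlinarith [norm_nonneg (U a₀ - ((√3 / 2 : ℝ) : ℂ) • (1 : Mat n))]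
  have hcS : ‖1 - U c‖ ^ 2 < 2 - √3 := by
    have : ‖1 - U c‖ ^ 2 < ‖1 - U b₀‖ ^ 2 :=
      pow_lt_pow_left₀ hclt (norm_nonneg _) (by norm_num)
    linarith
  have hca : c * a₀ = a₀ * c := by
    by_contra hne
    have := hmin (a₀, c) ⟨ha₀, hcS, fun h => hne h.symm⟩
    simp only at this
    linarith
  have hcb : c * b₀ = b₀ * c := by
    by_contra hne
    have := hmin (b₀, c) ⟨hb₀, hcS, fun h => hne h.symm⟩
    simp only at this
    linarith
  have hA : ‖1 - U a₀‖ < 1 := by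
    have : ‖1 - U a₀‖ ^ 2 < 1 ^ 2 := by linarith
    exact lt_of_pow_lt_pow_left₀ 2 (by norm_num) this
  have hc1 := comm_eq_one_of_central U hU hinj a₀ b₀ c hc hca hcb hA
  apply hab₀
  rw [hc] at hc1
  calc a₀ * b₀ = (a₀ * b₀ * a₀⁻¹ * b₀⁻¹) * (b₀ * a₀) := by group
    _ = b₀ * a₀ := by rw [hc1, one_mul]

end Cfsg.Agent.Lib.Helper80.Jordan
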