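import Cfsg.Agent.Lib.Helper80.JordanCore
import Cfsg.Agent.Lib.Helper80.JordanAbelian
import Cfsg.Agent.Lib.Helper97.Jordan

/-! Jordan's theorem (S4470) for finite groups of unitary matrices. -/

set_option autoImplicit false
open scoped Matrix.Norms.L2Operator ComplexOrder
open Matrix

namespace Cfsg.Agent.Lib.Helper80.Jordan

universe u

variable {n : ℕ}

theorem exists_unitary_hom {G : Type*} [Group G] [Finite G] {n : ℕ}
    (M : G →* Matrix (Fin n) (Fin n) ℂ) :
    ∃ U : G →* Matrix (Fin n) (Fin n) ℂ,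
      (∀ g, (U g)ᴴ * U g = 1) ∧ ∀ g, (U g).trace = (M g).trace :=
  Cfsg.Agent.Lib.Helper97.Jordan.exists_unitary_hom M

theorem small_conj {G : Type u} [Group G] (U : G →* Mat n)
    (hU : ∀ g, (U g)ᴴ * U g = 1) (g x : G) : ‖1 - U (g * x * g⁻¹)‖ = ‖1 - U x‖ := by
  have h1 : 1 - U (g * x * g⁻¹) = U g * (1 - U x) * U g⁻¹ := by
    rw [mul_sub, sub_mul, mul_one, ← map_mul, ← map_mul, ← map_mul, mul_inv_cancel, map_one]
  rw [h1, norm_mul_unitary _ _ (hU g⁻¹), norm_unitary_mul _ _ (hU g)]

theorem jordan_unitary {G : Type u} [Group G] [Finite G] (U : G →* Mat n)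
    (hU : ∀ g, (U g)ᴴ * U g = 1) (hinj : Function.Injective U) :
    ∃ A : Subgroup G, A.Normal ∧ (∀ x ∈ A, ∀ y ∈ A, x * y = y * x) ∧
      ∀ H : Subgroup G, (∀ x ∈ H, ∀ y ∈ H, x * y = y * x) →
        (A.subgroupOf H).index ≤ 12 ^ n := by
  classical
  let S : Set G := {g | ‖1 - U g‖ ^ 2 < 2 - √3}
  have hScomm : ∀ x ∈ S, ∀ y ∈ S, x * y = y * x :=
    fun x hx y hy => commute_of_small U hU hinj x y hx hy
  have hSconj : ∀ g x : G, x ∈ S → g * x * g⁻¹ ∈ S := by
    intro g x hx
    change ‖1 - U (g * x * g⁻¹)‖ ^ 2 < 2 - √3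
    rw [small_conj U hU]
    exact hx
  refine ⟨Subgroup.closure S, ?_, ?_, ?_⟩
  · constructor
    intro x hx g
    induction hx using Subgroup.closure_induction with
    | mem x hx => exact Subgroup.subset_closure (hSconj g x hx)
    | one => simp
    | mul x y _ _ hx hy =>
      have : g * (x * y) * g⁻¹ = (g * x * g⁻¹) * (g * y * g⁻¹) := by group
      rw [this]; exact mul_mem hx hy
    | inv x _ hx =>
      have : g * x⁻¹ * g⁻¹ = (g * x * g⁻¹)⁻¹ := by group
      rw [this]; exact inv_mem hx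
  · have := Subgroup.isMulCommutative_closure hScomm
    intro x hx y hy
    have h := this.is_comm.comm ⟨x, hx⟩ ⟨y, hy⟩
    exact congrArg Subtype.val h
  · intro H hH
    let _ : CommGroup H := { (inferInstance : Group H) with
      mul_comm := fun a b => Subtype.ext (hH a.1 a.2 b.1 b.2) }
    have : Fintype H := Fintype.ofFinite H
    have : Fintype (H →* ℂˣ) := Fintype.ofFinite _
    obtain ⟨ι, hι, f, hcard, hf⟩ := JordanAb.abelian_box (U.comp H.subtype)
      (fun h => hU h.1)
    rw [Subgroup.index]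
    have hinj' : Function.Injective
        (fun q : H ⧸ (Subgroup.closure S).subgroupOf H => f q.out) := by
      intro q₁ q₂ hq
      have h1 := hf _ _ hq
      have h2 : (q₁.out⁻¹ * q₂.out : H) ∈ (Subgroup.closure S).subgroupOf H := by
        rw [Subgroup.mem_subgroupOf]
        apply Subgroup.subset_closure
        exact h1
      have h3 := QuotientGroup.eq.mpr h2
      rwa [QuotientGroup.out_eq', QuotientGroup.out_eq'] at h3
    calc Nat.card (H ⧸ (Subgroup.closure S).subgroupOf H)
        ≤ Nat.card ι := Nat.card_le_card_of_injective _ hinj'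
      _ = Fintype.card ι := Nat.card_eq_fintype_card
      _ ≤ 12 ^ n := hcard

end Cfsg.Agent.Lib.Helper80.Jordan
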