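import Mathlib
import Cfsg.Agent.Lib.Helper26.S4151B

/-!
# K-N3 leaf 400412 C4b `sylow_card_prime` (helper80)

The Sylow `r'`-subgroup `Q` acts by conjugation on the normal `r`-group `V`, and no nonidentity
element of `Q` fixes a nonidentity element of `V` (the product would have order `r * r'`).  So `Q`
is cyclic or generalized quaternion (`Helper26.S4151K`); a quaternion group has an element of
order 4, and a generator of a cyclic `Q` has order `card Q`.
-/

set_option autoImplicit false

namespace Cfsg.Agent.Lib.Helper80.N3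

theorem order_key {p x o k : ℕ} (hp : p.Prime) (hx : x.Prime) (hxp : x ≠ p) (ho : o = p ^ k)
    (ho1 : o ≠ 1) (h : o = 1 ∨ o = x ∨ o = p) : o = p := by
  rcases h with h | h | h
  · exact absurd h ho1
  · exfalso
    have hk : k ≠ 0 := by
      rintro rfl
      rw [pow_zero] at ho
      exact ho1 ho
    have : p ∣ x := by rw [← h, ho]; exact dvd_pow_self p hk
    exact hxp ((Nat.prime_dvd_prime_iff_eq hp hx).mp this).symm
  · exact h

/-- LEAF C4b. -/
theorem sylow_card_prime {G : Type*} [Group G] [Finite G] (r r' : ℕ) (hr : r.Prime) [Fact r'.Prime]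
    (hrr : r ≠ r')
    (hord : ∀ g : G, orderOf g = 1 ∨ orderOf g = r ∨ orderOf g = r')
    (V : Subgroup G) (hVn : V.Normal) (hV : V ≠ ⊥) (hVr : IsPGroup r V)
    (hVc : ∀ a ∈ V, ∀ b ∈ V, a * b = b * a)
    (hr' : r' ∣ Nat.card G) (Q : Sylow r' G) : Nat.card Q = r' := by
  classical
  have hr'p : r'.Prime := Fact.out
  haveI : Fact r.Prime := ⟨hr⟩
  haveI : V.Normal := hVn
  haveI : Nontrivial V := (Subgroup.nontrivial_iff_ne_bot V).mpr hV
  have h2r : 2 ≤ r := hr.two_le
  have h2r' : 2 ≤ r' := hr'p.two_le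
  have hQord : ∀ a : (Q : Subgroup G), a ≠ 1 → orderOf (a : G) = r' := by
    intro a ha1
    obtain ⟨k, hk⟩ := (IsPGroup.iff_orderOf.mp Q.isPGroup') a
    rw [← Subgroup.orderOf_coe] at hk
    have h1 : orderOf (a : G) ≠ 1 := by
      rw [Ne, orderOf_eq_one_iff]
      intro h
      exact ha1 (Subtype.ext h)
    exact order_key hr'p hr hrr hk h1 (hord a)
  have hVord : ∀ v : V, v ≠ 1 → orderOf (v : G) = r := by
    intro v hv1
    obtain ⟨k, hk⟩ := (IsPGroup.iff_orderOf.mp hVr) v
    rw [← Subgroup.orderOf_coe] at hk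
    have h1 : orderOf (v : G) ≠ 1 := by
      rw [Ne, orderOf_eq_one_iff]
      intro h
      exact hv1 (Subtype.ext h)
    exact order_key hr hr'p (Ne.symm hrr) hk h1 ((hord v).imp_right Or.symm)
  let φ : (Q : Subgroup G) →* MulAut V :=
    (MulAut.conjNormal (H := V)).comp (Q : Subgroup G).subtype
  have hφ : ∀ (a : (Q : Subgroup G)) (k : V), ((φ a k : V) : G) = (a : G) * (k : G) * (a : G)⁻¹ :=
    fun a k => MulAut.conjNormal_apply _ _
  have hfpf : ∀ a : (Q : Subgroup G), a ≠ 1 → ∀ k : V, φ a k = k → k = 1 := by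
    intro a ha1 k hk
    by_contra hk1
    have h3 : (a : G) * (k : G) * (a : G)⁻¹ = (k : G) := by rw [← hφ, hk]
    have hcomm : Commute (a : G) (k : G) := mul_inv_eq_iff_eq_mul.mp h3
    have hoa := hQord a ha1
    have hok := hVord k hk1
    have hcop : Nat.Coprime (orderOf (a : G)) (orderOf (k : G)) := by
      rw [hoa, hok]
      exact (Nat.coprime_primes hr'p hr).mpr (Ne.symm hrr)
    have ho := hcomm.orderOf_mul_eq_mul_orderOf_of_coprime hcop
    rw [hoa, hok] at ho
    rcases hord ((a : G) * (k : G)) with h | h | h <;> rw [ho] at h <;> nlinarith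
  rcases Cfsg.Agent.Lib.Helper26.S4151K.cyclic_or_quaternion_of_fpf_action r' Q.isPGroup' φ hfpf
    with hcyc | ⟨n, ⟨e⟩⟩
  · haveI := hcyc
    obtain ⟨g, hg⟩ := IsCyclic.exists_generator (α := (Q : Subgroup G))
    have hog : orderOf g = Nat.card (Q : Subgroup G) := orderOf_eq_card_of_forall_mem_zpowers hg
    have hcard : Nat.card (Q : Subgroup G) = r' ^ (Nat.card G).factorization r' :=
      Q.card_eq_multiplicity
    have hpos : (Nat.card G).factorization r' ≠ 0 := by
      have := Nat.Prime.factorization_pos_of_dvd hr'p Nat.card_pos.ne' hr'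
      omega
    have h1 : Nat.card (Q : Subgroup G) ≠ 1 := by
      rw [hcard]
      exact (Nat.one_lt_pow hpos hr'p.one_lt).ne'
    have h4 := hord (g : G)
    rw [Subgroup.orderOf_coe, hog] at h4
    exact order_key hr'p hr hrr hcard h1 h4
  · exfalso
    have h4 : orderOf (e.symm (QuaternionGroup.xa 0)) = 4 := by
      rw [MulEquiv.orderOf_eq]
      exact QuaternionGroup.orderOf_xa 0
    have h5 := hord ((e.symm (QuaternionGroup.xa 0) : (Q : Subgroup G)) : G)
    rw [Subgroup.orderOf_coe, h4] at h5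
    rcases h5 with h | h | h
    · omega
    · rw [← h] at hr; exact absurd hr (by norm_num)
    · rw [← h] at hr'p; exact absurd hr'p (by norm_num)

end Cfsg.Agent.Lib.Helper80.N3
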