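/-
Counting core for K-Oh-G (keystone 599208, architect helper98, pack S5992/S5993): the number of
"elliptic pairs" `(u, v)`, `Q u = 1`, `B u v = 1`, `Q v = ζ` (`ζ ≠ 1/4`) in a nondegenerate subspace of odd
dimension `2D+1` of a quadratic space over a finite field of odd characteristic is
`(q^(2D) - 1) q^(2D-1)`, whatever `ζ` is.
-/
import Cfsg.Agent.Lib.Helper80.OhE

set_option autoImplicit false
set_option linter.unusedSimpArgs false
set_option linter.unusedSectionVars false
set_option linter.unusedVariables false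
set_option linter.style.haveILetI false
set_option maxHeartbeats 800000

namespace Cfsg.Agent.Lib.Helper80.Oh

open Module Cfsg.Agent.Lib.Helper98.Sy Cfsg.Agent.Lib.Helper98.Ti Cfsg.Agent.Lib.Helper72.Nd

universe u
variable {F : Type u} [Field F] {V : Type u} [AddCommGroup V] [Module F V]

/-- splitting a count along a predicate -/
theorem natCard_split {α : Type*} [Finite α] (P R : α → Prop) :
    Nat.card {x : α // P x} =
      Nat.card {x : α // P x ∧ R x} + Nat.card {x : α // P x ∧ ¬ R x} := by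
  classical
  rw [← Nat.card_sum]
  apply Nat.card_congr
  exact
    { toFun := fun x => if h : R x.1 then Sum.inl ⟨x.1, x.2, h⟩ else Sum.inr ⟨x.1, x.2, h⟩
      invFun := fun y => Sum.elim (fun y => ⟨y.1, y.2.1⟩) (fun y => ⟨y.1, y.2.1⟩) y
      left_inv := fun x => by
        by_cases h : R x.1 <;> simp [h]
      right_inv := fun y => by
        rcases y with y | y
        · simp [y.2.2]
        · simp [y.2.2] }

theorem Q_eq_half (Q : QuadraticForm F V) (h2 : (2 : F) ≠ 0) (x : V) :
    Q x = QuadraticMap.polarBilin Q x x / 2 := by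
  rw [QuadraticMap.polarBilin_apply_apply, QuadraticMap.polar_self, nsmul_eq_mul, Nat.cast_ofNat]
  field_simp

theorem pB_self_val (Q : QuadraticForm F V) (h2 : (2 : F) ≠ 0) (x : V) (τ : F) :
    Q x = τ ↔ QuadraticMap.polarBilin Q x x = 2 * τ := by
  rw [Q_eq_half Q h2]
  constructor
  · intro h; rw [← h]; field_simp
  · intro h; rw [h]; field_simp

/-- the form `Q + (β - 1) (B(u,·)/2)²` -/
noncomputable def coneForm (Q : QuadraticForm F V) (u : V) (β : F) : QuadraticForm F V :=
  Q + (β - 1) • QuadraticMap.linMulLin ((2 : F)⁻¹ • QuadraticMap.polarBilin Q u)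
    ((2 : F)⁻¹ • QuadraticMap.polarBilin Q u)

theorem coneForm_apply (Q : QuadraticForm F V) (u : V) (β : F) (x : V) :
    coneForm Q u β x = Q x + (β - 1) * (((2 : F)⁻¹ * QuadraticMap.polarBilin Q u x) *
      ((2 : F)⁻¹ * QuadraticMap.polarBilin Q u x)) := by
  simp [coneForm]

theorem coneForm_polar (Q : QuadraticForm F V) (u : V) (β : F) (x y : V) :
    QuadraticMap.polarBilin (coneForm Q u β) x y =
      QuadraticMap.polarBilin Q x y + 2 * (β - 1) *
        ((2 : F)⁻¹ * QuadraticMap.polarBilin Q u x) * ((2 : F)⁻¹ * QuadraticMap.polarBilin Q u y) := by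
  have hxy : QuadraticMap.polarBilin Q x y = Q (x + y) - Q x - Q y := by
    rw [QuadraticMap.polarBilin_apply_apply]; rfl
  rw [hxy, QuadraticMap.polarBilin_apply_apply (Q := coneForm Q u β), QuadraticMap.polar,
    coneForm_apply, coneForm_apply, coneForm_apply, (QuadraticMap.polarBilin Q u).map_add x y]
  ring

theorem nonDeg_coneForm (Q : QuadraticForm F V) (h2 : (2 : F) ≠ 0) (O : Submodule F V)
    (hO : NonDeg (QuadraticMap.polarBilin Q) O) (u : V) (hu : u ∈ O) (hQu : Q u = 1) (β : F)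
    (hβ : β ≠ 0) : NonDeg (QuadraticMap.polarBilin (coneForm Q u β)) O := by
  intro x hx h
  have hBuu : QuadraticMap.polarBilin Q u u = 2 := by
    have := (pB_self_val Q h2 u 1).1 hQu
    rw [mul_one] at this
    exact this
  have h1 := h u hu
  rw [coneForm_polar, pB_symm Q x u, hBuu] at h1
  have hℓ : QuadraticMap.polarBilin Q u x = 0 := by
    have h3 : β * QuadraticMap.polarBilin Q u x = 0 := by
      field_simp at h1
      linear_combination h1
    exact (mul_eq_zero.mp h3).resolve_left hβ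
  apply hO x hx
  intro y hy
  have h4 := h y hy
  rw [coneForm_polar, hℓ] at h4
  simpa using h4

section CountG

variable [Fintype F] [FiniteDimensional F V]

/-- zeros of a quadratic form on a nondegenerate odd-dimensional subspace -/
theorem card_zeros_odd (Q : QuadraticForm F V) (O : Submodule F V)
    (hO : NonDeg (QuadraticMap.polarBilin Q) O) (D : ℕ) (hD : finrank F O = 2 * D + 1) :
    Nat.card {x : V // x ∈ O ∧ Q x = 0} = Fintype.card F ^ (2 * D) := by
  classical
  haveI : Finite V := Module.finite_of_finite F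
  have hQND : Cfsg.Agent.Lib.Helper50.QND (Q.comp O.subtype) := by
    intro v hv
    apply Subtype.ext
    rw [Submodule.coe_zero]
    apply hO v v.2
    intro w hw
    have := hv ⟨w, hw⟩
    rw [polar_comp_subtype] at this
    rw [QuadraticMap.polarBilin_apply_apply]
    exact this
  have hcount : Nat.card {v : O // (Q.comp O.subtype) v = 0} = Fintype.card F ^ (2 * D) := by
    rcases Cfsg.Agent.Lib.Helper50.witt_type (2 * D + 1) (Q.comp O.subtype) hD hQND with
      ⟨m, hm, -⟩ | ⟨m, ζ, hm, -, -⟩ | ⟨m, c, hm, hc, φ, hφ⟩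
    · omega
    · omega
    · have hmD : m = D := by omega
      subst hmD
      rw [← zeroCount_oddForm c hc m, ← natCard_zeros_eq_zeroCount']
      apply Nat.card_congr
      exact Equiv.subtypeEquiv φ.toEquiv (fun v => by
        rw [LinearEquiv.coe_toEquiv, hφ])
  rw [← hcount]
  apply Nat.card_congr
  exact
    { toFun := fun x => ⟨⟨x.1, x.2.1⟩, by
        rw [QuadraticMap.comp_apply]; exact x.2.2⟩
      invFun := fun v => ⟨v.1.1, v.1.2, by
        have := v.2
        rw [QuadraticMap.comp_apply] at this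
        exact this⟩
      left_inv := fun x => rfl
      right_inv := fun v => rfl }

omit [Fintype F] [FiniteDimensional F V] in
theorem Q_shift (Q : QuadraticForm F V) (x y : V) (hxx : Q x = 0)
    (hxy : QuadraticMap.polarBilin Q x y = 1) (c : F) : Q (y + c • x) = Q y + c := by
  have h1 : Q (y + c • x) = Q y + Q (c • x) + QuadraticMap.polar Q y (c • x) := by
    unfold QuadraticMap.polar; ring
  rw [QuadraticMap.polarBilin_apply_apply] at hxy
  rw [h1, QuadraticMap.map_smul, QuadraticMap.polar_smul_right, QuadraticMap.polar_comm, hxy, hxx]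
  simp

/-- partners with prescribed value of an isotropic vector -/
theorem card_val_fiber (Q : QuadraticForm F V) (O : Submodule F V)
    (hO : NonDeg (QuadraticMap.polarBilin Q) O) (x : V) (hx : x ∈ O) (hx0 : x ≠ 0) (hxx : Q x = 0)
    (τ : F) :
    Nat.card {y : V // QuadraticMap.polarBilin Q x y = 1 ∧ y ∈ O ∧ Q y = τ} * Fintype.card F =
      Fintype.card F ^ (finrank F O - 1) := by
  classical
  haveI : Finite V := Module.finite_of_finite F
  have hBxx : QuadraticMap.polarBilin Q x x = 0 := by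
    rw [QuadraticMap.polarBilin_apply_apply, QuadraticMap.polar_self, hxx, smul_zero]
  rw [← card_pair_fiber O hO x hx hx0, ← Nat.card_eq_fintype_card (α := F), ← Nat.card_prod]
  apply Nat.card_congr
  symm
  refine
    { toFun := fun y => (⟨y.1 + (τ - Q y.1) • x, ?_, ?_, ?_⟩, Q y.1)
      invFun := fun p => ⟨p.1.1 + (p.2 - τ) • x, ?_, ?_⟩
      left_inv := ?_
      right_inv := ?_ }
  · rw [map_add, map_smul, hBxx, y.2.1]; simp
  · exact O.add_mem y.2.2 (O.smul_mem _ hx)
  · rw [Q_shift Q x y.1 hxx y.2.1]; ring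
  · rw [map_add, map_smul, hBxx, p.1.2.1]; simp
  · exact O.add_mem p.1.2.2.1 (O.smul_mem _ hx)
  · intro y
    apply Subtype.ext
    simp only [Q_shift Q x y.1 hxx y.2.1]
    rw [add_assoc, ← add_smul]
    simp
  · rintro ⟨⟨y', hy1, hy2, hy3⟩, t⟩
    have h1 : Q (y' + (t - τ) • x) = t := by
      rw [Q_shift Q x y' hxx hy1, hy3]; ring
    apply Prod.ext
    · apply Subtype.ext
      simp only [h1]
      rw [add_assoc, ← add_smul]
      simp
    · simp only [h1]

/-- pairs `(v, u)`, `v` singular, `B v u = 1`, `Q u = τ` -/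
theorem card_pairs_zero (Q : QuadraticForm F V) (h2 : (2 : F) ≠ 0) (O : Submodule F V)
    (hO : NonDeg (QuadraticMap.polarBilin Q) O) (D : ℕ) (hD : finrank F O = 2 * D + 1) (τ : F) :
    Nat.card {p : V × V // p.1 ∈ O ∧ p.2 ∈ O ∧ Q p.1 = τ ∧
        QuadraticMap.polarBilin Q p.1 p.2 = 1 ∧ Q p.2 = 0} =
      (Fintype.card F ^ (2 * D) - 1) * Fintype.card F ^ (2 * D - 1) := by
  classical
  haveI : Finite V := Module.finite_of_finite F
  let e : {p : V × V // p.1 ∈ O ∧ p.2 ∈ O ∧ Q p.1 = τ ∧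
        QuadraticMap.polarBilin Q p.1 p.2 = 1 ∧ Q p.2 = 0} ≃
      Σ x : {x : V // x ∈ O ∧ x ≠ 0 ∧ QuadraticMap.polarBilin Q x x = 0},
        {y : V // QuadraticMap.polarBilin Q x.1 y = 1 ∧ y ∈ O ∧ Q y = τ} :=
    { toFun := fun p => ⟨⟨p.1.2, p.2.2.1, fun h => by
          have := p.2.2.2.2.1
          rw [h] at this
          simp at this, (pB_self Q h2 _).2 p.2.2.2.2.2⟩,
          ⟨p.1.1, by rw [pB_symm]; exact p.2.2.2.2.1, p.2.1, p.2.2.2.1⟩⟩
      invFun := fun s => ⟨(s.2.1, s.1.1), s.2.2.2.1, s.1.2.1, s.2.2.2.2,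
        by rw [pB_symm]; exact s.2.2.1, (pB_self Q h2 _).1 s.1.2.2.2⟩
      left_inv := fun p => rfl
      right_inv := fun s => rfl }
  rw [Nat.card_congr e]
  haveI : Fintype {x : V // x ∈ O ∧ x ≠ 0 ∧ QuadraticMap.polarBilin Q x x = 0} :=
    Fintype.ofFinite _
  have hq : 1 < Fintype.card F := Fintype.one_lt_card
  by_cases hD0 : D = 0
  · subst hD0
    rw [Nat.card_sigma]
    have hemp : Nat.card {x : V // x ∈ O ∧ x ≠ 0 ∧ QuadraticMap.polarBilin Q x x = 0} = 0 := by
      rw [card_sing_vectors Q h2 O hO 0 hD]; simp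
    haveI : IsEmpty {x : V // x ∈ O ∧ x ≠ 0 ∧ QuadraticMap.polarBilin Q x x = 0} := by
      rw [Nat.card_eq_fintype_card, Fintype.card_eq_zero_iff] at hemp
      exact hemp
    simp
  have hfib : ∀ x : {x : V // x ∈ O ∧ x ≠ 0 ∧ QuadraticMap.polarBilin Q x x = 0},
      Nat.card {y : V // QuadraticMap.polarBilin Q x.1 y = 1 ∧ y ∈ O ∧ Q y = τ} =
        Fintype.card F ^ (2 * D - 1) := by
    intro x
    have h := card_val_fiber Q O hO x.1 x.2.1 x.2.2.1 ((pB_self Q h2 _).1 x.2.2.2) τ
    rw [hD, Nat.add_sub_cancel] at h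
    have h3 : Fintype.card F ^ (2 * D) = Fintype.card F ^ (2 * D - 1) * Fintype.card F := by
      rw [← pow_succ]
      congr 1
      omega
    rw [h3] at h
    exact Nat.eq_of_mul_eq_mul_right (by omega) h
  rw [Nat.card_sigma, Finset.sum_congr rfl (fun x _ => hfib x), Finset.sum_const,
    Finset.card_univ, ← Nat.card_eq_fintype_card, smul_eq_mul, card_sing_vectors Q h2 O hO D hD]

/-- the cone count: zeros of the modified form on `O`, split along `B u x = 0` -/
theorem cone_count (Q : QuadraticForm F V) (h2 : (2 : F) ≠ 0) (O : Submodule F V)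
    (hO : NonDeg (QuadraticMap.polarBilin Q) O) (D : ℕ) (hD : finrank F O = 2 * D + 1)
    (u : V) (hu : u ∈ O) (hQu : Q u = 1) (β : F) (hβ : β ≠ 0) :
    Nat.card {w : V // w ∈ O ∧ QuadraticMap.polarBilin Q u w = 0 ∧ Q w = 0} +
      (Fintype.card F - 1) *
        Nat.card {w : V // w ∈ O ∧ QuadraticMap.polarBilin Q u w = 0 ∧ Q w = -β} =
      Fintype.card F ^ (2 * D) := by
  classical
  haveI : Finite V := Module.finite_of_finite F
  have hBuu : QuadraticMap.polarBilin Q u u = 2 := by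
    have := (pB_self_val Q h2 u 1).1 hQu
    rw [mul_one] at this
    exact this
  rw [← card_zeros_odd (coneForm Q u β) O (nonDeg_coneForm Q h2 O hO u hu hQu β hβ) D hD,
    natCard_split (fun x : V => x ∈ O ∧ coneForm Q u β x = 0)
      (fun x : V => QuadraticMap.polarBilin Q u x = 0)]
  congr 1
  · apply Nat.card_congr
    apply Equiv.subtypeEquivRight
    intro x
    constructor
    · rintro ⟨h1, h3, h4⟩
      refine ⟨⟨h1, ?_⟩, h3⟩
      rw [coneForm_apply, h3, h4]; simp
    · rintro ⟨⟨h1, h3⟩, h4⟩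
      refine ⟨h1, h4, ?_⟩
      rw [coneForm_apply, h4] at h3
      simpa using h3
  · rw [← Fintype.card_units, ← Nat.card_eq_fintype_card, ← Nat.card_prod]
    apply Nat.card_congr
    symm
    refine
      { toFun := fun x => (Units.mk0 ((2 : F)⁻¹ * QuadraticMap.polarBilin Q u x.1) ?_,
          ⟨((2 : F)⁻¹ * QuadraticMap.polarBilin Q u x.1)⁻¹ • x.1 - u, ?_, ?_, ?_⟩)
        invFun := fun p => ⟨(p.1 : F) • (p.2.1 + u), ⟨?_, ?_⟩, ?_⟩
        left_inv := ?_
        right_inv := ?_ }
    · exact mul_ne_zero (inv_ne_zero h2) x.2.2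
    · exact O.sub_mem (O.smul_mem _ x.2.1.1) hu
    · rw [map_sub, map_smul, hBuu, smul_eq_mul]
      have := x.2.2
      field_simp
      ring
    · have hx0 := x.2.1.2
      have hne := x.2.2
      rw [coneForm_apply] at hx0
      rw [pB_self_val Q h2]
      rw [Q_eq_half Q h2] at hx0
      simp only [map_sub, map_smul, LinearMap.sub_apply, LinearMap.smul_apply, smul_eq_mul, hBuu,
        pB_symm Q x.1 u]
      field_simp
      field_simp at hx0
      linear_combination hx0
    · exact O.smul_mem _ (O.add_mem p.2.2.1 hu)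
    · rw [coneForm_apply, Q_eq_half Q h2]
      have hw := (pB_self_val Q h2 _ _).1 p.2.2.2.2
      simp only [map_add, map_smul, LinearMap.add_apply, LinearMap.smul_apply, smul_eq_mul, hBuu,
        pB_symm Q p.2.1 u, p.2.2.2.1, hw]
      field_simp
      ring
    · simp only [map_smul, map_add, smul_eq_mul, hBuu, p.2.2.2.1]
      intro h
      have h3 : (p.1 : F) * 2 = 0 := by simpa using h
      rcases mul_eq_zero.mp h3 with h4 | h4
      · exact p.1.ne_zero h4
      · exact h2 h4
    · intro x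
      apply Subtype.ext
      have hne : (2 : F)⁻¹ * QuadraticMap.polarBilin Q u x.1 ≠ 0 :=
        mul_ne_zero (inv_ne_zero h2) x.2.2
      simp only [Units.val_mk0, sub_add_cancel]
      rw [smul_smul, mul_inv_cancel₀ hne, one_smul]
    · rintro ⟨z, ⟨w, hw1, hw2, hw3⟩⟩
      have hz : (2 : F)⁻¹ * QuadraticMap.polarBilin Q u ((z : F) • (w + u)) = (z : F) := by
        rw [map_smul, map_add, hw2, hBuu, smul_eq_mul]
        field_simp
        ring
      apply Prod.ext
      · apply Units.ext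
        simp only [Units.val_mk0]
        exact hz
      · apply Subtype.ext
        simp only [hz]
        rw [smul_smul, inv_mul_cancel₀ z.ne_zero, one_smul, add_sub_cancel_right]

/-- the number of vectors of `u^⊥ ∩ O` with a prescribed NONZERO value does not depend on the
value -/
theorem card_perp_val_indep (Q : QuadraticForm F V) (h2 : (2 : F) ≠ 0) (O : Submodule F V)
    (hO : NonDeg (QuadraticMap.polarBilin Q) O) (D : ℕ) (hD : finrank F O = 2 * D + 1)
    (u : V) (hu : u ∈ O) (hQu : Q u = 1) (a a' : F) (ha : a ≠ 0) (ha' : a' ≠ 0) :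
    Nat.card {w : V // w ∈ O ∧ QuadraticMap.polarBilin Q u w = 0 ∧ Q w = a} =
      Nat.card {w : V // w ∈ O ∧ QuadraticMap.polarBilin Q u w = 0 ∧ Q w = a'} := by
  have h1 := cone_count Q h2 O hO D hD u hu hQu (-a) (neg_ne_zero.mpr ha)
  have h3 := cone_count Q h2 O hO D hD u hu hQu (-a') (neg_ne_zero.mpr ha')
  rw [neg_neg] at h1 h3
  have hq : 1 < Fintype.card F := Fintype.one_lt_card
  have h4 : (Fintype.card F - 1) *
      Nat.card {w : V // w ∈ O ∧ QuadraticMap.polarBilin Q u w = 0 ∧ Q w = a} =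
      (Fintype.card F - 1) *
        Nat.card {w : V // w ∈ O ∧ QuadraticMap.polarBilin Q u w = 0 ∧ Q w = a'} := by
    omega
  exact Nat.eq_of_mul_eq_mul_left (by omega) h4

omit [Fintype F] [FiniteDimensional F V] in
/-- pairs `(u, v)` versus pairs `(u, w)`, `w = v - u/2 ⊥ u` -/
theorem card_pairs_eq_sigma (Q : QuadraticForm F V) (h2 : (2 : F) ≠ 0) (O : Submodule F V) (t : F) :
    Nat.card {p : V × V // p.1 ∈ O ∧ p.2 ∈ O ∧ Q p.1 = 1 ∧
        QuadraticMap.polarBilin Q p.1 p.2 = 1 ∧ Q p.2 = t} =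
      Nat.card (Σ u : {u : V // u ∈ O ∧ Q u = 1},
        {w : V // w ∈ O ∧ QuadraticMap.polarBilin Q u.1 w = 0 ∧ Q w = t - 1 / 4}) := by
  have h4 : (4 : F) ≠ 0 := by
    have : (4 : F) = 2 * 2 := by norm_num
    rw [this]; exact mul_ne_zero h2 h2
  apply Nat.card_congr
  refine
    { toFun := fun p => ⟨⟨p.1.1, p.2.1, p.2.2.2.1⟩,
        ⟨p.1.2 - (2 : F)⁻¹ • p.1.1, O.sub_mem p.2.2.1 (O.smul_mem _ p.2.1), ?_, ?_⟩⟩
      invFun := fun s => ⟨(s.1.1, s.2.1 + (2 : F)⁻¹ • s.1.1), s.1.2.1,
        O.add_mem s.2.2.1 (O.smul_mem _ s.1.2.1), s.1.2.2, ?_, ?_⟩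
      left_inv := ?_
      right_inv := ?_ }
  · have hBuu := (pB_self_val Q h2 _ _).1 p.2.2.2.1
    rw [map_sub, map_smul, hBuu, p.2.2.2.2.1, smul_eq_mul]
    field_simp
    ring
  · have hBuu := (pB_self_val Q h2 _ _).1 p.2.2.2.1
    have hBvv := (pB_self_val Q h2 _ _).1 p.2.2.2.2.2
    have hBuv := p.2.2.2.2.1
    have hBvu : QuadraticMap.polarBilin Q p.1.2 p.1.1 = 1 := by rw [pB_symm]; exact hBuv
    rw [pB_self_val Q h2]
    simp only [map_sub, map_smul, LinearMap.sub_apply, LinearMap.smul_apply, smul_eq_mul, hBuu,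
      hBvv, hBuv, hBvu]
    field_simp
    ring
  · have hBuu := (pB_self_val Q h2 _ _).1 s.1.2.2
    show QuadraticMap.polarBilin Q s.1.1 (s.2.1 + (2 : F)⁻¹ • s.1.1) = 1
    rw [map_add, map_smul, hBuu, s.2.2.2.1, smul_eq_mul]
    field_simp
    ring
  · have hBuu := (pB_self_val Q h2 _ _).1 s.1.2.2
    have hBww := (pB_self_val Q h2 _ _).1 s.2.2.2.2
    have hBuw := s.2.2.2.1
    have hBwu : QuadraticMap.polarBilin Q s.2.1 s.1.1 = 0 := by rw [pB_symm]; exact hBuw
    show Q (s.2.1 + (2 : F)⁻¹ • s.1.1) = t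
    rw [pB_self_val Q h2]
    simp only [map_add, map_smul, LinearMap.add_apply, LinearMap.smul_apply, smul_eq_mul, hBuu,
      hBww, hBuw, hBwu]
    field_simp
    ring
  · intro p
    apply Subtype.ext
    apply Prod.ext
    · rfl
    · show p.1.2 - (2 : F)⁻¹ • p.1.1 + (2 : F)⁻¹ • p.1.1 = p.1.2
      rw [sub_add_cancel]
  · rintro ⟨⟨u, hu⟩, ⟨w, hw⟩⟩
    exact sigma_subtype_ext
      (P := fun (u : V) => u ∈ O ∧ Q u = 1)
      (Q := fun (u : V) (w : V) => w ∈ O ∧ QuadraticMap.polarBilin Q u w = 0 ∧ Q w = t - 1 / 4)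
      _ _ _ _ _ _ _ _ rfl (add_sub_cancel_right w ((2 : F)⁻¹ • u))

/-- **the number of elliptic pairs** of a nondegenerate odd-dimensional subspace -/
theorem card_ellPairs (Q : QuadraticForm F V) (h2 : (2 : F) ≠ 0) (O : Submodule F V)
    (hO : NonDeg (QuadraticMap.polarBilin Q) O) (D : ℕ) (hD : finrank F O = 2 * D + 1)
    (ζ : F) (hζ : ζ ≠ 1 / 4) :
    Nat.card {p : V × V // p.1 ∈ O ∧ p.2 ∈ O ∧ Q p.1 = 1 ∧
        QuadraticMap.polarBilin Q p.1 p.2 = 1 ∧ Q p.2 = ζ} =
      (Fintype.card F ^ (2 * D) - 1) * Fintype.card F ^ (2 * D - 1) := by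
  classical
  haveI : Finite V := Module.finite_of_finite F
  have h4 : (4 : F) ≠ 0 := by
    have : (4 : F) = 2 * 2 := by norm_num
    rw [this]; exact mul_ne_zero h2 h2
  rw [← card_pairs_zero Q h2 O hO D hD 1, card_pairs_eq_sigma Q h2 O ζ,
    card_pairs_eq_sigma Q h2 O 0]
  haveI : Fintype {u : V // u ∈ O ∧ Q u = 1} := Fintype.ofFinite _
  rw [Nat.card_sigma, Nat.card_sigma]
  apply Finset.sum_congr rfl
  intro u _
  apply card_perp_val_indep Q h2 O hO D hD u.1 u.2.1 u.2.2
  · intro h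
    apply hζ
    linear_combination h
  · rw [zero_sub]
    exact neg_ne_zero.mpr (one_div_ne_zero h4)

end CountG

end Cfsg.Agent.Lib.Helper80.Oh
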