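import Mathlib

/-!
# Integer sums of `p`-power roots of unity (helper80)

* `int_sum_prime_pow_roots_modEq` : if a sum of `n` roots of unity of `p`-power order is a
  rational integer `m`, then `p ∣ n - m`.
* `int_sum_prime_pow_roots_lower` : if moreover all the coprime-to-`p` power sums equal `m`,
  then `-n ≤ (p - 1) * m`.
-/

set_option autoImplicit false

namespace Cfsg.Agent.Lib.Helper80

open Polynomial

theorem int_sum_prime_pow_roots_modEq (p : ℕ) (hp : p.Prime) (e : ℕ) {ι : Type*} [Fintype ι]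
    (μ : ι → ℂ) (hμ : ∀ i, μ i ^ (p ^ (e + 1)) = 1) (m : ℤ) (hm : ∑ i, μ i = (m : ℂ)) :
    (p : ℤ) ∣ (Fintype.card ι : ℤ) - m := by
  classical
  haveI : Fact p.Prime := ⟨hp⟩
  set q := p ^ (e + 1) with hq
  have hq0 : q ≠ 0 := pow_ne_zero _ hp.ne_zero
  haveI : NeZero q := ⟨hq0⟩
  set ζ : ℂ := Complex.exp (2 * Real.pi * Complex.I / q) with hζdef
  have hζ : IsPrimitiveRoot ζ q := Complex.isPrimitiveRoot_exp q hq0
  have hex : ∀ i, ∃ a : ℕ, ζ ^ a = μ i := by
    intro i
    obtain ⟨a, -, ha⟩ := hζ.eq_pow_of_pow_eq_one (hμ i)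
    exact ⟨a, ha⟩
  choose a ha using hex
  set F : ℤ[X] := ∑ i, (1 - X ^ a i) with hF
  have hFζ : aeval ζ F = (Fintype.card ι : ℂ) - m := by
    rw [hF, map_sum]
    simp only [map_sub, map_one, map_pow, aeval_X, ha]
    rw [Finset.sum_sub_distrib, hm]
    simp
  have hF1 : F.eval 1 = 0 := by
    rw [hF, eval_finset_sum]
    simp
  have hzero : aeval ζ (F - C ((Fintype.card ι : ℤ) - m)) = 0 := by
    rw [map_sub, hFζ, aeval_C]
    simp
  have hint : IsIntegral ℤ ζ := hζ.isIntegral (Nat.pos_of_ne_zero hq0)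
  have hdvd : cyclotomic q ℤ ∣ F - C ((Fintype.card ι : ℤ) - m) := by
    rw [cyclotomic_eq_minpoly hζ (Nat.pos_of_ne_zero hq0)]
    exact minpoly.isIntegrallyClosed_dvd hint hzero
  obtain ⟨H, hH⟩ := hdvd
  have h1 := congrArg (eval 1) hH
  rw [eval_sub, hF1, eval_C, eval_mul, hq, eval_one_cyclotomic_prime_pow] at h1
  refine ⟨-(H.eval 1), ?_⟩
  linarith

theorem sum_range_pow_root (q : ℕ) (μ : ℂ) (hμ : μ ^ q = 1) :
    ∑ k ∈ Finset.range q, μ ^ k = if μ = 1 then (q : ℂ) else 0 := by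
  split_ifs with h
  · simp [h]
  · have h1 := mul_geom_sum μ q
    rw [hμ, sub_self] at h1
    rcases mul_eq_zero.mp h1 with h2 | h2
    · exact absurd (sub_eq_zero.mp h2) h
    · exact h2

theorem int_sum_prime_pow_roots_lower (p : ℕ) (hp : p.Prime) (e : ℕ) {ι : Type*} [Fintype ι]
    (μ : ι → ℂ) (hμ : ∀ i, μ i ^ (p ^ (e + 1)) = 1) (m : ℤ)
    (hm : ∀ k : ℕ, ¬ p ∣ k → ∑ i, μ i ^ k = (m : ℂ)) :
    -(Fintype.card ι : ℤ) ≤ ((p : ℤ) - 1) * m := by
  classical
  set q' := p ^ e with hq'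
  have hq'pos : 0 < q' := pow_pos hp.pos e
  have hq : p ^ (e + 1) = p * q' := by rw [pow_succ, mul_comm]
  set f : ℕ → ℂ := fun k => ∑ i, μ i ^ k with hf
  -- total sum
  have hall : ∑ k ∈ Finset.range (p * q'), f k =
      ((p * q' : ℕ) : ℂ) * ((Finset.univ.filter (fun i => μ i = 1)).card : ℂ) := by
    simp only [hf]
    rw [Finset.sum_comm]
    have : ∀ i, ∑ k ∈ Finset.range (p * q'), μ i ^ k =
        if μ i = 1 then ((p * q' : ℕ) : ℂ) else 0 := fun i =>
      sum_range_pow_root (p * q') (μ i) (by rw [← hq]; exact hμ i)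
    simp only [this]
    rw [Finset.sum_ite, Finset.sum_const_zero, add_zero, Finset.sum_const, nsmul_eq_mul, mul_comm]
  -- sum over multiples of p
  have hmul : ∑ j ∈ Finset.range q', f (p * j) =
      (q' : ℂ) * ((Finset.univ.filter (fun i => μ i ^ p = 1)).card : ℂ) := by
    simp only [hf]
    rw [Finset.sum_comm]
    have : ∀ i, ∑ j ∈ Finset.range q', μ i ^ (p * j) =
        if μ i ^ p = 1 then (q' : ℂ) else 0 := by
      intro i
      simp only [pow_mul]
      apply sum_range_pow_root q' (μ i ^ p)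
      rw [← pow_mul, ← hq]
      exact hμ i
    simp only [this]
    rw [Finset.sum_ite, Finset.sum_const_zero, add_zero, Finset.sum_const, nsmul_eq_mul, mul_comm]
  -- splitting
  have hsplit : ∑ k ∈ Finset.range (p * q'), f k =
      ∑ j ∈ Finset.range q', f (p * j) + ((p * q' - q' : ℕ) : ℂ) * (m : ℂ) := by
    rw [← Finset.sum_filter_add_sum_filter_not (Finset.range (p * q')) (fun k => p ∣ k) f]
    have himg : (Finset.range (p * q')).filter (fun k => p ∣ k) =
        (Finset.range q').image (fun j => p * j) := by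
      ext k
      simp only [Finset.mem_filter, Finset.mem_range, Finset.mem_image]
      constructor
      · rintro ⟨hk, j, rfl⟩
        exact ⟨j, lt_of_mul_lt_mul_left hk (Nat.zero_le p), rfl⟩
      · rintro ⟨j, hj, rfl⟩
        exact ⟨Nat.mul_lt_mul_of_pos_left hj hp.pos |>.trans_eq rfl, dvd_mul_right p j⟩
    have hinj : Set.InjOn (fun j => p * j) (Finset.range q' : Set ℕ) := by
      intro x _ y _ hxy
      exact Nat.eq_of_mul_eq_mul_left hp.pos hxy
    have h1 : ∑ k ∈ (Finset.range (p * q')).filter (fun k => p ∣ k), f k =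
        ∑ j ∈ Finset.range q', f (p * j) := by
      rw [himg, Finset.sum_image hinj]
    have hcard : ((Finset.range (p * q')).filter (fun k => ¬ p ∣ k)).card = p * q' - q' := by
      have h2 := Finset.card_filter_add_card_filter_not (s := Finset.range (p * q'))
        (fun k => p ∣ k)
      rw [himg, Finset.card_image_of_injOn hinj, Finset.card_range, Finset.card_range] at h2
      omega
    have h3 : ∑ k ∈ (Finset.range (p * q')).filter (fun k => ¬ p ∣ k), f k =
        ((p * q' - q' : ℕ) : ℂ) * (m : ℂ) := by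
      rw [Finset.sum_congr rfl (fun k hk => hm k (Finset.mem_filter.mp hk).2), Finset.sum_const,
        hcard, nsmul_eq_mul]
    rw [h1, h3]
  rw [hall, hmul] at hsplit
  set n₀ := (Finset.univ.filter (fun i => μ i = 1)).card with hn₀
  set n₁ := (Finset.univ.filter (fun i => μ i ^ p = 1)).card with hn₁
  have hn₁le : n₁ ≤ Fintype.card ι := by
    rw [hn₁, ← Finset.card_univ]
    exact Finset.card_filter_le _ _
  have hle : q' ≤ p * q' := Nat.le_mul_of_pos_left q' hp.pos
  have hZ : ((p * q' : ℕ) : ℤ) * n₀ = (q' : ℤ) * n₁ + ((p * q' : ℕ) - (q' : ℕ) : ℤ) * m := by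
    have : (((p * q' : ℕ) : ℤ) * n₀ : ℂ) = ((q' : ℤ) * n₁ + ((p * q' : ℕ) - (q' : ℕ) : ℤ) * m : ℂ) := by
      rw [Nat.cast_sub hle] at hsplit
      push_cast at hsplit ⊢
      exact hsplit
    exact_mod_cast this
  have hq'Z : (0 : ℤ) < q' := by exact_mod_cast hq'pos
  have hfinal : (q' : ℤ) * ((p : ℤ) * n₀) = (q' : ℤ) * (n₁ + ((p : ℤ) - 1) * m) := by
    push_cast at hZ
    linarith
  have h5 := mul_left_cancel₀ hq'Z.ne' hfinal
  have h6 : (0 : ℤ) ≤ (p : ℤ) * n₀ := by positivity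
  have h7 : (n₁ : ℤ) ≤ Fintype.card ι := by exact_mod_cast hn₁le
  linarith

end Cfsg.Agent.Lib.Helper80
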