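import Mathlib
import Cfsg.Prelude.Def_Local
import Cfsg.Prelude.Def_Solvable
import Cfsg.Agent.Lib.Helper01.PCore
import Cfsg.Agent.Lib.Helper01.PPrimeCore
import Cfsg.Agent.Lib.Helper01.SZConj
import Cfsg.Agent.Lib.Helper02.HHDual
import Cfsg.Agent.Lib.Helper14.KInfCoatomStruct
import Cfsg.Agent.Lib.Helper81.PSolvable

/-!
# K-S4472-8: the group-theoretic reduction for Winter/Dixon's bound
-/

set_option autoImplicit false
set_option linter.style.haveILetI false

namespace Cfsg.Agent.Lib.Helper80.PSL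

open Cfsg
open scoped Pointwise

universe u

theorem exists_pair {G : Type u} [Group G] [Finite G] (p : ℕ) [Fact p.Prime]
    (hsolv : Cfsg.IsPSolvable p G) :
    ∃ (H Q : Subgroup G) (b c : ℕ), (Nat.card H).Coprime p ∧ Q ≤ Subgroup.normalizer (H : Set G) ∧
      Nat.card Q = p ^ b ∧ Nat.card ↥(Q ⊓ Subgroup.centralizer (H : Set G)) = p ^ c ∧
      ((Cfsg.pCore p G).index).factorization p + c ≤ b := by
  classical
  have hp : p.Prime := Fact.out
  set O := Cfsg.pCore p G with hO
  haveI hOn : O.Normal := Cfsg.Agent.Lib.Helper01.pCore_normal p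
  have hOp : IsPGroup p O := Cfsg.Agent.Lib.Helper01.pCore_isPGroup p
  -- the quotient
  let π : G →* G ⧸ O := QuotientGroup.mk' O
  have hπs : Function.Surjective π := QuotientGroup.mk'_surjective O
  have hπker : π.ker = O := QuotientGroup.ker_mk' O
  have hGb : Cfsg.IsPSolvable p (G ⧸ O) := Cfsg.Agent.Lib.Helper81.IsPSolvable.quotient hp hsolv O
  have hOb : Cfsg.pCore p (G ⧸ O) = ⊥ :=
    Cfsg.Agent.Lib.Helper14.KInfCoatomStruct.pCore_quotient_pCore_eq_bot
  set R := Cfsg.pPrimeCore p (G ⧸ O) with hR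
  haveI hRn : R.Normal := Cfsg.Agent.Lib.Helper01.pPrimeCore_normal p
  have hRcop : (Nat.card R).Coprime p := Cfsg.Agent.Lib.Helper01.pPrimeCore_card_coprime p
  have hcent : Subgroup.centralizer (R : Set (G ⧸ O)) ≤ R :=
    Cfsg.Agent.Lib.Helper02.HHDual.centralizer_pPrimeCore_le hGb hOb
  -- the preimage K
  set K := R.comap π with hK
  haveI hKn : K.Normal := hRn.comap π
  have hOK : O ≤ K := by
    intro x hx
    rw [hK, Subgroup.mem_comap]
    have : π x = 1 := by
      rw [← MonoidHom.mem_ker, hπker]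
      exact hx
    rw [this]
    exact R.one_mem
  have hKmap : K.map π = R := Subgroup.map_comap_eq_self_of_surjective hπs R
  -- `O` as a subgroup of `K`
  set N₀ : Subgroup K := O.subgroupOf K with hN₀
  haveI hN₀n : N₀.Normal := Subgroup.Normal.subgroupOf hOn K
  have hN₀idx : N₀.index = Nat.card R := by
    have h1 : N₀.index = O.relIndex K := rfl
    have h2 : O.relIndex K = (⊥ : Subgroup (G ⧸ O)).relIndex (K.map π) := by
      rw [← Subgroup.relIndex_comap, MonoidHom.comap_bot, hπker]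
    rw [h1, h2, Subgroup.relIndex_bot_left, hKmap]
  have hN₀card : Nat.card N₀ = Nat.card O :=
    Nat.card_congr (Subgroup.subgroupOfEquivOfLe hOK).toEquiv
  have hN₀p : IsPGroup p N₀ := hOp.comap_subtype
  obtain ⟨a, ha⟩ := hOp.exists_card_eq
  have hN₀cop : (Nat.card N₀).Coprime N₀.index := by
    rw [hN₀card, ha, hN₀idx]
    exact Nat.Coprime.pow_left a hRcop.symm
  obtain ⟨H₀, hH₀⟩ := Subgroup.exists_right_complement'_of_coprime hN₀cop
  have hH₀card : Nat.card H₀ = N₀.index := by
    have h1 := hH₀.card_mul_card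
    have h2 := N₀.card_mul_index
    have h3 : 0 < Nat.card N₀ := Nat.card_pos
    exact Nat.eq_of_mul_eq_mul_left h3 (h1.trans h2.symm)
  set H : Subgroup G := H₀.map K.subtype with hH
  have hHK : H ≤ K := by
    rw [hH]
    exact Subgroup.map_subtype_le H₀
  have hHcard : Nat.card H = Nat.card R := by
    rw [hH, Subgroup.card_subtype, ← hN₀idx, hH₀card]
  -- elements of `K` are products
  have hKprod : ∀ k ∈ K, ∃ o ∈ O, ∃ h ∈ H, k = o * h := by
    intro k hk
    obtain ⟨⟨n, h⟩, hnh⟩ := hH₀.existsUnique (⟨k, hk⟩ : K)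
    have h1 : (n : K) * (h : K) = ⟨k, hk⟩ := hnh.1
    refine ⟨((n : K) : G), n.2, ((h : K) : G), ⟨(h : K), h.2, rfl⟩, ?_⟩
    have := congrArg (fun x : K => (x : G)) h1
    simpa using this.symm
  have hN₀solv : Group.IsSolvable N₀ := by
    haveI : Group.IsNilpotent N₀ := hN₀p.isNilpotent
    infer_instance
  set N := Subgroup.normalizer (H : Set G) with hN
  have hHN : H ≤ N := Subgroup.le_normalizer
  -- Frattini argument
  have hfrat : O ⊔ N = ⊤ := by
    rw [eq_top_iff]
    intro g _
    -- the conjugate of H by g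
    set H' : Subgroup G := MulAut.conj g • H with hH'
    have hH'K : H' ≤ K := by
      intro x hx
      rw [hH', Subgroup.mem_pointwise_smul_iff_inv_smul_mem] at hx
      have h1 : (MulAut.conj g)⁻¹ • x ∈ K := hHK hx
      have h2 : x = g * ((MulAut.conj g)⁻¹ • x) * g⁻¹ := by
        simp [MulAut.smul_def, mul_assoc]
      rw [h2]
      exact hKn.conj_mem _ h1 g
    have hH'card : Nat.card H' = Nat.card H := by
      rw [hH']
      exact (Nat.card_congr (Subgroup.equivSMul (MulAut.conj g) H).toEquiv).symm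
    set H₀' : Subgroup K := H'.subgroupOf K with hH₀'
    have hH₀'card : Nat.card H₀' = N₀.index := by
      rw [hH₀', Nat.card_congr (Subgroup.subgroupOfEquivOfLe hH'K).toEquiv, hH'card, hHcard, hN₀idx]
    obtain ⟨k, hk⟩ := Cfsg.Agent.Lib.Helper01.sz_conj_card N₀ hN₀cop H₀ H₀' (Or.inl hN₀solv)
      hH₀card hH₀'card
    -- map to G
    have hk' : MulAut.conj (k : G) • H = H' := by
      ext x
      constructor
      · intro hx
        rw [Subgroup.mem_pointwise_smul_iff_inv_smul_mem] at hx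
        obtain ⟨y, hy, hyx⟩ := hx
        have h1 : k * y * k⁻¹ ∈ MulAut.conj k • H₀ := by
          rw [Subgroup.mem_pointwise_smul_iff_inv_smul_mem]
          simpa [MulAut.smul_def, mul_assoc] using hy
        rw [hk, hH₀', Subgroup.mem_subgroupOf] at h1
        have h2 : x = (k : G) * (y : G) * (k : G)⁻¹ := by
          have h3 : (y : G) = (MulAut.conj (k : G))⁻¹ • x := hyx
          rw [h3]
          simp [MulAut.smul_def, mul_assoc]
        rw [h2]
        simpa using h1
      · intro hx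
        have hxK : x ∈ K := hH'K hx
        have h1 : (⟨x, hxK⟩ : K) ∈ H₀' := by
          rw [hH₀', Subgroup.mem_subgroupOf]
          exact hx
        rw [← hk, Subgroup.mem_pointwise_smul_iff_inv_smul_mem] at h1
        rw [Subgroup.mem_pointwise_smul_iff_inv_smul_mem]
        refine ⟨(MulAut.conj k)⁻¹ • (⟨x, hxK⟩ : K), h1, ?_⟩
        simp [MulAut.smul_def]
    -- g⁻¹ k normalizes H
    have hnorm : g⁻¹ * (k : G) ∈ N := by
      rw [hN, ← Subgroup.inv_mem_iff]
      have h1 : MulAut.conj ((k : G)⁻¹ * g) • H = H := by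
        rw [map_mul, mul_smul, ← hH', ← hk', ← mul_smul, ← map_mul, inv_mul_cancel, map_one,
          one_smul]
      have h2 : (g⁻¹ * (k : G))⁻¹ = (k : G)⁻¹ * g := by group
      rw [h2]
      rw [Subgroup.mem_normalizer_iff]
      intro x
      have h3 : ∀ y, y ∈ MulAut.conj ((k : G)⁻¹ * g) • H ↔ y ∈ H := fun y => by rw [h1]
      have h4 := h3 ((k : G)⁻¹ * g * x * ((k : G)⁻¹ * g)⁻¹)
      rw [Subgroup.mem_pointwise_smul_iff_inv_smul_mem] at h4
      rw [← h4]
      simp [MulAut.smul_def, mul_assoc]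
    -- decompose g
    obtain ⟨o, ho, h, hh, hkoh⟩ := hKprod (k : G) k.2
    have hg : g = o * (h * (g⁻¹ * (k : G))⁻¹) := by
      rw [← mul_assoc, ← hkoh]
      group
    rw [hg]
    exact Subgroup.mul_mem_sup ho (N.mul_mem (hHN hh) (N.inv_mem hnorm))
  -- the Sylow subgroup of N
  obtain ⟨Q₀⟩ : Nonempty (Sylow p N) := inferInstance
  set Q : Subgroup G := (Q₀ : Subgroup N).map N.subtype with hQ
  have hQN : Q ≤ N := by
    rw [hQ]
    exact Subgroup.map_subtype_le _
  have hQcard : Nat.card Q = p ^ (Nat.card N).factorization p := by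
    rw [hQ, Subgroup.card_subtype]
    exact Q₀.card_eq_multiplicity
  have hQp : IsPGroup p Q := by
    rw [hQ]
    exact Q₀.2.map N.subtype
  set C := Q ⊓ Subgroup.centralizer (H : Set G) with hC
  have hCp : IsPGroup p C := hQp.to_le inf_le_left
  obtain ⟨c, hc⟩ := hCp.exists_card_eq
  -- C ≤ O
  have hπH : ∀ r ∈ R, ∃ h ∈ H, π h = r := by
    intro r hr
    rw [← hKmap] at hr
    obtain ⟨k, hk, rfl⟩ := hr
    obtain ⟨o, ho, h, hh, rfl⟩ := hKprod k hk
    refine ⟨h, hh, ?_⟩
    rw [map_mul]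
    have : π o = 1 := by
      rw [← MonoidHom.mem_ker, hπker]
      exact ho
    rw [this, one_mul]
  have hCO : C ≤ O := by
    intro x hx
    have hxQ : x ∈ Q := hx.1
    have hxC : x ∈ Subgroup.centralizer (H : Set G) := hx.2
    have h1 : π x ∈ Subgroup.centralizer (R : Set (G ⧸ O)) := by
      rw [Subgroup.mem_centralizer_iff]
      intro r hr
      obtain ⟨h, hh, rfl⟩ := hπH r hr
      rw [Subgroup.mem_centralizer_iff] at hxC
      rw [← map_mul, ← map_mul, hxC h hh]
    have h2 : π x ∈ R := hcent h1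
    -- order of π x
    obtain ⟨j, hj⟩ := hQp ⟨x, hxQ⟩
    have hj' : x ^ (p ^ j) = 1 := by
      have := congrArg Subtype.val hj
      simpa using this
    have h3 : (π x) ^ (p ^ j) = 1 := by rw [← map_pow, hj', map_one]
    have h4 : (π x) ^ (Nat.card R) = 1 := by
      have h5 : (⟨π x, h2⟩ : R) ^ (Nat.card R) = 1 := pow_card_eq_one'
      have h5' := congrArg Subtype.val h5
      rw [Subgroup.coe_pow, Subgroup.coe_one] at h5'
      exact h5'
    have h6 : orderOf (π x) ∣ Nat.gcd (p ^ j) (Nat.card R) :=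
      Nat.dvd_gcd (orderOf_dvd_of_pow_eq_one h3) (orderOf_dvd_of_pow_eq_one h4)
    have h7 : Nat.gcd (p ^ j) (Nat.card R) = 1 := Nat.Coprime.pow_left j hRcop.symm
    rw [h7, Nat.dvd_one, orderOf_eq_one_iff] at h6
    rw [← hπker, MonoidHom.mem_ker]
    exact h6
  have hCON : C ≤ O ⊓ N := le_inf hCO (inf_le_left.trans hQN)
  -- arithmetic
  have hidx : O.index = O.relIndex N := by
    rw [← Subgroup.relIndex_top_right, ← hfrat, Subgroup.relIndex_sup_left]
  have hcardN : Nat.card N = O.relIndex N * Nat.card ↥(O ⊓ N) := by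
    have h1 := (O.subgroupOf N).card_mul_index
    have h2 : Nat.card (O.subgroupOf N) = Nat.card ↥(O ⊓ N) := by
      rw [← Subgroup.inf_subgroupOf_right]
      exact Nat.card_congr (Subgroup.subgroupOfEquivOfLe inf_le_right).toEquiv
    rw [h2] at h1
    rw [← h1, mul_comm]
    rfl
  have hdvd : p ^ c ∣ Nat.card ↥(O ⊓ N) := by
    rw [← hc]
    exact Subgroup.card_dvd_of_le hCON
  have hne1 : Nat.card ↥(O ⊓ N) ≠ 0 := Nat.card_pos.ne'
  have hne2 : O.relIndex N ≠ 0 := by
    intro h
    rw [h, zero_mul] at hcardN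
    exact (Nat.card_pos (α := N)).ne' hcardN
  have hcle : c ≤ (Nat.card ↥(O ⊓ N)).factorization p :=
    (hp.pow_dvd_iff_le_factorization hne1).mp hdvd
  have hfac : (Nat.card N).factorization p =
      (O.relIndex N).factorization p + (Nat.card ↥(O ⊓ N)).factorization p := by
    rw [hcardN, Nat.factorization_mul hne2 hne1]
    rfl
  refine ⟨H, Q, (Nat.card N).factorization p, c, ?_, hQN, hQcard, hc, ?_⟩
  · rw [hHcard]
    exact hRcop
  · rw [hidx, hfac]
    omega

end Cfsg.Agent.Lib.Helper80.PSL
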