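import Mathlib
import Cfsg.Agent.Lib.Helper48.RSpDefs2

set_option autoImplicit false
set_option linter.unusedVariables false

/-! K-RSp-P2 (keystone 228111, S2281): the base of the induction in odd characteristic:
`l E_00 ∈ X` gives all symmetric matrices supported on `{0,1}`. -/

namespace Cfsg.Agent.Lib.Helper80.RSp

open Matrix Cfsg.Agent.Lib.Helper48.RSp

variable {m : ℕ} {F : Type*} [Field F]

/-- `(M E_ab Mᵀ)_{ij} = M_{ia} M_{jb}` -/
lemma p2_conj_single (M : SM m F) (a b i j : Fin (m + 2)) :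
    (M * Matrix.single a b (1 : F) * Mᵀ) i j = M i a * M j b := by
  rw [Matrix.mul_apply, Finset.sum_eq_single b]
  · rw [Matrix.mul_single_apply_same, mul_one, Matrix.transpose_apply]
  · intro k _ hk
    rw [Matrix.mul_single_apply_of_ne (hbj := hk), zero_mul]
  · intro h
    exact absurd (Finset.mem_univ b) h

/-- the symmetric matrix `α E_00 + β B_01 + γ E_11` -/
def p2Sym (m : ℕ) {F : Type*} [Field F] (α β γ : F) : SM m F :=
  α • Matrix.single 0 0 (1 : F) + β • (Matrix.single 0 1 (1 : F) + Matrix.single 1 0 (1 : F)) +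
    γ • Matrix.single 1 1 (1 : F)

lemma p2_conj_sym (M : SM m F) (α β γ : F) (i j : Fin (m + 2)) :
    (M * p2Sym m α β γ * Mᵀ) i j =
      α * (M i 0 * M j 0) + β * (M i 0 * M j 1 + M i 1 * M j 0) + γ * (M i 1 * M j 1) := by
  unfold p2Sym
  simp only [Matrix.mul_add, Matrix.add_mul, Matrix.mul_smul, Matrix.smul_mul, Matrix.add_apply,
    Matrix.smul_apply, smul_eq_mul, p2_conj_single]

lemma p2_sym_apply (α β γ : F) (i j : Fin (m + 2)) :
    p2Sym m α β γ i j =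
      α * ((1 : SM m F) i 0 * (1 : SM m F) j 0) +
        β * ((1 : SM m F) i 0 * (1 : SM m F) j 1 + (1 : SM m F) i 1 * (1 : SM m F) j 0) +
        γ * ((1 : SM m F) i 1 * (1 : SM m F) j 1) := by
  have h := p2_conj_sym (1 : SM m F) α β γ i j
  rw [Matrix.one_mul, Matrix.transpose_one, Matrix.mul_one] at h
  exact h

lemma p2_sym_add (α β γ α' β' γ' : F) :
    p2Sym m α β γ + p2Sym m α' β' γ' = p2Sym m (α + α') (β + β') (γ + γ') := by
  ext i j
  rw [Matrix.add_apply, p2_sym_apply, p2_sym_apply, p2_sym_apply]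
  ring

lemma p2_sym_sub (α β γ α' β' γ' : F) :
    p2Sym m α β γ - p2Sym m α' β' γ' = p2Sym m (α - α') (β - β') (γ - γ') := by
  ext i j
  rw [Matrix.sub_apply, p2_sym_apply, p2_sym_apply, p2_sym_apply]
  ring

lemma p2_sym_zero : p2Sym m (0 : F) 0 0 = 0 := by
  ext i j
  rw [p2_sym_apply]
  simp

lemma p2_sym_transpose (α β γ : F) : (p2Sym m α β γ)ᵀ = p2Sym m α β γ := by
  ext i j
  rw [Matrix.transpose_apply, p2_sym_apply, p2_sym_apply]
  ring

lemma p2_E00 (l : F) : l • E00 m F = p2Sym m l 0 0 := by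
  unfold p2Sym E00
  rw [zero_smul, zero_smul, add_zero, add_zero]

lemma p2_Uup_col0 (i : Fin (m + 2)) : Uup m F i 0 = (1 : SM m F) i 0 := by
  unfold Uup
  rw [Matrix.add_apply]
  have : Nup m F i 0 = 0 := by
    unfold Nup
    simp
  rw [this, add_zero]

lemma p2_Uup_col1 (i : Fin (m + 2)) : Uup m F i 1 = (1 : SM m F) i 1 + (1 : SM m F) i 0 := by
  unfold Uup
  rw [Matrix.add_apply]
  congr 1
  show (if i.val + 1 = (1 : Fin (m + 2)).val then (1 : F) else 0) = (1 : SM m F) i 0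
  rw [Matrix.one_apply, Fin.val_one]
  by_cases h : i = 0
  · subst h; simp
  · rw [if_neg h, if_neg]
    intro e
    apply h
    apply Fin.ext
    simpa using e

lemma p2_Lbi_col0 (δ : Fin (m + 2) → F) (i : Fin (m + 2)) :
    Lbi m δ i 0 = (1 : SM m F) i 0 + δ 0 * (1 : SM m F) i 1 := by
  unfold Lbi
  rw [Matrix.one_apply, Matrix.one_apply]
  by_cases h0 : i = 0
  · subst h0
    have : ((0 : Fin (m + 2)) = 1) = False := by simp [Fin.ext_iff]
    simp [this]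
  · rw [if_neg h0, if_neg h0, zero_add]
    by_cases h1 : i = 1
    · subst h1
      simp
    · rw [if_neg h1, mul_zero, if_neg]
      intro e
      apply h1
      apply Fin.ext
      rw [Fin.val_one]
      simpa using e.symm

/-- `U S Uᵀ` on `Sym{0,1}` -/
lemma p2_conj_U (α β γ : F) :
    Uup m F * p2Sym m α β γ * (Uup m F)ᵀ = p2Sym m (α + 2 * β + γ) (β + γ) γ := by
  ext i j
  rw [p2_conj_sym, p2_sym_apply, p2_Uup_col0, p2_Uup_col0, p2_Uup_col1, p2_Uup_col1]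
  ring

/-- `L (λ E_00) Lᵀ` -/
lemma p2_conj_L (δ : Fin (m + 2) → F) (lam : F) :
    Lbi m δ * p2Sym m lam 0 0 * (Lbi m δ)ᵀ = p2Sym m lam (lam * δ 0) (lam * δ 0 ^ 2) := by
  ext i j
  rw [p2_conj_sym, p2_sym_apply, p2_Lbi_col0, p2_Lbi_col0]
  ring

lemma p2_lastrow (lam : F) (j : Fin (m + 2)) : p2Sym m lam 0 0 (Fin.last (m + 1)) j = 0 := by
  rw [p2_sym_apply]
  have : (1 : SM m F) (Fin.last (m + 1)) 0 = 0 := by
    apply Matrix.one_apply_ne
    simp [Fin.ext_iff]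
  rw [this]
  ring

/-- every element of `SymLE m 1` is a `p2Sym` -/
lemma p2_of_symLE {S : SM m F} (hS : S ∈ SymLE m 1) : S = p2Sym m (S 0 0) (S 0 1) (S 1 1) := by
  obtain ⟨hsym, hsupp⟩ := hS
  have h10 : S 1 0 = S 0 1 := by
    have := congrFun (congrFun hsym 0) 1
    rw [Matrix.transpose_apply] at this
    exact this
  have hne : (0 : Fin (m + 2)) ≠ 1 := by simp [Fin.ext_iff]
  have hbig : ∀ i : Fin (m + 2), i ≠ 0 → i ≠ 1 → 1 < i.val := by
    intro i h0 h1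
    have h0' : i.val ≠ 0 := fun e => h0 (Fin.ext e)
    have h1' : i.val ≠ 1 := fun e => h1 (Fin.ext (by rw [Fin.val_one]; exact e))
    omega
  ext i j
  rw [p2_sym_apply]
  simp only [Matrix.one_apply]
  by_cases hi0 : i = 0
  · subst hi0
    by_cases hj0 : j = 0
    · subst hj0; simp [hne]
    · by_cases hj1 : j = 1
      · subst hj1; simp [hne, hne.symm]
      · rw [hsupp 0 j (Or.inr (hbig j hj0 hj1))]
        simp [hj0, hj1]
  · by_cases hi1 : i = 1
    · subst hi1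
      by_cases hj0 : j = 0
      · subst hj0; simp [hne, hne.symm, h10]
      · by_cases hj1 : j = 1
        · subst hj1; simp [hne, hne.symm]
        · rw [hsupp 1 j (Or.inr (hbig j hj0 hj1))]
          simp [hj0, hj1]
    · rw [hsupp i j (Or.inl (hbig i hi0 hi1))]
      simp [hi0, hi1]

theorem sym_base_odd {m : ℕ} {F : Type*} [Field F] (X : AddSubgroup (SM m F)) (δ : Fin (m + 2) → F)
    (hδ : ∀ j, δ j ≠ 0)
    (hU : ∀ S ∈ X, Uup m F * S * (Uup m F)ᵀ ∈ X)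
    (hL : ∀ S ∈ X, Sᵀ = S → (∀ j, S (Fin.last (m + 1)) j = 0) → Lbi m δ * S * (Lbi m δ)ᵀ ∈ X)
    (h2 : (2 : F) ≠ 0) (l : F) (hl : l • E00 m F ∈ X)
    (hgen : ∀ x : F, x ∈ AddSubgroup.closure {y : F | ∃ k : ℕ, y = l * (2 * δ 0 ^ 2) ^ k}) :
    SymLE m 1 ⊆ (X : Set (SM m F)) := by
  have hd : δ 0 ≠ 0 := hδ 0
  -- the operator `T S = U S Uᵀ - S`
  have hT : ∀ α β γ : F, p2Sym m α β γ ∈ X → p2Sym m (2 * β + γ) γ 0 ∈ X := by
    intro α β γ h
    have h1 := X.sub_mem (hU _ h) h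
    rw [p2_conj_U, p2_sym_sub] at h1
    have e : p2Sym m (α + 2 * β + γ - α) (β + γ - β) (γ - γ) = p2Sym m (2 * β + γ) γ 0 := by
      congr 1 <;> ring
    rw [e] at h1
    exact h1
  -- `w₁`
  have hw1 : ∀ lam : F, p2Sym m lam 0 0 ∈ X → p2Sym m 0 (lam * δ 0) (lam * δ 0 ^ 2) ∈ X := by
    intro lam h
    have h1 := X.sub_mem (hL _ h (p2_sym_transpose lam 0 0) (p2_lastrow lam)) h
    rw [p2_conj_L, p2_sym_sub] at h1
    have e : p2Sym m (lam - lam) (lam * δ 0 - 0) (lam * δ 0 ^ 2 - 0) =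
        p2Sym m 0 (lam * δ 0) (lam * δ 0 ^ 2) := by
      congr 1 <;> ring
    rw [e] at h1
    exact h1
  -- `w₂`
  have hw2 : ∀ lam : F, p2Sym m lam 0 0 ∈ X →
      p2Sym m (2 * (lam * δ 0) + lam * δ 0 ^ 2) (lam * δ 0 ^ 2) 0 ∈ X :=
    fun lam h => hT _ _ _ (hw1 lam h)
  -- the additive group `Λ`
  let Lam : AddSubgroup F :=
    { carrier := {lam | p2Sym m lam 0 0 ∈ X}
      zero_mem' := by
        show p2Sym m (0 : F) 0 0 ∈ X
        rw [p2_sym_zero]
        exact X.zero_mem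
      add_mem' := by
        intro a b ha hb
        show p2Sym m (a + b) 0 0 ∈ X
        have := X.add_mem ha hb
        rw [p2_sym_add, add_zero] at this
        exact this
      neg_mem' := by
        intro a ha
        show p2Sym m (-a) 0 0 ∈ X
        have := X.sub_mem X.zero_mem ha
        rw [← p2_sym_zero, p2_sym_sub] at this
        have e : p2Sym m ((0 : F) - a) (0 - 0) (0 - 0) = p2Sym m (-a) 0 0 := by
          congr 1 <;> ring
        rw [e] at this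
        exact this }
  have hLam_step : ∀ lam : F, lam ∈ Lam → lam * (2 * δ 0 ^ 2) ∈ Lam := by
    intro lam h
    have h3 := hT _ _ _ (hw2 lam h)
    show p2Sym m (lam * (2 * δ 0 ^ 2)) 0 0 ∈ X
    have e : p2Sym m (2 * (lam * δ 0 ^ 2) + 0) 0 0 = p2Sym m (lam * (2 * δ 0 ^ 2)) 0 0 := by
      congr 1; ring
    rw [e] at h3
    exact h3
  have hl' : l ∈ Lam := by
    show p2Sym m l 0 0 ∈ X
    rw [← p2_E00]
    exact hl
  have hpow : ∀ k : ℕ, l * (2 * δ 0 ^ 2) ^ k ∈ Lam := by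
    intro k
    induction k with
    | zero => rw [pow_zero, mul_one]; exact hl'
    | succ k ih =>
      rw [pow_succ, ← mul_assoc]
      exact hLam_step _ ih
  have hall : ∀ x : F, p2Sym m x 0 0 ∈ X := by
    intro x
    have hle : AddSubgroup.closure {y : F | ∃ k : ℕ, y = l * (2 * δ 0 ^ 2) ^ k} ≤ Lam := by
      rw [AddSubgroup.closure_le]
      rintro y ⟨k, rfl⟩
      exact hpow k
    exact hle (hgen x)
  have hd2 : δ 0 ^ 2 ≠ 0 := pow_ne_zero 2 hd
  -- `F B_01 ⊆ X`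
  have hB : ∀ μ : F, p2Sym m 0 μ 0 ∈ X := by
    intro μ
    have h1 := hw2 (μ / δ 0 ^ 2) (hall _)
    have h3 := X.sub_mem h1 (hall (2 * (μ / δ 0 ^ 2 * δ 0) + μ / δ 0 ^ 2 * δ 0 ^ 2))
    rw [p2_sym_sub, div_mul_cancel₀ μ hd2] at h3
    have e : p2Sym m (2 * (μ / δ 0 ^ 2 * δ 0) + μ - (2 * (μ / δ 0 ^ 2 * δ 0) + μ)) (μ - 0) ((0 : F) - 0) =
        p2Sym m 0 μ 0 := by
      congr 1 <;> ring
    rw [e] at h3
    exact h3
  -- `F E_11 ⊆ X`
  have hE : ∀ μ : F, p2Sym m 0 0 μ ∈ X := by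
    intro μ
    have h1 := hw1 (μ / δ 0 ^ 2) (hall _)
    have h3 := X.sub_mem h1 (hB (μ / δ 0 ^ 2 * δ 0))
    rw [p2_sym_sub, div_mul_cancel₀ μ hd2] at h3
    have e : p2Sym m ((0 : F) - 0) (μ / δ 0 ^ 2 * δ 0 - μ / δ 0 ^ 2 * δ 0) (μ - 0) = p2Sym m 0 0 μ := by
      congr 1 <;> ring
    rw [e] at h3
    exact h3
  intro S hS
  rw [p2_of_symLE hS]
  have h := X.add_mem (X.add_mem (hall (S 0 0)) (hB (S 0 1))) (hE (S 1 1))
  rw [p2_sym_add, p2_sym_add] at h
  have e : p2Sym m (S 0 0 + 0 + 0) (0 + S 0 1 + 0) (0 + 0 + S 1 1) = p2Sym m (S 0 0) (S 0 1) (S 1 1) := by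
    congr 1 <;> ring
  rw [e] at h
  exact h

end Cfsg.Agent.Lib.Helper80.RSp
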