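import Mathlib
import Cfsg.Agent.Lib.Helper80.CharMisc
import Cfsg.Agent.Lib.Helper34.Induction
import Cfsg.Agent.Lib.Helper84.CyclicQuotInd

/-!
# Fully ramified characters under a cyclic group (helper80)

`dvd_of_ramified_cyclic`: `N ⊴ H` with `H/N` cyclic of order `m ≥ 2`, `θ ∈ Irr(N)` invariant in
`H`, and `Ψ` a character of `H` with `Ψ_N = e θ` such that the norm of `Ψ` over each coset of `N`
outside `N` is `|N|`.  Then `m ∣ e - 1` or `m ∣ e + 1`.
-/

set_option autoImplicit false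
set_option linter.style.haveILetI false

namespace Cfsg.Agent.Lib.Helper80

open Cfsg
open scoped ComplexConjugate

universe u

/-- The arithmetic heart: `m` naturals summing to `e` with `m Σ a² = e² + m - 1`. -/
theorem ramified_arith {ι : Type*} (C : Finset ι) (a : ι → ℕ) (m e : ℕ) (hm : 2 ≤ m)
    (hC : C.card = m) (h1 : ∑ i ∈ C, a i = e) (h2 : m * ∑ i ∈ C, (a i) ^ 2 + 1 = e ^ 2 + m) :
    (m : ℤ) ∣ (e : ℤ) - 1 ∨ (m : ℤ) ∣ (e : ℤ) + 1 := by
  set q : ℕ := e / m with hq
  set r : ℕ := e % m with hr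
  have her : e = m * q + r := (Nat.div_add_mod e m).symm
  have hrm : r < m := Nat.mod_lt _ (by omega)
  set b : ι → ℤ := fun i => (a i : ℤ) - q with hb
  have hS1 : ∑ i ∈ C, b i = r := by
    simp only [hb, Finset.sum_sub_distrib, Finset.sum_const, nsmul_eq_mul, hC]
    have : ((∑ i ∈ C, a i : ℕ) : ℤ) = e := by exact_mod_cast h1
    push_cast at this
    rw [this, her]; push_cast; ring
  have hS2 : (m : ℤ) * ∑ i ∈ C, (b i) ^ 2 = (r : ℤ) ^ 2 + m - 1 := by
    have e1 : ∑ i ∈ C, (b i) ^ 2 =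
        ∑ i ∈ C, ((a i : ℤ)) ^ 2 - 2 * q * ∑ i ∈ C, (a i : ℤ) + m * (q : ℤ) ^ 2 := by
      simp only [hb]
      rw [Finset.mul_sum, ← hC]
      rw [show ((C.card : ℕ) : ℤ) * (q : ℤ) ^ 2 = ∑ _i ∈ C, (q : ℤ) ^ 2 by
        simp [Finset.sum_const, nsmul_eq_mul]]
      rw [← Finset.sum_sub_distrib, ← Finset.sum_add_distrib]
      apply Finset.sum_congr rfl
      intro i _; ring
    have e2 : ((∑ i ∈ C, a i : ℕ) : ℤ) = e := by exact_mod_cast h1
    push_cast at e2
    have e3 : (m : ℤ) * ∑ i ∈ C, ((a i : ℤ)) ^ 2 + 1 = (e : ℤ) ^ 2 + m := by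
      exact_mod_cast h2
    rw [e1, e2]
    have e4 : (e : ℤ) = m * q + r := by exact_mod_cast her
    have : (m : ℤ) * ∑ i ∈ C, ((a i : ℤ)) ^ 2 = (e : ℤ) ^ 2 + m - 1 := by linarith
    calc (m : ℤ) * (∑ i ∈ C, ((a i : ℤ)) ^ 2 - 2 * q * e + m * (q : ℤ) ^ 2)
        = (m : ℤ) * ∑ i ∈ C, ((a i : ℤ)) ^ 2 - 2 * q * e * m + (m : ℤ) ^ 2 * (q : ℤ) ^ 2 := by ring
      _ = (e : ℤ) ^ 2 + m - 1 - 2 * q * e * m + (m : ℤ) ^ 2 * (q : ℤ) ^ 2 := by rw [this]
      _ = (r : ℤ) ^ 2 + m - 1 := by rw [e4]; ring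
  have hS3 : (r : ℤ) ≤ ∑ i ∈ C, (b i) ^ 2 := by
    rw [← hS1]
    apply Finset.sum_le_sum
    intro i _
    have : b i ≤ 0 ∨ 1 ≤ b i := by omega
    rcases this with h | h <;> nlinarith
  have hmZ : (2 : ℤ) ≤ m := by exact_mod_cast hm
  have hrZ : (r : ℤ) < m := by exact_mod_cast hrm
  have hr0 : (0 : ℤ) ≤ r := by positivity
  have e4 : (e : ℤ) = m * q + r := by exact_mod_cast her
  have hineq : (m : ℤ) * r ≤ (r : ℤ) ^ 2 + m - 1 := by
    rw [← hS2]
    exact mul_le_mul_of_nonneg_left hS3 (by linarith)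
  by_cases hr1 : r = 1
  · left
    refine ⟨q, ?_⟩
    rw [e4, hr1]; push_cast; ring
  by_cases hr0' : r = 0
  · exfalso
    rw [hr0'] at hS2
    have hS2' : (m : ℤ) * ∑ i ∈ C, (b i) ^ 2 = m - 1 := by
      rw [hS2]; push_cast; ring
    have hS : (0 : ℤ) ≤ ∑ i ∈ C, (b i) ^ 2 := Finset.sum_nonneg (fun i _ => sq_nonneg _)
    by_cases hS0 : ∑ i ∈ C, (b i) ^ 2 = 0
    · rw [hS0] at hS2'
      linarith
    · have h1' : (1 : ℤ) ≤ ∑ i ∈ C, (b i) ^ 2 := by omega
      have h2' : (m : ℤ) * 1 ≤ m * ∑ i ∈ C, (b i) ^ 2 :=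
        mul_le_mul_of_nonneg_left h1' (by linarith)
      linarith
  · right
    have hr2 : (2 : ℤ) ≤ r := by
      have : 2 ≤ r := by omega
      exact_mod_cast this
    have hmr : (m : ℤ) ≤ r + 1 := by
      by_contra hcon
      push Not at hcon
      nlinarith
    have hreq : (r : ℤ) = m - 1 := by linarith
    refine ⟨q + 1, ?_⟩
    rw [e4, hreq]; ring

section

variable {H : Type u} [Group H] [Fintype H]

theorem dvd_of_ramified_cyclic (N : Subgroup H) [hN : N.Normal] [Fintype N]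
    (hcyc : IsCyclic (H ⧸ N)) {θ : N → ℂ} (hθ : IsIrrCharacter N θ)
    (hinv : ∀ (h : H) (n : N), θ ⟨h * n * h⁻¹, hN.conj_mem n n.2 h⟩ = θ n)
    {Ψ : H → ℂ} (hΨ : IsCharacter H Ψ) (e : ℕ) (hΨN : ∀ n : N, Ψ n = e * θ n)
    (hm2 : 2 ≤ N.index)
    (hcoset : ∀ h : H, h ∉ N → ∑ n : N, Ψ (n * h) * conj (Ψ (n * h)) = (Nat.card N : ℂ)) :
    (N.index : ℤ) ∣ (e : ℤ) - 1 ∨ (N.index : ℤ) ∣ (e : ℤ) + 1 := by
  classical
  have : Fintype (IrrCharacter H) := Fintype.ofFinite _
  obtain ⟨C, hCcard, hCirr, hind⟩ := Helper84.indFun_eq_sum_of_cyclic_quotient N hcyc hθ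
    (fun h => by funext n; exact hinv h n)
  set m := N.index with hm
  have hΨcf : IsClassFunction H Ψ := Helper83.char_isClassFunction hΨ
  -- multiplicities
  let a : (H → ℂ) → ℕ := fun μ =>
    if h : IsIrrCharacter H μ then Helper83.irrMult Ψ ⟨μ, h⟩ else 0
  have ha : ∀ μ ∈ C, (a μ : ℂ) = classInner Ψ μ := by
    intro μ hμ
    simp only [a, dif_pos (hCirr μ hμ)]
    exact Helper83.irrMult_cast hΨ ⟨μ, hCirr μ hμ⟩
  have hθθ : classInner θ θ = 1 := Helper83.irr_inner_self ⟨θ, hθ⟩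
  have hresN : (fun n : N => Ψ n) = (e : ℂ) • θ := by
    funext n; simp [hΨN n]
  -- sum of multiplicities
  have hsum1 : ∑ μ ∈ C, a μ = e := by
    have : ((∑ μ ∈ C, a μ : ℕ) : ℂ) = (e : ℂ) := by
      push_cast
      rw [Finset.sum_congr rfl ha, ← Helper83.classInner_sum_right, ← hind,
        Helper34.classInner_indFun_right N θ Ψ hΨcf, hresN, Helper83.classInner_smul_left, hθθ,
        mul_one]
    exact_mod_cast this
  -- constituents of Ψ lie in C
  have hconst : ∀ ν : IrrCharacter H, Helper83.irrMult Ψ ν ≠ 0 → (ν : H → ℂ) ∈ C := by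
    intro ν hν
    have hνc := Helper83.IrrCharacter_isCharacter ν
    have hνN : IsCharacter N (fun n : N => (ν : H → ℂ) n) := Helper83.isCharacter_restrict N hνc
    obtain ⟨A', hA', hA⟩ := Helper84.exists_char_sub hΨ ν
    -- `ν_N` has `θ` as a constituent
    have hνθ : classInner (fun n : N => (ν : H → ℂ) n) θ ≠ 0 := by
      intro h0
      -- decompose ν_N; every constituent τ satisfies [eθ, τ] ≠ 0 hence τ = θ
      have : Fintype (IrrCharacter N) := Fintype.ofFinite _
      have hdec := Helper83.char_eq_sum_irrMult hνN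
      have hall : ∀ τ : IrrCharacter N, Helper83.irrMult (fun n : N => (ν : H → ℂ) n) τ = 0 := by
        intro τ
        by_contra hτ
        have hτθ : (τ : N → ℂ) = θ := by
          by_contra hne
          have h1 : classInner (fun n : N => Ψ n) (τ : N → ℂ) = 0 := by
            rw [hresN, Helper83.classInner_smul_left,
              Helper05.classInner_irr_ne hθ τ.2 (fun h => hne h.symm), mul_zero]
          have h2 : (fun n : N => Ψ n) =
              (Helper83.irrMult Ψ ν : ℂ) • (fun n : N => (ν : H → ℂ) n) + fun n : N => A' n := by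
            funext n
            have := congrFun hA (n : H)
            simpa using this
          rw [h2, Helper83.classInner_add_left, Helper83.classInner_smul_left] at h1
          obtain ⟨k1, hk1⟩ := Helper83.classInner_char_nat hνN (Helper83.IrrCharacter_isCharacter τ)
          obtain ⟨k2, hk2⟩ := Helper83.classInner_char_nat (Helper83.isCharacter_restrict N hA')
            (Helper83.IrrCharacter_isCharacter τ)
          rw [hk1, hk2] at h1
          have hk1' : k1 ≠ 0 := by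
            intro h0'
            apply hτ
            have := Helper83.irrMult_cast hνN τ
            rw [hk1, h0'] at this
            exact_mod_cast this
          have : Helper83.irrMult Ψ ν * k1 + k2 = 0 := by exact_mod_cast h1
          have : Helper83.irrMult Ψ ν * k1 = 0 := by omega
          rcases Nat.mul_eq_zero.mp this with h | h
          · exact hν h
          · exact hk1' h
        apply hτ
        have := Helper83.irrMult_cast hνN τ
        rw [hτθ, h0] at this
        exact_mod_cast this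
      have hz : (fun n : N => (ν : H → ℂ) n) = 0 := by
        rw [hdec]
        apply Finset.sum_eq_zero
        intro τ _
        rw [hall τ]; simp
      have := congrFun hz 1
      exact Helper83.irr_degree_ne_zero ν (by simpa using this)
    have h3 : classInner (ν : H → ℂ) (indFun N θ) ≠ 0 := by
      rw [Helper34.classInner_indFun_right N θ _ (Helper83.char_isClassFunction hνc)]
      exact hνθ
    rw [hind, Helper83.classInner_sum_right] at h3
    obtain ⟨μ, hμC, hμ⟩ := Finset.exists_ne_zero_of_sum_ne_zero h3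
    have : (ν : H → ℂ) = μ := by
      by_contra hne
      exact hμ (Helper05.classInner_irr_ne ν.2 (hCirr μ hμC) hne)
    rw [this]; exact hμC
  -- norm of Ψ
  have hnorm1 : classInner Ψ Ψ = ((∑ μ ∈ C, (a μ) ^ 2 : ℕ) : ℂ) := by
    have hdec := Helper83.char_eq_sum_irrMult hΨ
    conv_lhs => rw [hdec]
    rw [Helper83.classInner_sum_irr_self]
    have e1 : ∀ ν : IrrCharacter H,
        (Helper83.irrMult Ψ ν : ℂ) * conj (Helper83.irrMult Ψ ν : ℂ) =
          if (ν : H → ℂ) ∈ C then (((a (ν : H → ℂ)) ^ 2 : ℕ) : ℂ) else (0 : ℂ) := by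
      intro ν
      by_cases hνC : (ν : H → ℂ) ∈ C
      · rw [if_pos hνC]
        have : a (ν : H → ℂ) = Helper83.irrMult Ψ ν := by
          simp only [a, dif_pos ν.2]
        rw [this]
        simp [sq]
      · rw [if_neg hνC]
        have : Helper83.irrMult Ψ ν = 0 := by
          by_contra h; exact hνC (hconst ν h)
        rw [this]; simp
    rw [Finset.sum_congr rfl (fun ν _ => e1 ν)]
    have e2 : ∑ ν : IrrCharacter H,
        (if (ν : H → ℂ) ∈ C then (((a (ν : H → ℂ)) ^ 2 : ℕ) : ℂ) else (0 : ℂ)) =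
        ∑ μ ∈ (Finset.univ : Finset (IrrCharacter H)).map ⟨Subtype.val, Subtype.val_injective⟩,
          (if μ ∈ C then (((a μ) ^ 2 : ℕ) : ℂ) else (0 : ℂ)) := by
      rw [Finset.sum_map]; rfl
    rw [e2, Finset.sum_ite_mem]
    have e3 : (Finset.univ : Finset (IrrCharacter H)).map ⟨Subtype.val, Subtype.val_injective⟩ ∩ C
        = C := by
      apply Finset.inter_eq_right.mpr
      intro μ hμ
      rw [Finset.mem_map]
      exact ⟨⟨μ, hCirr μ hμ⟩, Finset.mem_univ _, rfl⟩
    rw [e3]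
    push_cast
    rfl
  -- compute the norm from the coset sums
  have hNcard : (Nat.card N : ℂ) ≠ 0 := by
    exact_mod_cast (Nat.card_pos (α := N)).ne'
  have hHcard : (Nat.card H : ℂ) = (m : ℂ) * (Nat.card N : ℂ) := by
    rw [hm, ← Nat.cast_mul, N.index_mul_card]
  have hθsum : ∑ n : N, θ n * conj (θ n) = (Nat.card N : ℂ) := by
    have := hθθ
    rw [Helper83.classInner_def] at this
    field_simp at this
    exact this
  have hG : ∀ h : H, ∑ n : N, Ψ (n * h) * conj (Ψ (n * h)) =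
      if h ∈ N then (e : ℂ) ^ 2 * (Nat.card N : ℂ) else (Nat.card N : ℂ) := by
    intro h
    by_cases hh : h ∈ N
    · rw [if_pos hh]
      have : ∑ n : N, Ψ (n * h) * conj (Ψ (n * h)) =
          ∑ n : N, Ψ (n : H) * conj (Ψ (n : H)) := by
        apply Fintype.sum_equiv (Equiv.mulRight (⟨h, hh⟩ : N))
        intro n; rfl
      rw [this]
      have : ∀ n : N, Ψ (n : H) * conj (Ψ (n : H)) = (e : ℂ) ^ 2 * (θ n * conj (θ n)) := by
        intro n
        rw [hΨN n]
        simp only [map_mul, Complex.conj_natCast]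
        ring
      rw [Finset.sum_congr rfl (fun n _ => this n), ← Finset.mul_sum, hθsum]
    · rw [if_neg hh]
      exact hcoset h hh
  have hswap : ∑ h : H, ∑ n : N, Ψ (n * h) * conj (Ψ (n * h)) =
      (Nat.card N : ℂ) * ∑ h : H, Ψ h * conj (Ψ h) := by
    rw [Finset.sum_comm]
    have : ∀ n : N, ∑ h : H, Ψ (n * h) * conj (Ψ (n * h)) = ∑ h : H, Ψ h * conj (Ψ h) := by
      intro n
      apply Fintype.sum_equiv (Equiv.mulLeft (n : H))
      intro h; rfl
    rw [Finset.sum_congr rfl (fun n _ => this n), Finset.sum_const, Finset.card_univ,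
      nsmul_eq_mul, Nat.card_eq_fintype_card]
  have hcount : ∑ h : H, (if h ∈ N then (e : ℂ) ^ 2 * (Nat.card N : ℂ) else (Nat.card N : ℂ)) =
      (Nat.card N : ℂ) * ((e : ℂ) ^ 2 * (Nat.card N : ℂ)) +
        ((Nat.card H : ℂ) - (Nat.card N : ℂ)) * (Nat.card N : ℂ) := by
    have e1 : ∀ h : H, (if h ∈ N then (e : ℂ) ^ 2 * (Nat.card N : ℂ) else (Nat.card N : ℂ)) =
        (Nat.card N : ℂ) + (if h ∈ N then ((e : ℂ) ^ 2 - 1) * (Nat.card N : ℂ) else 0) := by
      intro h
      by_cases hh : h ∈ N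
      · rw [if_pos hh, if_pos hh]; ring
      · rw [if_neg hh, if_neg hh]; ring
    rw [Finset.sum_congr rfl (fun h _ => e1 h), Finset.sum_add_distrib, Finset.sum_const,
      Finset.card_univ, nsmul_eq_mul, ← Nat.card_eq_fintype_card]
    have e2 : ∑ h : H, (if h ∈ N then ((e : ℂ) ^ 2 - 1) * (Nat.card N : ℂ) else 0) =
        (Nat.card N : ℂ) * (((e : ℂ) ^ 2 - 1) * (Nat.card N : ℂ)) := by
      rw [← Helper83.sum_subgroup_eq_sum_ite N (fun _ => ((e : ℂ) ^ 2 - 1) * (Nat.card N : ℂ))]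
      rw [Finset.sum_const, Finset.card_univ, nsmul_eq_mul, Nat.card_eq_fintype_card]
    rw [e2]; ring
  have hnorm2 : (m : ℂ) * classInner Ψ Ψ = (e : ℂ) ^ 2 + m - 1 := by
    have h1 : (Nat.card N : ℂ) * ∑ h : H, Ψ h * conj (Ψ h) =
        (Nat.card N : ℂ) * ((e : ℂ) ^ 2 * (Nat.card N : ℂ)) +
          ((Nat.card H : ℂ) - (Nat.card N : ℂ)) * (Nat.card N : ℂ) := by
      rw [← hswap, Finset.sum_congr rfl (fun h _ => hG h), hcount]
    have h2 : ∑ h : H, Ψ h * conj (Ψ h) =
        (e : ℂ) ^ 2 * (Nat.card N : ℂ) + ((Nat.card H : ℂ) - (Nat.card N : ℂ)) := by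
      apply mul_left_cancel₀ hNcard
      rw [h1]; ring
    rw [Helper83.classInner_def, h2, hHcard]
    have hm0 : (m : ℂ) ≠ 0 := by
      have : 0 < m := by omega
      exact_mod_cast this.ne'
    field_simp
    ring
  have hsum2 : m * ∑ μ ∈ C, (a μ) ^ 2 + 1 = e ^ 2 + m := by
    rw [hnorm1] at hnorm2
    have : ((m * ∑ μ ∈ C, (a μ) ^ 2 + 1 : ℕ) : ℂ) = ((e ^ 2 + m : ℕ) : ℂ) := by
      push_cast
      push_cast at hnorm2
      rw [hnorm2]; ring
    exact_mod_cast this
  exact ramified_arith C a m e hm2 hCcard hsum1 hsum2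

end

end Cfsg.Agent.Lib.Helper80
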