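import Mathlib
import Cfsg.Agent.Lib.Helper80.RamifiedCyclic
import Cfsg.Agent.Lib.Helper04.GlaubOrtho
import Cfsg.Agent.Lib.Helper85.DadeExt
import Cfsg.Agent.Lib.Helper84.Ramified
import Cfsg.Agent.Lib.Helper33.IrrComp
import Cfsg.Agent.S0886

/-!
# Fully ramified sections under a cyclic Frobenius action (helper80)

* `coset_norm_of_comm`: coset orthogonality (Isaacs 8.14) for a normal subgroup with commutative
  quotient.
* `exists_comm_mul_mem`: in a Frobenius-type action every coset of `N` in `G` contains a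
  commutator `[g, y]`.
* `coset_norm_frobenius`: the norm of an extension `χ̂` over a coset `N y`, `y ∉ G`, is `|N|`.
* `ramified_frobenius`: the divisibility `|Γ : G| ∣ e ± 1`.
-/

set_option autoImplicit false
set_option linter.style.haveILetI false

namespace Cfsg.Agent.Lib.Helper80

open Cfsg
open scoped ComplexConjugate

section

variable {Γ : Type*} [Group Γ] [Fintype Γ]

/-- Coset orthogonality when the quotient is commutative. -/
theorem coset_norm_of_comm (G : Subgroup Γ) [hGn : G.Normal] [Fintype G]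
    (hcomm : ∀ a b : Γ ⧸ G, a * b = b * a) (s : Γ) {χh : Γ → ℂ}
    (hχ : IsIrrCharacter Γ χh) (hχG : IsIrrCharacter G (fun g : G => χh g)) :
    ∑ g : G, χh ((g : Γ) * s) * conj (χh ((g : Γ) * s)) = (Nat.card G : ℂ) := by
  classical
  have _ : Fintype (Γ ⧸ G) := Fintype.ofFinite _
  have _ : Fintype (IrrCharacter (Γ ⧸ G)) := Fintype.ofFinite _
  have hcol : ∀ x : Γ, ∑ β : IrrCharacter (Γ ⧸ G), (β : Γ ⧸ G → ℂ) (x : Γ ⧸ G) *
      conj ((β : Γ ⧸ G → ℂ) (s : Γ ⧸ G))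
        = if (x : Γ ⧸ G) = (s : Γ ⧸ G) then (Nat.card (Γ ⧸ G) : ℂ) else 0 := by
    intro x
    have h := Helper04.column_orthogonality (G := Γ ⧸ G) (x : Γ ⧸ G) (s : Γ ⧸ G)
    rw [finsum_eq_sum_of_fintype] at h
    split_ifs with hx
    · have h1 := h.1 (by rw [hx])
      rw [h1]
      have : Subgroup.centralizer ({(x : Γ ⧸ G)} : Set (Γ ⧸ G)) = ⊤ := by
        ext y
        simp only [Subgroup.mem_centralizer_singleton_iff, Subgroup.mem_top, iff_true]
        exact hcomm _ _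
      rw [this, Subgroup.card_top]
    · apply h.2
      intro hc
      rw [isConj_iff] at hc
      obtain ⟨c, hc⟩ := hc
      apply hx
      rw [← hc, hcomm c, mul_assoc, mul_inv_cancel, mul_one]
  have h : (Nat.card (Γ ⧸ G) : ℂ) * ∑ g : G, χh ((g : Γ) * s) * conj (χh ((g : Γ) * s))
      = (Nat.card Γ : ℂ) * ∑ β : IrrCharacter (Γ ⧸ G), conj ((β : Γ ⧸ G → ℂ) (s : Γ ⧸ G)) *
          classInner (fun x : Γ => (β : Γ ⧸ G → ℂ) (x : Γ ⧸ G) * χh x) χh := by
    rw [Helper04.sum_coset_eq G s (fun x => χh x * conj (χh x)), Finset.mul_sum]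
    have h1 : ∀ x : Γ, (Nat.card (Γ ⧸ G) : ℂ) * (if (x : Γ ⧸ G) = (s : Γ ⧸ G)
        then χh x * conj (χh x) else 0)
        = ∑ β : IrrCharacter (Γ ⧸ G), conj ((β : Γ ⧸ G → ℂ) (s : Γ ⧸ G)) *
          (((β : Γ ⧸ G → ℂ) (x : Γ ⧸ G) * χh x) * conj (χh x)) := by
      intro x
      have h2 : ∑ β : IrrCharacter (Γ ⧸ G), conj ((β : Γ ⧸ G → ℂ) (s : Γ ⧸ G)) *
          (((β : Γ ⧸ G → ℂ) (x : Γ ⧸ G) * χh x) * conj (χh x))
          = (∑ β : IrrCharacter (Γ ⧸ G), (β : Γ ⧸ G → ℂ) (x : Γ ⧸ G) *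
              conj ((β : Γ ⧸ G → ℂ) (s : Γ ⧸ G))) * (χh x * conj (χh x)) := by
        rw [Finset.sum_mul]
        apply Finset.sum_congr rfl
        intro β _
        ring
      rw [h2, hcol x]
      split_ifs <;> simp
    rw [Finset.sum_congr rfl (fun x _ => h1 x), Finset.sum_comm, Finset.mul_sum]
    apply Finset.sum_congr rfl
    intro β _
    rw [classInner, ← Finset.mul_sum]
    have hΓ : (Nat.card Γ : ℂ) ≠ 0 := by
      have : Nat.card Γ ≠ 0 := Nat.card_pos.ne'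
      exact_mod_cast this
    field_simp
  let one : IrrCharacter (Γ ⧸ G) := ⟨fun _ => 1, Cfsg.Agent.Lib.Helper05.isIrrCharacter_one⟩
  have hone : (fun x : Γ => (one : Γ ⧸ G → ℂ) (x : Γ ⧸ G) * χh x) = χh := by
    funext x; simp [one]
  have h1 : ∀ β : IrrCharacter (Γ ⧸ G),
      classInner (fun x : Γ => (β : Γ ⧸ G → ℂ) (x : Γ ⧸ G) * χh x) χh
        = if β = one then 1 else 0 := by
    intro β
    have := Cfsg.Agent.Lib.Helper85.gallagher_inner G hχ hχG β one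
    rw [hone] at this
    exact this
  simp only [h1] at h
  rw [Finset.sum_eq_single one] at h
  · simp only [if_true, mul_one] at h
    have h2 : conj ((one : Γ ⧸ G → ℂ) (s : Γ ⧸ G)) = 1 := by simp [one]
    rw [h2, mul_one] at h
    have h3 : (Nat.card Γ : ℂ) = (Nat.card (Γ ⧸ G) : ℂ) * (Nat.card G : ℂ) := by
      rw [← Nat.cast_mul, ← Subgroup.index_eq_card, mul_comm, Subgroup.card_mul_index]
    rw [h3] at h
    have hQ : (Nat.card (Γ ⧸ G) : ℂ) ≠ 0 := by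
      have : Nat.card (Γ ⧸ G) ≠ 0 := Nat.card_pos.ne'
      exact_mod_cast this
    exact mul_left_cancel₀ hQ h
  · intro β _ hβ
    rw [if_neg hβ, mul_zero]
  · intro h0
    exact absurd (Finset.mem_univ _) h0

/-- In a Frobenius-type action every coset of `N` in `G` contains a commutator `[g, y]`. -/
theorem exists_comm_mul_mem (G N : Subgroup Γ) [hG : G.Normal] [hN : N.Normal] (hNG : N ≤ G)
    (hfrob : ∀ x : Γ, x ∉ G → ∀ g : Γ, g ∈ G → x * g * x⁻¹ * g⁻¹ ∈ N → g ∈ N)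
    {y : Γ} (hy : y ∉ G) {t : Γ} (ht : t ∈ G) :
    ∃ g : Γ, g ∈ G ∧ (g * y * g⁻¹ * y⁻¹)⁻¹ * t ∈ N := by
  classical
  have hmem : ∀ g : Γ, g ∈ G → g * y * g⁻¹ * y⁻¹ ∈ G := by
    intro g hg
    have h1 : y * g⁻¹ * y⁻¹ ∈ G := hG.conj_mem _ (G.inv_mem hg) y
    have : g * y * g⁻¹ * y⁻¹ = g * (y * g⁻¹ * y⁻¹) := by group
    rw [this]
    exact G.mul_mem hg h1
  let NG : Subgroup G := N.subgroupOf G
  let φ : G ⧸ NG → G ⧸ NG := fun q =>
    QuotientGroup.mk (⟨(q.out : Γ) * y * (q.out : Γ)⁻¹ * y⁻¹, hmem _ q.out.2⟩ : G)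
  have hinj : Function.Injective φ := by
    intro q q' hqq
    simp only [φ] at hqq
    rw [QuotientGroup.eq] at hqq
    have h1 : ((q.out : Γ) * y * (q.out : Γ)⁻¹ * y⁻¹)⁻¹ *
        ((q'.out : Γ) * y * (q'.out : Γ)⁻¹ * y⁻¹) ∈ N := hqq
    set a : Γ := (q.out : Γ) with ha
    set b : Γ := (q'.out : Γ) with hb
    have hk : a⁻¹ * b ∈ G := G.mul_mem (G.inv_mem q.out.2) q'.out.2
    have h2 : (y * a * y⁻¹)⁻¹ * ((a * y * a⁻¹ * y⁻¹)⁻¹ * (b * y * b⁻¹ * y⁻¹)) * (y * a * y⁻¹)⁻¹⁻¹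
        ∈ N := hN.conj_mem _ h1 _
    have h3 : (y * a * y⁻¹)⁻¹ * ((a * y * a⁻¹ * y⁻¹)⁻¹ * (b * y * b⁻¹ * y⁻¹)) * (y * a * y⁻¹)⁻¹⁻¹
        = (y * (a⁻¹ * b) * y⁻¹ * (a⁻¹ * b)⁻¹)⁻¹ := by group
    rw [h3] at h2
    have h4 := hfrob y hy (a⁻¹ * b) hk (by simpa using N.inv_mem h2)
    have h5 : (QuotientGroup.mk q.out : G ⧸ NG) = QuotientGroup.mk q'.out := by
      rw [QuotientGroup.eq]
      exact h4
    rwa [QuotientGroup.out_eq', QuotientGroup.out_eq'] at h5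
  have hsurj : Function.Surjective φ := Finite.injective_iff_surjective.mp hinj
  obtain ⟨q, hq⟩ := hsurj (QuotientGroup.mk (⟨t, ht⟩ : G))
  refine ⟨(q.out : Γ), q.out.2, ?_⟩
  simp only [φ] at hq
  rw [QuotientGroup.eq] at hq
  exact hq

/-- The coset sums `∑_{n ∈ N} F (n t y)` of a class function do not depend on `t ∈ G`. -/
theorem coset_sum_const (G N : Subgroup Γ) [hG : G.Normal] [hN : N.Normal] [Fintype N]
    (hNG : N ≤ G)
    (hfrob : ∀ x : Γ, x ∉ G → ∀ g : Γ, g ∈ G → x * g * x⁻¹ * g⁻¹ ∈ N → g ∈ N)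
    {F : Γ → ℂ} (hF : ∀ a w : Γ, F (a * w * a⁻¹) = F w)
    {y : Γ} (hy : y ∉ G) {t : Γ} (ht : t ∈ G) :
    ∑ n : N, F ((n : Γ) * t * y) = ∑ n : N, F ((n : Γ) * y) := by
  obtain ⟨g, hg, hgt⟩ := exists_comm_mul_mem G N hNG hfrob hy ht
  have hc : g⁻¹ * t * y * g * y⁻¹ ∈ N := by
    have h2 := hN.conj_mem _ hgt (y * g * y⁻¹)⁻¹
    have h3 : (y * g * y⁻¹)⁻¹ * ((g * y * g⁻¹ * y⁻¹)⁻¹ * t) * (y * g * y⁻¹)⁻¹⁻¹
        = g⁻¹ * t * y * g * y⁻¹ := by group
    rwa [h3] at h2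
  let σ : N ≃ N := (MulAut.conjNormal g⁻¹ : MulAut N).toEquiv.trans
    (Equiv.mulRight ⟨g⁻¹ * t * y * g * y⁻¹, hc⟩)
  apply Fintype.sum_equiv σ
  intro n
  have h1 : ((σ n : N) : Γ) * y = g⁻¹ * ((n : Γ) * t * y) * g⁻¹⁻¹ := by
    simp only [σ, Equiv.trans_apply, MulEquiv.toEquiv_eq_coe, MulEquiv.coe_toEquiv,
      Equiv.coe_mulRight, Subgroup.coe_mul, MulAut.conjNormal_apply]
    group
  rw [h1, hF]

/-- The norm of an extension over a coset `N y` with `y ∉ G`. -/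
theorem coset_norm_frobenius (G N : Subgroup Γ) [hG : G.Normal] [hN : N.Normal] [Fintype G]
    [Fintype N] (hNG : N ≤ G) (hcomm : ∀ a b : Γ ⧸ G, a * b = b * a)
    (hfrob : ∀ x : Γ, x ∉ G → ∀ g : Γ, g ∈ G → x * g * x⁻¹ * g⁻¹ ∈ N → g ∈ N)
    {χh : Γ → ℂ} (hχ : IsIrrCharacter Γ χh) (hχG : IsIrrCharacter G (fun g : G => χh g))
    {y : Γ} (hy : y ∉ G) :
    ∑ n : N, χh ((n : Γ) * y) * conj (χh ((n : Γ) * y)) = (Nat.card N : ℂ) := by
  classical
  set F : Γ → ℂ := fun w => χh w * conj (χh w) with hFdef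
  have hcf : IsClassFunction Γ χh := Helper83.char_isClassFunction (Helper83.isCharacter_of_irr hχ)
  have hF : ∀ a w : Γ, F (a * w * a⁻¹) = F w := by
    intro a w
    simp only [hFdef]
    rw [hcf w a]
  have hZ : ∀ s : Γ, ∑ g : G, F ((g : Γ) * s) = (Nat.card G : ℂ) :=
    fun s => coset_norm_of_comm G hcomm s hχ hχG
  -- double sum
  have h1 : ∑ t : G, ∑ n : N, F ((n : Γ) * (t : Γ) * y) = (Nat.card N : ℂ) * (Nat.card G : ℂ) := by
    rw [Finset.sum_comm]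
    have : ∀ n : N, ∑ t : G, F ((n : Γ) * (t : Γ) * y) = (Nat.card G : ℂ) := by
      intro n
      rw [← hZ y]
      apply Fintype.sum_equiv (Equiv.mulLeft (⟨(n : Γ), hNG n.2⟩ : G))
      intro t
      simp
    rw [Finset.sum_congr rfl (fun n _ => this n)]
    simp [Nat.card_eq_fintype_card]
  have h2 : ∀ t : G, ∑ n : N, F ((n : Γ) * (t : Γ) * y) = ∑ n : N, F ((n : Γ) * y) :=
    fun t => coset_sum_const G N hNG hfrob hF hy t.2
  rw [Finset.sum_congr rfl (fun t _ => h2 t)] at h1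
  simp only [Finset.sum_const, Finset.card_univ, nsmul_eq_mul] at h1
  have hG0 : (Nat.card G : ℂ) ≠ 0 := by
    have : Nat.card G ≠ 0 := Nat.card_pos.ne'
    exact_mod_cast this
  rw [← Nat.card_eq_fintype_card, mul_comm] at h1
  exact mul_right_cancel₀ hG0 h1

/-- **Fully ramified section under a cyclic Frobenius action.** -/
theorem ramified_frobenius (G N : Subgroup Γ) [hG : G.Normal] [hN : N.Normal] [Fintype G]
    [Fintype N] (hNG : N ≤ G) (hGlt : G ≠ ⊤) (hcyc : IsCyclic (Γ ⧸ G))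
    (hfrob : ∀ x : Γ, x ∉ G → ∀ g : Γ, g ∈ G → x * g * x⁻¹ * g⁻¹ ∈ N → g ∈ N)
    (θ : Cfsg.IrrCharacter N)
    (hinv : ∀ (x : Γ) (n : N),
      (θ : N → ℂ) ⟨x * n * x⁻¹, hN.conj_mem n n.2 x⟩ = (θ : N → ℂ) n)
    (χ : Cfsg.IrrCharacter G) (e : ℕ)
    (hram : Cfsg.indFun (N.subgroupOf G)
      (fun n : N.subgroupOf G => (θ : N → ℂ) ⟨(n : G), n.2⟩) =
        fun g => (e : ℂ) * (χ : G → ℂ) g) :
    (G.index : ℤ) ∣ (e : ℤ) - 1 ∨ (G.index : ℤ) ∣ (e : ℤ) + 1 := by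
  classical
  set NG : Subgroup G := N.subgroupOf G with hNGdef
  have : Fintype NG := Fintype.ofFinite _
  set θ' : NG → ℂ := fun n : NG => (θ : N → ℂ) ⟨(n : G), n.2⟩ with hθ'
  have hcommQ : ∀ a b : Γ ⧸ G, a * b = b * a := by
    exact isMulCommutative_iff.mp (IsCyclic.commutative (α := Γ ⧸ G))
  -- θ' is irreducible and invariant
  have hθ'irr : IsIrrCharacter NG θ' := by
    have h := Helper33.isIrrCharacter_comp_of_surjective
      (Subgroup.subgroupOfEquivOfLe hNG).toMonoidHom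
      (Subgroup.subgroupOfEquivOfLe hNG).surjective θ.2
    exact h
  have hinv' : ∀ (g : G) (n : NG),
      θ' ⟨g * n * g⁻¹, (inferInstance : NG.Normal).conj_mem n n.2 g⟩ = θ' n := by
    intro g n
    exact hinv (g : Γ) ⟨((n : G) : Γ), n.2⟩
  have hind : ∀ g : G, (e : ℂ) * (χ : G → ℂ) g = (NG.index : ℂ) * extendByZero NG θ' g := by
    intro g
    rw [← Helper85.indFun_of_invariant NG θ' hinv' g, hram]
  have hidx0 : (NG.index : ℂ) ≠ 0 := by
    have : NG.index ≠ 0 := Subgroup.index_ne_zero_of_finite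
    exact_mod_cast this
  have hθ1 : (θ : N → ℂ) 1 ≠ 0 := Helper83.irr_degree_ne_zero θ
  -- e ≠ 0
  have he0 : (e : ℂ) ≠ 0 := by
    intro h0
    have h1 := hind 1
    rw [h0, zero_mul, Helper04.extendByZero_apply_of_mem NG θ' 1 (one_mem _)] at h1
    have : θ' ⟨1, one_mem _⟩ = (θ : N → ℂ) 1 := rfl
    rw [this] at h1
    exact (mul_ne_zero hidx0 hθ1) h1.symm
  -- e² = index
  have hesq : (e : ℂ) * (e : ℂ) = (NG.index : ℂ) := by
    have h1 := Helper84.classInner_indFun_self_of_invariant (N := NG) hθ'irr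
      (fun g => by funext n; exact hinv' g n)
    rw [hram] at h1
    have h2 : (fun g => (e : ℂ) * (χ : G → ℂ) g) = (e : ℂ) • (χ : G → ℂ) := by
      funext g; simp
    rw [h2, Helper83.classInner_smul_left, Helper83.classInner_smul_right,
      Helper83.irr_inner_self χ, mul_one, Complex.conj_natCast] at h1
    exact h1
  -- χ on N
  have hχN : ∀ n : N, (χ : G → ℂ) ⟨(n : Γ), hNG n.2⟩ = (e : ℂ) * (θ : N → ℂ) n := by
    intro n
    have h1 := hind ⟨(n : Γ), hNG n.2⟩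
    rw [Helper04.extendByZero_apply_of_mem NG θ' _ (show (⟨(n : Γ), hNG n.2⟩ : G) ∈ NG from n.2),
      ← hesq, mul_assoc] at h1
    have : θ' ⟨⟨(n : Γ), hNG n.2⟩, n.2⟩ = (θ : N → ℂ) n := rfl
    rw [this] at h1
    exact mul_left_cancel₀ he0 h1
  -- χ is Γ-invariant
  have hχinv : ∀ (x : Γ) (g : G),
      (χ : G → ℂ) ⟨x * g * x⁻¹, hG.conj_mem g g.2 x⟩ = (χ : G → ℂ) g := by
    intro x g
    apply mul_left_cancel₀ he0
    rw [hind, hind]
    congr 1
    by_cases hg : g ∈ NG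
    · have hg' : (⟨x * g * x⁻¹, hG.conj_mem g g.2 x⟩ : G) ∈ NG :=
        hN.conj_mem _ hg x
      rw [Helper04.extendByZero_apply_of_mem NG θ' _ hg', Helper04.extendByZero_apply_of_mem NG θ' _ hg]
      exact hinv x ⟨(g : Γ), hg⟩
    · have hg' : (⟨x * g * x⁻¹, hG.conj_mem g g.2 x⟩ : G) ∉ NG := by
        intro hc
        apply hg
        have h1 : x * (g : Γ) * x⁻¹ ∈ N := hc
        have h2 := hN.conj_mem _ h1 x⁻¹
        have h3 : x⁻¹ * (x * (g : Γ) * x⁻¹) * x⁻¹⁻¹ = (g : Γ) := by group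
        rw [h3] at h2
        exact h2
      rw [Helper04.extendByZero_apply_not_mem NG θ' _ hg', Helper04.extendByZero_apply_not_mem NG θ' _ hg]
  -- the extension
  obtain ⟨χh, hχh, hχhG⟩ := Cfsg.Agent.S0886.result G hcyc (χ : G → ℂ) χ.2 hχinv
  have hχhGirr : IsIrrCharacter G (fun g : G => χh g) := by
    have : (fun g : G => χh g) = (χ : G → ℂ) := funext hχhG
    rw [this]
    exact χ.2
  -- generator
  obtain ⟨q, hq⟩ := hcyc.exists_generator
  obtain ⟨x, rfl⟩ := QuotientGroup.mk_surjective q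
  have hxG : x ∉ G := by
    intro hx
    apply hGlt
    rw [eq_top_iff]
    intro w _
    obtain ⟨k, hk⟩ := Subgroup.mem_zpowers_iff.mp (hq (QuotientGroup.mk w))
    rw [(QuotientGroup.eq_one_iff x).mpr hx, one_zpow] at hk
    exact (QuotientGroup.eq_one_iff w).mp hk.symm
  set H : Subgroup Γ := N ⊔ Subgroup.zpowers x with hH
  have hNH : N ≤ H := le_sup_left
  have hxH : x ∈ H := (le_sup_right : Subgroup.zpowers x ≤ H) (Subgroup.mem_zpowers x)
  have hHG : ∀ h : Γ, h ∈ H → h ∈ G → h ∈ N := by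
    intro h hh hhG
    have h1 : h ∈ ((N ⊔ Subgroup.zpowers x : Subgroup Γ) : Set Γ) := hh
    rw [Subgroup.normal_mul] at h1
    obtain ⟨n, hn, z, hz, rfl⟩ := h1
    have hzG : z ∈ G := by
      have h2 : n⁻¹ * (n * z) ∈ G := G.mul_mem (G.inv_mem (hNG hn)) hhG
      simpa using h2
    obtain ⟨k, rfl⟩ := Subgroup.mem_zpowers_iff.mp hz
    have h3 : x * x ^ k * x⁻¹ * (x ^ k)⁻¹ = 1 := by group
    have h4 := hfrob x hxG (x ^ k) hzG (by rw [h3]; exact one_mem _)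
    exact N.mul_mem hn h4
  have : Fintype H := Fintype.ofFinite _
  set NH : Subgroup H := N.subgroupOf H with hNHdef
  have : Fintype NH := Fintype.ofFinite _
  -- the isomorphism H/N ≃ Γ/G
  let φ : H →* Γ ⧸ G := (QuotientGroup.mk' G).comp H.subtype
  have hφsurj : Function.Surjective φ := by
    intro w
    obtain ⟨k, hk⟩ := Subgroup.mem_zpowers_iff.mp (hq w)
    refine ⟨⟨x ^ k, H.zpow_mem hxH k⟩, ?_⟩
    rw [← hk]
    rfl
  have hφker : φ.ker = NH := by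
    ext h
    rw [MonoidHom.mem_ker]
    change (QuotientGroup.mk (h : Γ) : Γ ⧸ G) = 1 ↔ (h : Γ) ∈ N
    rw [QuotientGroup.eq_one_iff]
    exact ⟨fun hh => hHG _ h.2 hh, fun hh => hNG hh⟩
  let ε : H ⧸ NH ≃* Γ ⧸ G :=
    (QuotientGroup.quotientMulEquivOfEq hφker.symm).trans
      (QuotientGroup.quotientKerEquivOfSurjective φ hφsurj)
  have hcycH : IsCyclic (H ⧸ NH) :=
    isCyclic_of_surjective ε.symm.toMonoidHom ε.symm.surjective
  have hidx : NH.index = G.index := by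
    rw [Subgroup.index_eq_card, Subgroup.index_eq_card]
    exact Nat.card_congr ε.toEquiv
  have hm2 : 2 ≤ NH.index := by
    rw [hidx]
    have h0 : G.index ≠ 0 := Subgroup.index_ne_zero_of_finite
    have h1 : G.index ≠ 1 := fun h => hGlt (Subgroup.index_eq_one.mp h)
    omega
  -- the data on H
  set θH : NH → ℂ := fun n : NH => (θ : N → ℂ) ⟨((n : H) : Γ), n.2⟩ with hθH
  have hθHirr : IsIrrCharacter NH θH := by
    have h := Helper33.isIrrCharacter_comp_of_surjective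
      (Subgroup.subgroupOfEquivOfLe hNH).toMonoidHom
      (Subgroup.subgroupOfEquivOfLe hNH).surjective θ.2
    exact h
  have hinvH : ∀ (h : H) (n : NH),
      θH ⟨h * n * h⁻¹, (inferInstance : NH.Normal).conj_mem n n.2 h⟩ = θH n := by
    intro h n
    exact hinv (h : Γ) ⟨((n : H) : Γ), n.2⟩
  set Ψ : H → ℂ := fun h : H => χh (h : Γ) with hΨ
  have hΨc : IsCharacter H Ψ :=
    Helper83.isCharacter_restrict H (Helper83.isCharacter_of_irr hχh)
  have hΨN : ∀ n : NH, Ψ n = (e : ℂ) * θH n := by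
    intro n
    have h1 := hχhG ⟨((n : H) : Γ), hNG n.2⟩
    have h2 := hχN ⟨((n : H) : Γ), n.2⟩
    simp only [hΨ, hθH]
    rw [← h2, ← h1]
  have hcoset : ∀ h : H, h ∉ NH →
      ∑ n : NH, Ψ (n * h) * conj (Ψ (n * h)) = (Nat.card NH : ℂ) := by
    intro h hh
    have hhG : (h : Γ) ∉ G := fun hc => hh (hHG _ h.2 hc)
    have h1 := coset_norm_frobenius G N hNG hcommQ hfrob hχh hχhGirr hhG
    have h2 : Nat.card NH = Nat.card N :=
      Nat.card_congr (Subgroup.subgroupOfEquivOfLe hNH).toEquiv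
    rw [h2, ← h1]
    apply Fintype.sum_equiv (Subgroup.subgroupOfEquivOfLe hNH).toEquiv
    intro n
    rfl
  have hfin := dvd_of_ramified_cyclic NH hcycH hθHirr hinvH hΨc e hΨN hm2 hcoset
  rw [hidx] at hfin
  exact hfin

end

end Cfsg.Agent.Lib.Helper80
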