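import Mathlib
import Cfsg.Agent.Lib.Helper80.PRootSums

/-!
# Weighted power sums of `n`-th roots of unity with values in `{0, 1, -1}` (helper80)

* `comb_dichotomy` : an integer function `a` on a finite set of size `n` with
  `n ∑ a² - (∑ a)² ≤ n - 1` is constant or of the shape `m + ε [i = i₀]`.
* `roots_sum_zero` : if `F k = ∑ w i * ω i ^ k` vanishes for `0 < k < n` then `n ∣ F 0`.
* `roots_dichotomy` : if `F k ∈ {0, 1, -1}` for `0 < k < n`, then either all those `F k` vanish or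
  `F k = ε η ^ k` for a sign `ε` and an `n`-th root of unity `η`, and `F 0 = n m + ε`.
-/

set_option autoImplicit false

namespace Cfsg.Agent.Lib.Helper80

open scoped ComplexConjugate

theorem exists_unique_one_of_sum_eq_one {α : Type*} [DecidableEq α] (s : Finset α) (c : α → ℤ)
    (h01 : ∀ i ∈ s, c i = 0 ∨ c i = 1) (hsum : ∑ i ∈ s, c i = 1) :
    ∃ i₀ ∈ s, ∀ i ∈ s, c i = if i = i₀ then 1 else 0 := by
  have hex : ∃ i₀ ∈ s, c i₀ = 1 := by
    by_contra hne
    push Not at hne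
    have : ∑ i ∈ s, c i = 0 :=
      Finset.sum_eq_zero (fun i hi => (h01 i hi).resolve_right (hne i hi))
    omega
  obtain ⟨i₀, hi₀, hc⟩ := hex
  refine ⟨i₀, hi₀, ?_⟩
  have h2 : ∑ i ∈ s.erase i₀, c i = 0 := by
    have := Finset.add_sum_erase s c hi₀
    omega
  have h3 := (Finset.sum_eq_zero_iff_of_nonneg (fun i hi => by
    rcases h01 i (Finset.mem_of_mem_erase hi) with h | h <;> omega)).mp h2
  intro i hi
  split_ifs with h
  · rw [h, hc]
  · exact h3 i (Finset.mem_erase.mpr ⟨h, hi⟩)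

theorem comb_dichotomy {α : Type*} [DecidableEq α] (s : Finset α) (a : α → ℤ)
    (hD : (s.card : ℤ) * ∑ i ∈ s, a i ^ 2 - (∑ i ∈ s, a i) ^ 2 ≤ (s.card : ℤ) - 1) :
    (∃ c, ∀ i ∈ s, a i = c) ∨
    (∃ (m ε : ℤ) (i₀ : α), i₀ ∈ s ∧ (ε = 1 ∨ ε = -1) ∧
      ∀ i ∈ s, a i = m + if i = i₀ then ε else 0) := by
  have hn1' : 1 ≤ (s.card : ℤ) := by
    by_contra h
    have h0 : s.card = 0 := by omega
    rw [Finset.card_eq_zero] at h0
    subst h0
    simp at hD
  set n : ℤ := (s.card : ℤ) with hn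
  have hn1 : 1 ≤ n := hn1'
  set S := ∑ i ∈ s, a i with hS
  set m := S / n with hm
  set j := S % n with hj
  have hj0 : 0 ≤ j := Int.emod_nonneg _ (by omega)
  have hjn : j < n := Int.emod_lt_of_pos _ (by omega)
  have hSmj : S = n * m + j := (Int.mul_ediv_add_emod S n).symm
  set b : α → ℤ := fun i => a i - m with hb
  have hbsum : ∑ i ∈ s, b i = j := by
    simp only [hb, Finset.sum_sub_distrib, Finset.sum_const, nsmul_eq_mul]
    linarith
  have hbsq' : ∑ i ∈ s, b i ^ 2 = ∑ i ∈ s, a i ^ 2 - 2 * m * S + n * m ^ 2 := by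
    have : ∑ i ∈ s, b i ^ 2 = ∑ i ∈ s, (a i ^ 2 - 2 * m * a i + m ^ 2) :=
      Finset.sum_congr rfl (fun i _ => by simp only [hb]; ring)
    rw [this, Finset.sum_add_distrib, Finset.sum_sub_distrib, ← Finset.mul_sum, Finset.sum_const,
      nsmul_eq_mul]
  have hbsq : n * ∑ i ∈ s, b i ^ 2 - j ^ 2 = n * ∑ i ∈ s, a i ^ 2 - S ^ 2 := by
    rw [hbsq', hSmj]; ring
  have hle : ∀ i, b i ≤ b i ^ 2 := fun i => Int.le_self_sq (b i)
  have hge : ∑ i ∈ s, b i ≤ ∑ i ∈ s, b i ^ 2 := Finset.sum_le_sum (fun i _ => hle i)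
  set B := ∑ i ∈ s, b i ^ 2 with hB
  have hBD : n * B - j ^ 2 ≤ n - 1 := by rw [hbsq]; exact hD
  rw [hbsum] at hge
  -- j ∈ {0, 1, n - 1}
  have hjcases : j = 0 ∨ j = 1 ∨ j = n - 1 := by
    by_contra hcon
    push Not at hcon
    obtain ⟨h0, h1, h2⟩ := hcon
    have h3 : 2 ≤ j := by omega
    have h4 : j ≤ n - 2 := by omega
    nlinarith [mul_le_mul_of_nonneg_left hge (by omega : (0 : ℤ) ≤ n),
      mul_nonneg (by omega : (0 : ℤ) ≤ j - 2) (by omega : (0 : ℤ) ≤ n - 2 - j)]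
  -- from `B = j` deduce `b ∈ {0,1}`
  have h01_of : B = j → ∀ i ∈ s, b i = 0 ∨ b i = 1 := by
    intro hBj i hi
    have hz : ∑ i ∈ s, (b i ^ 2 - b i) = 0 := by
      rw [Finset.sum_sub_distrib, ← hB, hbsum, hBj, sub_self]
    have := (Finset.sum_eq_zero_iff_of_nonneg (fun i _ => by linarith [hle i])).mp hz i hi
    have h5 : b i * (b i - 1) = 0 := by linarith [this, sq (b i)]
    rcases mul_eq_zero.mp h5 with h | h
    · exact Or.inl h
    · exact Or.inr (by omega)
  rcases hjcases with h0 | h1 | h2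
  · -- constant
    left
    refine ⟨m, ?_⟩
    rw [h0] at hBD
    have hB0 : B ≤ 0 := by
      by_contra hc
      have : 1 ≤ B := by omega
      nlinarith
    have hBnn : ∀ i ∈ s, 0 ≤ b i ^ 2 := fun i _ => sq_nonneg _
    have hB00 : B = 0 := le_antisymm hB0 (Finset.sum_nonneg hBnn)
    have := (Finset.sum_eq_zero_iff_of_nonneg hBnn).mp hB00
    intro i hi
    have h6 := this i hi
    have h7 : b i = 0 := by simpa using h6
    simp only [hb] at h7
    linarith
  · -- one extra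
    right
    rw [h1] at hBD hge
    have hB1 : B = 1 := by
      have : B ≤ 1 := by
        by_contra hc
        have : 2 ≤ B := by omega
        nlinarith
      omega
    have h01 := h01_of (by rw [hB1, h1])
    obtain ⟨i₀, hi₀, hc⟩ := exists_unique_one_of_sum_eq_one s b h01 (by rw [hbsum, h1])
    refine ⟨m, 1, i₀, hi₀, Or.inl rfl, ?_⟩
    intro i hi
    have := hc i hi
    simp only [hb] at this
    split_ifs with h
    · rw [if_pos h] at this; linarith
    · rw [if_neg h] at this; linarith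
  · -- one missing
    right
    rw [h2] at hBD hge
    have hBn : B = n - 1 := by
      have : B ≤ n - 1 := by
        by_contra hc
        have : n ≤ B := by omega
        nlinarith
      omega
    have h01 := h01_of (by rw [hBn, h2])
    have h01' : ∀ i ∈ s, (1 - b i) = 0 ∨ (1 - b i) = 1 := by
      intro i hi
      rcases h01 i hi with h | h
      · right; omega
      · left; omega
    have hsum' : ∑ i ∈ s, (1 - b i) = 1 := by
      rw [Finset.sum_sub_distrib, hbsum, h2, Finset.sum_const, nsmul_eq_mul, mul_one]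
      omega
    obtain ⟨i₀, hi₀, hc⟩ := exists_unique_one_of_sum_eq_one s (fun i => 1 - b i) h01' hsum'
    refine ⟨m + 1, -1, i₀, hi₀, Or.inr rfl, ?_⟩
    intro i hi
    have := hc i hi
    simp only [hb] at this
    split_ifs with h
    · rw [if_pos h] at this; linarith
    · rw [if_neg h] at this; linarith

theorem roots_sum_zero (n : ℕ) (hn : 0 < n) {ι : Type*} [Fintype ι] (w : ι → ℕ) (ω : ι → ℂ)
    (hω : ∀ i, ω i ^ n = 1)
    (hF : ∀ k, 0 < k → k < n → ∑ i, (w i : ℂ) * ω i ^ k = 0) :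
    ∃ m : ℕ, ∑ i, (w i : ℂ) * ω i ^ 0 = (n : ℂ) * m := by
  classical
  refine ⟨∑ i, if ω i = 1 then w i else 0, ?_⟩
  have h1 : ∑ k ∈ Finset.range n, ∑ i, (w i : ℂ) * ω i ^ k = ∑ i, (w i : ℂ) * ω i ^ 0 :=
    Finset.sum_eq_single_of_mem 0 (Finset.mem_range.mpr hn)
      (fun k hk hk0 => hF k (Nat.pos_of_ne_zero hk0) (Finset.mem_range.mp hk))
  rw [← h1, Finset.sum_comm]
  push_cast
  rw [Finset.mul_sum]
  apply Finset.sum_congr rfl
  intro i _
  rw [← Finset.mul_sum, sum_range_pow_root n (ω i) (hω i)]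
  split_ifs <;> ring

theorem roots_dichotomy (n : ℕ) (hn : 2 ≤ n) {ι : Type*} [Fintype ι] (w : ι → ℕ) (ω : ι → ℂ)
    (hω : ∀ i, ω i ^ n = 1)
    (hF : ∀ k, 0 < k → k < n → (∑ i, (w i : ℂ) * ω i ^ k = 0 ∨
      ∑ i, (w i : ℂ) * ω i ^ k = 1 ∨ ∑ i, (w i : ℂ) * ω i ^ k = -1)) :
    (∀ k, 0 < k → k < n → ∑ i, (w i : ℂ) * ω i ^ k = 0) ∨
    ∃ (m : ℕ) (ε : ℤ) (η : ℂ), (ε = 1 ∨ ε = -1) ∧ η ^ n = 1 ∧
      ∑ i, (w i : ℂ) * ω i ^ 0 = (n : ℂ) * m + ε ∧
      ∀ k, 0 < k → k < n → ∑ i, (w i : ℂ) * ω i ^ k = (ε : ℂ) * η ^ k := by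
  classical
  have hn0 : n ≠ 0 := by omega
  have : NeZero n := ⟨hn0⟩
  obtain ⟨ζ, hζ⟩ : ∃ ζ : ℂ, IsPrimitiveRoot ζ n := ⟨_, Complex.isPrimitiveRoot_exp n hn0⟩
  have hex : ∀ i, ∃ e : ℕ, e < n ∧ ζ ^ e = ω i := fun i => hζ.eq_pow_of_pow_eq_one (hω i)
  choose e he using hex
  set a : ℕ → ℤ := fun j => ∑ i, if e i = j then (w i : ℤ) else 0 with ha
  set F : ℕ → ℂ := fun k => ∑ i, (w i : ℂ) * ω i ^ k with hFdef
  have ha0 : ∀ j, 0 ≤ a j := fun j =>
    Finset.sum_nonneg (fun i _ => by split_ifs <;> positivity)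
  have hFa : ∀ k, F k = ∑ j ∈ Finset.range n, (a j : ℂ) * (ζ ^ j) ^ k := by
    intro k
    simp only [hFdef, ha]
    push_cast
    simp_rw [Finset.sum_mul]
    rw [Finset.sum_comm]
    apply Finset.sum_congr rfl
    intro i _
    rw [Finset.sum_eq_single (e i)]
    · simp [(he i).2]
    · intro j _ hj
      simp [Ne.symm hj]
    · intro h
      exact absurd (Finset.mem_range.mpr (he i).1) h
  have hζn : ζ ^ n = 1 := hζ.pow_eq_one
  have hζ0 : ζ ≠ 0 := hζ.ne_zero hn0
  have hconjζ : conj ζ = ζ⁻¹ := by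
    have hnorm : ‖ζ‖ = 1 := Complex.norm_eq_one_of_pow_eq_one hζn hn0
    exact (Complex.inv_eq_conj hnorm).symm
  have horth : ∀ j ∈ Finset.range n, ∀ j' ∈ Finset.range n,
      ∑ k ∈ Finset.range n, (ζ ^ j) ^ k * conj ((ζ ^ j') ^ k) = if j = j' then (n : ℂ) else 0 := by
    intro j hj j' hj'
    have h1 : ∀ k, (ζ ^ j) ^ k * conj ((ζ ^ j') ^ k) = (ζ ^ j * (ζ ^ j')⁻¹) ^ k := by
      intro k
      rw [map_pow, map_pow, hconjζ, mul_pow, inv_pow, inv_pow]
    simp_rw [h1]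
    have hμ : (ζ ^ j * (ζ ^ j')⁻¹) ^ n = 1 := by
      rw [mul_pow, inv_pow, ← pow_mul, ← pow_mul, mul_comm j, mul_comm j', pow_mul, pow_mul, hζn,
        one_pow, one_pow, inv_one, mul_one]
    rw [sum_range_pow_root n _ hμ]
    have hiff : ζ ^ j * (ζ ^ j')⁻¹ = 1 ↔ j = j' := by
      rw [mul_inv_eq_one₀ (pow_ne_zero _ hζ0)]
      constructor
      · intro h
        exact hζ.pow_inj (Finset.mem_range.mp hj) (Finset.mem_range.mp hj') h
      · intro h; rw [h]
    simp only [hiff]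
  have hpars : ∑ k ∈ Finset.range n, F k * conj (F k) =
      (n : ℂ) * ∑ j ∈ Finset.range n, ((a j : ℂ)) ^ 2 := by
    have h1 : ∀ k, F k * conj (F k) = ∑ j ∈ Finset.range n, ∑ j' ∈ Finset.range n,
        ((a j : ℂ) * (a j' : ℂ)) * ((ζ ^ j) ^ k * conj ((ζ ^ j') ^ k)) := by
      intro k
      rw [hFa k, map_sum, Finset.sum_mul_sum]
      apply Finset.sum_congr rfl
      intro j _
      apply Finset.sum_congr rfl
      intro j' _
      rw [map_mul, map_intCast]
      ring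
    simp_rw [h1]
    rw [Finset.sum_comm]
    have h2 : ∀ j ∈ Finset.range n, ∑ k ∈ Finset.range n, ∑ j' ∈ Finset.range n,
        ((a j : ℂ) * (a j' : ℂ)) * ((ζ ^ j) ^ k * conj ((ζ ^ j') ^ k)) =
        (n : ℂ) * (a j : ℂ) ^ 2 := by
      intro j hj
      rw [Finset.sum_comm]
      have h3 : ∀ j' ∈ Finset.range n, ∑ k ∈ Finset.range n,
          ((a j : ℂ) * (a j' : ℂ)) * ((ζ ^ j) ^ k * conj ((ζ ^ j') ^ k)) =
          if j = j' then (a j : ℂ) * (a j' : ℂ) * (n : ℂ) else 0 := by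
        intro j' hj'
        rw [← Finset.mul_sum, horth j hj j' hj']
        split_ifs <;> ring
      rw [Finset.sum_congr rfl h3, Finset.sum_ite_eq, if_pos hj]
      ring
    rw [Finset.sum_congr rfl h2, Finset.mul_sum]
  have hsum0 : ∑ j ∈ Finset.range n, (a j : ℂ) = F 0 := by
    rw [hFa 0]
    simp
  have hzsum : ∀ k, 0 < k → k < n → ∑ j ∈ Finset.range n, (ζ ^ j) ^ k = 0 := by
    intro k hk0 hkn
    have h1 : ∀ j, (ζ ^ j) ^ k = (ζ ^ k) ^ j := fun j => by rw [← pow_mul, ← pow_mul, mul_comm]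
    simp_rw [h1]
    have hμ : (ζ ^ k) ^ n = 1 := by rw [← pow_mul, mul_comm, pow_mul, hζn, one_pow]
    rw [sum_range_pow_root n _ hμ, if_neg]
    exact hζ.pow_ne_one_of_pos_of_lt (Nat.pos_iff_ne_zero.mp hk0) hkn
  -- F 0 is a natural number
  have hF0 : F 0 = ((∑ i, w i : ℕ) : ℂ) := by
    simp only [hFdef, pow_zero, mul_one]
    push_cast
    rfl
  have hF0conj : conj (F 0) = F 0 := by rw [hF0, Complex.conj_natCast]
  -- the counting
  set T : Finset ℕ := (Finset.range n).filter (fun k => k ≠ 0 ∧ F k ≠ 0) with hT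
  have hTle : T.card ≤ n - 1 := by
    have hsub : T ⊆ (Finset.range n).erase 0 := by
      intro k hk
      rw [hT, Finset.mem_filter] at hk
      exact Finset.mem_erase.mpr ⟨hk.2.1, hk.1⟩
    have := Finset.card_le_card hsub
    rwa [Finset.card_erase_of_mem (Finset.mem_range.mpr (by omega)), Finset.card_range] at this
  have hFsq : ∀ k ∈ Finset.range n, k ≠ 0 →
      F k * conj (F k) = if F k ≠ 0 then 1 else 0 := by
    intro k hk hk0
    rcases hF k (Nat.pos_of_ne_zero hk0) (Finset.mem_range.mp hk) with h | h | h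
    · have : F k = 0 := h
      rw [this]; simp
    · have : F k = 1 := h
      rw [this]; simp
    · have : F k = -1 := h
      rw [this]; simp
  have hcount : ∑ k ∈ Finset.range n, F k * conj (F k) = F 0 ^ 2 + (T.card : ℂ) := by
    rw [← Finset.add_sum_erase _ _ (Finset.mem_range.mpr (by omega : 0 < n)), hF0conj, sq]
    congr 1
    have h1 : ∑ k ∈ (Finset.range n).erase 0, F k * conj (F k) =
        ∑ k ∈ (Finset.range n).erase 0, if F k ≠ 0 then (1 : ℂ) else 0 :=
      Finset.sum_congr rfl (fun k hk => hFsq k (Finset.mem_of_mem_erase hk)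
        (Finset.ne_of_mem_erase hk))
    rw [h1, Finset.sum_ite, Finset.sum_const_zero, add_zero, Finset.sum_const, nsmul_eq_mul,
      mul_one]
    congr 2
    ext k
    simp only [hT, Finset.mem_filter, Finset.mem_erase, Finset.mem_range]
    tauto
  -- the integer identity
  have hint : ((Finset.range n).card : ℤ) * ∑ j ∈ Finset.range n, a j ^ 2 -
      (∑ j ∈ Finset.range n, a j) ^ 2 = (T.card : ℤ) := by
    have hC : (((Finset.range n).card : ℤ) * ∑ j ∈ Finset.range n, a j ^ 2 -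
        (∑ j ∈ Finset.range n, a j) ^ 2 : ℤ) = ((T.card : ℤ) : ℂ) := by
      push_cast
      rw [Finset.card_range, hsum0, ← hpars, hcount]
      ring
    exact_mod_cast hC
  have hD : ((Finset.range n).card : ℤ) * ∑ j ∈ Finset.range n, a j ^ 2 -
      (∑ j ∈ Finset.range n, a j) ^ 2 ≤ ((Finset.range n).card : ℤ) - 1 := by
    rw [hint, Finset.card_range]
    omega
  rcases comb_dichotomy (Finset.range n) a hD with ⟨c, hc⟩ | ⟨m, ε, j₀, hj₀, hε, hm⟩
  · left
    intro k hk0 hkn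
    show F k = 0
    rw [hFa k]
    have : ∑ j ∈ Finset.range n, (a j : ℂ) * (ζ ^ j) ^ k =
        ∑ j ∈ Finset.range n, (c : ℂ) * (ζ ^ j) ^ k :=
      Finset.sum_congr rfl (fun j hj => by rw [hc j hj])
    rw [this, ← Finset.mul_sum, hzsum k hk0 hkn, mul_zero]
  · right
    -- m ≥ 0
    obtain ⟨j₁, hj₁, hne⟩ : ∃ j₁ ∈ Finset.range n, j₁ ≠ j₀ := by
      by_cases h : j₀ = 0
      · exact ⟨1, Finset.mem_range.mpr (by omega), by omega⟩
      · exact ⟨0, Finset.mem_range.mpr (by omega), fun h' => h h'.symm⟩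
    have hm0 : 0 ≤ m := by
      have := hm j₁ hj₁
      rw [if_neg hne, add_zero] at this
      rw [← this]; exact ha0 j₁
    have hFk : ∀ k, F k = (m : ℂ) * ∑ j ∈ Finset.range n, (ζ ^ j) ^ k + (ε : ℂ) * (ζ ^ j₀) ^ k := by
      intro k
      rw [hFa k]
      have : ∑ j ∈ Finset.range n, (a j : ℂ) * (ζ ^ j) ^ k =
          ∑ j ∈ Finset.range n, ((m : ℂ) * (ζ ^ j) ^ k +
            if j = j₀ then (ε : ℂ) * (ζ ^ j₀) ^ k else 0) := by
        apply Finset.sum_congr rfl
        intro j hj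
        rw [hm j hj]
        split_ifs with h
        · rw [h]; push_cast; ring
        · push_cast; ring
      rw [this, Finset.sum_add_distrib, Finset.sum_ite_eq', if_pos hj₀, Finset.mul_sum]
    refine ⟨m.toNat, ε, ζ ^ j₀, hε, ?_, ?_, ?_⟩
    · rw [← pow_mul, mul_comm, pow_mul, hζn, one_pow]
    · show F 0 = _
      rw [hFk 0]
      simp only [pow_zero, Finset.sum_const, Finset.card_range, nsmul_eq_mul, mul_one]
      have : ((m.toNat : ℕ) : ℂ) = (m : ℂ) := by
        have h1 : ((m.toNat : ℕ) : ℤ) = m := Int.toNat_of_nonneg hm0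
        exact_mod_cast congrArg (fun z : ℤ => (z : ℂ)) h1
      rw [this]; ring
    · intro k hk0 hkn
      show F k = _
      rw [hFk k, hzsum k hk0 hkn, mul_zero, zero_add]

end Cfsg.Agent.Lib.Helper80
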