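/-
K-Ru-R2 (keystone 162802, architect helper17, pack S1628): the Gram matrix of the 56 basis vectors of the
stored Conway–Wales lattice has norms divisible by 8 and products divisible by 4; so the lattice is even.
-/
import Cfsg.Agent.Lib.Helper17.RuDefs
import Cfsg.Agent.Lib.Helper17.RuBasic

set_option autoImplicit false

namespace Cfsg.Agent.Lib.Helper80.RuL

open Cfsg.Spor Cfsg.Agent.Lib.Helper17.RuL

/-- dot product of the first `n` entries of two lists -/
def dotN : ℕ → List ℤ → List ℤ → ℤ
  | 0, _, _ => 0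
  | n + 1, a, b => a.headD 0 * b.headD 0 + dotN n a.tail b.tail

theorem sum_range_getD (n : ℕ) : ∀ a b : List ℤ,
    ∑ i ∈ Finset.range n, a.getD i 0 * b.getD i 0 = dotN n a b := by
  induction n with
  | zero => intro a b; simp [dotN]
  | succ n ih =>
    intro a b
    rw [Finset.sum_range_succ', dotN, ← ih a.tail b.tail]
    have h : ∀ (l : List ℤ) (i : ℕ), l.getD (i + 1) 0 = l.tail.getD i 0 := by
      intro l i
      cases l <;> simp
    have h0 : ∀ (l : List ℤ), l.getD 0 0 = l.headD 0 := by
      intro l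
      cases l <;> simp
    simp only [h, h0]
    ring

theorem gram_check : ∀ k : Fin 56, ∀ l : Fin 56,
    dotN 56 (uTab.getD k.val []) (uTab.getD l.val []) % 4 = 0 := by
  decide +kernel

theorem norm_check : ∀ k : Fin 56,
    dotN 56 (uTab.getD k.val []) (uTab.getD k.val []) % 8 = 0 := by
  decide +kernel

theorem sum_idx_eq_range (f : ℕ → ℤ) :
    ∑ p : RuIdx, (f (8 * p.1.val + 2 * p.2.val) + f (8 * p.1.val + 2 * p.2.val + 1)) =
      ∑ i ∈ Finset.range 56, f i := by
  rw [Fintype.sum_prod_type]
  simp only [Fin.sum_univ_succ, Fin.sum_univ_zero, Finset.sum_range_succ, Finset.sum_range_zero,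
    Fin.val_zero, Fin.val_succ]
  norm_num
  ring

theorem beta_vecOfList (a b : List ℤ) :
    beta (vecOfList a) (vecOfList b) = dotN 56 a b := by
  rw [← sum_range_getD, ← sum_idx_eq_range]
  rfl

theorem beta_uB (k l : Fin 56) : (4 : ℤ) ∣ beta (uB k) (uB l) := by
  unfold uB
  rw [beta_vecOfList]
  exact Int.dvd_of_emod_eq_zero (gram_check k l)

theorem norm_uB (k : Fin 56) : (8 : ℤ) ∣ ruNorm (uB k) := by
  rw [ruNorm_eq_beta]
  unfold uB
  rw [beta_vecOfList]
  exact Int.dvd_of_emod_eq_zero (norm_check k)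

theorem beta_comm (x y : RuVec) : beta x y = beta y x := by
  unfold beta
  refine Finset.sum_congr rfl fun p _ => ?_
  ring

theorem beta_add_left (x y z : RuVec) : beta (x + y) z = beta x z + beta y z := by
  unfold beta
  rw [← Finset.sum_add_distrib]
  refine Finset.sum_congr rfl fun p _ => ?_
  simp only [Pi.add_apply, Zsqrtd.re_add, Zsqrtd.im_add]
  ring

theorem beta_neg_left (x z : RuVec) : beta (-x) z = -beta x z := by
  unfold beta
  rw [← Finset.sum_neg_distrib]
  refine Finset.sum_congr rfl fun p _ => ?_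
  simp only [Pi.neg_apply, Zsqrtd.re_neg, Zsqrtd.im_neg]
  ring

theorem beta_zero_left (z : RuVec) : beta 0 z = 0 := by
  unfold beta
  simp

theorem beta_add_right (x y z : RuVec) : beta x (y + z) = beta x y + beta x z := by
  rw [beta_comm, beta_add_left, beta_comm y, beta_comm z]

theorem beta_neg_right (x z : RuVec) : beta x (-z) = -beta x z := by
  rw [beta_comm, beta_neg_left, beta_comm]

theorem beta_zero_right (z : RuVec) : beta z 0 = 0 := by
  rw [beta_comm, beta_zero_left]

theorem spanU_eq_closure : spanU = AddSubgroup.closure (Set.range uB) :=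
  Submodule.span_int_eq_addSubgroupClosure _

/-- **K-Ru-R2, first half.** -/
theorem four_dvd_beta_of_mem {x : RuVec} (hx : x ∈ spanU) (k : Fin 56) :
    (4 : ℤ) ∣ beta x (uB k) := by
  rw [spanU_eq_closure] at hx
  induction hx using AddSubgroup.closure_induction with
  | mem x hx =>
    obtain ⟨l, rfl⟩ := hx
    exact beta_uB l k
  | zero => rw [beta_zero_left]; exact dvd_zero _
  | add x y _ _ hx hy => rw [beta_add_left]; exact dvd_add hx hy
  | neg x _ hx => rw [beta_neg_left]; exact (dvd_neg).mpr hx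

theorem four_dvd_beta_mem_mem {x y : RuVec} (hx : x ∈ spanU) (hy : y ∈ spanU) :
    (4 : ℤ) ∣ beta x y := by
  have hy' := hy
  rw [spanU_eq_closure] at hy'
  induction hy' using AddSubgroup.closure_induction with
  | mem y hy0 =>
    obtain ⟨l, rfl⟩ := hy0
    exact four_dvd_beta_of_mem hx l
  | zero => rw [beta_zero_right]; exact dvd_zero _
  | add y z hy0 hz0 hy1 hz1 =>
    rw [beta_add_right]
    exact dvd_add (hy1 (by rw [spanU_eq_closure]; exact hy0))
      (hz1 (by rw [spanU_eq_closure]; exact hz0))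
  | neg y hy0 hy1 =>
    rw [beta_neg_right]
    exact (dvd_neg).mpr (hy1 (by rw [spanU_eq_closure]; exact hy0))

theorem ruNorm_add (x y : RuVec) : ruNorm (x + y) = ruNorm x + ruNorm y + 2 * beta x y := by
  rw [ruNorm_eq_beta, ruNorm_eq_beta, ruNorm_eq_beta, beta_add_left, beta_add_right,
    beta_add_right, beta_comm y x]
  ring

/-- **K-Ru-R2, second half.** -/
theorem eight_dvd_norm_of_mem {x : RuVec} (hx : x ∈ spanU) : (8 : ℤ) ∣ ruNorm x := by
  have hx' := hx
  rw [spanU_eq_closure] at hx'
  induction hx' using AddSubgroup.closure_induction with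
  | mem x hx0 =>
    obtain ⟨l, rfl⟩ := hx0
    exact norm_uB l
  | zero =>
    rw [ruNorm_eq_beta, beta_zero_left]; exact dvd_zero _
  | add y z hy0 hz0 hy1 hz1 =>
    have hy : y ∈ spanU := by rw [spanU_eq_closure]; exact hy0
    have hz : z ∈ spanU := by rw [spanU_eq_closure]; exact hz0
    rw [ruNorm_add]
    obtain ⟨c, hc⟩ := four_dvd_beta_mem_mem hy hz
    have h3 : (8 : ℤ) ∣ 2 * beta y z := ⟨c, by rw [hc]; ring⟩
    exact dvd_add (dvd_add (hy1 hy) (hz1 hz)) h3
  | neg y hy0 hy1 =>
    have hy : y ∈ spanU := by rw [spanU_eq_closure]; exact hy0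
    rw [ruNorm_eq_beta, beta_neg_left, beta_neg_right, neg_neg, ← ruNorm_eq_beta]
    exact hy1 hy

end Cfsg.Agent.Lib.Helper80.RuL
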