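import Mathlib
import Cfsg.Prelude.Def_GeometricClasses
import Cfsg.Agent.Lib.Helper51.FieldAutU1
import Cfsg.Agent.Lib.Helper46.UnitaryField

/-!
# K-SU3-NF2 (keystone 577822, pack S5778, architect helper87)

`|F| = 25`: an index-2 form-rational subfield structure for the Hermitian form is `GU`-conjugate to
the standard one.  (Ternary symmetric forms over `F_5` are congruent to scalar forms.)
-/

set_option autoImplicit false
set_option linter.style.haveILetI false

namespace Cfsg.Agent.Lib.Helper80.SU3K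

open Cfsg Cfsg.Geo Matrix

local instance nf2Fact5 : Fact (Nat.Prime 5) := ⟨by norm_num⟩

/-- diagonalisation of a non-degenerate symmetric `3 × 3` matrix (characteristic not two) -/
theorem nf2_exists_diag {K : Type*} [Field K] [Invertible (2 : K)] (M : Matrix (Fin 3) (Fin 3) K)
    (hs : M.IsSymm) (hd : M.det ≠ 0) :
    ∃ (W : Matrix (Fin 3) (Fin 3) K) (d : Fin 3 → K),
      Wᵀ * M * W = Matrix.diagonal d ∧ ∀ i, d i ≠ 0 := by
  classical
  have hsym : (Matrix.toBilin' M).IsSymm := Matrix.isSymm_toBilin'_iff_isSymm.mpr hs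
  have hnd : (Matrix.toBilin' M).Nondegenerate :=
    LinearMap.BilinForm.nondegenerate_toBilin'_iff_det_ne_zero.mpr hd
  obtain ⟨v, hv⟩ := LinearMap.BilinForm.exists_orthogonal_basis
    (LinearMap.BilinForm.isSymm_iff.mp hsym)
  have h3 : Module.finrank K (Fin 3 → K) = 3 := by simp
  let v' : Module.Basis (Fin 3) K (Fin 3 → K) := v.reindex (finCongr h3)
  have hv' : (Matrix.toBilin' M).iIsOrtho v' := by
    intro i j hij
    simp only [Function.onFun, v', Module.Basis.reindex_apply]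
    apply hv
    intro h; apply hij; exact (finCongr h3).symm.injective h
  let W : Matrix (Fin 3) (Fin 3) K := Matrix.of (fun i j => v' j i)
  have key : ∀ j k, (Wᵀ * M * W) j k = Matrix.toBilin' M (v' j) (v' k) := by
    intro j k
    rw [Matrix.toBilin'_apply', Matrix.mul_assoc, Matrix.mul_apply']
    rfl
  refine ⟨W, fun i => Matrix.toBilin' M (v' i) (v' i), ?_, ?_⟩
  · ext j k
    rw [key, Matrix.diagonal_apply]
    split_ifs with h
    · rw [h]
    · exact hv' h
  · intro i; exact hv'.not_isOrtho_basis_self_of_nondegenerate hnd i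

/-- the explicit change of basis making `⟨d₀, d₁, d₂⟩` scalar -/
def nf2Cmat (d₀ d₁ d₂ x y s t : ZMod 5) : Matrix (Fin 3) (Fin 3) (ZMod 5) :=
  !![x, -(s * d₁ * y), d₂ * t * d₁ * y * (d₀ * d₁ * d₂) ^ 3;
     y, s * d₀ * x, -(d₂ * t * d₀ * x * (d₀ * d₁ * d₂) ^ 3);
     0, t, d₀ * d₁ * s]

set_option maxRecDepth 100000 in
theorem nf2_aux : ∀ d₀ d₁ d₂ : ZMod 5, d₀ ≠ 0 → d₁ ≠ 0 → d₂ ≠ 0 →
    ∃ x y : ZMod 5, d₀ * x ^ 2 + d₁ * y ^ 2 = d₀ * d₁ * d₂ ∧
      ∃ s t : ZMod 5, (d₀ * d₁ * (d₀ * d₁ * d₂)) * s ^ 2 + d₂ * t ^ 2 = d₀ * d₁ * d₂ ∧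
        (nf2Cmat d₀ d₁ d₂ x y s t)ᵀ * Matrix.diagonal ![d₀, d₁, d₂] * nf2Cmat d₀ d₁ d₂ x y s t =
          (d₀ * d₁ * d₂) • (1 : Matrix (Fin 3) (Fin 3) (ZMod 5)) := by
  decide +kernel

/-- a non-degenerate diagonal ternary form over `F_5` is congruent to a scalar form -/
theorem nf2_exists_scalar_congr (d : Fin 3 → ZMod 5) (hd : ∀ i, d i ≠ 0) :
    ∃ μ : ZMod 5, μ ≠ 0 ∧ ∃ C : Matrix (Fin 3) (Fin 3) (ZMod 5),
      Cᵀ * Matrix.diagonal d * C = μ • (1 : Matrix (Fin 3) (Fin 3) (ZMod 5)) := by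
  obtain ⟨x, y, -, s, t, -, h⟩ := nf2_aux (d 0) (d 1) (d 2) (hd 0) (hd 1) (hd 2)
  have hd' : d = ![d 0, d 1, d 2] := by
    ext i; fin_cases i <;> rfl
  refine ⟨d 0 * d 1 * d 2, mul_ne_zero (mul_ne_zero (hd 0) (hd 1)) (hd 2),
    nf2Cmat (d 0) (d 1) (d 2) x y s t, ?_⟩
  rw [hd']
  exact h

/-- conjugating a subgroup by one of its elements does nothing -/
theorem nf2_map_conj_of_mem {G : Type*} [Group G] (H : Subgroup G) (k : G) (hk : k ∈ H) :
    H.map (MulAut.conj k).toMonoidHom = H := by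
  ext x
  simp only [Subgroup.mem_map, MulEquiv.coe_toMonoidHom, MulAut.conj_apply]
  constructor
  · rintro ⟨y, hy, rfl⟩
    exact H.mul_mem (H.mul_mem hk hy) (H.inv_mem hk)
  · intro hx
    exact ⟨k⁻¹ * x * k, H.mul_mem (H.mul_mem (H.inv_mem hk) hx) hk, by group⟩

section main

variable {F : Type*} [Field F] [Fintype F]

local notation "M3" => Matrix (Fin 3) (Fin 3) F
local notation "G3" => GL (Fin 3) F

/-- the core: `P` becomes unitary after multiplying by a rational matrix times a scalar -/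
theorem nf2_core (hF : Fintype.card F = 25) (F₀ : Subfield F)
    (hF₀ : Fintype.card F = Nat.card F₀ ^ 2) (P : G3)
    (hP : IsFormRationalStructure (hermForm 3 F 5) F₀ 1 P) :
    ∃ m ∈ (Matrix.GeneralLinearGroup.map (F₀.subtype : F₀ →+* F)).range ⊔ scalars (Fin 3) F,
      P * m ∈ GU 3 F 5 := by
  classical
  have hF' : Fintype.card F = 5 ^ 2 := by rw [hF]; norm_num
  haveI : CharP F 5 := charP_of_card_eq_prime_pow hF'
  -- the subfield has five elements
  have hc5 : Nat.card F₀ = 5 := by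
    have h : Nat.card F₀ ^ 2 = 5 ^ 2 := by rw [← hF₀, hF]; norm_num
    exact Nat.pow_left_injective (by norm_num : 2 ≠ 0) h
  haveI : Fintype F₀ := Fintype.ofFinite _
  have hc5' : Fintype.card F₀ = 5 := by rw [← Nat.card_eq_fintype_card]; exact hc5
  let e : ZMod 5 ≃+* F₀ := ZMod.ringEquivOfPrime F₀ (by norm_num) hc5'
  let ι : ZMod 5 →+* F := F₀.subtype.comp (e : ZMod 5 →+* F₀)
  have hιsurj : ∀ x ∈ F₀, ∃ a, ι a = x := fun x hx => ⟨e.symm ⟨x, hx⟩, by simp [ι]⟩
  have hιinj : Function.Injective ι := ι.injective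
  let φ : F →+* F := frobenius F 5
  have hφ : ∀ x, φ x = x ^ 5 := fun x => frobenius_def 5 x
  have hφφ : ∀ x, φ (φ x) = x := by
    intro x
    rw [hφ, hφ, ← pow_mul]
    have := FiniteField.pow_card x
    rwa [hF] at this
  have hφι : ∀ a, φ (ι a) = ι a := by
    intro a
    rw [hφ, ← map_pow, ZMod.pow_card]
  set Pm : M3 := (P : M3) with hPm
  set G : M3 := Pmᵀ * Pm.map φ with hG
  -- the Gram matrix has entries in `F₀`
  have hsingle : ∀ (i k : Fin 3), (Pi.single i (1 : F) : Fin 3 → F) k ∈ F₀ := by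
    intro i k
    by_cases hk : k = i
    · subst hk; simp [F₀.one_mem]
    · simp [hk, F₀.zero_mem]
  have hGmem : ∀ i j, G i j ∈ F₀ := by
    intro i j
    have h := hP (Pi.single i 1) (Pi.single j 1) (hsingle i) (hsingle j)
    rw [one_mul, Cfsg.Agent.Lib.Helper51.hermForm_mulVec_eq φ hφ] at h
    have h2 : φ ∘ (Pi.single j (1 : F) : Fin 3 → F) = Pi.single j 1 := by
      funext k
      by_cases hk : k = j
      · subst hk; simp
      · simp [hk]
    rw [h2, Matrix.mulVec_single_one, single_one_dotProduct] at h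
    exact h
  choose M₀ hM₀ using fun i j => hιsurj (G i j) (hGmem i j)
  let M : Matrix (Fin 3) (Fin 3) (ZMod 5) := Matrix.of M₀
  have hMG : M.map ι = G := by ext i j; exact hM₀ i j
  have hGφ : G.map φ = G := by
    rw [← hMG]; ext i j; simp [hφι]
  have hGT : Gᵀ = G := by
    calc Gᵀ = (Pm.map φ)ᵀ * Pm := by rw [hG, Matrix.transpose_mul, Matrix.transpose_transpose]
      _ = G.map φ := by
        rw [hG, Matrix.map_mul, Matrix.transpose_map]
        congr 1
        ext i j; simp [hφφ]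
      _ = G := hGφ
  have hMsymm : M.IsSymm := by
    apply Matrix.IsSymm.ext
    intro i j
    apply hιinj
    have h1 : ι (M j i) = G j i := hM₀ j i
    have h2 : ι (M i j) = G i j := hM₀ i j
    rw [h1, h2]
    exact congrFun (congrFun hGT i) j
  have hPdet : Pm.det ≠ 0 := by
    rw [hPm, ← Matrix.GeneralLinearGroup.val_det_apply]
    exact Units.ne_zero _
  have hGdet : G.det ≠ 0 := by
    rw [hG, Matrix.det_mul, Matrix.det_transpose, ← RingHom.mapMatrix_apply, ← RingHom.map_det]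
    exact mul_ne_zero hPdet ((map_ne_zero φ).mpr hPdet)
  have hMdet : M.det ≠ 0 := by
    intro h
    apply hGdet
    rw [← hMG, ← RingHom.mapMatrix_apply, ← RingHom.map_det, h, map_zero]
  haveI : Invertible (2 : ZMod 5) := invertibleOfNonzero (by decide)
  obtain ⟨W, d, hWd, hd⟩ := nf2_exists_diag M hMsymm hMdet
  obtain ⟨μ, hμ, C, hC⟩ := nf2_exists_scalar_congr d hd
  set B : Matrix (Fin 3) (Fin 3) (ZMod 5) := W * C with hB
  have hBM : Bᵀ * M * B = μ • (1 : Matrix (Fin 3) (Fin 3) (ZMod 5)) := by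
    rw [hB, Matrix.transpose_mul]
    calc Cᵀ * Wᵀ * M * (W * C) = Cᵀ * (Wᵀ * M * W) * C := by simp only [Matrix.mul_assoc]
      _ = μ • 1 := by rw [hWd, hC]
  have hBdet : B.det ≠ 0 := by
    intro h
    have h1 := congrArg Matrix.det hBM
    rw [Matrix.det_mul, Matrix.det_mul, h, mul_zero, Matrix.det_smul, Matrix.det_one,
      mul_one] at h1
    exact pow_ne_zero _ hμ h1.symm
  set B' : M3 := B.map ι with hB'
  have hB'G : B'ᵀ * G * B' = (ι μ) • (1 : M3) := by
    rw [hB', ← hMG, ← Matrix.transpose_map, ← Matrix.map_mul, ← Matrix.map_mul, hBM]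
    ext i j
    by_cases hij : i = j
    · subst hij; simp
    · simp [hij]
  have hB'φ : B'.map φ = B' := by
    ext i j; simp [hB', hφι]
  -- a scalar of norm `μ⁻¹`
  have hιμ0 : ι μ ≠ 0 := (map_ne_zero ι).mpr hμ
  have hιμ4 : (ι μ) ^ 4 = 1 := by
    rw [← map_pow, show μ ^ 4 = 1 from ZMod.pow_card_sub_one_eq_one hμ, map_one]
  obtain ⟨tu, htu⟩ := Cfsg.Agent.Lib.Helper46.exists_pow_eq_of_pow_eq_one (C := Fˣ) 6 4
    (by rw [Nat.card_units, Nat.card_eq_fintype_card, hF])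
    (Units.mk0 (ι μ)⁻¹ (inv_ne_zero hιμ0))
    (by
      apply Units.ext
      rw [Units.val_pow_eq_pow_val, Units.val_mk0, Units.val_one, inv_pow, hιμ4, inv_one])
  have ht6 : (tu : F) ^ 6 = (ι μ)⁻¹ := by
    have := congrArg Units.val htu
    rwa [Units.val_pow_eq_pow_val, Units.val_mk0] at this
  -- group elements
  let Bg : GL (Fin 3) (ZMod 5) := Matrix.GeneralLinearGroup.mkOfDetNeZero B hBdet
  let A : GL (Fin 3) F₀ := Matrix.GeneralLinearGroup.map (e : ZMod 5 →+* F₀) Bg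
  let B'g : G3 := Matrix.GeneralLinearGroup.map (F₀.subtype : F₀ →+* F) A
  have hB'gval : (B'g : M3) = B' := by
    ext i j
    simp only [B'g, A, Matrix.GeneralLinearGroup.map_apply, hB', Matrix.map_apply, ι]
    rfl
  let z : G3 := Units.map (Matrix.scalar (Fin 3) : F →+* M3).toMonoidHom tu
  have hz : z ∈ scalars (Fin 3) F := ⟨tu, rfl⟩
  have hzval : (z : M3) = (tu : F) • (1 : M3) := by
    simp [z, Matrix.smul_one_eq_diagonal]
  refine ⟨B'g * z, Subgroup.mul_mem_sup ⟨A, rfl⟩ hz, ?_⟩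
  have hval : ((P * (B'g * z) : G3) : M3) = (tu : F) • (Pm * B') := by
    rw [Units.val_mul, Units.val_mul, hB'gval, hzval, Matrix.mul_smul, Matrix.mul_one,
      Matrix.mul_smul]
  rw [Cfsg.Agent.Lib.Helper51.mem_GU_iff_mul φ hφ, hval]
  have h1 : ((tu : F) • (Pm * B')).map φ = (tu : F) ^ 5 • (Pm.map φ * B') := by
    rw [Matrix.map_smul' _ _ _ (map_mul φ), Matrix.map_mul, hB'φ, hφ]
  rw [h1, Matrix.transpose_smul, Matrix.transpose_mul, Matrix.smul_mul, Matrix.mul_smul, smul_smul]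
  have h2 : B'ᵀ * Pmᵀ * (Pm.map φ * B') = B'ᵀ * G * B' := by
    rw [hG]; simp only [Matrix.mul_assoc]
  rw [h2, hB'G, smul_smul, ← pow_succ', ht6, inv_mul_cancel₀ hιμ0, one_smul]

/-- **577822 K-SU3-NF2.** -/
theorem exists_conj_stdSubfield_five (hF : Fintype.card F = 25) (F₀ : Subfield F)
    (hF₀ : Fintype.card F = Nat.card F₀ ^ 2) (P : G3)
    (hP : IsFormRationalStructure (hermForm 3 F 5) F₀ 1 P) :
    ∃ g ∈ GU 3 F 5, subfieldSubgroup F₀ P =
      (subfieldSubgroup F₀ (1 : G3)).map (MulAut.conj g).toMonoidHom := by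
  obtain ⟨m, hm, hg⟩ := nf2_core hF F₀ hF₀ P hP
  refine ⟨P * m, hg, ?_⟩
  unfold subfieldSubgroup
  set H₀ := (Matrix.GeneralLinearGroup.map (F₀.subtype : F₀ →+* F)).range ⊔ scalars (Fin 3) F
    with hH₀
  have h1 : H₀.map (MulAut.conj (1 : G3)).toMonoidHom = H₀ := nf2_map_conj_of_mem H₀ 1 H₀.one_mem
  have h2 : H₀.map (MulAut.conj m).toMonoidHom = H₀ := nf2_map_conj_of_mem H₀ m hm
  rw [h1]
  conv_lhs => rw [← h2]
  rw [Subgroup.map_map]
  congr 1
  ext x : 1
  simp [MulAut.conj_apply, mul_assoc]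

end main

end Cfsg.Agent.Lib.Helper80.SU3K
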