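import Mathlib
import Cfsg.Prelude.Def_ClassicalGeometry
import Cfsg.Agent.Lib.Helper48.Sp2GDefs
import Cfsg.Agent.Lib.Helper64.RSpE1

/-!
KEYSTONE 241108  K-Sp2G-Ec  `tv_eI_zero` (pack K-Sp2G = S2411, architect helper48).
The symplectic transvections with centre `e_0` are the matrices `x(a E_00)`.
-/

set_option autoImplicit false
set_option linter.unusedVariables false

namespace Cfsg.Agent.Lib.Helper80.Sp2G

open Matrix Cfsg.Agent.Lib.Helper48.RSp Cfsg.Agent.Lib.Helper48.Sp2G Cfsg.Agent.Lib.Helper18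

/-- KEYSTONE 241108  K-Sp2G-Ec. -/
theorem tv_eI_zero (m : ℕ) {F : Type*} [Field F] (a : F) :
    ((tv (m + 2) (eI (0 : Fin (m + 2)) : Fin (m + 2) ⊕ Fin (m + 2) → F) a : SpG m F) : BM m F) =
      xMat m (a • E00 m F) := by
  rw [tv_val, Cfsg.Agent.Lib.Helper64.RSp.sympTransvection_eq_xMat
    (eI (0 : Fin (m + 2)) : Fin (m + 2) ⊕ Fin (m + 2) → F) (by intro i; simp [eI]) a]
  congr 2
  ext i j
  simp only [Matrix.vecMulVec_apply, eI, E00, Matrix.single_apply]
  by_cases hi : i = 0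
  · by_cases hj : j = 0
    · subst hi; subst hj; simp
    · have : (0 : Fin (m + 2)) ≠ j := fun h => hj h.symm
      simp [hi, hj, this]
  · have : (0 : Fin (m + 2)) ≠ i := fun h => hi h.symm
    simp [hi, this]

end Cfsg.Agent.Lib.Helper80.Sp2G
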