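import Mathlib
import Cfsg.Prelude.Def_LieExceptional

/-!
# Keystone 254725 (K-StO-A5) `exists_bnPair_subgroupOf` (pack S2547, architect helper48)

A (B,N)-pair `P` of a finite group `G` restricts to a normal subgroup `H` with `H T = G`,
`T = B ⊓ N`: there is a (B,N)-pair on `↥H` with `B' = B ∩ H`, `N' = N ∩ H`.
-/

set_option autoImplicit false

namespace Cfsg.Agent.Lib.Helper80.StO

open Cfsg

/-- If `H` is normal and `H ⊔ T = ⊤`, every `g` has a right translate `g * t ∈ H`, `t ∈ T`. -/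
theorem exists_mul_mem_of_sup_eq_top {G : Type*} [Group G] (H T : Subgroup G) [H.Normal]
    (hHT : H ⊔ T = ⊤) (g : G) : ∃ t ∈ T, g * t ∈ H := by
  have hg : g ∈ ((H ⊔ T : Subgroup G) : Set G) := by rw [hHT]; trivial
  rw [Subgroup.normal_mul] at hg
  obtain ⟨h, hh, t, ht, rfl⟩ := hg
  exact ⟨t⁻¹, T.inv_mem ht, by simpa using hh⟩

/-- If `T` normalises `A` and `A'` elementwise, it normalises `A ⊔ A'`. -/
theorem conj_mem_sup_of_conj_mem {G : Type*} [Group G] {A A' : Subgroup G} {t : G}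
    (hA : ∀ a ∈ A, t * a * t⁻¹ ∈ A) (hA' : ∀ a ∈ A', t * a * t⁻¹ ∈ A') :
    ∀ k ∈ A ⊔ A', t * k * t⁻¹ ∈ A ⊔ A' := by
  have hle : A ⊔ A' ≤ (A ⊔ A').comap (MulAut.conj t).toMonoidHom := by
    refine sup_le ?_ ?_
    · intro a ha
      rw [Subgroup.mem_comap]
      exact Subgroup.mem_sup_left (by simpa using hA a ha)
    · intro a ha
      rw [Subgroup.mem_comap]
      exact Subgroup.mem_sup_right (by simpa using hA' a ha)
  intro k hk
  have := hle hk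
  rw [Subgroup.mem_comap] at this
  simpa using this

/-- K-StO-A5 -/
theorem exists_bnPair_subgroupOf {G : Type*} [Group G] [Finite G] (P : Cfsg.BNPair G)
    (H : Subgroup G) [H.Normal] (hHT : H ⊔ (P.B ⊓ P.N) = ⊤) :
    ∃ P' : Cfsg.BNPair ↥H, P'.B = P.B.subgroupOf H ∧ P'.N = P.N.subgroupOf H := by
  classical
  have hHn : H.Normal := inferInstance
  have hTB : P.B ⊓ P.N ≤ P.B := inf_le_left
  have hTN : P.B ⊓ P.N ≤ P.N := inf_le_right
  -- `T` is normal in `N`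
  have hconj : ∀ n ∈ P.N, ∀ t ∈ P.B ⊓ P.N, n * t * n⁻¹ ∈ P.B ⊓ P.N := fun n hn t ht =>
    ⟨P.conj_mem n hn t ht, P.N.mul_mem (P.N.mul_mem hn ht.2) (P.N.inv_mem hn)⟩
  have hconj' : ∀ n ∈ P.N, ∀ t ∈ P.B ⊓ P.N, n⁻¹ * t * n ∈ P.B ⊓ P.N := fun n hn t ht => by
    simpa using hconj n⁻¹ (P.N.inv_mem hn) t ht
  -- the correcting elements
  have hfac : ∀ g : G, ∃ t ∈ P.B ⊓ P.N, g * t ∈ H :=
    exists_mul_mem_of_sup_eq_top H (P.B ⊓ P.N) hHT
  choose τ hτT hτH using hfac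
  -- `T` normalises `K = (B ⊓ H) ⊔ (N ⊓ H)`
  have hTK : ∀ t ∈ P.B ⊓ P.N, ∀ k ∈ (P.B ⊓ H) ⊔ (P.N ⊓ H),
      t * k * t⁻¹ ∈ (P.B ⊓ H) ⊔ (P.N ⊓ H) := by
    intro t ht
    refine conj_mem_sup_of_conj_mem ?_ ?_
    · intro a ha
      exact ⟨P.B.mul_mem (P.B.mul_mem (hTB ht) ha.1) (P.B.inv_mem (hTB ht)),
        hHn.conj_mem a ha.2 t⟩
    · intro a ha
      exact ⟨P.N.mul_mem (P.N.mul_mem (hTN ht) ha.1) (P.N.inv_mem (hTN ht)),
        hHn.conj_mem a ha.2 t⟩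
  have hKH : (P.B ⊓ H) ⊔ (P.N ⊓ H) ≤ H := sup_le inf_le_right inf_le_right
  -- `H ≤ K`
  have hHK : H ≤ (P.B ⊓ H) ⊔ (P.N ⊓ H) := by
    have hnorm : P.B ⊓ P.N ≤ Subgroup.normalizer (((P.B ⊓ H) ⊔ (P.N ⊓ H) : Subgroup G) : Set G) :=
      Subgroup.le_normalizer_iff.2 hTK
    have hBle : P.B ≤ ((P.B ⊓ H) ⊔ (P.N ⊓ H)) ⊔ (P.B ⊓ P.N) := by
      intro b hb
      have h1 : b * τ b ∈ (P.B ⊓ H) ⊔ (P.N ⊓ H) :=
        Subgroup.mem_sup_left ⟨P.B.mul_mem hb (hTB (hτT b)), hτH b⟩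
      have h2 : b = b * τ b * (τ b)⁻¹ := by group
      rw [h2]
      exact Subgroup.mul_mem_sup h1 ((P.B ⊓ P.N).inv_mem (hτT b))
    have hNle : P.N ≤ ((P.B ⊓ H) ⊔ (P.N ⊓ H)) ⊔ (P.B ⊓ P.N) := by
      intro b hb
      have h1 : b * τ b ∈ (P.B ⊓ H) ⊔ (P.N ⊓ H) :=
        Subgroup.mem_sup_right ⟨P.N.mul_mem hb (hTN (hτT b)), hτH b⟩
      have h2 : b = b * τ b * (τ b)⁻¹ := by group
      rw [h2]
      exact Subgroup.mul_mem_sup h1 ((P.B ⊓ P.N).inv_mem (hτT b))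
    have htop : ((P.B ⊓ H) ⊔ (P.N ⊓ H)) ⊔ (P.B ⊓ P.N) = ⊤ := by
      rw [eq_top_iff, ← P.sup_eq_top]
      exact sup_le hBle hNle
    intro h hh
    have hmem : h ∈ ((((P.B ⊓ H) ⊔ (P.N ⊓ H)) ⊔ (P.B ⊓ P.N) : Subgroup G) : Set G) := by
      rw [htop]; trivial
    rw [Subgroup.coe_mul_of_right_le_normalizer_left _ _ hnorm] at hmem
    obtain ⟨k, hk, t, ht, rfl⟩ := hmem
    have htH : t ∈ H := by
      have := H.mul_mem (H.inv_mem (hKH hk)) hh
      simpa using this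
    exact Subgroup.mul_mem _ hk (Subgroup.mem_sup_left ⟨hTB ht, htH⟩)
  -- the new distinguished generators, as a set in `G` and in `↥H`
  have hxN : ∀ s ∈ P.S, s * τ s ∈ P.N := fun s hs => P.N.mul_mem (P.subset hs) (hTN (hτT s))
  -- the generated subgroup `C` in `G`
  have hCle : Subgroup.closure {x : G | ∃ s ∈ P.S, x = s * τ s} ≤ P.N ⊓ H := by
    rw [Subgroup.closure_le]
    rintro x ⟨s, hs, rfl⟩
    exact ⟨hxN s hs, hτH s⟩
  have hCnorm : Subgroup.closure {x : G | ∃ s ∈ P.S, x = s * τ s} ≤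
      Subgroup.normalizer ((P.B ⊓ P.N : Subgroup G) : Set G) :=
    Subgroup.le_normalizer_iff.2 fun c hc t ht => hconj c (hCle hc).1 t ht
  have hNCT : P.N ≤ Subgroup.closure {x : G | ∃ s ∈ P.S, x = s * τ s} ⊔ (P.B ⊓ P.N) := by
    conv_lhs => rw [← P.closure_sup]
    refine sup_le ?_ le_sup_right
    rw [Subgroup.closure_le]
    intro s hs
    have h1 : s * τ s ∈ Subgroup.closure {x : G | ∃ s ∈ P.S, x = s * τ s} :=
      Subgroup.subset_closure ⟨s, hs, rfl⟩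
    have h2 : s = s * τ s * (τ s)⁻¹ := by group
    rw [SetLike.mem_coe, h2]
    exact Subgroup.mul_mem_sup h1 ((P.B ⊓ P.N).inv_mem (hτT s))
  refine ⟨{
    B := P.B.subgroupOf H
    N := P.N.subgroupOf H
    S := {x : ↥H | ∃ s ∈ P.S, (x : G) = s * τ s}
    sup_eq_top := ?_
    conj_mem := ?_
    subset := ?_
    sq_mem := ?_
    inj := ?_
    closure_sup := ?_
    mul_mem_union := ?_
    conj_ne := ?_ }, rfl, rfl⟩
  · -- sup_eq_top
    rw [← Subgroup.inf_subgroupOf_right P.B H, ← Subgroup.inf_subgroupOf_right P.N H,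
      ← Subgroup.subgroupOf_sup inf_le_right inf_le_right, eq_top_iff]
    intro x _
    rw [Subgroup.mem_subgroupOf]
    exact hHK x.2
  · -- conj_mem
    intro n hn t ht
    rw [Subgroup.mem_subgroupOf] at hn ⊢
    have ht' : (t : G) ∈ P.B ⊓ P.N := ⟨Subgroup.mem_subgroupOf.1 ht.1, Subgroup.mem_subgroupOf.1 ht.2⟩
    simpa using P.conj_mem n hn t ht'
  · -- subset
    rintro x ⟨s, hs, hx⟩
    rw [SetLike.mem_coe, Subgroup.mem_subgroupOf, hx]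
    exact hxN s hs
  · -- sq_mem
    rintro x ⟨s, hs, hx⟩
    rw [Subgroup.mem_subgroupOf, Subgroup.coe_mul, hx]
    have h1 : s * τ s * (s * τ s) = s * s * (s⁻¹ * τ s * s) * τ s := by group
    rw [h1]
    exact P.B.mul_mem (P.B.mul_mem (P.sq_mem s hs) (hTB (hconj' s (P.subset hs) _ (hτT s))))
      (hTB (hτT s))
  · -- inj
    rintro x ⟨s, hs, hx⟩ x' ⟨s', hs', hx'⟩ h
    rw [Subgroup.mem_subgroupOf, Subgroup.coe_mul, Subgroup.coe_inv, hx, hx'] at h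
    have h1 : s⁻¹ * s' = τ s * ((s * τ s)⁻¹ * (s' * τ s')) * (τ s')⁻¹ := by group
    have h2 : s⁻¹ * s' ∈ P.B := by
      rw [h1]
      exact P.B.mul_mem (P.B.mul_mem (hTB (hτT s)) h) (P.B.inv_mem (hTB (hτT s')))
    have h3 : s = s' := P.inj s hs s' hs' h2
    subst h3
    exact Subtype.ext (hx.trans hx'.symm)
  · -- closure_sup
    apply le_antisymm
    · refine sup_le ?_ inf_le_right
      rw [Subgroup.closure_le]
      rintro x ⟨s, hs, hx⟩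
      rw [SetLike.mem_coe, Subgroup.mem_subgroupOf, hx]
      exact hxN s hs
    · intro x hx
      rw [Subgroup.mem_subgroupOf] at hx
      have hmem : (x : G) ∈ ((Subgroup.closure {x : G | ∃ s ∈ P.S, x = s * τ s} ⊔ (P.B ⊓ P.N) :
          Subgroup G) : Set G) := hNCT hx
      rw [Subgroup.coe_mul_of_left_le_normalizer_right _ _ hCnorm] at hmem
      obtain ⟨c, hc, t, ht, hct⟩ := hmem
      have hcH : c ∈ H := (hCle hc).2
      have htH : t ∈ H := by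
        have := H.mul_mem (H.inv_mem hcH) x.2
        rw [← hct] at this
        simpa using this
      -- `c` comes from the closure in `↥H`
      have himg : {x : G | ∃ s ∈ P.S, x = s * τ s} =
          H.subtype '' {x : ↥H | ∃ s ∈ P.S, (x : G) = s * τ s} := by
        ext y
        constructor
        · rintro ⟨s, hs, rfl⟩
          exact ⟨⟨s * τ s, hτH s⟩, ⟨s, hs, rfl⟩, rfl⟩
        · rintro ⟨z, ⟨s, hs, hz⟩, rfl⟩
          exact ⟨s, hs, hz⟩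
      rw [himg, ← MonoidHom.map_closure] at hc
      obtain ⟨c', hc', hcc⟩ := hc
      have hx' : x = c' * ⟨t, htH⟩ := by
        apply Subtype.ext
        rw [Subgroup.coe_mul, ← hct]
        simp only [Subgroup.coe_subtype] at hcc
        rw [hcc]
      rw [hx']
      refine Subgroup.mul_mem_sup hc' ⟨?_, ?_⟩
      · exact Subgroup.mem_subgroupOf.2 (hTB ht)
      · exact Subgroup.mem_subgroupOf.2 (hTN ht)
  · -- mul_mem_union
    rintro x ⟨s, hs, hx⟩ n hn b hb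
    rw [Subgroup.mem_subgroupOf] at hn hb
    have hxN' : (x : G) ∈ P.N := hx ▸ hxN s hs
    have hmain := P.mul_mem_union s hs (n : G) hn (τ s * b) (P.B.mul_mem (hTB (hτT s)) hb)
    have hxbn : s * (τ s * b) * n = (x : G) * b * n := by rw [hx]; group
    rw [hxbn] at hmain
    rcases hmain with h1 | h2
    · left
      obtain ⟨b₁, hb₁, b₂, hb₂, h⟩ := DoubleCoset.mem_doubleCoset.1 h1
      rw [DoubleCoset.mem_doubleCoset]
      -- `b₁ = h₁ * u₁`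
      have hh₁B : b₁ * τ b₁ ∈ P.B := P.B.mul_mem hb₁ (hTB (hτT b₁))
      have hxn : (x : G) * n ∈ P.N := P.N.mul_mem hxN' hn
      have hu : ((x : G) * n)⁻¹ * (τ b₁)⁻¹ * ((x : G) * n) ∈ P.B ⊓ P.N :=
        hconj' _ hxn _ ((P.B ⊓ P.N).inv_mem (hτT b₁))
      have hv : (n : G)⁻¹ * (τ s)⁻¹ * n ∈ P.B ⊓ P.N :=
        hconj' _ hn _ ((P.B ⊓ P.N).inv_mem (hτT s))
      have hb₂' : ((x : G) * n)⁻¹ * (τ b₁)⁻¹ * ((x : G) * n) * ((n : G)⁻¹ * (τ s)⁻¹ * n) * b₂ ∈ P.B :=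
        P.B.mul_mem (P.B.mul_mem (hTB hu) (hTB hv)) hb₂
      have heq : (x : G) * b * n = b₁ * τ b₁ * ((x : G) * n) *
          (((x : G) * n)⁻¹ * (τ b₁)⁻¹ * ((x : G) * n) * ((n : G)⁻¹ * (τ s)⁻¹ * n) * b₂) := by
        rw [h, hx]; group
      have hb₂H : ((x : G) * n)⁻¹ * (τ b₁)⁻¹ * ((x : G) * n) * ((n : G)⁻¹ * (τ s)⁻¹ * n) * b₂ ∈ H := by
        have h3 : ((x : G) * n)⁻¹ * (τ b₁)⁻¹ * ((x : G) * n) * ((n : G)⁻¹ * (τ s)⁻¹ * n) * b₂ =
            ((x : G) * n)⁻¹ * (b₁ * τ b₁)⁻¹ * ((x : G) * b * n) := by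
          rw [heq]; group
        rw [h3]
        exact H.mul_mem (H.mul_mem (H.inv_mem (H.mul_mem x.2 n.2)) (H.inv_mem (hτH b₁)))
          (H.mul_mem (H.mul_mem x.2 b.2) n.2)
      refine ⟨⟨b₁ * τ b₁, hτH b₁⟩, Subgroup.mem_subgroupOf.2 hh₁B,
        ⟨_, hb₂H⟩, Subgroup.mem_subgroupOf.2 hb₂', ?_⟩
      apply Subtype.ext
      simp only [Subgroup.coe_mul]
      exact heq
    · right
      obtain ⟨b₁, hb₁, b₂, hb₂, h⟩ := DoubleCoset.mem_doubleCoset.1 h2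
      rw [DoubleCoset.mem_doubleCoset]
      have hh₁B : b₁ * τ b₁ ∈ P.B := P.B.mul_mem hb₁ (hTB (hτT b₁))
      have hu : (n : G)⁻¹ * (τ b₁)⁻¹ * n ∈ P.B ⊓ P.N :=
        hconj' _ hn _ ((P.B ⊓ P.N).inv_mem (hτT b₁))
      have hb₂' : (n : G)⁻¹ * (τ b₁)⁻¹ * n * b₂ ∈ P.B := P.B.mul_mem (hTB hu) hb₂
      have heq : (x : G) * b * n = b₁ * τ b₁ * n * ((n : G)⁻¹ * (τ b₁)⁻¹ * n * b₂) := by
        rw [h]; group
      have hb₂H : (n : G)⁻¹ * (τ b₁)⁻¹ * n * b₂ ∈ H := by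
        have h3 : (n : G)⁻¹ * (τ b₁)⁻¹ * n * b₂ = (n : G)⁻¹ * (b₁ * τ b₁)⁻¹ * ((x : G) * b * n) := by
          rw [heq]; group
        rw [h3]
        exact H.mul_mem (H.mul_mem (H.inv_mem n.2) (H.inv_mem (hτH b₁)))
          (H.mul_mem (H.mul_mem x.2 b.2) n.2)
      refine ⟨⟨b₁ * τ b₁, hτH b₁⟩, Subgroup.mem_subgroupOf.2 hh₁B,
        ⟨_, hb₂H⟩, Subgroup.mem_subgroupOf.2 hb₂', ?_⟩
      apply Subtype.ext
      simp only [Subgroup.coe_mul]
      exact heq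
  · -- conj_ne
    rintro x ⟨s, hs, hx⟩ heq
    have hxN' : (x : G) ∈ P.N := hx ▸ hxN s hs
    -- `x * h * x ∈ B` for `h ∈ B ⊓ H`
    have hxhx : ∀ h : G, h ∈ P.B → h ∈ H → (x : G) * h * x ∈ P.B := by
      intro h hhB hhH
      have h1 : x * ⟨h, hhH⟩ * x ∈ (fun b : ↥H => x * b * x) '' ((P.B.subgroupOf H : Subgroup ↥H) : Set ↥H) :=
        ⟨⟨h, hhH⟩, Subgroup.mem_subgroupOf.2 hhB, rfl⟩
      rw [heq] at h1
      have h2 := Subgroup.mem_subgroupOf.1 h1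
      simpa using h2
    -- hence `s * b * s ∈ B` for `b ∈ B`
    have hsub : ∀ b ∈ P.B, s * b * s ∈ P.B := by
      intro b hb
      have hh : (τ s)⁻¹ * (b * τ b) * τ s ∈ P.B :=
        P.B.mul_mem (P.B.mul_mem (P.B.inv_mem (hTB (hτT s))) (P.B.mul_mem hb (hTB (hτT b))))
          (hTB (hτT s))
      have hhH : (τ s)⁻¹ * (b * τ b) * τ s ∈ H := by
        have := hHn.conj_mem _ (hτH b) (τ s)⁻¹
        simpa using this
      have h1 := hxhx _ hh hhH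
      have hu : (x : G)⁻¹ * ((τ s)⁻¹ * (τ b)⁻¹) * x ∈ P.B ⊓ P.N :=
        hconj' _ hxN' _ ((P.B ⊓ P.N).mul_mem ((P.B ⊓ P.N).inv_mem (hτT s))
          ((P.B ⊓ P.N).inv_mem (hτT b)))
      have h2 : s * b * s = (x : G) * ((τ s)⁻¹ * (b * τ b) * τ s) * x *
          ((x : G)⁻¹ * ((τ s)⁻¹ * (τ b)⁻¹) * x) * (τ s)⁻¹ := by
        rw [hx]; group
      rw [h2]
      exact P.B.mul_mem (P.B.mul_mem h1 (hTB hu)) (P.B.inv_mem (hTB (hτT s)))
    -- so `s B s = B` by finiteness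
    apply P.conj_ne s hs
    apply Set.Subset.antisymm
    · rintro _ ⟨b, hb, rfl⟩
      exact hsub b hb
    · intro b hb
      let f : ↥P.B → ↥P.B := fun b => ⟨s * b * s, hsub b b.2⟩
      have hinj : Function.Injective f := by
        intro a a' h
        have h' : s * (a : G) * s = s * (a' : G) * s := congrArg Subtype.val h
        exact Subtype.ext (mul_left_cancel (mul_right_cancel h'))
      obtain ⟨a, ha⟩ := Finite.surjective_of_injective hinj ⟨b, hb⟩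
      exact ⟨a, a.2, congrArg Subtype.val ha⟩

end Cfsg.Agent.Lib.Helper80.StO
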