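import Mathlib

/-!
# K-S1904-15a: no idempotent endomorphism of a four-group is killed by the trace of a
fixed-point-free automorphism of order 3.
-/

set_option autoImplicit false

namespace Cfsg.Agent.Lib.Helper80.T1904

theorem no_idempotent {E : Type*} [CommGroup E] [Finite E] (hE : Nat.card E = 4) (hexp : ∀ v : E, v * v = 1)
    (g : E ≃* E) (hg3 : ∀ v, g (g (g v)) = v) (hgf : ∀ v, g v = v → v = 1)
    (ν : E →* E) (hidem : ∀ v, ν (ν v) = ν v) (hν : ∃ v, ν v ≠ 1)
    (htr : ∀ v, ν v * g (ν (g.symm v)) * g (g (ν (g.symm (g.symm v)))) = 1) : False := by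
  classical
  have := Fintype.ofFinite E
  obtain ⟨v0, hv0⟩ := hν
  have hww : ν (ν v0) = ν v0 := hidem v0
  generalize ν v0 = w at hv0 hww
  by_cases hinj : Function.Injective ν
  · have hid : ∀ v, ν v = v := fun v => hinj (hidem v)
    have h := htr w
    simp only [hid, MulEquiv.apply_symm_apply] at h
    rw [hexp w, one_mul] at h
    exact hv0 h
  · obtain ⟨a, b, hab, hne⟩ : ∃ a b, ν a = ν b ∧ a ≠ b := by
      simpa [Function.Injective] using hinj
    have hk1 : a * b⁻¹ ≠ 1 := fun h => hne (mul_inv_eq_one.mp h)
    have hνk : ν (a * b⁻¹) = 1 := by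
      rw [map_mul, map_inv, hab, mul_inv_cancel]
    generalize a * b⁻¹ = k at hk1 hνk
    have hwk : w ≠ k := fun h => hv0 (by rw [← hww, h, hνk])
    -- enumeration of E
    have hS : ({1, k, w, k * w} : Finset E).card = 4 := by
      rw [Finset.card_insert_of_notMem, Finset.card_insert_of_notMem, Finset.card_insert_of_notMem,
        Finset.card_singleton]
      · simp only [Finset.mem_singleton]
        intro h
        exact hk1 (by simpa using h.symm)
      · simp only [Finset.mem_insert, Finset.mem_singleton, not_or]
        refine ⟨fun h => hwk h.symm, fun h => hv0 ?_⟩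
        simpa using h.symm
      · simp only [Finset.mem_insert, Finset.mem_singleton, not_or]
        refine ⟨fun h => hk1 h.symm, fun h => hv0 h.symm, fun h => ?_⟩
        have : k * w = 1 := h.symm
        have h2 : k = w := by
          have := congrArg (· * w) this
          simpa [mul_assoc, hexp w] using this
        exact hwk h2.symm
    have huniv : ({1, k, w, k * w} : Finset E) = Finset.univ :=
      Finset.eq_univ_of_card _ (by rw [hS, ← Nat.card_eq_fintype_card, hE])
    have henum : ∀ u : E, u = 1 ∨ u = k ∨ u = w ∨ u = k * w := by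
      intro u
      have := Finset.mem_univ u
      rw [← huniv] at this
      simpa using this
    have hνu : ∀ u : E, u ≠ 1 → u ≠ k → ν u = w := by
      intro u h1 h2
      rcases henum u with h | h | h | h
      · exact absurd h h1
      · exact absurd h h2
      · rw [h, hww]
      · rw [h, map_mul, hνk, one_mul, hww]
    have hgk : g k ≠ k := fun h => hk1 (hgf k h)
    have h1 : g.symm k ≠ 1 := fun h => hk1 (by simpa using h)
    have h2 : g.symm k ≠ k := fun h => hgk (by
      have := congrArg g h
      simpa using this.symm)
    have h3 : g.symm (g.symm k) ≠ 1 := fun h => hk1 (by simpa using h)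
    have h4 : g.symm (g.symm k) ≠ k := fun h => hgk (by
      have := congrArg (fun x => g (g x)) h
      simp only [MulEquiv.apply_symm_apply] at this
      -- this : k = g (g k)
      have h5 := hg3 k
      rw [← this] at h5
      exact h5)
    have h := htr k
    rw [hνk, one_mul, hνu _ h1 h2, hνu _ h3 h4] at h
    have h6' : g (w * g w) = 1 := by rw [map_mul]; exact h
    have h6 : w * g w = 1 := (EmbeddingLike.map_eq_one_iff (f := g)).1 h6'
    have h7 : g w = w := by
      have := congrArg (w * ·) h6
      simpa [← mul_assoc, hexp w] using this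
    exact hv0 (hgf w h7)

end Cfsg.Agent.Lib.Helper80.T1904
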