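import Mathlib
import Cfsg.Agent.Lib.Helper40.T1904Defs

/-!
# K-S1904-18: involutions with abelian normal closure are central.
-/

set_option autoImplicit false

namespace Cfsg.Agent.Lib.Helper80.T1904

open Cfsg.Agent.Lib.Helper40.T1904

universe u_1

variable {X : Type u_1} [Group X]

theorem invol_central [Finite X] {A : Subgroup (MulAut X)} (h : Ctx X A)
    (hZ4 : 4 ≤ Nat.card {t : X // t ∈ Subgroup.center X ∧ t * t = 1})
    (M : Subgroup X) (hM : Ab M) (t : X) (ht : t * t = 1) (htM : ∀ x : X, x * t * x⁻¹ ∈ M) :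
    t ∈ Subgroup.center X := by
  classical
  by_contra htZ
  -- the normal closure of t lies in M
  have hNM : Subgroup.normalClosure ({t} : Set X) ≤ M := by
    rw [Subgroup.normalClosure, Subgroup.closure_le]
    intro y hy
    rw [Group.mem_conjugatesOfSet_iff] at hy
    obtain ⟨a, ha, hay⟩ := hy
    rw [Set.mem_singleton_iff] at ha
    subst ha
    rw [isConj_iff] at hay
    obtain ⟨c, rfl⟩ := hay
    exact htM c
  set N := Subgroup.normalClosure ({t} : Set X) with hN
  have htN : t ∈ N := Subgroup.subset_normalClosure (Set.mem_singleton t)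
  set K := N ⊔ Subgroup.center X with hK
  have hKn : K.Normal := inferInstance
  have hKab : Ab K := by
    intro a ha b hb
    rw [hK, Subgroup.mem_sup_of_normal_right] at ha hb
    obtain ⟨n1, hn1, z1, hz1, rfl⟩ := ha
    obtain ⟨n2, hn2, z2, hz2, rfl⟩ := hb
    rw [Subgroup.mem_center_iff] at hz1 hz2
    have hc : n1 * n2 = n2 * n1 := hM n1 (hNM hn1) n2 (hNM hn2)
    calc n1 * z1 * (n2 * z2) = n1 * (z1 * n2) * z2 := by group
      _ = n1 * (n2 * z1) * z2 := by rw [hz1 n2]
      _ = (n1 * n2) * (z1 * z2) := by group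
      _ = (n2 * n1) * (z2 * z1) := by rw [hc, hz1 z2]
      _ = n2 * (n1 * z2) * z1 := by group
      _ = n2 * (z2 * n1) * z1 := by rw [hz2 n1]
      _ = n2 * z2 * (n1 * z1) := by group
  have hcard := h.hR K hKn hKab
  -- injection of two copies of V into the square-one elements of K
  let V := {z : X // z ∈ Subgroup.center X ∧ z * z = 1}
  let S := {s : X // s ∈ K ∧ s * s = 1}
  let f : V ⊕ V → S := fun v =>
    match v with
    | Sum.inl z => ⟨z.1, Subgroup.mem_sup_right z.2.1, z.2.2⟩
    | Sum.inr z => ⟨t * z.1, Subgroup.mul_mem _ (Subgroup.mem_sup_left htN) (Subgroup.mem_sup_right z.2.1), by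
        have hz := Subgroup.mem_center_iff.mp z.2.1
        calc t * z.1 * (t * z.1) = t * (z.1 * t) * z.1 := by group
          _ = t * (t * z.1) * z.1 := by rw [hz t]
          _ = (t * t) * (z.1 * z.1) := by group
          _ = 1 := by rw [ht, z.2.2, one_mul]⟩
  have hf : Function.Injective f := by
    rintro (z | z) (z' | z') hzz
    · have h0 := congrArg Subtype.val hzz
      have : z.1 = z'.1 := h0
      exact congrArg Sum.inl (Subtype.ext this)
    · exfalso
      have h0 := congrArg Subtype.val hzz
      have : z.1 = t * z'.1 := h0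
      apply htZ
      have ht' : t = z.1 * (z'.1)⁻¹ := by rw [this]; group
      rw [ht']
      exact Subgroup.mul_mem _ z.2.1 (Subgroup.inv_mem _ z'.2.1)
    · exfalso
      have h0 := congrArg Subtype.val hzz
      have : t * z.1 = z'.1 := h0
      apply htZ
      have ht' : t = z'.1 * (z.1)⁻¹ := by rw [← this]; group
      rw [ht']
      exact Subgroup.mul_mem _ z'.2.1 (Subgroup.inv_mem _ z.2.1)
    · have h0 := congrArg Subtype.val hzz
      have : t * z.1 = t * z'.1 := h0
      exact congrArg Sum.inr (Subtype.ext (mul_left_cancel this))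
  have hle : Nat.card (V ⊕ V) ≤ Nat.card S := Nat.card_le_card_of_injective f hf
  rw [Nat.card_sum] at hle
  have h1 : 4 ≤ Nat.card V := hZ4
  have h2 : Nat.card S ≤ 4 := hcard
  omega

end Cfsg.Agent.Lib.Helper80.T1904
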