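import Mathlib
import Cfsg.Agent.Lib.Helper80.CentralCase
import Cfsg.Agent.Lib.Helper80.GlaubSub
import Cfsg.Agent.Lib.Helper85.ProjLift
import Cfsg.Agent.Lib.Helper85.Gallagher
import Cfsg.Agent.Lib.Helper85.CliffordCorr
import Cfsg.Agent.Lib.Helper83.Quotient
import Cfsg.Agent.Lib.Helper04.GlaubUp

/-!
# Isaacs 13.31 (helper80)

Reduction to the central case through the lifting group of helper85 (a finite central extension
of `Γ` in which `θ` extends).
-/

set_option autoImplicit false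
set_option linter.style.haveILetI false

namespace Cfsg.Agent.Lib.Helper80

open Cfsg
open scoped ComplexConjugate

/-- Descent of an irreducible character along a surjective homomorphism containing the kernel in
its kernel. -/
theorem exists_irr_descend {H K : Type*} [Group H] [Group K] [Finite H] (f : H →* K)
    (hf : Function.Surjective f) {ψ : H → ℂ} (hψ : IsIrrCharacter H ψ)
    (hker : ∀ h : H, f h = 1 → ψ h = ψ 1) :
    ∃ ψ' : K → ℂ, IsIrrCharacter K ψ' ∧ ∀ h : H, ψ' (f h) = ψ h := by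
  obtain ⟨ψ'', hψ'', hval⟩ := Helper83.exists_isIrrCharacter_quotient f.ker hψ
    (fun n hn => hker n (MonoidHom.mem_ker.mp hn))
  let e := QuotientGroup.quotientKerEquivOfSurjective f hf
  refine ⟨fun k => ψ'' (e.symm k), Helper84.isIrrCharacter_comp_mulEquiv e.symm hψ'', ?_⟩
  intro h
  have : e.symm (f h) = QuotientGroup.mk h := by
    rw [MulEquiv.symm_apply_eq]
    rfl
  simp only [this, hval]

section

universe u

variable {Γ : Type u} [Group Γ] [Fintype Γ]

open Cfsg.Agent.Lib.Helper85 in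
/-- **Isaacs 13.31.** -/
theorem isaacs_13_31 (G N : Subgroup Γ) [hG : G.Normal] [hN : N.Normal] [Fintype G] [Fintype N]
    (hNG : N ≤ G) (hcop : (G.index).Coprime (N.relIndex G))
    (hsolv : Group.IsSolvable (Γ ⧸ G) ∨ Group.IsSolvable (G ⧸ N.subgroupOf G))
    (θ : IrrCharacter N)
    (hinv : ∀ (x : Γ) (n : N),
      (θ : N → ℂ) ⟨x * n * x⁻¹, hN.conj_mem n n.2 x⟩ = (θ : N → ℂ) n) :
    ∃ χ : IrrCharacter G, classInner (fun n : N => (χ : G → ℂ) ⟨n, hNG n.2⟩) (θ : N → ℂ) ≠ 0 ∧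
      ∀ (x : Γ) (g : G), (χ : G → ℂ) ⟨x * g * x⁻¹, hG.conj_mem g g.2 x⟩ = (χ : G → ℂ) g := by
  classical
  obtain ⟨χ₀, hχ₀⟩ := Helper04.exists_irr_over_sub hNG θ
  change classInner (fun n : N => (χ₀ : G → ℂ) ⟨n, hNG n.2⟩) (θ : N → ℂ) ≠ 0 at hχ₀
  obtain ⟨d, Θ, hirr, hΘθ⟩ := θ.2
  haveI := hirr
  have hinv' : ∀ (t : Γ) (n : N), Θ.character (MulAut.conjNormal t n) = Θ.character n := by
    intro t n
    rw [hΘθ]
    exact hinv t n
  have hfin : Finite (liftGroup N Θ) := liftGroup_finite N Θ hinv'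
  have : Fintype (liftGroup N Θ) := Fintype.ofFinite _
  set π : liftGroup N Θ →* Γ := liftProj N Θ with hπdef
  have hπ : Function.Surjective π := liftProj_surjective N Θ hinv'
  set Ns : Subgroup (liftGroup N Θ) := liftN N Θ with hNs
  set ω : liftGroup N Θ → ℂ := (liftRep N Θ).character with hω
  have hωirr : IsIrrCharacter (liftGroup N Θ) ω :=
    Helper83.isIrrCharacter_of_rep _ (liftRep_irreducible N Θ)
  have : Fintype Ns := Fintype.ofFinite _
  have hωN : IsIrrCharacter Ns (fun h : Ns => ω h) :=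
    Helper83.isIrrCharacter_of_rep
      ((liftRep N Θ).comp Ns.subtype : Representation ℂ Ns (Fin d → ℂ))
      (liftRep_restrict_irreducible N Θ)
  have hωemb : ∀ n : N, ω (liftEmb N Θ n) = (θ : N → ℂ) n := by
    intro n
    rw [← hΘθ]
    change LinearMap.trace ℂ _ (liftRep N Θ (liftEmb N Θ n)) = LinearMap.trace ℂ _ (Θ n)
    rw [liftRep_liftEmb]
  have hπemb : ∀ n : N, π (liftEmb N Θ n) = n := fun n => liftProj_liftEmb N Θ n
  set Gs : Subgroup (liftGroup N Θ) := G.comap π with hGs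
  set Ks : Subgroup (liftGroup N Θ) := N.comap π with hKs
  have hKsGs : Ks ≤ Gs := Subgroup.comap_mono hNG
  have hNsKs : Ns ≤ Ks := by
    intro γ hγ
    obtain ⟨n, rfl⟩ := (mem_liftN N Θ γ).mp hγ
    rw [hKs, Subgroup.mem_comap, hπemb]
    exact n.2
  have hNsGs : Ns ≤ Gs := hNsKs.trans hKsGs
  -- the quotient
  set mkQ : liftGroup N Θ →* liftGroup N Θ ⧸ Ns := QuotientGroup.mk' Ns with hmkQ
  have hmkQs : Function.Surjective mkQ := QuotientGroup.mk'_surjective Ns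
  have hkerQ : mkQ.ker = Ns := QuotientGroup.ker_mk' Ns
  have : Fintype (liftGroup N Θ ⧸ Ns) := Fintype.ofFinite _
  set Gh : Subgroup (liftGroup N Θ ⧸ Ns) := Gs.map mkQ with hGh
  set Zh : Subgroup (liftGroup N Θ ⧸ Ns) := Ks.map mkQ with hZh
  have hGhn : Gh.Normal := Subgroup.Normal.map inferInstance mkQ hmkQs
  have hZhGh : Zh ≤ Gh := Subgroup.map_mono hKsGs
  have hZhc : Zh ≤ Subgroup.center (liftGroup N Θ ⧸ Ns) := by
    rintro _ ⟨γ, hγ, rfl⟩
    have hn : π γ ∈ N := hγ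
    set z := γ * (liftEmb N Θ ⟨π γ, hn⟩)⁻¹ with hz
    have hz1 : π z = 1 := by
      rw [hz, map_mul, map_inv, hπemb, mul_inv_cancel]
    have hzc : z ∈ Subgroup.center (liftGroup N Θ) := mem_center_of_liftProj_eq_one N Θ z hz1
    have hmk : mkQ γ = mkQ z := by
      rw [hz, map_mul, map_inv]
      have : mkQ (liftEmb N Θ ⟨π γ, hn⟩) = 1 := by
        rw [← MonoidHom.mem_ker, hkerQ]
        exact (mem_liftN N Θ _).mpr ⟨_, rfl⟩
      rw [this, inv_one, mul_one]
    rw [hmk, Subgroup.mem_center_iff]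
    intro q
    obtain ⟨δ, rfl⟩ := hmkQs q
    rw [← map_mul, ← map_mul, Subgroup.mem_center_iff.mp hzc δ]
  have hidxG : Gh.index = G.index := by
    rw [hGh, Subgroup.index_map_eq Gs hmkQs (by rw [hkerQ]; exact hNsGs), hGs,
      Subgroup.index_comap_of_surjective G hπ]
  have hidxZ : Zh.index = N.index := by
    rw [hZh, Subgroup.index_map_eq Ks hmkQs (by rw [hkerQ]; exact hNsKs), hKs,
      Subgroup.index_comap_of_surjective N hπ]
  have hrel : Zh.relIndex Gh = N.relIndex G := by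
    have h1 := Subgroup.relIndex_mul_index hZhGh
    have h2 := Subgroup.relIndex_mul_index hNG
    rw [hidxG, hidxZ, ← h2] at h1
    have h0 : G.index ≠ 0 := Subgroup.index_ne_zero_of_finite
    exact Nat.eq_of_mul_eq_mul_right (Nat.pos_of_ne_zero h0) h1
  have hcop' : (Gh.index).Coprime (Zh.relIndex Gh) := by rw [hidxG, hrel]; exact hcop
  have hsolv' : (∃ j, dser (⊤ : Subgroup (liftGroup N Θ ⧸ Ns)) j ≤ Gh) ∨ (∃ j, dser Gh j ≤ Zh) := by
    rcases hsolv with h | h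
    · left
      obtain ⟨j, hj⟩ := exists_dser_top_le_of_isSolvable_quotient G h
      refine ⟨j, ?_⟩
      have h1 : dser (⊤ : Subgroup (liftGroup N Θ)) j ≤ Gs := by
        rw [hGs, ← Subgroup.map_le_iff_le_comap, map_dser, Subgroup.map_top_of_surjective π hπ]
        exact hj
      rw [← Subgroup.map_top_of_surjective mkQ hmkQs, ← map_dser]
      exact Subgroup.map_mono h1
    · right
      obtain ⟨j, hj⟩ := exists_dser_le_of_isSolvable_quotient G N h
      refine ⟨j, ?_⟩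
      have h1 : dser Gs j ≤ Ks := by
        rw [hKs, ← Subgroup.map_le_iff_le_comap, map_dser, hGs,
          Subgroup.map_comap_eq_self_of_surjective hπ]
        exact hj
      rw [hGh, ← map_dser]
      exact Subgroup.map_mono h1
  -- the inflated character and its Gallagher factorisation
  have : Fintype Gs := Fintype.ofFinite _
  set πG : Gs →* G := π.subgroupComap G with hπG
  have hπGs : Function.Surjective πG := MonoidHom.subgroupComap_surjective_of_surjective π G hπ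
  have hπGv : ∀ γ : Gs, ((πG γ : G) : Γ) = π (γ : liftGroup N Θ) := fun γ => rfl
  set ψ : Gs → ℂ := fun γ => (χ₀ : G → ℂ) (πG γ) with hψ
  have hψirr : IsIrrCharacter Gs ψ := Helper33.isIrrCharacter_comp_of_surjective πG hπGs χ₀.2
  set NsG : Subgroup Gs := Ns.subgroupOf Gs with hNsG
  have : Fintype NsG := Fintype.ofFinite _
  set ω' : Gs → ℂ := fun γ => ω (γ : liftGroup N Θ) with hω'
  have hω'c : IsCharacter Gs ω' :=
    Helper83.isCharacter_restrict Gs (Helper83.isCharacter_of_irr hωirr)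
  have hω'N : IsIrrCharacter NsG (fun h : NsG => ω' h) := by
    have h := Helper33.isIrrCharacter_comp_of_surjective
      (Subgroup.subgroupOfEquivOfLe hNsGs).toMonoidHom
      (Subgroup.subgroupOfEquivOfLe hNsGs).surjective hωN
    exact h
  have hω'irr : IsIrrCharacter Gs ω' := isIrrCharacter_of_restrict_irr NsG hω'c hω'N
  obtain ⟨hgal1, hgal2⟩ := gallagher NsG hω'irr hω'N
  -- the embedding of `N`
  have hembG : ∀ n : N, liftEmb N Θ n ∈ Gs := fun n => hNsGs ((mem_liftN N Θ _).mpr ⟨n, rfl⟩)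
  have hembN : ∀ n : N, (⟨liftEmb N Θ n, hembG n⟩ : Gs) ∈ NsG :=
    fun n => (mem_liftN N Θ _).mpr ⟨n, rfl⟩
  let ι : N →* NsG := MonoidHom.mk' (fun n => ⟨⟨liftEmb N Θ n, hembG n⟩, hembN n⟩) (by
    intro a b
    apply Subtype.ext
    apply Subtype.ext
    exact map_mul (liftEmb N Θ) a b)
  have hιbij : Function.Bijective ι := by
    constructor
    · intro a b hab
      have h1 : liftEmb N Θ a = liftEmb N Θ b := congrArg (fun w : NsG => ((w : Gs) : liftGroup N Θ)) hab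
      have h2 := congrArg π h1
      rw [hπemb, hπemb] at h2
      exact Subtype.ext h2
    · intro w
      obtain ⟨n, hn⟩ := (mem_liftN N Θ _).mp w.2
      refine ⟨n, ?_⟩
      apply Subtype.ext
      apply Subtype.ext
      exact hn
  let ιe : N ≃* NsG := MulEquiv.ofBijective ι hιbij
  have hcon : classInner (fun h : NsG => ψ h) (fun h : NsG => ω' h) ≠ 0 := by
    rw [← Helper85.classInner_comp_mulEquiv ιe]
    have h1 : (fun n : N => (fun h : NsG => ψ h) (ιe n)) = fun n : N => (χ₀ : G → ℂ) ⟨n, hNG n.2⟩ := by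
      funext n
      change (χ₀ : G → ℂ) (πG ⟨liftEmb N Θ n, hembG n⟩) = _
      refine congrArg (χ₀ : G → ℂ) (Subtype.ext ?_)
      exact hπemb n
    have h2 : (fun n : N => (fun h : NsG => ω' h) (ιe n)) = (θ : N → ℂ) := by
      funext n
      exact hωemb n
    rw [h1, h2]
    exact hχ₀
  obtain ⟨β', hβ'⟩ := hgal2 ψ hψirr hcon
  -- the map onto the image of `Gs` in the quotient
  have : Fintype Gh := Fintype.ofFinite _
  set φ : Gs →* Gh := mkQ.subgroupMap Gs with hφ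
  have hφs : Function.Surjective φ := MonoidHom.subgroupMap_surjective mkQ Gs
  have hφv : ∀ γ : Gs, ((φ γ : Gh) : liftGroup N Θ ⧸ Ns) = mkQ (γ : liftGroup N Θ) := fun γ => rfl
  have hφker : ∀ γ : Gs, φ γ = 1 ↔ γ ∈ NsG := by
    intro γ
    rw [Subtype.ext_iff, hφv, Subgroup.coe_one, ← MonoidHom.mem_ker, hkerQ]
    rfl
  have hβ'infl : IsIrrCharacter Gs (fun γ => (β' : Gs ⧸ NsG → ℂ) (QuotientGroup.mk γ)) :=
    Helper33.isIrrCharacter_comp_of_surjective (QuotientGroup.mk' NsG)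
      (QuotientGroup.mk'_surjective NsG) β'.2
  obtain ⟨β₀f, hβ₀irr, hβ₀v⟩ := exists_irr_descend φ hφs hβ'infl (by
    intro γ hγ
    have h1 : (QuotientGroup.mk γ : Gs ⧸ NsG) = 1 :=
      (QuotientGroup.eq_one_iff γ).mpr ((hφker γ).mp hγ)
    simp only [h1, QuotientGroup.mk_one])
  set β₀ : IrrCharacter Gh := ⟨β₀f, hβ₀irr⟩ with hβ₀
  obtain ⟨β, hβc, hβinv⟩ := central_case Gh Zh hZhGh hZhc hcop' hsolv' β₀
  have hβφ : IsIrrCharacter Gs (fun γ => (β : Gh → ℂ) (φ γ)) :=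
    Helper33.isIrrCharacter_comp_of_surjective φ hφs β.2
  obtain ⟨βqf, hβqirr, hβqv⟩ := Helper83.exists_isIrrCharacter_quotient NsG hβφ (by
    intro n hn
    have h1 : φ n = 1 := (hφker n).mpr hn
    simp only [h1, map_one])
  set χs : Gs → ℂ := fun γ => (β : Gh → ℂ) (φ γ) * ω' γ with hχs
  have hχsirr : IsIrrCharacter Gs χs := by
    have h := hgal1 ⟨βqf, hβqirr⟩
    have h1 : (fun γ : Gs => ((⟨βqf, hβqirr⟩ : IrrCharacter (Gs ⧸ NsG)) : Gs ⧸ NsG → ℂ)
        (QuotientGroup.mk γ) * ω' γ) = χs := by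
      funext γ
      simp only [hχs, hβqv]
    rw [h1] at h
    exact h
  have hβ₀1 : (β₀ : Gh → ℂ) 1 ≠ 0 := Helper83.irr_degree_ne_zero β₀
  have hkerχ : ∀ γ : Gs, πG γ = 1 → χs γ = χs 1 := by
    intro γ hγ
    have hπγ : π (γ : liftGroup N Θ) = 1 := by
      rw [← hπGv, hγ]
      rfl
    have hγK : (γ : liftGroup N Θ) ∈ Ks := by
      rw [hKs, Subgroup.mem_comap, hπγ]
      exact N.one_mem
    have hZ : mkQ (γ : liftGroup N Θ) ∈ Zh := ⟨_, hγK, rfl⟩
    have h1 := hβc ⟨mkQ (γ : liftGroup N Θ), hZ⟩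
    have h2 : (⟨mkQ (γ : liftGroup N Θ), hZhGh hZ⟩ : Gh) = φ γ := rfl
    simp only [h2] at h1
    have h3 : ψ γ = ψ 1 := by
      simp only [hψ, hγ, map_one]
    rw [hβ'] at h3
    simp only [← hβ₀v, map_one] at h3
    change (β₀ : Gh → ℂ) (φ γ) * ω' γ = (β₀ : Gh → ℂ) 1 * ω' 1 at h3
    simp only [hχs, map_one]
    apply mul_left_cancel₀ hβ₀1
    calc (β₀ : Gh → ℂ) 1 * ((β : Gh → ℂ) (φ γ) * ω' γ)
        = ((β : Gh → ℂ) (φ γ) * (β₀ : Gh → ℂ) 1) * ω' γ := by ring
      _ = (β₀ : Gh → ℂ) (φ γ) * (β : Gh → ℂ) 1 * ω' γ := by rw [h1]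
      _ = (β : Gh → ℂ) 1 * ((β₀ : Gh → ℂ) (φ γ) * ω' γ) := by ring
      _ = (β : Gh → ℂ) 1 * ((β₀ : Gh → ℂ) 1 * ω' 1) := by rw [h3]
      _ = _ := by ring
  obtain ⟨χf, hχirr, hχv⟩ := exists_irr_descend πG hπGs hχsirr hkerχ
  refine ⟨⟨χf, hχirr⟩, ?_, ?_⟩
  · have h1 : (fun n : N => χf ⟨n, hNG n.2⟩) = ((β : Gh → ℂ) 1) • (θ : N → ℂ) := by
      funext n
      have e1 : (⟨(n : Γ), hNG n.2⟩ : G) = πG ⟨liftEmb N Θ n, hembG n⟩ := by
        apply Subtype.ext
        exact (hπemb n).symm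
      rw [e1, hχv]
      have e2 : φ ⟨liftEmb N Θ n, hembG n⟩ = 1 := (hφker _).mpr (hembN n)
      simp only [hχs, e2, Pi.smul_apply, smul_eq_mul]
      congr 1
      exact hωemb n
    change classInner (fun n : N => χf ⟨n, hNG n.2⟩) (θ : N → ℂ) ≠ 0
    rw [h1, Helper83.classInner_smul_left, Helper83.irr_inner_self, mul_one]
    exact Helper83.irr_degree_ne_zero β
  · intro x g
    obtain ⟨γx, rfl⟩ := hπ x
    obtain ⟨γ, rfl⟩ := hπGs g
    have hmem : γx * (γ : liftGroup N Θ) * γx⁻¹ ∈ Gs :=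
      (inferInstance : Gs.Normal).conj_mem _ γ.2 γx
    have e1 : (⟨π γx * ((πG γ : G) : Γ) * (π γx)⁻¹, hG.conj_mem _ (πG γ).2 (π γx)⟩ : G) =
        πG ⟨γx * (γ : liftGroup N Θ) * γx⁻¹, hmem⟩ := by
      apply Subtype.ext
      change π γx * π (γ : liftGroup N Θ) * (π γx)⁻¹ = π (γx * (γ : liftGroup N Θ) * γx⁻¹)
      rw [map_mul, map_mul, map_inv]
    change χf _ = χf _
    rw [e1, hχv, hχv]
    simp only [hχs, hω']
    have e2 : ω (γx * (γ : liftGroup N Θ) * γx⁻¹) = ω (γ : liftGroup N Θ) :=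
      Helper83.char_conj_eq (Helper83.isCharacter_of_irr hωirr) _ _
    have e3 : φ ⟨γx * (γ : liftGroup N Θ) * γx⁻¹, hmem⟩ =
        ⟨mkQ γx * ((φ γ : Gh) : liftGroup N Θ ⧸ Ns) * (mkQ γx)⁻¹,
          hGhn.conj_mem _ (φ γ).2 (mkQ γx)⟩ := by
      apply Subtype.ext
      rw [hφv]
      change mkQ (γx * (γ : liftGroup N Θ) * γx⁻¹) = mkQ γx * mkQ (γ : liftGroup N Θ) * (mkQ γx)⁻¹
      rw [map_mul, map_mul, map_inv]
    rw [e2, e3, hβinv]

end

end Cfsg.Agent.Lib.Helper80
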